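import Cfsg.Agent.Lib.Golay.Mathieu
import Cfsg.Agent.Lib.Golay.Local.Classes
import Cfsg.Agent.S2062

/-! The stabiliser of a duad in the group of the code is the automorphism group of M22. -/

set_option autoImplicit false
set_option maxRecDepth 20000

namespace Cfsg.Agent.JankoFour.TwoCent

open Cfsg Cfsg.Agent.Golay
open scoped Pointwise

/-- An involution of the code's group with a fixed point fixes exactly eight points. -/
theorem fix_eight_M24 {σ : Equiv.Perm GolayPt} (hσ : σ ∈ M24) (h2 : σ * σ = 1) (h1 : σ ≠ 1)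
    {a : GolayPt} (ha : σ a = a) : (Finset.univ.filter fun p => σ p = p).card = 8 := by
  have ho : orderOf σ = 2 := orderOf_eq_prime (by rw [pow_two, h2]) h1
  obtain ⟨k, -, rfl⟩ := Local.class2A hσ ho (Finset.card_ne_zero.2 ⟨a, by simp [ha]⟩)
  rw [Local.conj_fixed_card, Local.card_fixed_R2A]

theorem smul_finset_eq_image (g : ↥M24) (s : Finset GolayPt) : g • s = s.image ⇑(g : Equiv.Perm GolayPt) := rfl

theorem mem_M22_iff {σ : Equiv.Perm GolayPt} :
    σ ∈ Spor.M22 ↔ σ ∈ M24 ∧ σ none = none ∧ σ (some 0) = some 0 := by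
  unfold Spor.M22 Spor.M23
  simp only [Subgroup.mem_inf, and_assoc]
  rfl

/-- The standard duad. -/
def duad0 : Finset GolayPt := {none, some 0}

theorem card_duad0 : duad0.card = 2 := Finset.card_pair (by simp)

theorem exists_map_finset {s t : Finset GolayPt} (hs : s.card = t.card) (h5 : s.card ≤ 5) :
    ∃ g : ↥M24, g • s = t := by
  let x : Fin s.card → GolayPt := fun i => (s.equivFin.symm i).1
  let y : Fin s.card → GolayPt := fun i => (t.equivFin.symm (Fin.cast hs i)).1
  obtain ⟨g, hg, h⟩ := exists_M24_map' h5 (x := x) (y := y)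
    (Subtype.val_injective.comp (Equiv.injective _))
    (Subtype.val_injective.comp ((Equiv.injective _).comp (Fin.cast_injective hs)))
  refine ⟨⟨g, hg⟩, ?_⟩
  rw [smul_finset_eq_image]
  refine Finset.eq_of_subset_of_card_le ?_ (by rw [Finset.card_image_of_injective _ g.injective, hs])
  intro p hp
  obtain ⟨q, hq, rfl⟩ := Finset.mem_image.1 hp
  have := h (s.equivFin ⟨q, hq⟩)
  simp only [x, y, Equiv.symm_apply_apply] at this
  show g q ∈ t
  rw [this]
  exact Subtype.coe_prop _

/-- The stabiliser of a duad has order twice that of M22. -/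
theorem card_duad_stab : Nat.card ↥(MulAction.stabilizer ↥M24 duad0) = 887040 := by
  have h := (MulAction.stabilizer ↥M24 duad0).card_mul_index
  rw [MulAction.index_stabilizer, Golay.card_M24] at h
  have ho : MulAction.orbit ↥M24 duad0 = ↑(Finset.powersetCard 2 (Finset.univ : Finset GolayPt)) := by
    ext s
    rw [Finset.mem_coe, Finset.mem_powersetCard]
    constructor
    · rintro ⟨g, rfl⟩
      exact ⟨Finset.subset_univ _, by
        show (g • duad0).card = 2
        rw [Finset.card_smul_finset, card_duad0]⟩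
    · rintro ⟨-, hs⟩
      exact exists_map_finset (by rw [card_duad0, hs]) (by rw [card_duad0]; norm_num)
  rw [ho, Set.ncard_coe_finset, Finset.card_powersetCard, Finset.card_univ,
    show Fintype.card GolayPt = 24 from rfl, show Nat.choose 24 2 = 276 by decide] at h
  omega

theorem conj_mem_M22 {g σ : Equiv.Perm GolayPt} (hg : g ∈ M24) (hd : duad0.image ⇑g = duad0)
    (hσ : σ ∈ Spor.M22) : g * σ * g⁻¹ ∈ Spor.M22 := by
  obtain ⟨h, h0, h1⟩ := mem_M22_iff.1 hσ
  have key : ∀ p ∈ duad0, (g * σ * g⁻¹) p = p := fun p hp => by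
    rw [← hd, Finset.mem_image] at hp
    obtain ⟨q, hq, rfl⟩ := hp
    rw [duad0, Finset.mem_insert, Finset.mem_singleton] at hq
    rcases hq with rfl | rfl <;> simp [h0, h1]
  exact mem_M22_iff.2 ⟨mul_mem (mul_mem hg h) (inv_mem hg), key _ (by simp [duad0]),
    key _ (by simp [duad0])⟩

theorem stab_inv_image (g : ↥(MulAction.stabilizer ↥M24 duad0)) :
    duad0.image ⇑((g⁻¹ : ↥(MulAction.stabilizer ↥M24 duad0)) : ↥M24).1 = duad0 :=
  (smul_finset_eq_image _ _).symm.trans (g⁻¹).2

/-- The stabiliser of the duad acting on M22. -/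
noncomputable def duadConj : ↥(MulAction.stabilizer ↥M24 duad0) →* MulAut ↥Spor.M22 where
  toFun g :=
    { toFun := fun σ => ⟨g.1.1 * σ.1 * g.1.1⁻¹, conj_mem_M22 g.1.2 g.2 σ.2⟩
      invFun := fun σ => ⟨g.1.1⁻¹ * σ.1 * g.1.1⁻¹⁻¹, conj_mem_M22 (inv_mem g.1.2) (stab_inv_image g) σ.2⟩
      left_inv := fun σ => Subtype.ext (by simp [mul_assoc])
      right_inv := fun σ => Subtype.ext (by simp [mul_assoc])
      map_mul' := fun σ τ => Subtype.ext (by simp [mul_assoc]) }
  map_one' := MulEquiv.ext fun σ => Subtype.ext (by simp)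
  map_mul' g h := MulEquiv.ext fun σ => Subtype.ext (by simp [mul_assoc])

theorem duadConj_apply (g : ↥(MulAction.stabilizer ↥M24 duad0)) (σ : ↥Spor.M22) :
    (duadConj g σ : Equiv.Perm GolayPt) = g.1.1 * σ.1 * g.1.1⁻¹ := rfl

/-- Only the identity of the code's group centralises M22. -/
theorem eq_one_of_comm {g : Equiv.Perm GolayPt} (hg : g ∈ M24) (hd : duad0.image ⇑g = duad0)
    (hc : ∀ σ ∈ Spor.M22, g * σ = σ * g) : g = 1 := by
  have hfix : ∀ p, p ∉ duad0 → g p = p := by
    intro p hp
    by_contra hne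
    have hgp : g p ∉ duad0 := fun h => hp (by
      rw [← hd, Finset.mem_image] at h
      obtain ⟨q, hq, he⟩ := h
      exact g.injective he ▸ hq)
    obtain ⟨q, -, hq⟩ := Finset.exists_mem_notMem_of_card_lt_card (s := ({none, some 0, p, g p} : Finset GolayPt))
      (t := (Finset.univ : Finset GolayPt))
      (lt_of_le_of_lt Finset.card_le_four (by rw [Finset.card_univ, show Fintype.card GolayPt = 24 from rfl]; norm_num))
    simp only [duad0, Finset.mem_insert, Finset.mem_singleton, not_or] at hp hgp hq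
    obtain ⟨σ, hσ, h⟩ := exists_M24_map' (k := 4) (by norm_num)
      (x := ![none, some 0, p, g p]) (y := ![none, some 0, p, q])
      (by intro i j; fin_cases i <;> fin_cases j <;>
        simp [hp.1, Ne.symm hp.1, hp.2, Ne.symm hp.2, hgp.1, Ne.symm hgp.1, hgp.2, Ne.symm hgp.2, hne, Ne.symm hne])
      (by intro i j; fin_cases i <;> fin_cases j <;>
        simp [hp.1, Ne.symm hp.1, hp.2, Ne.symm hp.2, hq.1, Ne.symm hq.1, hq.2.1, Ne.symm hq.2.1, hq.2.2.1, Ne.symm hq.2.2.1])
    have h22 : σ ∈ Spor.M22 := mem_M22_iff.2 ⟨hσ, h 0, h 1⟩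
    have hp2 : σ p = p := h 2
    have hp3 : σ (g p) = q := h 3
    have := congrArg (fun e : Equiv.Perm GolayPt => e p) (hc σ h22)
    simp only [Equiv.Perm.mul_apply, hp2, hp3] at this
    exact hq.2.2.2 this.symm
  have hsq : g * g = 1 := by
    ext1 p
    rw [Equiv.Perm.mul_apply, Equiv.Perm.one_apply]
    by_cases hp : p ∈ duad0
    · have hm : ∀ r ∈ duad0, g r ∈ duad0 := fun r hr => by
        have := Finset.mem_image_of_mem g hr
        rwa [hd] at this
      have h1 := hm _ hp
      have h2 := hm _ h1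
      simp only [duad0, Finset.mem_insert, Finset.mem_singleton] at hp h1 h2
      rcases hp with rfl | rfl <;> rcases h1 with e | e <;>
        first
          | (rw [e, e])
          | (rcases h2 with e2 | e2
             · first | exact e2 | exact absurd (g.injective (e2.trans e.symm)) (by simp [e])
             · first | exact e2 | exact absurd (g.injective (e2.trans e.symm)) (by simp [e]))
    · rw [hfix p hp, hfix p hp]
  by_contra h1
  obtain ⟨a, ha⟩ : ∃ a, a ∉ duad0 := ⟨some 1, by decide⟩
  have h8 := fix_eight_M24 hg hsq h1 (hfix a ha)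
  have : (Finset.univ \ duad0) ⊆ Finset.univ.filter fun p => g p = p := fun p hp => by
    simp only [Finset.mem_sdiff] at hp
    simp [hfix p hp.2]
  have := Finset.card_le_card this
  rw [h8, Finset.card_sdiff_of_subset (Finset.subset_univ _), Finset.card_univ, card_duad0] at this
  simp [show Fintype.card GolayPt = 24 from rfl] at this

theorem duadConj_bijective : Function.Bijective duadConj := by
  have hinj : Function.Injective duadConj := by
    rw [injective_iff_map_eq_one]
    intro g hg
    refine Subtype.ext (Subtype.ext ?_)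
    refine eq_one_of_comm g.1.2 g.2 fun σ hσ => ?_
    have := congrArg Subtype.val (DFunLike.congr_fun hg ⟨σ, hσ⟩)
    rw [duadConj_apply] at this
    exact mul_inv_eq_iff_eq_mul.1 this
  have hc : Nat.card (MulAut ↥Spor.M22) = 887040 := by
    have hout : Nat.card (MulAut ↥Spor.M22 ⧸ Inn ↥Spor.M22) = 2 := Cfsg.Agent.S2062.result
    have hconj : Function.Injective (MulAut.conj : ↥Spor.M22 →* MulAut ↥Spor.M22) := by
      rw [injective_iff_map_eq_one]
      intro σ hσ
      obtain ⟨h, h0, h1⟩ := mem_M22_iff.1 σ.2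
      refine Subtype.ext (eq_one_of_comm h (by simp [duad0, h0, h1]) fun τ hτ => ?_)
      have := congrArg Subtype.val (DFunLike.congr_fun hσ ⟨τ, hτ⟩)
      simp only [MulAut.conj_apply, MulAut.one_apply, Subgroup.coe_mul, Subgroup.coe_inv] at this
      exact mul_inv_eq_iff_eq_mul.1 this
    have hinn : Nat.card ↥(Inn ↥Spor.M22) = 443520 := by
      rw [← card_sporM22]
      exact (Nat.card_congr (MonoidHom.ofInjective hconj).toEquiv).symm
    rw [Subgroup.card_eq_card_quotient_mul_card_subgroup (Inn ↥Spor.M22), hout, hinn]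
  exact hinj.bijective_of_nat_card_le (by rw [hc, card_duad_stab])

/-- **The stabiliser of any duad is the automorphism group of M22.** -/
theorem duad_stab_equiv {d : Finset GolayPt} (hd : d.card = 2) :
    Nonempty (↥(MulAction.stabilizer ↥M24 d) ≃* MulAut ↥Spor.M22) := by
  obtain ⟨g, rfl⟩ := exists_map_finset (s := duad0) (t := d) (by rw [card_duad0, hd]) (by rw [card_duad0]; norm_num)
  exact ⟨(MulEquiv.subgroupCongr (MulAction.stabilizer_smul_eq_stabilizer_map_conj g duad0)).trans
    ((MulEquiv.subgroupMap (MulAut.conj g) _).symm.trans (MulEquiv.ofBijective _ duadConj_bijective))⟩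

end Cfsg.Agent.JankoFour.TwoCent
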