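import Cfsg.Prelude.Def_JankoFourType
import Cfsg.Prelude.Def_Sporadic_a
import Mathlib.Data.Finset.SymmDiff

/-!
What the large abelian subgroup of order 2^11 of a group of Janko-four type provides (interface between the
construction of that subgroup and the determination of the centraliser of the second class of involutions).
-/

set_option autoImplicit false

namespace Cfsg.Agent.JankoFour

open Subgroup
open scoped symmDiff

variable {G : Type*} [Group G] [Finite G]

/-- The large abelian subgroup as the Golay cocode with its normaliser acting as M24. -/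
structure BigPack (z : G) (V : Subgroup G) where
  sq : ∀ a ∈ V, a * a = 1
  card : Nat.card ↥V = 2048
  z_mem : z ∈ V
  cent : centralizer (V : Set G) = V
  unique : ∀ R E : Subgroup G, IsPGroup 2 ↥R → V ≤ R → E ≤ R → Cfsg.IsElementaryAbelian 2 E →
    Nat.card ↥E = 2048 → E = V
  conjugate : ∀ E : Subgroup G, Cfsg.IsElementaryAbelian 2 E → Nat.card ↥E = 2048 →
    ∃ g : G, E = V.map (MulAut.conj g).toMonoidHom
  fusion : ∀ a ∈ V, ∀ g : G, g * a * g⁻¹ ∈ V → ∃ n ∈ normalizer (V : Set G), n * a * n⁻¹ = g * a * g⁻¹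
  /-- The element of an even set of points. -/
  eS : Finset Cfsg.GolayPt → G
  eS_mem : ∀ S, eS S ∈ V
  eS_symmDiff : ∀ S T : Finset Cfsg.GolayPt, Even S.card → Even T.card → eS (S ∆ T) = eS S * eS T
  eS_surj : ∀ a ∈ V, ∃ S : Finset Cfsg.GolayPt, Even S.card ∧ S.card ≤ 4 ∧ eS S = a
  eS_eq_one : ∀ S : Finset Cfsg.GolayPt, Even S.card →
    (eS S = 1 ↔ S ∈ Cfsg.supports (Cfsg.golayCode : Set (Cfsg.GolayPt → ZMod 2)))
  /-- The action of the normaliser on the points. -/
  phi : ↥(normalizer (V : Set G)) →* ↥Cfsg.M24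
  phi_surj : Function.Surjective phi
  phi_ker : phi.ker = V.subgroupOf (normalizer (V : Set G))
  eS_equiv : ∀ n : ↥(normalizer (V : Set G)), ∀ S : Finset Cfsg.GolayPt, Even S.card →
    (n : G) * eS S * (n : G)⁻¹ = eS (S.image ⇑(phi n).1)
  pair_not_conj : ∀ S : Finset Cfsg.GolayPt, S.card = 2 → ¬ IsConj z (eS S)
  four_conj : ∀ S : Finset Cfsg.GolayPt, S.card = 4 → IsConj z (eS S)
  /-- The centraliser of two commuting involutions of the two classes inside the subgroup. -/
  cent_pair : ∀ v ∈ V, ∀ t ∈ V, IsConj z v → t ≠ 1 → ¬ IsConj z t →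
    centralizer ({v} : Set G) ⊓ centralizer ({t} : Set G) ≤ normalizer (V : Set G)

end Cfsg.Agent.JankoFour
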