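import Cfsg.Agent.Lib.JankoFour.SplitLift
import Cfsg.Agent.Lib.JankoFour.BigPack
import Cfsg.Agent.Lib.Golay.Local.Classes
import Cfsg.Prelude.Def_Spor_Mathieu

/-!
The normaliser of the large abelian subgroup in a group of Janko-four type splits.

The outer lift is an involution: the group of the code has two classes of involutions, both met by the
opposite abelian part, so some involution lies in the coset of the outer lift modulo the large abelian
subgroup, while the central involution is no commutator of the outer lift with that subgroup.  The theorem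
of Gaschütz then turns the complement in the Sylow subgroup into a complement in the normaliser.
-/

set_option autoImplicit false
set_option linter.unusedSectionVars false
set_option linter.style.haveILetI false

namespace Cfsg.Agent.JankoFour

open Subgroup
open Cfsg.Agent.LargeFischer (Ctx QG)
open Cfsg.Agent.J4Module (app)
open Cfsg.Agent.J4Module.Data
open Big Split

namespace Model

variable {G : Type*} [Group G] [Finite G] {z : G} {P : Subgroup G} {M : Model z P} (E : M.Gens)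

theorem cent_conj {c l : ↥(centralizer ({z} : Set G))} (hc : InN (P := P) c)
    (hl : (l : G) ∈ centralizer (P : Set G)) : ((c * l * c⁻¹ : ↥(centralizer ({z} : Set G))) : G) ∈ centralizer (P : Set G) := by
  refine mem_centralizer_iff.2 fun g hg => ?_
  have h := (Subgroup.mem_normalizer_iff.1 hc.inv g).1 hg
  have h2 := mem_centralizer_iff.1 hl _ h
  simp only [Subgroup.coe_inv, inv_inv] at h2
  calc g * ((c * l * c⁻¹ : ↥(centralizer ({z} : Set G))) : G)
      = (c : G) * ((c : G)⁻¹ * g * c * (l : G)) * (c : G)⁻¹ := by simp [mul_assoc]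
    _ = (c : G) * ((l : G) * ((c : G)⁻¹ * g * c)) * (c : G)⁻¹ := by rw [h2]
    _ = ((c * l * c⁻¹ : ↥(centralizer ({z} : Set G))) : G) * g := by simp [mul_assoc]

theorem z_mul_comm (c : ↥(centralizer ({z} : Set G))) : c * M.toH M.zQ = M.toH M.zQ * c := M.z_fix c

theorem bP_comm {l l' : ↥(centralizer ({z} : Set G))} (hl : l ∈ M.bP) (hl' : l' ∈ M.bP) : l * l' = l' * l := by
  have h := M.bP_sq (mul_mem hl hl')
  calc l * l' = (l * l')⁻¹ := (inv_eq_of_mul_eq_one_right h).symm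
    _ = l' * l := by
      rw [_root_.mul_inv_rev, inv_eq_of_mul_eq_one_right (M.bP_sq hl), inv_eq_of_mul_eq_one_right (M.bP_sq hl')]

theorem Gens.s_twice (x : ↥(centralizer ({z} : Set G))) : E.s * (E.s * x * E.s⁻¹) * E.s⁻¹ = x := by
  rw [show E.s * (E.s * x * E.s⁻¹) * E.s⁻¹ = E.s * E.s * x * (E.s * E.s)⁻¹ by group]
  rcases E.s_sq_cases with e | e <;> rw [e]
  · group
  · rw [← z_mul_comm x, mul_inv_cancel_right]

/-- The outer lift flips no lift of a fixed element of the hexad subgroup: the small cases. -/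
theorem Gens.no_flip_small {l : ↥(centralizer ({z} : Set G))} {i : ℕ} (hl : (l : G) ∈ centralizer (P : Set G))
    (hi : i = 0 ∨ i = 9) (hla : M.Acts l (bEl i)) : E.s * l * E.s⁻¹ = l := by
  rcases hi with rfl | rfl
  · rw [bEl_spec.2.1] at hla
    rcases M.cent_Q (M.mem_Q l hla) hl with rfl | rfl
    · group
    · exact M.z_conj E.s
  · obtain ⟨l4, hl4, hl4a⟩ := M.exists_lift_bP (i := 4) (by norm_num)
    obtain ⟨hj, he⟩ := sPermB_spec 4 (by norm_num)
    set m := E.s * l4 * E.s⁻¹ with hm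
    have hmP : (m : G) ∈ centralizer (P : Set G) := cent_conj E.s_N hl4.1
    have hma : M.Acts m (bEl (sPermB.getD 4 0)) := M.acts_conj E.s_acts hl4a he
    have hmB : m ∈ M.bP := ⟨hmP, _, hj, hma⟩
    have hwa : M.Acts (m * l4) (bEl 9) := by
      have h := M.acts_mul hma hl4a
      rwa [bEl_spec.2.2.1 _ hj 4 (by norm_num), fix_spec.1] at h
    have hw : E.s * (m * l4) * E.s⁻¹ = m * l4 := by
      rw [show E.s * (m * l4) * E.s⁻¹ = E.s * m * E.s⁻¹ * (E.s * l4 * E.s⁻¹) by group]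
      simp only [hm]
      rw [E.s_twice, ← hm, bP_comm hl4 hmB]
    rcases M.lift_eq (mul_mem (mem_bP_cent hmB) (mem_bP_cent hl4)) hl hwa hla with rfl | rfl
    · exact hw
    · rw [show E.s * (m * l4 * M.toH M.zQ) * E.s⁻¹ = E.s * (m * l4) * E.s⁻¹ * (E.s * M.toH M.zQ * E.s⁻¹) by group,
        hw, M.z_conj]
where
  mem_bP_cent {c : ↥(centralizer ({z} : Set G))} (hc : c ∈ M.bP) : (c : G) ∈ centralizer (P : Set G) := hc.1

theorem flip_conj {s c l : ↥(centralizer ({z} : Set G))} (hcs : c * s * c⁻¹ = s ∨ c * s * c⁻¹ = s * M.toH M.zQ)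
    (h : s * l * s⁻¹ = l * M.toH M.zQ) : s * (c * l * c⁻¹) * s⁻¹ = c * l * c⁻¹ * M.toH M.zQ := by
  have h1 : c * s * c⁻¹ * (c * l * c⁻¹) * (c * s * c⁻¹)⁻¹ = c * l * c⁻¹ * M.toH M.zQ := by
    rw [show c * s * c⁻¹ * (c * l * c⁻¹) * (c * s * c⁻¹)⁻¹ = c * (s * l * s⁻¹) * c⁻¹ by group, h,
      show c * (l * M.toH M.zQ) * c⁻¹ = c * l * c⁻¹ * (c * M.toH M.zQ * c⁻¹) by group, M.z_conj]
  rcases hcs with e | e <;> rw [e] at h1
  · exact h1
  · rw [← h1, show s * M.toH M.zQ * (c * l * c⁻¹) * (s * M.toH M.zQ)⁻¹ =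
      s * (M.toH M.zQ * (c * l * c⁻¹) * (M.toH M.zQ)⁻¹) * s⁻¹ by group, ← z_mul_comm (c * l * c⁻¹),
      mul_inv_cancel_right]

theorem Gens.no_flip_bP {l : ↥(centralizer ({z} : Set G))} {i : ℕ} (hl : (l : G) ∈ centralizer (P : Set G))
    (hi : i < 16) (hfix : sPermB.getD i 0 = i) (hla : M.Acts l (bEl i)) : E.s * l * E.s⁻¹ = l := by
  rcases fix_spec.2 i hi hfix with h | h
  · exact E.no_flip_small hl h hla
  have hs : M.Acts (E.s * l * E.s⁻¹) (bEl i) := by
    obtain ⟨-, he⟩ := sPermB_spec i hi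
    rw [hfix] at he
    exact M.acts_conj E.s_acts hla he
  rcases M.lift_eq hl (cent_conj E.s_N hl) hla hs with e | e
  · exact e
  exfalso
  obtain ⟨hcs0, hperm⟩ := cPerm_spec
  obtain ⟨c, hc, hca⟩ := M.cent_elem _ (wordC_memK (words_ok wordC0 (by simp)))
  have hcs := M.lift_eqN E.s_N (((InN.of_cent hc).mul E.s_N).mul (InN.of_cent hc).inv) E.s_acts
    (M.acts_conj hca E.s_acts hcs0)
  obtain ⟨hi1, he1⟩ := hperm i hi
  set i1 := cPerm.getD i 0 with hi1d
  obtain ⟨hi2, he2⟩ := hperm i1 hi1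
  set i2 := cPerm.getD i1 0 with hi2d
  set l1 := c * l * c⁻¹ with hl1
  set l2 := c * l1 * c⁻¹ with hl2
  have hl1P : (l1 : G) ∈ centralizer (P : Set G) := cent_conj (InN.of_cent hc) hl
  have hl2P : (l2 : G) ∈ centralizer (P : Set G) := cent_conj (InN.of_cent hc) hl1P
  have hl1a : M.Acts l1 (bEl i1) := M.acts_conj hca hla he1
  have hl2a : M.Acts l2 (bEl i2) := M.acts_conj hca hl1a he2
  have f1 : E.s * l1 * E.s⁻¹ = l1 * M.toH M.zQ := flip_conj hcs e
  have f2 : E.s * l2 * E.s⁻¹ = l2 * M.toH M.zQ := flip_conj hcs f1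
  have hwa : M.Acts (l * l1 * l2) (bEl (i ^^^ i1 ^^^ i2)) := by
    have h3 := M.acts_mul (M.acts_mul hla hl1a) hl2a
    rwa [bEl_spec.2.2.1 i hi i1 hi1,
      bEl_spec.2.2.1 _ (Nat.xor_lt_two_pow (n := 4) hi hi1) i2 hi2] at h3
  have hw := E.no_flip_small (l := l * l1 * l2) (mul_mem (mul_mem hl hl1P) hl2P) h hwa
  rw [show E.s * (l * l1 * l2) * E.s⁻¹ = E.s * l * E.s⁻¹ * (E.s * l1 * E.s⁻¹) * (E.s * l2 * E.s⁻¹) by group,
    e, f1, f2] at hw
  refine M.z_ne (mul_eq_left.1 (show (l * l1 * l2) * M.toH M.zQ = l * l1 * l2 from Eq.trans ?_ hw))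
  have hz : M.toH M.zQ * M.toH M.zQ = 1 := M.zz
  calc l * l1 * l2 * M.toH M.zQ = l * l1 * l2 * M.toH M.zQ := rfl
    _ = l * l1 * (M.toH M.zQ * M.toH M.zQ) * (l2 * M.toH M.zQ) := by rw [hz, mul_one, mul_assoc (l * l1)]
    _ = l * (l1 * M.toH M.zQ) * M.toH M.zQ * (l2 * M.toH M.zQ) := by group
    _ = l * (M.toH M.zQ * l1) * M.toH M.zQ * (l2 * M.toH M.zQ) := by rw [z_mul_comm l1]
    _ = l * M.toH M.zQ * (l1 * M.toH M.zQ) * (l2 * M.toH M.zQ) := by group

/-- **The central involution is no commutator of the outer lift with the large abelian subgroup.** -/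
theorem Gens.no_flip {v : ↥(centralizer ({z} : Set G))} (hv : v ∈ M.vH) :
    E.s * v * E.s⁻¹ ≠ v * M.toH M.zQ := by
  obtain ⟨a, ha, l, ⟨hlP, i, hi, hla⟩, rfl⟩ := hv
  intro h
  obtain ⟨hj, he⟩ := sPermB_spec i hi
  have hQ : ∀ (q : ↥(QG M.Q)) {c : ↥(centralizer ({z} : Set G))} {j : ℕ}, j < 16 → M.Acts c (bEl j) →
      M.Acts (M.toH q * c) (bEl j) := fun q c j hj hc => by
    have h1 := M.acts_mul (M.acts_of_mem_Q (M.toH_mem q)) hc
    rwa [unitC_mulC (Big.sylow_InL0 (bEl_spec.1 _ hj).1) fun _ h => h] at h1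
  have hsl : M.Acts (E.s * l * E.s⁻¹) (bEl (sPermB.getD i 0)) := M.acts_conj E.s_acts hla he
  rw [show E.s * (M.toH a * l) * E.s⁻¹ = E.s * M.toH a * E.s⁻¹ * (E.s * l * E.s⁻¹) by group, M.toH_conj] at h
  have hfix : sPermB.getD i 0 = i := by
    have hL := hQ (M.ctx.conjQ E.s a) hj hsl
    have hR := hQ (a * M.zQ) hi hla
    rw [h, show M.toH a * l * M.toH M.zQ = M.toH (a * M.zQ) * l by
      rw [map_mul, mul_assoc, z_mul_comm l, ← mul_assoc]] at hL
    exact bEl_spec.2.2.2.1 _ hj _ hi (M.acts_unique (bEl_spec.1 _ hj).2 (bEl_spec.1 _ hi).2 hL hR)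
  rw [E.no_flip_bP hlP hi hfix hla, show M.toH a * l * M.toH M.zQ = M.toH (a * M.zQ) * l by
      rw [map_mul, mul_assoc, z_mul_comm l, ← mul_assoc]] at h
  have h2 : M.ctx.conjQ E.s a = a * M.zQ := M.toH_injective (mul_right_cancel h)
  have hva : app dS (M.vec a) = M.vec a := by
    rw [← E.s_acts a, h2, M.vec_mul, show M.vec M.zQ = 0 from M.vec_z, Nat.xor_zero]
  obtain ⟨m, hm, hme⟩ := (dS_bigW _ (M.mem_aQ.1 ha)).2 hva
  obtain ⟨c, hc⟩ := M.vec_surj m (bigW_spec.2.1 m hm)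
  have hca : c ∈ M.aQ := M.mem_aQ.2 (hc ▸ hm)
  set sc := M.ctx.conjQ E.s c with hsc
  have hsca : sc ∈ M.aQ := M.mem_aQ.2 (by rw [hsc, E.s_acts c, hc]; exact (dS_bigW m hm).1)
  have hssc : M.ctx.conjQ E.s sc = c := M.toH_injective (by
    rw [hsc, ← M.toH_conj, ← M.toH_conj]
    exact E.s_twice (M.toH c))
  have hzfix : M.ctx.conjQ E.s M.zQ = M.zQ := Subtype.ext (by
    show E.s.1 * z * E.s.1⁻¹ = z
    rw [mem_centralizer_singleton_iff.1 E.s.2, mul_inv_cancel_right])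
  have hw : M.ctx.conjQ E.s (sc * c) = sc * c := by
    rw [map_mul, hssc, ← hsc, M.aQ_comm hca hsca]
  have hvec : M.vec (sc * c) = M.vec a := by rw [M.vec_mul, hsc, E.s_acts c, hc, hme]
  have hfixa : M.ctx.conjQ E.s a = a := by
    rcases M.vec_eq_iff.1 hvec with e | e
    · rw [show a = sc * c from Subtype.ext e, hw]
    · have hzz : M.zQ * M.zQ = 1 := Subtype.ext M.ctx.xs.sq
      have e' : a = sc * c * M.zQ := Subtype.ext (by
        have e2 : (a : G) = ((sc * c : ↥(QG M.Q)) : G) * z := e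
        exact e2)
      rw [e', map_mul, hw, hzfix]
  exact M.ctx.xs.ne_one (congrArg Subtype.val (mul_eq_left.1 (h2.symm.trans hfixa)))

/-! ### The two classes of involutions -/

theorem notMem_vH_of_vec {u : ↥(QG M.Q)} (h : ¬ M.vec u ∈ bigW) : M.toH u ∉ M.vH := by
  intro hu
  refine h (M.mem_aQ.1 (M.mem_aQ_of_comm fun a ha => M.toH_injective ?_))
  rw [map_mul, map_mul]
  have h1 := M.vH_sq _ (mul_mem hu (M.toH_vH ha))
  calc M.toH u * M.toH a = (M.toH u * M.toH a)⁻¹ := (inv_eq_of_mul_eq_one_right h1).symm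
    _ = M.toH a * M.toH u := by
      rw [_root_.mul_inv_rev, inv_eq_of_mul_eq_one_right (M.vH_sq _ hu),
        inv_eq_of_mul_eq_one_right (M.vH_sq _ (M.toH_vH ha))]

theorem card_cent_aQ {u : ↥(QG M.Q)} (h : ¬ M.vec u ∈ bigW) :
    Nat.card ↥(M.aQ ⊓ centralizer ({u} : Set ↥(QG M.Q))) = 64 := by
  classical
  set C := M.aQ ⊓ centralizer ({u} : Set ↥(QG M.Q)) with hC
  obtain ⟨a₀, ha₀, hne⟩ : ∃ a ∈ M.aQ, u * a ≠ a * u := by
    by_contra hh
    push Not at hh
    exact h (M.mem_aQ.1 (M.mem_aQ_of_comm hh))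
  have hle : C ≤ M.aQ := inf_le_left
  have hdvd : Nat.card ↥C ∣ 128 := M.card_aQ ▸ Subgroup.card_dvd_of_le hle
  have hne128 : Nat.card ↥C ≠ 128 := fun e => by
    have := Subgroup.eq_of_le_of_card_ge hle (by rw [M.card_aQ, e])
    have h' := (mem_inf.1 (this.symm ▸ ha₀ : a₀ ∈ C)).2
    exact hne (mem_centralizer_singleton_iff.1 h').symm
  have hflip : ∀ x : ↥(QG M.Q), u * x ≠ x * u → u * x * u⁻¹ = x * M.zQ := fun x hx => by
    rcases M.ctx.xs.conj_cases u.2 x.2 with e | e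
    · exact absurd (Subtype.ext (mul_inv_eq_iff_eq_mul.1 e)) hx
    · exact Subtype.ext e
  have h64 : 128 ≤ 2 * Nat.card ↥C := by
    let f : ↥M.aQ → Bool × ↥C := fun x =>
      if hx : u * (x : ↥(QG M.Q)) = x * u then
        (false, ⟨x, mem_inf.2 ⟨x.2, mem_centralizer_singleton_iff.2 hx.symm⟩⟩)
      else (true, ⟨x * a₀, mem_inf.2 ⟨mul_mem x.2 ha₀, mem_centralizer_singleton_iff.2 (Eq.symm (by
        have hzc : M.zQ * a₀ = a₀ * M.zQ := (Subtype.ext (M.ctx.xs.comm a₀.2)).symm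
        have hzz : M.zQ * M.zQ = 1 := Subtype.ext M.ctx.xs.sq
        have : u * ((x : ↥(QG M.Q)) * a₀) * u⁻¹ = x * a₀ := by
          rw [show u * ((x : ↥(QG M.Q)) * a₀) * u⁻¹ = u * x * u⁻¹ * (u * a₀ * u⁻¹) by group,
            hflip _ hx, hflip _ hne,
            show (x : ↥(QG M.Q)) * M.zQ * (a₀ * M.zQ) = x * (M.zQ * a₀) * M.zQ by group, hzc,
            show (x : ↥(QG M.Q)) * (a₀ * M.zQ) * M.zQ = x * a₀ * (M.zQ * M.zQ) by group, hzz, mul_one]
        exact mul_inv_eq_iff_eq_mul.1 this))⟩⟩)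
    have hf : Function.Injective f := by
      intro x y e
      simp only [f] at e
      split_ifs at e with hx hy hy <;> simp at e
      · exact e
      · exact e
    have := Nat.card_le_card_of_injective f hf
    rwa [M.card_aQ, Nat.card_prod, Nat.card_eq_fintype_card, Fintype.card_bool] at this
  have hb : Nat.card ↥C ≤ 128 := Nat.le_of_dvd (by norm_num) hdvd
  obtain ⟨k, hk⟩ := hdvd
  have : k ≤ 2 := by
    by_contra hk3
    have : Nat.card ↥C * 3 ≤ Nat.card ↥C * k := Nat.mul_le_mul_left _ (by omega)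
    omega
  interval_cases k <;> omega

theorem vG_cent_eq (u : ↥(QG M.Q)) :
    (M.vG ⊓ centralizer ({(u : G)} : Set G)) =
      (M.vH ⊓ centralizer ({M.toH u} : Set ↥(centralizer ({z} : Set G)))).map (centralizer ({z} : Set G)).subtype := by
  ext x
  constructor
  · intro hx
    obtain ⟨⟨c, hc, rfl⟩, hxu⟩ := mem_inf.1 hx
    exact ⟨c, mem_inf.2 ⟨hc, mem_centralizer_singleton_iff.2
      (Subtype.ext (mem_centralizer_singleton_iff.1 hxu))⟩, rfl⟩
  · rintro ⟨c, hc, rfl⟩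
    exact mem_inf.2 ⟨⟨c, (mem_inf.1 hc).1, rfl⟩, mem_centralizer_singleton_iff.2
      (congrArg Subtype.val (mem_centralizer_singleton_iff.1 (mem_inf.1 hc).2))⟩

theorem acts_fix {u : ↥(QG M.Q)} {c : ↥(centralizer ({z} : Set G))} {C : List ℕ} (hc : M.Acts c C)
    (h : c * M.toH u = M.toH u * c) : app C (M.vec u) = M.vec u := by
  rw [← hc u]
  congr 1
  refine M.toH_injective ?_
  rw [← M.toH_conj, h, mul_inv_cancel_right]

/-- The element with trivial stabiliser has few fixed points in the large abelian subgroup. -/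
theorem card_cent_small {u : ↥(QG M.Q)} (hu : M.vec u = 446) :
    Nat.card ↥(M.vG ⊓ centralizer ({(u : G)} : Set G)) ≤ 64 := by
  obtain ⟨-, -, -, -, hreg, -, hnW⟩ := pick_spec
  rw [vG_cent_eq, card_map_of_injective (centralizer ({z} : Set G)).subtype_injective,
    ← card_cent_aQ (M := M) (u := u) (by rw [hu]; exact hnW),
    ← card_map_of_injective (K := M.aQ ⊓ centralizer ({u} : Set ↥(QG M.Q))) M.toH_injective]
  refine Subgroup.card_le_of_le ?_
  intro x hx
  obtain ⟨⟨a, ha, l, ⟨hlP, i, hi, hla⟩, rfl⟩, hxu⟩ := mem_inf.1 hx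
  have hxu' := mem_centralizer_singleton_iff.1 hxu
  have hacts : M.Acts (M.toH a * l) (bEl i) := by
    have h1 := M.acts_mul (M.acts_of_mem_Q (M.toH_mem a)) hla
    rwa [unitC_mulC (Big.sylow_InL0 (bEl_spec.1 _ hi).1) fun _ h => h] at h1
  obtain rfl := hreg i hi (hu ▸ acts_fix hacts hxu')
  rw [bEl_spec.2.1] at hla
  obtain ⟨a', ha', e⟩ : ∃ a' ∈ M.aQ, M.toH a * l = M.toH a' := by
    rcases M.cent_Q (M.mem_Q l hla) hlP with rfl | rfl
    · exact ⟨a, ha, mul_one _⟩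
    · exact ⟨a * M.zQ, mul_mem ha M.zQ_aQ, (map_mul _ _ _).symm⟩
  rw [e] at hxu' ⊢
  exact ⟨a', mem_inf.2 ⟨ha', mem_centralizer_singleton_iff.2 (M.toH_injective (by
    rw [map_mul, map_mul]; exact hxu'))⟩, rfl⟩

/-- The element fixed in the hexad subgroup has more fixed points in the large abelian subgroup. -/
theorem card_cent_large {u : ↥(QG M.Q)} (hu : M.vec u = 75) :
    64 < Nat.card ↥(M.vG ⊓ centralizer ({(u : G)} : Set G)) := by
  obtain ⟨-, -, hfix, hne, -, hnW, -⟩ := pick_spec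
  have hnW' : ¬ M.vec u ∈ bigW := by rw [hu]; exact hnW
  rw [vG_cent_eq, card_map_of_injective (centralizer ({z} : Set G)).subtype_injective,
    ← card_cent_aQ (M := M) (u := u) hnW',
    ← card_map_of_injective (K := M.aQ ⊓ centralizer ({u} : Set ↥(QG M.Q))) M.toH_injective]
  set A := (M.aQ ⊓ centralizer ({u} : Set ↥(QG M.Q))).map M.toH with hA
  set C := M.vH ⊓ centralizer ({M.toH u} : Set ↥(centralizer ({z} : Set G))) with hC
  have hle : A ≤ C := by
    rintro _ ⟨a, ha, rfl⟩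
    refine mem_inf.2 ⟨M.toH_vH (mem_inf.1 ha).1, mem_centralizer_singleton_iff.2 ?_⟩
    rw [← map_mul, ← map_mul, mem_centralizer_singleton_iff.1 (mem_inf.1 ha).2]
  -- one more element
  obtain ⟨l, hl, hla⟩ := M.exists_lift_bP (i := 8) (by norm_num)
  have hvl : M.vec (M.ctx.conjQ l u) = M.vec u := by rw [hla u, hu, hfix]
  obtain ⟨x, hxC, hxa⟩ : ∃ x ∈ C, M.Acts x (bEl 8) := by
    rcases M.vec_eq_iff.1 hvl.symm with e | e
    · refine ⟨l, mem_inf.2 ⟨M.bP_le_vH hl, mem_centralizer_singleton_iff.2 ?_⟩, hla⟩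
      have e' : M.ctx.conjQ l u = u := Subtype.ext e
      have h1 := M.toH_conj l u
      rw [e'] at h1
      exact mul_inv_eq_iff_eq_mul.1 h1
    · obtain ⟨a₀, ha₀, hne0⟩ : ∃ a ∈ M.aQ, u * a ≠ a * u := by
        by_contra hh
        push Not at hh
        exact hnW' (M.mem_aQ.1 (M.mem_aQ_of_comm hh))
      refine ⟨M.toH a₀ * l, mem_inf.2 ⟨mul_mem (M.toH_vH ha₀) (M.bP_le_vH hl),
        mem_centralizer_singleton_iff.2 ?_⟩, ?_⟩
      · have e' : M.ctx.conjQ l u = u * M.zQ := Subtype.ext e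
        have e0 : M.ctx.conjQ (M.toH a₀) u = u * M.zQ := by
          rcases M.ctx.xs.conj_cases a₀.2 u.2 with f | f
          · exact absurd (Subtype.ext (mul_inv_eq_iff_eq_mul.1 f) : a₀ * u = u * a₀).symm hne0
          · exact Subtype.ext f
        have hzz : M.zQ * M.zQ = 1 := Subtype.ext M.ctx.xs.sq
        have h1 : M.ctx.conjQ (M.toH a₀ * l) u = u := by
          rw [M.ctx.conjQ_mul, e', map_mul, e0,
            show M.ctx.conjQ (M.toH a₀) M.zQ = M.zQ from Subtype.ext (by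
              show a₀.1 * z * a₀.1⁻¹ = z
              rw [M.ctx.xs.comm a₀.2, mul_inv_cancel_right]), mul_assoc, hzz, mul_one]
        have h2 := M.toH_conj (M.toH a₀ * l) u
        rw [h1] at h2
        exact mul_inv_eq_iff_eq_mul.1 h2
      · have h1 := M.acts_mul (M.acts_of_mem_Q (M.toH_mem a₀)) hla
        rwa [unitC_mulC (Big.sylow_InL0 (bEl_spec.1 8 (by norm_num)).1) fun _ h => h] at h1
  have hxA : x ∉ A := by
    rintro ⟨a, -, rfl⟩
    exact hne (M.acts_unique (bEl_spec.1 8 (by norm_num)).2 (show unitC.length = 12 from rfl) hxa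
      (M.acts_of_mem_Q (M.toH_mem a)))
  by_contra hh
  exact hxA ((Subgroup.eq_of_le_of_card_ge hle (not_lt.1 hh)) ▸ hxC)

theorem syl_mem_normalizer {c : ↥(centralizer ({z} : Set G))} (hc : c ∈ M.syl) :
    (c : G) ∈ normalizer (M.vG : Set G) := by
  refine mem_normalizer_fintype fun x hx => ?_
  obtain ⟨d, hd, rfl⟩ := hx
  exact ⟨c * d * c⁻¹, (Subgroup.mem_normalizer_iff.1 (M.syl_normalizes hc) d).1 hd, rfl⟩

/-- **The outer lift is an involution.** -/
theorem Gens.s_sq (φ : ↥(normalizer (M.vG : Set G)) →* ↥Cfsg.M24) (hsurj : Function.Surjective φ)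
    (hker : φ.ker = M.vG.subgroupOf (normalizer (M.vG : Set G))) : E.s * E.s = 1 := by
  obtain ⟨hn1, hn2, -, -, -, hW1, hW2⟩ := pick_spec
  obtain ⟨u1, hu1, hv1⟩ := M.exists_uQ hn1
  obtain ⟨u2, hu2, hv2⟩ := M.exists_uQ hn2
  have hsS : E.s ∈ M.syl := ⟨_, gens_syl.2.2.1, E.s_acts⟩
  let ns : ↥(normalizer (M.vG : Set G)) := ⟨E.s.1, syl_mem_normalizer hsS⟩
  let n1 : ↥(normalizer (M.vG : Set G)) := ⟨(M.toH u1).1, syl_mem_normalizer (M.Q_le_syl (M.toH_mem u1))⟩
  let n2 : ↥(normalizer (M.vG : Set G)) := ⟨(M.toH u2).1, syl_mem_normalizer (M.Q_le_syl (M.toH_mem u2))⟩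
  have hmemV : ∀ n : ↥(normalizer (M.vG : Set G)), φ n = 1 ↔ (n : G) ∈ M.vG := fun n => by
    rw [← MonoidHom.mem_ker, hker, mem_subgroupOf]
  have hsV : ¬ (E.s : G) ∈ M.vG := by
    intro hh
    obtain ⟨a, -, l, ⟨-, i, hi, hla⟩, he⟩ := (M.mem_vG).1 hh
    have h1 := M.acts_mul (M.acts_of_mem_Q (M.toH_mem a)) hla
    rw [unitC_mulC (Big.sylow_InL0 (bEl_spec.1 _ hi).1) fun _ h => h, ← he] at h1
    have h2 : M.Acts E.s (dT 8) := by
      have := E.el_acts' 8
      rwa [show E.el 8 = E.s by simp [Gens.el]] at this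
    have := (dT_spec 8 (by norm_num)).2 i hi (M.acts_unique (dT_len 8) (bEl_spec.1 _ hi).2 h2 h1)
    omega
  have horder : ∀ n : ↥(normalizer (M.vG : Set G)), (n : G) * n ∈ M.vG → ¬ (n : G) ∈ M.vG →
      orderOf (φ n : Equiv.Perm Cfsg.GolayPt) = 2 := by
    intro n h2 h1
    refine orderOf_eq_prime ?_ fun hh => h1 ((hmemV n).1 (Subtype.ext hh))
    rw [pow_two, ← Subgroup.coe_mul, ← map_mul, (hmemV (n * n)).2 h2]
    rfl
  have hsq : ∀ {u : ↥(QG M.Q)}, u ∈ M.uQ → (u : G) * u = 1 := fun hu => congrArg Subtype.val (M.uQ_sq hu)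
  have o1 := horder n1 (by show (u1 : G) * u1 ∈ _; rw [hsq hu1]; exact one_mem _)
    (fun hh => notMem_vH_of_vec (by rw [hv1]; exact hW1) (M.mem_vG.1 hh))
  have o2 := horder n2 (by show (u2 : G) * u2 ∈ _; rw [hsq hu2]; exact one_mem _)
    (fun hh => notMem_vH_of_vec (by rw [hv2]; exact hW2) (M.mem_vG.1 hh))
  have os := horder ns (by
    show (E.s : G) * E.s ∈ _
    rcases E.s_sq_cases with e | e <;> rw [← Subgroup.coe_mul, e]
    · exact one_mem _
    · exact M.z_mem_vG) hsV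
  -- conjugate images come from conjugate elements modulo the large abelian subgroup
  have hlift : ∀ a b : ↥(normalizer (M.vG : Set G)), (∃ k ∈ Cfsg.M24,
      (φ b : Equiv.Perm Cfsg.GolayPt) = k * (φ a : Equiv.Perm Cfsg.GolayPt) * k⁻¹) →
      ∃ n : ↥(normalizer (M.vG : Set G)), (b : G)⁻¹ * ((n : G) * a * (n : G)⁻¹) ∈ M.vG := by
    rintro a b ⟨k, hk, e⟩
    obtain ⟨n, hn⟩ := hsurj ⟨k, hk⟩
    refine ⟨n, (hmemV (b⁻¹ * (n * a * n⁻¹))).1 ?_⟩
    rw [map_mul, map_mul, map_mul, map_inv, map_inv, hn, inv_mul_eq_one]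
    exact Subtype.ext e
  have hne : ¬ ∃ k ∈ Cfsg.M24, (φ n2 : Equiv.Perm Cfsg.GolayPt) = k * (φ n1 : Equiv.Perm Cfsg.GolayPt) * k⁻¹ := by
    intro hh
    obtain ⟨n, hn⟩ := hlift n1 n2 hh
    have h1 := card_cent_large hv1
    have h2 := card_cent_small hv2
    have heq : Nat.card ↥(M.vG ⊓ centralizer ({(u1 : G)} : Set G)) ≤
        Nat.card ↥(M.vG ⊓ centralizer ({(u2 : G)} : Set G)) := by
      rw [← card_map_of_injective (K := M.vG ⊓ centralizer ({(u1 : G)} : Set G)) (f := (MulAut.conj (n : G)).toMonoidHom) (MulAut.conj (n : G)).injective]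
      refine Subgroup.card_le_of_le ?_
      rintro _ ⟨x, hx, rfl⟩
      obtain ⟨hxV, hxu⟩ := mem_inf.1 hx
      have hy : (n : G) * x * (n : G)⁻¹ ∈ M.vG := (Subgroup.mem_normalizer_iff.1 n.2 x).1 hxV
      refine mem_inf.2 ⟨hy, mem_centralizer_singleton_iff.2 ?_⟩
      set v := (u2 : G)⁻¹ * ((n : G) * u1 * (n : G)⁻¹) with hv
      have hyv := M.vG_comm hy (show v ∈ M.vG from hn)
      have hc : (n : G) * x * (n : G)⁻¹ * ((u2 : G) * v) = (u2 : G) * v * ((n : G) * x * (n : G)⁻¹) := by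
        rw [hv, mul_inv_cancel_left,
          show (n : G) * x * (n : G)⁻¹ * ((n : G) * u1 * (n : G)⁻¹) = (n : G) * (x * u1) * (n : G)⁻¹ by group,
          mem_centralizer_singleton_iff.1 hxu]
        group
      show (n : G) * x * (n : G)⁻¹ * u2 = u2 * ((n : G) * x * (n : G)⁻¹)
      calc (n : G) * x * (n : G)⁻¹ * u2 = (n : G) * x * (n : G)⁻¹ * ((u2 : G) * v) * v⁻¹ := by group
        _ = (u2 : G) * (v * ((n : G) * x * (n : G)⁻¹)) * v⁻¹ := by rw [hc]; group
        _ = (u2 : G) * ((n : G) * x * (n : G)⁻¹ * v) * v⁻¹ := by rw [hyv]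
        _ = u2 * ((n : G) * x * (n : G)⁻¹) := by group
    omega
  have hfinal : ∀ (u : ↥(QG M.Q)) (hu : u ∈ M.uQ) (nu : ↥(normalizer (M.vG : Set G))),
      (nu : G) = u → (∃ k ∈ Cfsg.M24,
        (φ ns : Equiv.Perm Cfsg.GolayPt) = k * (φ nu : Equiv.Perm Cfsg.GolayPt) * k⁻¹) → E.s * E.s = 1 := by
    intro u hu nu hnu hh
    obtain ⟨n, hn⟩ := hlift nu ns hh
    refine E.s_sq_cases.resolve_right fun hz => ?_
    obtain ⟨v, hv, hve⟩ := hn
    have hvm : (E.s : G) * (v : G) = (n : G) * u * (n : G)⁻¹ := by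
      rw [show (v : G) = (E.s : G)⁻¹ * ((n : G) * u * (n : G)⁻¹) from hnu ▸ hve, mul_inv_cancel_left]
    have hsq1 : E.s * v * (E.s * v) = 1 := Subtype.ext (by
      show (E.s : G) * (v : G) * ((E.s : G) * (v : G)) = 1
      rw [hvm, show (n : G) * u * (n : G)⁻¹ * ((n : G) * u * (n : G)⁻¹) = (n : G) * (u * u) * (n : G)⁻¹ by group,
        hsq hu, mul_one, mul_inv_cancel])
    refine E.no_flip hv ?_
    have hvv := M.vH_sq v hv
    have hsi : E.s⁻¹ = E.s * M.toH M.zQ :=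
      inv_eq_of_mul_eq_one_right (by rw [← mul_assoc, hz, M.zz])
    have h3 : E.s * v * E.s = v := by
      calc E.s * v * E.s = E.s * v * E.s * (v * v) := by rw [hvv, mul_one]
        _ = E.s * v * (E.s * v) * v := by group
        _ = v := by rw [hsq1, one_mul]
    rw [hsi, ← mul_assoc, h3]
  obtain ⟨ks, hks, cs⟩ := Golay.Local.class2 (φ ns).2 os
  obtain ⟨k1, hk1, c1⟩ := Golay.Local.class2 (φ n1).2 o1
  obtain ⟨k2, hk2, c2⟩ := Golay.Local.class2 (φ n2).2 o2
  have hsame : ∀ {R A B k k' : Equiv.Perm Cfsg.GolayPt}, k ∈ Cfsg.M24 → k' ∈ Cfsg.M24 → A = k * R * k⁻¹ →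
      B = k' * R * k'⁻¹ → ∃ q ∈ Cfsg.M24, B = q * A * q⁻¹ := fun {R A B k k'} hk hk' hA hB =>
    ⟨k' * k⁻¹, mul_mem hk' (inv_mem hk), by rw [hA, hB]; group⟩
  rcases cs with cs | cs <;> rcases c1 with c1 | c1 <;> rcases c2 with c2 | c2 <;>
    first
      | exact absurd (hsame hk1 hk2 c1 c2) hne
      | exact hfinal u1 hu1 n1 rfl (hsame hk1 hks c1 cs)
      | exact hfinal u2 hu2 n2 rfl (hsame hk2 hks c2 cs)

end Model

variable {G : Type*} [Group G] [Finite G] {z : G} {P : Subgroup G}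

/-- A complement in the normaliser of the model subgroup. -/
theorem exists_complement_vG (M : Model z P) (φ : ↥(normalizer (M.vG : Set G)) →* ↥Cfsg.M24)
    (hsurj : Function.Surjective φ) (hker : φ.ker = M.vG.subgroupOf (normalizer (M.vG : Set G))) :
    ∃ K : Subgroup G, K ≤ normalizer (M.vG : Set G) ∧ K ⊓ M.vG = ⊥ ∧ K ⊔ M.vG = normalizer (M.vG : Set G) := by
  haveI : Fact (Nat.Prime 2) := ⟨Nat.prime_two⟩
  obtain ⟨E⟩ := M.exists_gens
  have hs := E.s_sq φ hsurj hker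
  obtain ⟨S, hS⟩ := M.sylow_of_cent
  set N := normalizer (M.vG : Set G) with hN
  set T := M.syl.map (centralizer ({z} : Set G)).subtype with hT
  set A := E.S0.map (centralizer ({z} : Set G)).subtype with hA
  have hTN : T ≤ N := by
    rintro _ ⟨c, hc, rfl⟩
    exact Model.syl_mem_normalizer hc
  have hAT : A ≤ T := map_mono (E.S0_le hs)
  have hVT : M.vG ≤ T := map_mono M.vH_le
  have hAV : A ⊓ M.vG = ⊥ := by
    rw [hA, Model.vG, ← map_inf _ _ _ (centralizer ({z} : Set G)).subtype_injective, E.S0_inf hs, Subgroup.map_bot]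
  have hsup : M.vG ⊔ A = T := by rw [hA, Model.vG, ← Subgroup.map_sup, E.sup_S0 hs]
  haveI : (M.vG.subgroupOf N).Normal := normal_in_normalizer
  haveI : IsMulCommutative ↥(M.vG.subgroupOf N) :=
    ⟨⟨fun a b => Subtype.ext (Subtype.ext (M.vG_comm a.2 b.2))⟩⟩
  have hcop : (Nat.card ↥(M.vG.subgroupOf N)).Coprime (T.subgroupOf N).index := by
    rw [Nat.card_congr (subgroupOfEquivOfLe le_normalizer).toEquiv, M.vG_card,
      show (2048 : ℕ) = 2 ^ 11 by norm_num]
    refine Nat.Coprime.pow_left 11 (Nat.prime_two.coprime_iff_not_dvd.2 fun h => ?_)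
    refine S.not_dvd_index ?_
    rw [hS]
    exact h.trans (dvd_of_mul_right_eq _ (relIndex_mul_index hTN))
  obtain ⟨H, hH⟩ := SolvGaschutz.existence (K := M.vG.subgroupOf N) (U := T.subgroupOf N)
    (fun x hx => hVT hx) hcop (A := A.subgroupOf N) (fun x hx => hAT hx)
    (by
      rw [eq_bot_iff]
      intro x hx
      obtain ⟨hx1, hx2⟩ := mem_inf.1 hx
      have : (x : G) ∈ A ⊓ M.vG := mem_inf.2 ⟨hx1, hx2⟩
      rw [hAV, mem_bot] at this
      exact mem_bot.2 (Subtype.ext this))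
    (by
      refine map_injective N.subtype_injective ?_
      rw [Subgroup.map_sup, map_subgroupOf_eq_of_le le_normalizer, map_subgroupOf_eq_of_le (hAT.trans hTN),
        map_subgroupOf_eq_of_le hTN, hsup])
  refine ⟨H.map N.subtype, map_subtype_le H, ?_, ?_⟩
  · have h := congrArg (Subgroup.map N.subtype) hH.disjoint.symm.eq_bot
    rwa [map_inf _ _ _ N.subtype_injective, map_subgroupOf_eq_of_le le_normalizer, Subgroup.map_bot] at h
  · have h := congrArg (Subgroup.map N.subtype) hH.sup_eq_top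
    rwa [Subgroup.map_sup, map_subgroupOf_eq_of_le le_normalizer, ← MonoidHom.range_eq_map, range_subtype,
      sup_comm] at h

/-- **The normaliser of the large abelian subgroup is a split extension by M24.** -/
theorem exists_complement (M : Model z P) {V : Subgroup G} (B : BigPack z V) :
    ∃ K : Subgroup G, K ≤ normalizer (V : Set G) ∧ K ⊓ V = ⊥ ∧ K ⊔ V = normalizer (V : Set G) ∧
      Cfsg.Spor.IsoM24 ↥K := by
  have hel : Cfsg.IsElementaryAbelian 2 V := by
    refine ⟨⟨⟨fun a b => Subtype.ext ?_⟩⟩, fun a ha => by rw [pow_two]; exact B.sq a ha⟩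
    exact mem_centralizer_iff.1 (B.cent.ge b.2 : (b : G) ∈ centralizer (V : Set G)) a a.2
  obtain ⟨g, hg⟩ := M.conjugate_vG V hel B.card
  have hgn : (normalizer (M.vG : Set G)).map (MulAut.conj g).toMonoidHom = normalizer (V : Set G) := by
    rw [hg]; exact map_equiv_normalizer_eq M.vG (MulAut.conj g)
  let e : ↥(normalizer (M.vG : Set G)) ≃* ↥(normalizer (V : Set G)) :=
    ((MulAut.conj g).subgroupMap _).trans (MulEquiv.subgroupCongr hgn)
  have hcoe : ∀ n, (e n : G) = g * (n : G) * g⁻¹ := fun n => rfl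
  have hker : (B.phi.comp e.toMonoidHom).ker = M.vG.subgroupOf (normalizer (M.vG : Set G)) := by
    ext n
    rw [MonoidHom.mem_ker, MonoidHom.comp_apply, ← MonoidHom.mem_ker, B.phi_ker, mem_subgroupOf, mem_subgroupOf,
      MulEquiv.coe_toMonoidHom, hcoe]
    constructor
    · intro h
      rw [hg] at h
      obtain ⟨x, hx, hxe⟩ := h
      exact (MulAut.conj g).injective hxe ▸ hx
    · intro h
      rw [hg]
      exact ⟨_, h, rfl⟩
  obtain ⟨K, hKN, hKV, hsup⟩ := exists_complement_vG M (B.phi.comp e.toMonoidHom)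
    (B.phi_surj.comp e.surjective) hker
  set K' := K.map (MulAut.conj g).toMonoidHom with hK'
  have h1 : K' ≤ normalizer (V : Set G) := hgn ▸ map_mono hKN
  have h2 : K' ⊓ V = ⊥ := by
    rw [hg, hK', ← map_inf _ _ _ (MulAut.conj g).injective, hKV, Subgroup.map_bot]
  have h3 : K' ⊔ V = normalizer (V : Set G) := by
    rw [← hgn, hK', ← hsup, Subgroup.map_sup, ← hg]
  refine ⟨K', h1, h2, h3, ⟨MulEquiv.ofBijective (B.phi.comp (Subgroup.inclusion h1)) ⟨?_, fun m => ?_⟩⟩⟩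
  · rw [injective_iff_map_eq_one]
    intro k hk
    have hk1 : Subgroup.inclusion h1 k ∈ B.phi.ker := MonoidHom.mem_ker.2 hk
    rw [B.phi_ker, mem_subgroupOf] at hk1
    exact Subtype.ext (mem_bot.1 (h2 ▸ mem_inf.2 ⟨k.2, hk1⟩))
  · obtain ⟨n, rfl⟩ := B.phi_surj m
    have hn : (n : G) ∈ (((K' ⊔ V : Subgroup G)) : Set G) := by rw [h3]; exact n.2
    rw [coe_mul_of_left_le_normalizer_right K' V h1] at hn
    obtain ⟨k, hk, v, hv, hkv⟩ := hn
    refine ⟨⟨k, hk⟩, ?_⟩
    have hvk : (⟨v, le_normalizer hv⟩ : ↥(normalizer (V : Set G))) ∈ B.phi.ker := by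
      rw [B.phi_ker, mem_subgroupOf]; exact hv
    have hnkv : n = (Subgroup.inclusion h1 ⟨k, hk⟩) * ⟨v, le_normalizer hv⟩ := Subtype.ext hkv.symm
    show B.phi _ = _
    rw [hnkv, map_mul, MonoidHom.mem_ker.1 hvk, mul_one]

end Cfsg.Agent.JankoFour
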