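import Cfsg.Agent.Lib.JankoFour.OCountDefs

/-!
The orbits of the stabiliser of one representative on the involutions, and the value summed over them.
-/

set_option autoImplicit false
set_option maxRecDepth 100000
set_option Elab.async false

namespace Cfsg.Agent.JankoFour.OC

theorem forestA_all_0 : (List.range' 0 788).all (forestOK xrepP) = true := by decide +kernel

theorem forestA_all_1 : (List.range' 788 788).all (forestOK xrepP) = true := by decide +kernel

theorem forestA_all_2 : (List.range' 1576 788).all (forestOK xrepP) = true := by decide +kernel

theorem forestA_all_3 : (List.range' 2364 788).all (forestOK xrepP) = true := by decide +kernel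

theorem forestA_all_4 : (List.range' 3152 788).all (forestOK xrepP) = true := by decide +kernel

theorem forestA_all_5 : (List.range' 3940 788).all (forestOK xrepP) = true := by decide +kernel

theorem forestA_all_6 : (List.range' 4728 788).all (forestOK xrepP) = true := by decide +kernel

theorem forestA_all_7 : (List.range' 5516 788).all (forestOK xrepP) = true := by decide +kernel

theorem forestA_all : (List.range 6304).all (forestOK xrepP) = true :=
  all_pieces fun k hk => by
    simp only [List.mem_cons, List.not_mem_nil, or_false] at hk
    rcases hk with rfl | rfl | rfl | rfl | rfl | rfl | rfl | rfl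
    exacts [forestA_all_0, forestA_all_1, forestA_all_2, forestA_all_3, forestA_all_4, forestA_all_5, forestA_all_6, forestA_all_7]

theorem stabA_all : xrepP.es.all (stabOK xrepP) = true := by decide +kernel

theorem rootsA_low : (xrepP.roots.take 12).all (rootOK xrepP) = true := by decide +kernel

theorem rootsA_high : (xrepP.roots.drop 12).all (rootOK xrepP) = true := by decide +kernel

theorem rootsA_all : xrepP.roots.all (rootOK xrepP) = true := by
  rw [← List.take_append_drop 12 xrepP.roots, List.all_append, rootsA_low, rootsA_high]
  rfl

theorem totalA_0 : ((List.range' 0 788).map (valueAt xrepP)).sum = 28672 := by decide +kernel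

theorem totalA_1 : ((List.range' 788 788).map (valueAt xrepP)).sum = 32256 := by decide +kernel

theorem totalA_2 : ((List.range' 1576 788).map (valueAt xrepP)).sum = 33664 := by decide +kernel

theorem totalA_3 : ((List.range' 2364 788).map (valueAt xrepP)).sum = 33536 := by decide +kernel

theorem totalA_4 : ((List.range' 3152 788).map (valueAt xrepP)).sum = 33984 := by decide +kernel

theorem totalA_5 : ((List.range' 3940 788).map (valueAt xrepP)).sum = 30400 := by decide +kernel

theorem totalA_6 : ((List.range' 4728 788).map (valueAt xrepP)).sum = 34560 := by decide +kernel

theorem totalA_7 : ((List.range' 5516 788).map (valueAt xrepP)).sum = 30336 := by decide +kernel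

theorem totalA_eq : totalOf xrepP = xrepP.total := by
  unfold totalOf
  simp only [range_pieces, List.map_append, List.sum_append, totalA_0, totalA_1, totalA_2, totalA_3, totalA_4, totalA_5, totalA_6, totalA_7]
  rfl

end Cfsg.Agent.JankoFour.OC
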