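import Cfsg.Agent.Lib.JankoFour.OCountDefs

/-!
The orbits of the stabiliser of one representative on the involutions, and the value summed over them.
-/

set_option autoImplicit false
set_option maxRecDepth 100000
set_option Elab.async false

namespace Cfsg.Agent.JankoFour.OC

theorem forestB_all_0 : (List.range' 0 788).all (forestOK xrepQ) = true := by decide +kernel

theorem forestB_all_1 : (List.range' 788 788).all (forestOK xrepQ) = true := by decide +kernel

theorem forestB_all_2 : (List.range' 1576 788).all (forestOK xrepQ) = true := by decide +kernel

theorem forestB_all_3 : (List.range' 2364 788).all (forestOK xrepQ) = true := by decide +kernel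

theorem forestB_all_4 : (List.range' 3152 788).all (forestOK xrepQ) = true := by decide +kernel

theorem forestB_all_5 : (List.range' 3940 788).all (forestOK xrepQ) = true := by decide +kernel

theorem forestB_all_6 : (List.range' 4728 788).all (forestOK xrepQ) = true := by decide +kernel

theorem forestB_all_7 : (List.range' 5516 788).all (forestOK xrepQ) = true := by decide +kernel

theorem forestB_all : (List.range 6304).all (forestOK xrepQ) = true :=
  all_pieces fun k hk => by
    simp only [List.mem_cons, List.not_mem_nil, or_false] at hk
    rcases hk with rfl | rfl | rfl | rfl | rfl | rfl | rfl | rfl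
    exacts [forestB_all_0, forestB_all_1, forestB_all_2, forestB_all_3, forestB_all_4, forestB_all_5, forestB_all_6, forestB_all_7]

theorem stabB_all : xrepQ.es.all (stabOK xrepQ) = true := by decide +kernel

theorem rootsB_low : (xrepQ.roots.take 15).all (rootOK xrepQ) = true := by decide +kernel

theorem rootsB_high : (xrepQ.roots.drop 15).all (rootOK xrepQ) = true := by decide +kernel

theorem rootsB_all : xrepQ.roots.all (rootOK xrepQ) = true := by
  rw [← List.take_append_drop 15 xrepQ.roots, List.all_append, rootsB_low, rootsB_high]
  rfl

theorem totalB_0 : ((List.range' 0 788).map (valueAt xrepQ)).sum = 1440 := by decide +kernel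

theorem totalB_1 : ((List.range' 788 788).map (valueAt xrepQ)).sum = 1008 := by decide +kernel

theorem totalB_2 : ((List.range' 1576 788).map (valueAt xrepQ)).sum = 1281 := by decide +kernel

theorem totalB_3 : ((List.range' 2364 788).map (valueAt xrepQ)).sum = 1008 := by decide +kernel

theorem totalB_4 : ((List.range' 3152 788).map (valueAt xrepQ)).sum = 1184 := by decide +kernel

theorem totalB_5 : ((List.range' 3940 788).map (valueAt xrepQ)).sum = 1056 := by decide +kernel

theorem totalB_6 : ((List.range' 4728 788).map (valueAt xrepQ)).sum = 1184 := by decide +kernel

theorem totalB_7 : ((List.range' 5516 788).map (valueAt xrepQ)).sum = 1056 := by decide +kernel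

theorem totalB_eq : totalOf xrepQ = xrepQ.total := by
  unfold totalOf
  simp only [range_pieces, List.map_append, List.sum_append, totalB_0, totalB_1, totalB_2, totalB_3, totalB_4, totalB_5, totalB_6, totalB_7]
  rfl

end Cfsg.Agent.JankoFour.OC
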