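import Cfsg.Agent.Lib.JankoFour.OCountDefs

/-!
The orbits of the stabiliser of one representative on the involutions, and the value summed over them.
-/

set_option autoImplicit false
set_option maxRecDepth 100000
set_option Elab.async false

namespace Cfsg.Agent.JankoFour.OC

theorem forestC_all_0 : (List.range' 0 788).all (forestOK xrepR) = true := by decide +kernel

theorem forestC_all_1 : (List.range' 788 788).all (forestOK xrepR) = true := by decide +kernel

theorem forestC_all_2 : (List.range' 1576 788).all (forestOK xrepR) = true := by decide +kernel

theorem forestC_all_3 : (List.range' 2364 788).all (forestOK xrepR) = true := by decide +kernel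

theorem forestC_all_4 : (List.range' 3152 788).all (forestOK xrepR) = true := by decide +kernel

theorem forestC_all_5 : (List.range' 3940 788).all (forestOK xrepR) = true := by decide +kernel

theorem forestC_all_6 : (List.range' 4728 788).all (forestOK xrepR) = true := by decide +kernel

theorem forestC_all_7 : (List.range' 5516 788).all (forestOK xrepR) = true := by decide +kernel

theorem forestC_all : (List.range 6304).all (forestOK xrepR) = true :=
  all_pieces fun k hk => by
    simp only [List.mem_cons, List.not_mem_nil, or_false] at hk
    rcases hk with rfl | rfl | rfl | rfl | rfl | rfl | rfl | rfl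
    exacts [forestC_all_0, forestC_all_1, forestC_all_2, forestC_all_3, forestC_all_4, forestC_all_5, forestC_all_6, forestC_all_7]

theorem stabC_all : xrepR.es.all (stabOK xrepR) = true := by decide +kernel

theorem rootsC_low : (xrepR.roots.take 24).all (rootOK xrepR) = true := by decide +kernel

theorem rootsC_high : (xrepR.roots.drop 24).all (rootOK xrepR) = true := by decide +kernel

theorem rootsC_all : xrepR.roots.all (rootOK xrepR) = true := by
  rw [← List.take_append_drop 24 xrepR.roots, List.all_append, rootsC_low, rootsC_high]
  rfl

theorem totalC_0 : ((List.range' 0 788).map (valueAt xrepR)).sum = 32816 := by decide +kernel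

theorem totalC_1 : ((List.range' 788 788).map (valueAt xrepR)).sum = 31024 := by decide +kernel

theorem totalC_2 : ((List.range' 1576 788).map (valueAt xrepR)).sum = 32672 := by decide +kernel

theorem totalC_3 : ((List.range' 2364 788).map (valueAt xrepR)).sum = 32384 := by decide +kernel

theorem totalC_4 : ((List.range' 3152 788).map (valueAt xrepR)).sum = 33120 := by decide +kernel

theorem totalC_5 : ((List.range' 3940 788).map (valueAt xrepR)).sum = 29152 := by decide +kernel

theorem totalC_6 : ((List.range' 4728 788).map (valueAt xrepR)).sum = 34272 := by decide +kernel

theorem totalC_7 : ((List.range' 5516 788).map (valueAt xrepR)).sum = 30336 := by decide +kernel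

theorem totalC_eq : totalOf xrepR = xrepR.total := by
  unfold totalOf
  simp only [range_pieces, List.map_append, List.sum_append, totalC_0, totalC_1, totalC_2, totalC_3, totalC_4, totalC_5, totalC_6, totalC_7]
  rfl

end Cfsg.Agent.JankoFour.OC
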