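import Cfsg.Agent.Lib.JankoFour.OCountDefs

/-!
The orbits of the stabiliser of one representative on the involutions, and the value summed over them.
-/

set_option autoImplicit false
set_option maxRecDepth 100000
set_option Elab.async false

namespace Cfsg.Agent.JankoFour.OC

theorem forestD_all_0 : (List.range' 0 788).all (forestOK xrepS) = true := by decide +kernel

theorem forestD_all_1 : (List.range' 788 788).all (forestOK xrepS) = true := by decide +kernel

theorem forestD_all_2 : (List.range' 1576 788).all (forestOK xrepS) = true := by decide +kernel

theorem forestD_all_3 : (List.range' 2364 788).all (forestOK xrepS) = true := by decide +kernel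

theorem forestD_all_4 : (List.range' 3152 788).all (forestOK xrepS) = true := by decide +kernel

theorem forestD_all_5 : (List.range' 3940 788).all (forestOK xrepS) = true := by decide +kernel

theorem forestD_all_6 : (List.range' 4728 788).all (forestOK xrepS) = true := by decide +kernel

theorem forestD_all_7 : (List.range' 5516 788).all (forestOK xrepS) = true := by decide +kernel

theorem forestD_all : (List.range 6304).all (forestOK xrepS) = true :=
  all_pieces fun k hk => by
    simp only [List.mem_cons, List.not_mem_nil, or_false] at hk
    rcases hk with rfl | rfl | rfl | rfl | rfl | rfl | rfl | rfl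
    exacts [forestD_all_0, forestD_all_1, forestD_all_2, forestD_all_3, forestD_all_4, forestD_all_5, forestD_all_6, forestD_all_7]

theorem stabD_all : xrepS.es.all (stabOK xrepS) = true := by decide +kernel

theorem rootsD_low : (xrepS.roots.take 13).all (rootOK xrepS) = true := by decide +kernel

theorem rootsD_high : (xrepS.roots.drop 13).all (rootOK xrepS) = true := by decide +kernel

theorem rootsD_all : xrepS.roots.all (rootOK xrepS) = true := by
  rw [← List.take_append_drop 13 xrepS.roots, List.all_append, rootsD_low, rootsD_high]
  rfl

theorem totalD_0 : ((List.range' 0 788).map (valueAt xrepS)).sum = 736 := by decide +kernel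

theorem totalD_1 : ((List.range' 788 788).map (valueAt xrepS)).sum = 784 := by decide +kernel

theorem totalD_2 : ((List.range' 1576 788).map (valueAt xrepS)).sum = 480 := by decide +kernel

theorem totalD_3 : ((List.range' 2364 788).map (valueAt xrepS)).sum = 752 := by decide +kernel

theorem totalD_4 : ((List.range' 3152 788).map (valueAt xrepS)).sum = 720 := by decide +kernel

theorem totalD_5 : ((List.range' 3940 788).map (valueAt xrepS)).sum = 864 := by decide +kernel

theorem totalD_6 : ((List.range' 4728 788).map (valueAt xrepS)).sum = 513 := by decide +kernel

theorem totalD_7 : ((List.range' 5516 788).map (valueAt xrepS)).sum = 656 := by decide +kernel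

theorem totalD_eq : totalOf xrepS = xrepS.total := by
  unfold totalOf
  simp only [range_pieces, List.map_append, List.sum_append, totalD_0, totalD_1, totalD_2, totalD_3, totalD_4, totalD_5, totalD_6, totalD_7]
  rfl

end Cfsg.Agent.JankoFour.OC
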