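import Cfsg.Agent.Lib.JankoFour.OCountPartners
import Cfsg.Agent.Lib.JankoFour.OCountForestA
import Cfsg.Agent.Lib.JankoFour.OCountForestB
import Cfsg.Agent.Lib.JankoFour.OCountForestC
import Cfsg.Agent.Lib.JankoFour.OCountForestD

/-!
The pairs of conjugates of the two involutions whose product has the first involution among its powers.
-/

set_option autoImplicit false
set_option linter.unusedSectionVars false
set_option linter.style.haveILetI false
set_option maxRecDepth 100000

namespace Cfsg.Agent.JankoFour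

open Subgroup
open Cfsg (GolayPt)
open Cfsg.Agent.LargeFischer (Ctx QG)
open Cfsg.Agent.J4Module (app)
open Cfsg.Agent.J4Module.Data
open OC

variable {G : Type*} [Group G] [Finite G] {z : G} {P : Subgroup G}

/-- An involution inverting a product commutes with an involution among its powers. -/
theorem OC.comm_of_power {a b c : G} (ha : a * a = 1) (hb : b * b = 1) (hc : c * c = 1)
    (h : c ∈ zpowers (a * b)) : a * c = c * a := by
  obtain ⟨k, rfl⟩ := h
  have hs : SemiconjBy a (a * b)⁻¹ (a * b) := by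
    show a * (a * b)⁻¹ = a * b * a
    rw [_root_.mul_inv_rev, inv_eq_of_mul_eq_one_right ha, inv_eq_of_mul_eq_one_right hb, ← mul_assoc]
  have h2 := (hs.zpow_right k).eq
  rw [inv_zpow, inv_eq_of_mul_eq_one_right hc] at h2
  exact h2

namespace OCountCtx

variable {M : Model z P} {t : G} (K : OCountCtx M t) [Fintype ↥(centralizer ({z} : Set G))]
include K

theorem pairCount_eq : pairCount z t z =
    ∑ x : ↥(centralizer ({z} : Set G)), clsInd z x * M.partners t x := by
  classical
  have hsq : ∀ a g : G, orderOf a = 2 → IsConj a g → g * g = 1 := by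
    intro a g ha h
    obtain ⟨c, rfl⟩ := isConj_iff.1 h
    rw [show c * a * c⁻¹ * (c * a * c⁻¹) = c * (a * a) * c⁻¹ by group, ← pow_two a, ← ha, pow_orderOf_eq_one]
    group
  have hin : ∀ q : G × G, IsConj z q.1 → IsConj t q.2 → z ∈ zpowers (q.1 * q.2) →
      q.1 ∈ centralizer ({z} : Set G) ∧ q.2 ∈ centralizer ({z} : Set G) := by
    intro q h1 h2 h3
    have a1 := hsq z q.1 M.order_z h1
    have a2 := hsq t q.2 K.ht h2
    refine ⟨mem_centralizer_singleton_iff.2 (comm_of_power a1 a2 M.ctx.xs.sq h3),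
      mem_centralizer_singleton_iff.2 (comm_of_power a2 a1 M.ctx.xs.sq ?_)⟩
    rw [← zpowers_inv, _root_.mul_inv_rev, inv_eq_of_mul_eq_one_right a1, inv_eq_of_mul_eq_one_right a2]
    exact h3
  unfold pairCount
  rw [← Nat.card_congr (α := {q : ↥(centralizer ({z} : Set G)) × ↥(centralizer ({z} : Set G)) //
      IsConj z (q.1 : G) ∧ IsConj t (q.2 : G) ∧ z ∈ zpowers ((q.1 : G) * q.2)})
    { toFun := fun q => ⟨((q.1.1 : G), (q.1.2 : G)), q.2⟩
      invFun := fun q => ⟨(⟨q.1.1, (hin q.1 q.2.1 q.2.2.1 q.2.2.2).1⟩, ⟨q.1.2, (hin q.1 q.2.1 q.2.2.1 q.2.2.2).2⟩),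
        q.2⟩
      left_inv := fun q => rfl
      right_inv := fun q => rfl }, Nat.card_eq_fintype_card, Fintype.card_subtype, Finset.card_filter,
    Fintype.sum_prod_type]
  refine Finset.sum_congr rfl fun x _ => ?_
  unfold Model.partners
  rw [Finset.mul_sum]
  refine Finset.sum_congr rfl fun y _ => ?_
  have hmem : z ∈ zpowers ((x : G) * y) ↔ M.toH M.zQ ∈ zpowers (x * y) :=
    Model.val_mem_zpowers (g := M.toH M.zQ) (h := x * y)
  unfold Model.mate clsInd
  by_cases h1 : IsConj z (x : G) <;> by_cases h2 : IsConj t (y : G) <;>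
    by_cases h3 : M.toH M.zQ ∈ zpowers (x * y) <;>
      simp only [h1, h2, h3, hmem, and_self, and_true, and_false, if_true, if_false, mul_one, mul_zero]

theorem partners_z : M.partners t (M.toH M.zQ) = 0 := by
  refine Finset.sum_eq_zero fun y _ => ?_
  unfold Model.mate
  by_cases hy : clsInd t y = 0
  · rw [hy, zero_mul]
  rw [if_neg, mul_zero]
  intro h
  obtain ⟨hy2, hy1⟩ := K.ind_sq (Or.inl rfl) hy
  obtain ⟨n, hn⟩ := mem_powers_iff_mem_zpowers.2 h
  replace hn : (M.toH M.zQ * y) ^ n = M.toH M.zQ := hn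
  have h2 : (M.toH M.zQ * y) ^ 2 = 1 := by
    rw [(show Commute (M.toH M.zQ) y from (M.z_fix y).symm).mul_pow, pow_two, pow_two, M.zz, hy2, mul_one]
  rw [← Nat.mod_add_div n 2, pow_add, pow_mul, h2, one_pow, mul_one] at hn
  rcases Nat.mod_two_eq_zero_or_one n with e | e <;> rw [e] at hn
  · exact M.z_ne (by simpa using hn.symm)
  · exact hy1 (by simpa using hn)

/-- Elements over a moved point have the same number of partners. -/
theorem orbit_sum {v v' u val : ℕ} {E C : List ℕ} (hv : v < 4096) (hu : u < 4096) (hE : InL0 E) (hC : InL0 C)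
    (e1 : mulC E C = mulC C E) (e2 : u ^^^ app E v = v' ^^^ app C u)
    (hval : ∀ x, M.Code x v C → clsInd z x ≠ 0 → M.partners t x = val) :
    M.sumPt (fun g => clsInd z g * M.partners t g) v' C = M.sumPt (clsInd z) v' C * val := by
  obtain ⟨h, hh⟩ := M.code_of_pair hu hE
  obtain ⟨x, hx⟩ := M.code_of_pair hv hC
  rw [hh.sumPt_conj hv hC (gen_length hC) e1 e2, hh.sumPt_conj hv hC (gen_length hC) e1 e2 (clsInd z)]
  simp only [clsInd_conj, Model.partners_conj, hx.sumPt_eq, add_mul]
  congr 1 <;> [by_cases h0 : clsInd z x = 0; by_cases h0 : clsInd z (x * M.toH M.zQ) = 0]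
  · rw [h0, zero_mul, zero_mul]
  · rw [hval x hx h0]
  · rw [h0, zero_mul, zero_mul]
  · rw [hval _ hx.mul_z h0]

theorem sum_vanish {v : ℕ} {C : List ℕ} (h : M.sumPt (clsInd z) v C = 0) (hv : v < 4096) (hC : InL0 C) :
    M.sumPt (fun g => clsInd z g * M.partners t g) v C = 0 := by
  obtain ⟨g, hg⟩ := M.code_of_pair hv hC
  rw [hg.sumPt_eq] at h ⊢
  rw [show clsInd z g = 0 by omega, show clsInd z (g * M.toH M.zQ) = 0 by omega, zero_mul, zero_mul, add_zero]

theorem sum_first : ∑ w ∈ Finset.range 4096, M.sumPt (fun g => clsInd z g * M.partners t g) w (repM 3) =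
    693 * (2 * 257408) := by
  obtain ⟨⟨hv, hc, hC⟩, -⟩ := xrep_spec
  have hval : ∀ x, M.Code x xrepP.v (repM 3) → clsInd z x ≠ 0 → M.partners t x = 257408 := fun x hx h0 =>
    K.partners_value forestA_all stabA_all rootsA_all totalA_eq (hC.symm ▸ hx) h0
  have hmove : ∀ w < 4096, cls w = 1 → ∃ E, InL0 E ∧ app E xrepP.v = w := by
    intro w hw hcw
    obtain ⟨A, hA, ea⟩ := M.mask_conj (M.cls_mask (k := 0) hv hc)
    obtain ⟨B, hB, eb⟩ := M.mask_conj (M.cls_mask (k := 0) hw hcw)
    obtain ⟨h, hh⟩ := M.code_of_pair (show (0 : ℕ) < 4096 by norm_num) hA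
    obtain ⟨u, D, hD, -, hDA⟩ := hh.inv_cols
    refine ⟨mulC B D, gen_mul (fun _ h => h) hB hD.mem_L0, ?_⟩
    rw [app_mulC, ← ea, ← app_mulC D, hDA, app_unitC _ (J4Module.rep_mem 0).2, eb]
  show ∑ w ∈ Finset.range 4096, M.sumPt _ w unitC = _
  rw [sum_range_list unit_nodup lists_lt.2.2.2 (fun w hw hn => K.sum_vanish ((K.unit_val hw).2.2 hn).2 hw Gen.one),
    List.map_cons, List.sum_cons, List.map_append, List.sum_append,
    sum_map_const (c := 2 * 257408) (fun w hw => ?_), sum_map_const (c := 0) (fun w hw => ?_),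
    vecs_lengths.2.2.2.2.2.1, mul_zero, add_zero]
  · rw [M.code_one.sumPt_eq, one_mul, K.partners_z, mul_zero, add_zero,
      show clsInd z (1 : ↥(centralizer ({z} : Set G))) = 0 by
        by_contra h0; exact (K.ind_sq (Or.inr rfl) h0).2 rfl, zero_mul, zero_add]
  · have hlt := lists_lt.2.2.2 w (by simp [hw])
    exact K.sum_vanish ((K.unit_val hlt).2.1 hw).2 hlt Gen.one
  · have hlt := lists_lt.2.2.2 w (by simp [hw])
    obtain ⟨E, hE, e⟩ := hmove w hlt (vecsA_spec w hw).1
    rw [K.orbit_sum hv (show (0 : ℕ) < 4096 by norm_num) hE Gen.one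
      (by rw [mulC_unitC (gen_length hE), unitC_mulC hE fun _ h => h]) (v' := w) (by simp [e]) hval,
      ((K.unit_val hlt).1 hw).2]

theorem sum_inner : ∑ w ∈ Finset.range 4096, M.sumPt (fun g => clsInd z g * M.partners t g) w (repM 0) =
    16 * 9217 + 48 * (2 * 255776) := by
  obtain ⟨⟨-, za⟩, ⟨-, zb⟩, -, -⟩ := K.class_values
  obtain ⟨hdU, -, -⟩ := K.disp_vals z
  obtain ⟨h0, -, -⟩ := K.rest_zero (a := z) (Or.inr rfl)
  obtain ⟨-, ⟨hQv, hQC⟩, ⟨hRv, hRC⟩, -⟩ := xrep_spec
  have hvalQ : ∀ x, M.Code x 0 (repM 0) → clsInd z x ≠ 0 → M.partners t x = 9217 := fun x hx h =>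
    K.partners_value forestB_all stabB_all rootsB_all totalB_eq (by rw [hQv, hQC]; exact hx) h
  have hvalR : ∀ x, M.Code x 33 (repM 0) → clsInd z x ≠ 0 → M.partners t x = 255776 := fun x hx h =>
    K.partners_value forestC_all stabC_all rootsC_all totalC_eq (by rw [hRv, hRC]; exact hx) h
  rw [sum_range_list lists_nodup.1 lists_lt.1 (fun w hw hn => K.sum_vanish (h0 w hw hn) hw (repM_InL0 0)),
    List.map_append, List.map_append, List.sum_append, List.sum_append, sum_map_const (c := 9217) (fun w hw => ?_),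
    sum_map_const (c := 2 * 255776) (fun w hw => ?_), sum_map_const (c := 0) (fun w hw => ?_), List.length_map,
    List.length_map, vecs_lengths.1, vecs_lengths.2.1, mul_zero, add_zero]
  · exact K.sum_vanish (K.fixRest_val hw).2 (lists_lt.1 w (List.mem_append_right _ hw)) (repM_InL0 0)
  · obtain ⟨p, hp, rfl⟩ := List.mem_map.1 hw
    obtain ⟨hj, he, e⟩ := hexOrbit_spec p hp
    have hm : hexMoves.getD p.2.1 ([], 0) ∈ hexMoves := by
      rw [List.getD_eq_getElem _ _ hj]; exact List.getElem_mem hj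
    obtain ⟨hwd, hcm⟩ := hexMoves_spec _ hm
    rw [K.orbit_sum (show (33 : ℕ) < 4096 by norm_num) he (word_InL0 hwd) (repM_InL0 0) hcm (v' := p.1)
      (by rw [e]; exact xor_shuffle _ _ _) hvalR, K.hexOrbit_val hp z, zb]
  · obtain ⟨p, hp, rfl⟩ := List.mem_map.1 hw
    obtain ⟨he, e⟩ := dispU_spec p hp
    rw [K.orbit_sum (show (0 : ℕ) < 4096 by norm_num) he Gen.one (repM_InL0 0)
      (by rw [mulC_unitC (gen_length (repM_InL0 0)), unitC_mulC (repM_InL0 0) fun _ h => h]) (v' := p.1)
      (by rw [J4Module.app_zero, Nat.xor_zero, e, Nat.xor_comm (app (Big.bEl 1) p.2) p.2]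
          show _ = _ ^^^ app (Big.bEl 1) p.2
          rw [Nat.xor_assoc, Nat.xor_self, Nat.xor_zero]) hvalQ, hdU p.1 hw, za, one_mul]

theorem sum_outer :
    ∑ w ∈ Finset.range 4096, M.sumPt (fun g => clsInd z g * M.partners t g) w (repM 1) = 64 * 5505 ∧
      ∑ w ∈ Finset.range 4096, M.sumPt (fun g => clsInd z g * M.partners t g) w (repM 2) = 0 := by
  obtain ⟨-, -, ⟨-, zi⟩, ⟨-, zj⟩⟩ := K.class_values
  obtain ⟨-, hdJ, hdS⟩ := K.disp_vals z
  obtain ⟨-, h1, h2⟩ := K.rest_zero (a := z) (Or.inr rfl)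
  obtain ⟨-, -, -, ⟨hv, hC⟩⟩ := xrep_spec
  have hval : ∀ x, M.Code x 0 (repM 1) → clsInd z x ≠ 0 → M.partners t x = 5505 := fun x hx h =>
    K.partners_value forestD_all stabD_all rootsD_all totalD_eq (by rw [hv, hC]; exact hx) h
  refine ⟨?_, ?_⟩
  · rw [sum_range_list lists_nodup.2.1 lists_lt.2.1 (fun w hw hn => K.sum_vanish (h1 w hw hn) hw (repM_InL0 1)),
      sum_map_const (c := 5505) (fun w hw => ?_), List.length_map, vecs_lengths.2.2.2.1]
    obtain ⟨p, hp, rfl⟩ := List.mem_map.1 hw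
    obtain ⟨he, e⟩ := dispJ_spec p hp
    rw [K.orbit_sum (show (0 : ℕ) < 4096 by norm_num) he Gen.one (repM_InL0 1)
      (by rw [mulC_unitC (gen_length (repM_InL0 1)), unitC_mulC (repM_InL0 1) fun _ h => h]) (v' := p.1)
      (by rw [J4Module.app_zero, Nat.xor_zero, e, Nat.xor_comm (app (repM 1) p.2) p.2, Nat.xor_assoc,
            Nat.xor_self, Nat.xor_zero]) hval, hdJ p.1 hw, zi, one_mul]
  · refine Finset.sum_eq_zero fun w hw => ?_
    have hw' := Finset.mem_range.1 hw
    refine K.sum_vanish ?_ hw' (repM_InL0 2)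
    by_cases h : w ∈ dispS.map Prod.fst
    · rw [hdS w h, zj]
    · exact h2 w hw' h

omit [Fintype ↥(centralizer ({z} : Set G))] in
theorem pair_value : pairCount z t z = 29236337328 := by
  classical
  haveI := Fintype.ofFinite ↥(centralizer ({z} : Set G))
  rw [K.pairCount_eq, Model.sum_classes (M := M) _ (fun g hg => by rw [K.ind_eq_zero (Or.inr rfl) hg, zero_mul])
    (fun h g => by rw [clsInd_conj, Model.partners_conj]), K.sum_inner, K.sum_outer.1, K.sum_outer.2, K.sum_first]

end OCountCtx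

variable {M : Model z P} {B : BigData M}

/-- The count inside the centraliser of the first involution. -/
theorem BigData.one_count (F : B.Facts) [IsSimpleGroup G] (hG : ¬ IsMulCommutative G) (D : BigPack z B.V)
    {d : Finset GolayPt} (hd : d.card = 2) : OneCount z (D.eS d) := by
  intro hcomm
  obtain ⟨ht, hnc, -, hall⟩ := D.two_classes F hG hd
  exact (OCountCtx.mk (M := M) ht hnc hall (fun x => (F.cls_class hG x).1) (fun x => (F.cls_class hG x).2)
    (fun e he => F.e6_not_conj hG he) hcomm).pair_value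

end Cfsg.Agent.JankoFour
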