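import Cfsg.Agent.Lib.JankoFour.Order
import Cfsg.Agent.Lib.JankoFour.OCountMain

/-!
The order of a group of the type, from the statement's hypotheses.
-/

set_option autoImplicit false

namespace Cfsg.Agent.JankoFour

/-- The order. -/
theorem order_of_type {G : Type*} [Group G] [Finite G] [IsSimpleGroup G] (hG : ¬ IsMulCommutative G)
    (hJ : Cfsg.IsOfJankoFourType G) : Nat.card G = 86775571046077562880 := by
  obtain ⟨z, P, hP⟩ := hJ
  obtain ⟨M, B, ⟨F⟩⟩ := exists_facts hP
  exact F.card_eq hG fun D _ => BigData.one_count F hG D TC.card_duad2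

end Cfsg.Agent.JankoFour
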