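import Mathlib.GroupTheory.GroupAction.Quotient
import Mathlib.GroupTheory.Index
import Mathlib.Data.Fintype.Perm
import Cfsg.Agent.S5439

/-! Janko-four type: the centraliser of the second involution.

`V` is a large elementary abelian subgroup whose normaliser acts on it as on the even part of the
cocode of a system on 24 points.  If conjugates of `z` are the tetrads and no duad is one, then the
centraliser of a duad lies in the normaliser of `V`.  The control of fusion is elementary: if `v`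
outside `V` is conjugate under the centraliser of the duad to a tetrad `x`, then the part of `V`
centralising `v` goes to a group of involutions which either is too big for a group of involutions
fixing two of the 24 points, or consists of elements all moving one point of the duad. -/

set_option autoImplicit false

namespace Cfsg.Agent.JankoFour.TwoCent

open scoped symmDiff
open Subgroup

/-- The coordinates of a large abelian subgroup by the even part of a cocode on 24 points. -/
structure Cocode {G : Type*} [Group G] (z : G) (V : Subgroup G) (X : Type*) [Fintype X] [DecidableEq X] where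
  ρ : ↥(normalizer (V : Set G)) →* Equiv.Perm X
  κ : Finset X → G
  card_pts : Fintype.card X = 24
  mem : ∀ s : Finset X, Even s.card → κ s ∈ V
  mul : ∀ s s' : Finset X, Even s.card → Even s'.card → κ (s ∆ s') = κ s * κ s'
  inj : ∀ s : Finset X, Even s.card → s.card ≤ 6 → κ s = 1 → s = ∅
  surj : ∀ v ∈ V, ∃ s : Finset X, Even s.card ∧ s.card ≤ 4 ∧ κ s = v
  act : ∀ (n : ↥(normalizer (V : Set G))) (s : Finset X), Even s.card →
    (n : G) * κ s * (n : G)⁻¹ = κ (s.image (ρ n))
  ker : ∀ n : ↥(normalizer (V : Set G)), ρ n = 1 → (n : G) ∈ V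
  fix_eight : ∀ n : ↥(normalizer (V : Set G)), ρ n * ρ n = 1 → ρ n ≠ 1 → ∀ a : X, ρ n a = a →
    (Finset.univ.filter fun p => ρ n p = p).card = 8
  tetrad : ∀ s : Finset X, s.card = 4 → IsConj z (κ s)
  duad : ∀ s : Finset X, s.card = 2 → ¬ IsConj z (κ s)
  cent : ∀ u ∈ V, IsConj z u → ∀ d : Finset X, d.card = 2 →
    centralizer ({u} : Set G) ⊓ centralizer ({κ d} : Set G) ≤ normalizer (V : Set G)
  uniq : ∀ y : G, (∀ v ∈ V, y * v * y⁻¹ ∈ normalizer (V : Set G)) → y ∈ normalizer (V : Set G)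

section Sets

variable {X : Type*} [DecidableEq X]

theorem card_symm (s t : Finset X) : (s ∆ t).card + 2 * (s ∩ t).card = s.card + t.card := by
  have e : s ∆ t = (s \ t) ∪ (t \ s) := rfl
  rw [e, Finset.card_union_of_disjoint disjoint_sdiff_sdiff]
  have h1 := Finset.card_sdiff_add_card_inter s t
  have h2 := Finset.card_sdiff_add_card_inter t s
  rw [Finset.inter_comm t s] at h2
  omega

theorem even_symm {s t : Finset X} (hs : Even s.card) (ht : Even t.card) : Even (s ∆ t).card := by
  have := card_symm s t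
  rw [Nat.even_iff] at *
  omega

theorem card_symm_disjoint {s t : Finset X} (h : Disjoint s t) : (s ∆ t).card = s.card + t.card := by
  have := card_symm s t
  rw [Finset.disjoint_iff_inter_eq_empty.1 h, Finset.card_empty] at this
  omega

theorem pair_symm_pair {a c e : X} (hc : a ≠ c) (he : a ≠ e) (hce : c ≠ e) :
    ({a, c} : Finset X) ∆ {a, e} = {c, e} := by
  ext p
  simp only [Finset.mem_symmDiff, Finset.mem_insert, Finset.mem_singleton]
  grind

end Sets

variable {G : Type*} [Group G] {z : G} {V : Subgroup G} {X : Type*} [Fintype X] [DecidableEq X]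

theorem conj_conj_iff {u : G} (g : G) : IsConj z (g * u * g⁻¹) ↔ IsConj z u :=
  ⟨fun h => h.trans (isConj_iff.2 ⟨g⁻¹, by group⟩), fun h => h.trans (isConj_iff.2 ⟨g, rfl⟩)⟩

theorem conj_mul_of_commute {c x d : G} (h : c * d = d * c) : c * x * c⁻¹ * d = c * (x * d) * c⁻¹ := by
  have h' : c⁻¹ * d = d * c⁻¹ := ((show Commute c d from h).inv_left).eq
  rw [mul_assoc, h']
  simp only [mul_assoc]

namespace Cocode

variable (K : Cocode z V X)

theorem kap_empty : K.κ ∅ = 1 := by
  have h := K.mul ∅ ∅ (by simp) (by simp)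
  rw [symmDiff_self, Finset.bot_eq_empty] at h
  exact left_eq_mul.1 h

theorem kap_sq {s : Finset X} (hs : Even s.card) : K.κ s * K.κ s = 1 := by
  rw [← K.mul s s hs hs, symmDiff_self, Finset.bot_eq_empty, K.kap_empty]

include K in
theorem sq_one {u : G} (hu : u ∈ V) : u * u = 1 := by
  obtain ⟨s, hs, -, rfl⟩ := K.surj u hu
  exact K.kap_sq hs

include K in
theorem comm {u w : G} (hu : u ∈ V) (hw : w ∈ V) : u * w = w * u := by
  obtain ⟨s, hs, -, rfl⟩ := K.surj u hu
  obtain ⟨t, ht, -, rfl⟩ := K.surj w hw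
  rw [← K.mul s t hs ht, ← K.mul t s ht hs, symmDiff_comm]

theorem kap_inj {s t : Finset X} (hs : Even s.card) (ht : Even t.card) (hc : (s ∆ t).card ≤ 6)
    (h : K.κ s = K.κ t) : s = t := by
  refine symmDiff_eq_bot.1 (K.inj _ (even_symm hs ht) hc ?_)
  rw [K.mul s t hs ht, h, K.kap_sq ht]

/-- The elements of `V` not conjugate to `z` are the duads. -/
theorem exists_duad {v : G} (hv : v ∈ V) (h1 : v ≠ 1) (hz : ¬ IsConj z v) :
    ∃ d : Finset X, d.card = 2 ∧ K.κ d = v := by
  obtain ⟨s, hs, h4, rfl⟩ := K.surj v hv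
  rw [Nat.even_iff] at hs
  rcases (show s.card = 0 ∨ s.card = 2 ∨ s.card = 4 by omega) with h | h | h
  · exact absurd (by rw [Finset.card_eq_zero.1 h, K.kap_empty]) h1
  · exact ⟨s, h, rfl⟩
  · exact absurd (K.tetrad s h) hz

theorem image_duad {n : ↥(normalizer (V : Set G))} {d : Finset X} (hd : d.card = 2)
    (h : (n : G) * K.κ d = K.κ d * (n : G)) : d.image (K.ρ n) = d := by
  have he : Even d.card := by rw [hd]; decide
  have hc : (d.image (K.ρ n)).card = 2 := by rw [Finset.card_image_of_injective _ (K.ρ n).injective, hd]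
  refine K.kap_inj (by rw [hc]; decide) he (le_trans ?_ (show 4 ≤ 6 by norm_num)) ?_
  · have := card_symm (d.image (K.ρ n)) d
    omega
  · rw [← K.act n d he, h, mul_assoc, mul_inv_cancel, mul_one]

theorem commute_of_image {n : ↥(normalizer (V : Set G))} {s : Finset X} (hs : Even s.card)
    (h : s.image (K.ρ n) = s) : (n : G) * K.κ s = K.κ s * (n : G) := by
  have := K.act n s hs
  rw [h, mul_inv_eq_iff_eq_mul] at this
  exact this

section Fusion

variable [Finite G] {t : Finset X} (ht : t.card = 2) {y : G} (hy : y * K.κ t = K.κ t * y)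

omit [Finite G] in
include ht hy in
/-- If `y` does not normalise `V`, then it moves no element of `V` conjugate to `z` into `V`. -/
theorem escape (hyN : y ∉ normalizer (V : Set G)) {u : G} (hu : u ∈ V) (huz : IsConj z u) :
    y⁻¹ * u * y ∉ V := by
  intro h
  refine hyN (K.uniq y fun w hw => K.cent u hu huz t ht (mem_inf.2 ⟨mem_centralizer_singleton_iff.2 ?_, mem_centralizer_singleton_iff.2 ?_⟩))
  · have := K.comm hw h
    have key : y * (w * (y⁻¹ * u * y)) * y⁻¹ = y * (y⁻¹ * u * y * w) * y⁻¹ := by rw [this]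
    simpa [mul_assoc] using key
  · have hwT := K.comm hw (K.mem t (by rw [ht]; decide))
    have hy' : y⁻¹ * K.κ t = K.κ t * y⁻¹ := ((show Commute y (K.κ t) from hy).inv_left).eq
    rw [mul_assoc, hy', ← mul_assoc, mul_assoc y, hwT, ← mul_assoc, hy]
    simp only [mul_assoc]

omit [Finite G] in
include ht hy in
theorem moved_mem {x : G} (hx : x ∈ V) (hxz : IsConj z x) {u : G} (hu : u ∈ V)
    (huv : u * (y * x * y⁻¹) = y * x * y⁻¹ * u) : y⁻¹ * u * y ∈ normalizer (V : Set G) := by
  refine K.cent x hx hxz t ht (mem_inf.2 ⟨mem_centralizer_singleton_iff.2 ?_, mem_centralizer_singleton_iff.2 ?_⟩)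
  · have key : y⁻¹ * (u * (y * x * y⁻¹)) * y = y⁻¹ * (y * x * y⁻¹ * u) * y := by rw [huv]
    simpa [mul_assoc] using key
  · have huT := K.comm hu (K.mem t (by rw [ht]; decide))
    have hy' : y⁻¹ * K.κ t = K.κ t * y⁻¹ := ((show Commute y (K.κ t) from hy).inv_left).eq
    rw [mul_assoc, hy, ← mul_assoc, mul_assoc y⁻¹, huT, ← mul_assoc, hy']
    simp only [mul_assoc]

/-- The part of `V` centralising an element. -/
def cenV (V : Subgroup G) (v : G) : Subgroup G := V ⊓ centralizer ({v} : Set G)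

omit [Finite G] in
theorem mem_cenV {v u : G} : u ∈ cenV V v ↔ u ∈ V ∧ u * v = v * u := by
  rw [cenV, mem_inf, mem_centralizer_singleton_iff]

/-- The permutations given by the moved centralising part. -/
noncomputable def movedHom {x : G} (hx : x ∈ V) (hxz : IsConj z x) :
    ↥(cenV V (y * x * y⁻¹)) →* Equiv.Perm X :=
  K.ρ.comp
    { toFun := fun u => ⟨y⁻¹ * u.1 * y, K.moved_mem ht hy hx hxz (mem_cenV.1 u.2).1 (mem_cenV.1 u.2).2⟩
      map_one' := Subtype.ext (by simp)
      map_mul' := fun u w => Subtype.ext (by simp [mul_assoc]) }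

omit [Finite G] in
theorem movedHom_apply {x : G} (hx : x ∈ V) (hxz : IsConj z x) (u : ↥(cenV V (y * x * y⁻¹))) :
    ∃ n : ↥(normalizer (V : Set G)), (n : G) = y⁻¹ * u.1 * y ∧ K.movedHom ht hy hx hxz u = K.ρ n :=
  ⟨⟨_, K.moved_mem ht hy hx hxz (mem_cenV.1 u.2).1 (mem_cenV.1 u.2).2⟩, rfl, rfl⟩

omit [Finite G] in
theorem movedHom_duad {x : G} (hx : x ∈ V) (hxz : IsConj z x) (u : ↥(cenV V (y * x * y⁻¹))) :
    t.image (K.movedHom ht hy hx hxz u) = t := by
  obtain ⟨n, hn, he⟩ := K.movedHom_apply ht hy hx hxz u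
  rw [he]
  refine K.image_duad ht ?_
  have huT := K.comm (mem_cenV.1 u.2).1 (K.mem t (by rw [ht]; decide))
  have hy' : y⁻¹ * K.κ t = K.κ t * y⁻¹ := ((show Commute y (K.κ t) from hy).inv_left).eq
  rw [hn, mul_assoc, hy, ← mul_assoc, mul_assoc y⁻¹, huT, ← mul_assoc, hy']
  simp only [mul_assoc]

omit [Finite G] in
theorem movedHom_sq {x : G} (hx : x ∈ V) (hxz : IsConj z x) (u : ↥(cenV V (y * x * y⁻¹))) :
    K.movedHom ht hy hx hxz u * K.movedHom ht hy hx hxz u = 1 := by
  rw [← map_mul, show u * u = 1 from Subtype.ext (K.sq_one (mem_cenV.1 u.2).1), map_one]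

omit [Finite G] in
/-- A group of involutions of the image fixing a point has order dividing 16. -/
theorem card_dvd_sixteen (E : Subgroup (Equiv.Perm X)) (a : X)
    (hE : ∀ e ∈ E, e * e = 1 ∧ e a = a ∧ ∃ n, K.ρ n = e) : Nat.card ↥E ∣ 16 := by
  classical
  have hB := MulAction.sum_card_fixedBy_eq_card_orbits_mul_card_group ↥E X
  have hfix : ∀ e : ↥E, Fintype.card (MulAction.fixedBy X e) = if e = 1 then 24 else 8 := by
    intro e
    rw [Fintype.card_of_subtype (Finset.univ.filter fun p => (e : Equiv.Perm X) p = p)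
      (fun p => by simp [Equiv.Perm.smul_def, Subgroup.smul_def])]
    split_ifs with h
    · subst h; simp [K.card_pts]
    · obtain ⟨h2, h3, n, hn⟩ := hE e.1 e.2
      rw [← hn] at h2 h3 ⊢
      exact K.fix_eight n h2 (fun h0 => h (Subtype.ext (hn ▸ h0))) a h3
  simp only [hfix] at hB
  rw [Finset.sum_ite, Finset.filter_eq' Finset.univ (1 : ↥E), if_pos (Finset.mem_univ _),
    Finset.sum_const, Finset.sum_const, Finset.card_singleton, Finset.filter_ne',
    Finset.card_erase_of_mem (Finset.mem_univ _), Finset.card_univ, smul_eq_mul, smul_eq_mul,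
    one_mul] at hB
  rw [Nat.card_eq_fintype_card]
  have hd : Fintype.card ↥E ∣ 24 + (Fintype.card ↥E - 1) * 8 := hB ▸ dvd_mul_left _ _
  have hpos : 1 ≤ Fintype.card ↥E := Fintype.card_pos
  have h8 : 24 + (Fintype.card ↥E - 1) * 8 = 16 + Fintype.card ↥E * 8 := by omega
  rw [h8] at hd
  exact (Nat.dvd_add_left (dvd_mul_right _ _)).1 hd

omit [Finite G] in
include ht hy in
/-- An element of `V` centralising the moved element, whose image stays in `V`. -/
theorem kept (hyN : y ∉ normalizer (V : Set G)) :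
    ∃ S : Finset G, S.card ≤ 4 ∧ (∀ u ∈ V, y⁻¹ * u * y ∈ V → y⁻¹ * u * y ∈ S) ∧
      (2 < S.card → ∃ p c : X, p ∈ t ∧ c ∉ t ∧ ∃ u ∈ V, y⁻¹ * u * y ∈ V ∧
        y⁻¹ * u * y = K.κ {p, c}) := by
  classical
  have hT : K.κ t ∈ V := K.mem t (by rw [ht]; decide)
  have hy' : y⁻¹ * K.κ t = K.κ t * y⁻¹ := ((show Commute y (K.κ t) from hy).inv_left).eq
  have hTy : y⁻¹ * K.κ t * y = K.κ t := by rw [hy', mul_assoc, inv_mul_cancel, mul_one]
  -- the elements kept in `V` form a subgroup without conjugates of `z`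
  have hnz : ∀ w ∈ V, y * w * y⁻¹ ∈ V → ¬ IsConj z w := by
    intro w hw hw' hwz
    exact K.escape ht hy hyN hw' ((conj_conj_iff y).2 hwz) (by simpa [mul_assoc] using hw)
  have hdu : ∀ d : Finset X, d.card = 2 → y * K.κ d * y⁻¹ ∈ V → d ≠ t →
      ∃ p c : X, p ∈ t ∧ c ∉ t ∧ d = {p, c} := by
    intro d hd hdV hne
    have hde : Even d.card := by rw [hd]; decide
    have hte : Even t.card := by rw [ht]; decide
    have hndisj : ¬ Disjoint d t := by
      intro hdis
      refine hnz (K.κ (d ∆ t)) (K.mem _ (even_symm hde hte)) ?_ (K.tetrad _ (by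
        rw [card_symm_disjoint hdis, hd, ht]))
      rw [K.mul d t hde hte,
        show y * (K.κ d * K.κ t) * y⁻¹ = y * K.κ d * y⁻¹ * (y * K.κ t * y⁻¹) by group, hy,
        mul_inv_cancel_right]
      exact mul_mem hdV hT
    obtain ⟨p, hpd, hpt⟩ := Finset.not_disjoint_iff.1 hndisj
    obtain ⟨c, hc⟩ := Finset.card_eq_one.1 (show (d.erase p).card = 1 by
      rw [Finset.card_erase_of_mem hpd, hd])
    have hd' : d = {p, c} := by rw [← Finset.insert_erase hpd, hc]
    refine ⟨p, c, hpt, fun hct => hne ?_, hd'⟩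
    refine Finset.eq_of_subset_of_card_le ?_ (by rw [hd, ht])
    rw [hd', Finset.insert_subset_iff, Finset.singleton_subset_iff]
    exact ⟨hpt, hct⟩
  have hcls : ∀ u ∈ V, y⁻¹ * u * y ∈ V → y⁻¹ * u * y = 1 ∨
      ∃ d : Finset X, d.card = 2 ∧ K.κ d = y⁻¹ * u * y ∧ y * K.κ d * y⁻¹ ∈ V := by
    intro u hu hu'
    rcases eq_or_ne (y⁻¹ * u * y) 1 with h | h
    · exact Or.inl h
    obtain ⟨d, hd, he⟩ := K.exists_duad hu' h (hnz _ hu' (by simpa [mul_assoc] using hu))
    exact Or.inr ⟨d, hd, he, by rw [he]; simpa [mul_assoc] using hu⟩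
  by_cases hex : ∃ d : Finset X, d.card = 2 ∧ y * K.κ d * y⁻¹ ∈ V ∧ d ≠ t
  · obtain ⟨d, hd, hdV, hne⟩ := hex
    obtain ⟨p, c, hp, hc, rfl⟩ := hdu d hd hdV hne
    obtain ⟨q, hq⟩ := Finset.card_eq_one.1 (show (t.erase p).card = 1 by
      rw [Finset.card_erase_of_mem hp, ht])
    have ht' : t = {p, q} := by rw [← Finset.insert_erase hp, hq]
    have hqp : q ≠ p := Finset.ne_of_mem_erase (hq ▸ Finset.mem_singleton_self q)
    have hcp : c ≠ p := fun h => hc (h ▸ hp)
    have hcq : c ≠ q := fun h => hc (h ▸ ht' ▸ by simp)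
    refine ⟨{1, K.κ t, K.κ {p, c}, K.κ {q, c}}, Finset.card_le_four, ?_, fun _ =>
      ⟨p, c, hp, hc, y * K.κ {p, c} * y⁻¹, hdV, ?_, by simp [mul_assoc]⟩⟩
    · intro u hu hu'
      rcases hcls u hu hu' with h | ⟨e, he, heu, heV⟩
      · simp [h]
      rw [← heu]
      rcases eq_or_ne e t with rfl | hne'
      · simp
      obtain ⟨r, c', hr, hc', rfl⟩ := hdu e he heV hne'
      have hcp' : c' ≠ p := fun h => hc' (h ▸ hp)
      have hcq' : c' ≠ q := fun h => hc' (h ▸ ht' ▸ by simp)
      by_cases hcc : c' = c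
      · subst hcc
        rw [ht', Finset.mem_insert, Finset.mem_singleton] at hr
        rcases hr with rfl | rfl <;> simp
      exfalso
      have hee : Even ({r, c'} : Finset X).card := by rw [he]; decide
      have hde : Even ({p, c} : Finset X).card := by rw [hd]; decide
      have hsum : y * K.κ ({p, c} ∆ {r, c'}) * y⁻¹ ∈ V := by
        rw [K.mul _ _ hde hee, show y * (K.κ {p, c} * K.κ {r, c'}) * y⁻¹ =
          y * K.κ {p, c} * y⁻¹ * (y * K.κ {r, c'} * y⁻¹) by group]
        exact mul_mem hdV heV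
      rw [ht', Finset.mem_insert, Finset.mem_singleton] at hr
      rcases hr with rfl | rfl
      · rw [pair_symm_pair hcp.symm hcp'.symm (Ne.symm hcc)] at hsum
        have hne'' : ({c, c'} : Finset X) ≠ t := fun h => hc (h ▸ by simp)
        obtain ⟨r', c'', hr', -, h⟩ := hdu _ (Finset.card_pair (Ne.symm hcc)) hsum hne''
        have : r' ∈ ({c, c'} : Finset X) := h ▸ by simp
        rw [Finset.mem_insert, Finset.mem_singleton] at this
        rcases this with rfl | rfl
        exacts [hc hr', hc' hr']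
      · refine hnz _ (K.mem _ (even_symm hde hee)) hsum (K.tetrad _ ?_)
        rw [card_symm_disjoint ?_, hd, he]
        simp [hqp, hcp', Ne.symm hcq, hcc]
    · simpa [mul_assoc] using K.mem {p, c} (by rw [hd]; decide)
  · refine ⟨{1, K.κ t}, le_trans Finset.card_le_two (by norm_num), ?_, fun h => absurd h ?_⟩
    · intro u hu hu'
      rcases hcls u hu hu' with h | ⟨d, hd, hdu', hdV⟩
      · simp [h]
      rw [← hdu']
      by_contra hd'
      exact hex ⟨d, hd, hdV, fun h => hd' (h ▸ by simp)⟩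
    · have := Finset.card_le_two (a := (1 : G)) (b := K.κ t)
      omega

include ht hy in
/-- The part of `V` centralising a moved element has at most 64 elements. -/
theorem card_cenV_le (hyN : y ∉ normalizer (V : Set G)) {x : G} (hx : x ∈ V) (hxz : IsConj z x) :
    Nat.card ↥(cenV V (y * x * y⁻¹)) ≤ 64 := by
  classical
  obtain ⟨a, b, hab, rfl⟩ := Finset.card_eq_two.1 ht
  set f := K.movedHom ht hy hx hxz with hf
  obtain ⟨S, hS4, hS, hSc⟩ := K.kept ht hy hyN
  have hker : Nat.card ↥f.ker ≤ S.card := by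
    rw [← Nat.card_eq_finsetCard S]
    refine Nat.card_le_card_of_injective
      (fun u => ⟨y⁻¹ * u.1.1 * y, hS _ (mem_cenV.1 u.1.2).1 ?_⟩) (fun u w h => ?_)
    · obtain ⟨n, hn, he⟩ := K.movedHom_apply ht hy hx hxz u.1
      exact hn ▸ K.ker n (he ▸ MonoidHom.mem_ker.1 u.2)
    · simpa using congrArg Subtype.val h
  set R := f.range with hR
  set E := R ⊓ MulAction.stabilizer (Equiv.Perm X) a with hE
  have hE16 : Nat.card ↥E ≤ 16 := by
    refine Nat.le_of_dvd (by norm_num) (K.card_dvd_sixteen E a ?_)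
    rintro e ⟨⟨u, rfl⟩, hea⟩
    obtain ⟨n, -, he⟩ := K.movedHom_apply ht hy hx hxz u
    exact ⟨K.movedHom_sq ht hy hx hxz u, hea, n, he.symm⟩
  have hmem : ∀ e ∈ R, e a = a ∨ e a = b := by
    rintro e ⟨u, rfl⟩
    have := K.movedHom_duad ht hy hx hxz u
    have ha : f u a ∈ ({a, b} : Finset X).image (f u) := Finset.mem_image_of_mem _ (by simp)
    rw [this] at ha
    simpa using ha
  have hcard : Nat.card ↥(cenV V (y * x * y⁻¹)) = Nat.card ↥f.ker * Nat.card ↥R := by
    rw [hR, ← Subgroup.index_ker, Subgroup.card_mul_index]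
  rw [hcard]
  by_cases h2 : 2 < S.card
  · obtain ⟨p, c, hp, hc, u₀, hu₀, hu₀', hpc⟩ := hSc h2
    have hRE : R ≤ E := by
      rintro e ⟨u, rfl⟩
      refine ⟨⟨u, rfl⟩, ?_⟩
      obtain ⟨n, hn, he⟩ := K.movedHom_apply ht hy hx hxz u
      have hpcc : p ≠ c := fun h => hc (h ▸ hp)
      have h1 := K.image_duad (n := n) (Finset.card_pair hpcc) (by
        rw [← hpc, hn]
        have := K.comm (mem_cenV.1 u.2).1 hu₀
        rw [show y⁻¹ * u.1 * y * (y⁻¹ * u₀ * y) = y⁻¹ * (u.1 * u₀) * y by group, this]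
        group)
      rw [← he] at h1
      have h3 := K.movedHom_duad ht hy hx hxz u
      have hp' : f u p = p := by
        have hA : f u p ∈ ({p, c} : Finset X) := h1 ▸ Finset.mem_image_of_mem (f u) (by simp)
        have hB : f u p ∈ ({a, b} : Finset X) := h3 ▸ Finset.mem_image_of_mem (f u) hp
        rw [Finset.mem_insert, Finset.mem_singleton] at hA
        rcases hA with h | h
        · exact h
        · exact absurd (h ▸ hB) hc
      show f u a = a
      rw [Finset.mem_insert, Finset.mem_singleton] at hp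
      rcases hp with rfl | rfl
      · exact hp'
      · rcases hmem _ ⟨u, rfl⟩ with h | h
        · exact h
        · exact absurd ((f u).injective (h.trans hp'.symm)) hab
    calc Nat.card ↥f.ker * Nat.card ↥R ≤ 4 * 16 :=
          Nat.mul_le_mul (hker.trans hS4) ((Subgroup.card_le_of_le hRE).trans hE16)
      _ = 64 := rfl
  · have hR2 : Nat.card ↥R ≤ 2 * Nat.card ↥E := by
      have hidx : (MulAction.stabilizer ↥R a).index ≤ 2 := by
        rw [MulAction.index_stabilizer]
        refine le_trans (Set.ncard_le_ncard (t := {a, b}) ?_ (Set.toFinite _))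
          (le_of_eq (Set.ncard_pair hab))
        rintro _ ⟨e, rfl⟩
        exact hmem e.1 e.2
      have hst : Nat.card ↥(MulAction.stabilizer ↥R a) = Nat.card ↥E :=
        Nat.card_congr
          { toFun := fun e => ⟨e.1.1, e.1.2, e.2⟩
            invFun := fun e => ⟨⟨e.1, e.2.1⟩, e.2.2⟩
            left_inv := fun _ => rfl
            right_inv := fun _ => rfl }
      rw [← Subgroup.card_mul_index (MulAction.stabilizer ↥R a), hst, mul_comm 2]
      exact Nat.mul_le_mul_left _ hidx
    calc Nat.card ↥f.ker * Nat.card ↥R ≤ 2 * (2 * 16) :=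
          Nat.mul_le_mul (hker.trans (not_lt.1 h2)) (hR2.trans (Nat.mul_le_mul_left 2 hE16))
      _ = 64 := rfl

include ht hy in
/-- A moved element that lies in the normaliser fixes no point of the duad. -/
theorem moves (hyN : y ∉ normalizer (V : Set G)) {x : G} (hx : x ∈ V) (hxz : IsConj z x)
    (hv : y * x * y⁻¹ ∈ normalizer (V : Set G)) {a : X} (_ha : a ∈ t) : K.ρ ⟨_, hv⟩ a ≠ a := by
  classical
  intro hfix
  set g := K.ρ ⟨_, hv⟩ with hg
  have hvV : y * x * y⁻¹ ∉ V := fun h =>
    K.escape ht hy hyN h ((conj_conj_iff y).2 hxz) (by simpa [mul_assoc] using hx)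
  have hg1 : g ≠ 1 := fun h => hvV (K.ker _ h)
  have hg2 : g * g = 1 := by
    rw [hg, ← map_mul, ← map_one K.ρ]
    congr 1
    refine Subtype.ext ?_
    show y * x * y⁻¹ * (y * x * y⁻¹) = 1
    rw [show y * x * y⁻¹ * (y * x * y⁻¹) = y * (x * x) * y⁻¹ by group, K.sq_one hx]
    simp
  set O := Finset.univ.filter fun p => g p = p with hO
  have hO8 : O.card = 8 := K.fix_eight _ hg2 hg1 a hfix
  obtain ⟨i, hi⟩ : ∃ i, g i ≠ i := by
    by_contra h
    push Not at h
    exact hg1 (Equiv.ext h)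
  have hgg : ∀ p, g (g p) = p := fun p => by rw [← Equiv.Perm.mul_apply, hg2]; rfl
  set F3 := (Finset.powersetCard 3 (O.erase a)).image (insert a) with hF3
  set F := ({∅} : Finset (Finset X)) ∪ Finset.powersetCard 2 O ∪ F3 ∪ {{i, g i}} with hF
  have haO : a ∈ O := by simp [hO, hfix]
  have h4 : ∀ s ∈ F3, s.card = 4 ∧ a ∈ s ∧ s ⊆ O := by
    intro s hs
    obtain ⟨r, hr, rfl⟩ := Finset.mem_image.1 hs
    rw [Finset.mem_powersetCard] at hr
    have har : a ∉ r := fun h => Finset.notMem_erase a O (hr.1 h)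
    exact ⟨by rw [Finset.card_insert_of_notMem har, hr.2], by simp,
      Finset.insert_subset haO (hr.1.trans (Finset.erase_subset _ _))⟩
  have hall : ∀ s ∈ F, Even s.card ∧ s.image g = s ∧ (s.card ≤ 2 ∨ (s.card = 4 ∧ a ∈ s)) := by
    intro s hs
    simp only [hF, Finset.mem_union, Finset.mem_singleton] at hs
    have himg : ∀ r ⊆ O, r.image g = r := fun r hr => by
      conv_rhs => rw [← Finset.image_id (s := r)]
      exact Finset.image_congr fun p hp => (Finset.mem_filter.1 (hr hp)).2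
    rcases hs with ((rfl | hs) | hs) | rfl
    · simp
    · rw [Finset.mem_powersetCard] at hs
      exact ⟨by rw [hs.2]; decide, himg s hs.1, Or.inl hs.2.le⟩
    · obtain ⟨h1, h2, h3⟩ := h4 s hs
      exact ⟨by rw [h1]; decide, himg s h3, Or.inr ⟨h1, h2⟩⟩
    · refine ⟨by rw [Finset.card_pair (Ne.symm hi)]; decide, ?_, Or.inl (Finset.card_pair (Ne.symm hi)).le⟩
      rw [Finset.image_insert, Finset.image_singleton, hgg, Finset.pair_comm]
  have hinj : Set.InjOn K.κ (F : Set (Finset X)) := by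
    intro s hs r hr he
    obtain ⟨hse, -, hsc⟩ := hall s hs
    obtain ⟨hre, -, hrc⟩ := hall r hr
    refine K.kap_inj hse hre ?_ he
    have := card_symm s r
    rcases hsc with hsc | ⟨hsc, hsa⟩ <;> rcases hrc with hrc | ⟨hrc, hra⟩ <;>
      first
        | omega
        | (have : 0 < (s ∩ r).card := Finset.card_pos.2 ⟨a, Finset.mem_inter.2 ⟨hsa, hra⟩⟩; omega)
  have hcard : F.card = 65 := by
    have hd1 : Disjoint ({∅} : Finset (Finset X)) (Finset.powersetCard 2 O) := by simp
    have hd2 : Disjoint (({∅} : Finset (Finset X)) ∪ Finset.powersetCard 2 O) F3 := by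
      rw [Finset.disjoint_left]
      intro s hs hs'
      have := (h4 s hs').1
      simp only [Finset.mem_union, Finset.mem_singleton, Finset.mem_powersetCard] at hs
      rcases hs with rfl | ⟨-, hs⟩
      · simp at this
      · omega
    have hd3 : Disjoint (({∅} : Finset (Finset X)) ∪ Finset.powersetCard 2 O ∪ F3) {{i, g i}} := by
      rw [Finset.disjoint_singleton_right]
      simp only [Finset.mem_union, Finset.mem_singleton, Finset.mem_powersetCard]
      have hiO : i ∉ O := by simp [hO, hi]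
      rintro ((h | ⟨h, -⟩) | h)
      · simp at h
      · exact hiO (h (by simp))
      · exact hiO ((h4 _ h).2.2 (by simp))
    rw [hF, Finset.card_union_of_disjoint hd3, Finset.card_union_of_disjoint hd2,
      Finset.card_union_of_disjoint hd1, Finset.card_powersetCard, hO8, hF3,
      Finset.card_image_of_injOn, Finset.card_powersetCard, Finset.card_erase_of_mem haO, hO8]
    · rfl
    · intro r hr r' hr' he
      rw [Finset.mem_coe, Finset.mem_powersetCard] at hr hr'
      have h1 : a ∉ r := fun h => Finset.notMem_erase a O (hr.1 h)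
      have h2 : a ∉ r' := fun h => Finset.notMem_erase a O (hr'.1 h)
      simpa [h1, h2] using congrArg (Finset.erase · a) he
  have hle : F.card ≤ Nat.card ↥(cenV V (y * x * y⁻¹)) := by
    rw [← Nat.card_eq_finsetCard F]
    refine Nat.card_le_card_of_injective (fun s => ⟨K.κ s.1, mem_cenV.2 ⟨K.mem _ (hall _ s.2).1, ?_⟩⟩) ?_
    · exact (K.commute_of_image (n := ⟨_, hv⟩) (hall _ s.2).1 (hall _ s.2).2.1).symm
    · intro s r h
      exact Subtype.ext (hinj s.2 r.2 (congrArg Subtype.val h))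
  have := K.card_cenV_le ht hy hyN hx hxz
  omega

include ht hy in
/-- **Control of fusion**: an element of the centraliser of a duad that moves a conjugate of `z` in `V`
into the normaliser of `V` lies in the normaliser. -/
theorem mem_normalizer {x : G} (hx : x ∈ V) (hxz : IsConj z x)
    (hv : y * x * y⁻¹ ∈ normalizer (V : Set G)) : y ∈ normalizer (V : Set G) := by
  classical
  by_contra hyN
  set g := K.ρ ⟨_, hv⟩ with hg
  have hvV : y * x * y⁻¹ ∉ V := fun h =>
    K.escape ht hy hyN h ((conj_conj_iff y).2 hxz) (by simpa [mul_assoc] using hx)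
  have hg1 : g ≠ 1 := fun h => hvV (K.ker _ h)
  have hg2 : g * g = 1 := by
    rw [hg, ← map_mul, ← map_one K.ρ]
    congr 1
    refine Subtype.ext ?_
    show y * x * y⁻¹ * (y * x * y⁻¹) = 1
    rw [show y * x * y⁻¹ * (y * x * y⁻¹) = y * (x * x) * y⁻¹ by group, K.sq_one hx]
    simp
  have hgg : ∀ p, g (g p) = p := fun p => by rw [← Equiv.Perm.mul_apply, hg2]; rfl
  -- at least 16 points are moved
  set Mv := Finset.univ.filter fun p => g p ≠ p with hMv
  have hM : 16 ≤ Mv.card := by
    have := Finset.card_filter_add_card_filter_not (s := (Finset.univ : Finset X)) (fun p => g p = p)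
    rw [Finset.card_univ, K.card_pts] at this
    change (Finset.univ.filter fun p => g p = p).card + Mv.card = 24 at this
    by_cases h : ∃ a, g a = a
    · obtain ⟨a, ha⟩ := h
      have h8 := K.fix_eight _ hg2 hg1 a ha
      change (Finset.univ.filter fun p => g p = p).card = 8 at h8
      omega
    · push Not at h
      rw [Finset.filter_false_of_mem (fun p _ => h p), Finset.card_empty] at this
      omega
  have hpick : ∀ s : Finset X, s.card < 16 → ∃ p ∈ Mv, p ∉ s := fun s hs =>
    Finset.exists_mem_notMem_of_card_lt_card (lt_of_lt_of_le hs hM)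
  obtain ⟨i, hi, -⟩ := hpick ∅ (by simp)
  obtain ⟨j, hj, hj'⟩ := hpick {i, g i} (lt_of_le_of_lt Finset.card_le_two (by norm_num))
  obtain ⟨k, hk, hk'⟩ := hpick {i, g i, j, g j} (lt_of_le_of_lt Finset.card_le_four (by norm_num))
  simp only [hMv, Finset.mem_filter, Finset.mem_univ, true_and] at hi hj hk
  simp only [Finset.mem_insert, Finset.mem_singleton, not_or] at hj' hk'
  have key : ∀ p q : X, g p ≠ p → g q ≠ q → q ≠ p → q ≠ g p →
      Even ({p, g p, q, g q} : Finset X).card ∧ ({p, g p, q, g q} : Finset X).card = 4 ∧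
      ({p, g p, q, g q} : Finset X).image g = {p, g p, q, g q} := by
    intro p q hp hq h1 h2
    have hc : ({p, g p, q, g q} : Finset X).card = 4 := by
      have h3 : g q ≠ p := fun h => h2 (by rw [← h, hgg])
      have h4 : g q ≠ g p := fun h => h1 (g.injective h)
      rw [Finset.card_insert_of_notMem, Finset.card_insert_of_notMem, Finset.card_pair (Ne.symm hq)]
      · simp [Ne.symm h2, Ne.symm h4]
      · simp [Ne.symm hp, Ne.symm h1, Ne.symm h3]
    refine ⟨by rw [hc]; decide, hc, ?_⟩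
    simp only [Finset.image_insert, Finset.image_singleton, hgg]
    ext r
    simp only [Finset.mem_insert, Finset.mem_singleton]
    tauto
  obtain ⟨a, ha⟩ := Finset.card_pos.1 (show 0 < t.card by omega)
  obtain ⟨b, hb⟩ := Finset.card_eq_one.1 (show (t.erase a).card = 1 by
    rw [Finset.card_erase_of_mem ha, ht])
  have hy' : y⁻¹ * K.κ t = K.κ t * y⁻¹ := ((show Commute y (K.κ t) from hy).inv_left).eq
  have hyN' : y⁻¹ ∉ normalizer (V : Set G) := fun h => hyN (inv_mem_iff.1 h)
  -- every such tetrad is moved to an element interchanging the points of the duad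
  have swap : ∀ p q : X, g p ≠ p → g q ≠ q → q ≠ p → q ≠ g p →
      ∃ u : ↥(cenV V (y * x * y⁻¹)), u.1 = K.κ {p, g p, q, g q} ∧
        K.movedHom ht hy hx hxz u a = b := by
    intro p q hp hq h1 h2
    obtain ⟨he, hc, himg⟩ := key p q hp hq h1 h2
    refine ⟨⟨K.κ {p, g p, q, g q}, mem_cenV.2 ⟨K.mem _ he,
      (K.commute_of_image (n := ⟨_, hv⟩) he himg).symm⟩⟩, rfl, ?_⟩
    set u : ↥(cenV V (y * x * y⁻¹)) := ⟨_, _⟩ with hu
    obtain ⟨n, hn, hn'⟩ := K.movedHom_apply ht hy hx hxz u
    have hmem : y⁻¹ * K.κ {p, g p, q, g q} * y⁻¹⁻¹ ∈ normalizer (V : Set G) := by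
      rw [inv_inv, show y⁻¹ * K.κ {p, g p, q, g q} * y = (n : G) from hn.symm]
      exact n.2
    have hne := K.moves ht hy' hyN' (K.mem _ he) (K.tetrad _ hc) hmem ha
    have hne' : K.movedHom ht hy hx hxz u a ≠ a := by
      rw [hn']
      convert hne using 3
      exact Subtype.ext (by simp [hn, hu])
    have hmt : K.movedHom ht hy hx hxz u a ∈ t := by
      have h3 := Finset.mem_image_of_mem (K.movedHom ht hy hx hxz u) ha
      rwa [K.movedHom_duad ht hy hx hxz u] at h3
    have : K.movedHom ht hy hx hxz u a ∈ t.erase a := Finset.mem_erase.2 ⟨hne', hmt⟩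
    rw [hb, Finset.mem_singleton] at this
    exact this
  obtain ⟨u, hu, hua⟩ := swap i j hi hj hj'.1 hj'.2
  obtain ⟨w, hw, hwa⟩ := swap j k hj hk hk'.2.2.1 hk'.2.2.2
  obtain ⟨r, hr, hra⟩ := swap i k hi hk hk'.1 hk'.2.1
  have huw : r = u * w := by
    refine Subtype.ext ?_
    rw [Subgroup.coe_mul, hu, hw, hr,
      ← K.mul _ _ (key i j hi hj hj'.1 hj'.2).1 (key j k hj hk hk'.2.2.1 hk'.2.2.2).1]
    congr 1
    have a1 : g i ≠ i := hi
    have a2 : g j ≠ i := fun h => hj'.2 (by rw [← h, hgg])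
    have a3 : g k ≠ i := fun h => hk'.2.1 (by rw [← h, hgg])
    have a4 : g k ≠ j := fun h => hk'.2.2.2 (by rw [← h, hgg])
    have a5 : g j ≠ g i := fun h => hj'.1 (g.injective h)
    have a6 : g k ≠ g i := fun h => hk'.1 (g.injective h)
    have a7 : g k ≠ g j := fun h => hk'.2.2.1 (g.injective h)
    ext p
    simp only [Finset.mem_symmDiff, Finset.mem_insert, Finset.mem_singleton]
    grind
  rw [huw, map_mul, Equiv.Perm.mul_apply, hwa] at hra
  have hab : b ≠ a := Finset.ne_of_mem_erase (hb ▸ Finset.mem_singleton_self b)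
  exact hab ((K.movedHom ht hy hx hxz u).injective (hra.trans hua.symm))

end Fusion

variable [Finite G]

/-- One step: the centraliser of a set of duads lies in the normaliser, if the centralisers of its
extensions by one duad meeting all of them do. -/
theorem centralizer_le_of (D : Finset (Finset X)) {t : Finset X} (htD : t ∈ D)
    (hD : ∀ d ∈ D, d.card = 2) (s₀ s₁ : Finset X) (h₀ : s₀.card = 4) (h₀D : ∀ d ∈ D, d ⊆ s₀)
    (h₁ : s₁.card = 4) (h₁t : (s₁ ∩ t).card = 1)
    (hext : ∀ e : Finset X, e.card = 2 → e ∉ D → (∀ d ∈ D, ¬ Disjoint d e) →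
      centralizer (K.κ '' (D : Set (Finset X))) ⊓ centralizer ({K.κ e} : Set G) ≤ normalizer (V : Set G)) :
    centralizer (K.κ '' (D : Set (Finset X))) ≤ normalizer (V : Set G) := by
  classical
  set Y := centralizer (K.κ '' (D : Set (Finset X))) with hY
  have hcomm : ∀ (y : ↥Y) (d : Finset X), d ∈ D → (y : G) * K.κ d = K.κ d * (y : G) := fun y d hd =>
    (mem_centralizer_iff.1 y.2 _ ⟨d, hd, rfl⟩).symm
  have heven : ∀ d ∈ D, Even d.card := fun d hd => by rw [hD d hd]; decide
  have hkY : ∀ s : Finset X, Even s.card → K.κ s ∈ Y := fun s hs => by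
    rw [hY, mem_centralizer_iff]
    rintro _ ⟨d, hd, rfl⟩
    exact K.comm (K.mem d (heven d hd)) (K.mem s hs)
  have he₀ : Even s₀.card := by rw [h₀]; decide
  have he₁ : Even s₁.card := by rw [h₁]; decide
  let a₀ : ↥Y := ⟨_, hkY s₀ he₀⟩
  let b₀ : ↥Y := ⟨_, hkY s₁ he₁⟩
  have hord : ∀ (s : Finset X) (hs : Even s.card), s.card = 4 → orderOf (⟨_, hkY s hs⟩ : ↥Y) = 2 := by
    intro s hs h4
    refine orderOf_eq_prime (Subtype.ext ?_) ?_
    · simp [pow_two, K.kap_sq hs]
    · intro h
      have := K.inj s hs (by omega) (congrArg Subtype.val h)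
      simp [this] at h4
  set M := (normalizer (V : Set G)).subgroupOf Y with hM
  have hin : ∀ x ∈ {x : ↥Y | IsConj a₀ x} ∪ {x | IsConj b₀ x}, x ∈ M → (x : G) ∈ V ∧ IsConj z (x : G) := by
    intro x hx hxM
    obtain ⟨s, hs, h4, hsx⟩ : ∃ (s : Finset X) (hs : Even s.card), s.card = 4 ∧
        IsConj (⟨_, hkY s hs⟩ : ↥Y) x := by
      rcases hx with h | h
      exacts [⟨s₀, he₀, h₀, h⟩, ⟨s₁, he₁, h₁, h⟩]
    obtain ⟨c, rfl⟩ := isConj_iff.1 hsx
    have hc := K.mem_normalizer (hD t htD) (hcomm c t htD) (K.mem s hs) (K.tetrad s h4) hxM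
    exact ⟨(mem_normalizer_iff.1 hc _).1 (K.mem s hs), (conj_conj_iff (c : G)).2 (K.tetrad s h4)⟩
  have hfix : ∀ x ∈ {x : ↥Y | IsConj a₀ x} ∪ {x | IsConj b₀ x}, ∃! c : ↥Y ⧸ M, x • c = c := by
    intro x hx
    obtain ⟨s, hs, h4, hsx⟩ : ∃ (s : Finset X) (hs : Even s.card), s.card = 4 ∧
        IsConj (⟨_, hkY s hs⟩ : ↥Y) x := by
      rcases hx with h | h
      exacts [⟨s₀, he₀, h₀, h⟩, ⟨s₁, he₁, h₁, h⟩]
    obtain ⟨c, rfl⟩ := isConj_iff.1 hsx
    have hiff : ∀ g : ↥Y, (c * ⟨_, hkY s hs⟩ * c⁻¹) • (g : ↥Y ⧸ M) = g ↔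
        ((g⁻¹ * c : ↥Y) : G) * K.κ s * ((g⁻¹ * c : ↥Y) : G)⁻¹ ∈ normalizer (V : Set G) := by
      intro g
      rw [MulAction.Quotient.smul_coe, smul_eq_mul, eq_comm, QuotientGroup.eq, hM, mem_subgroupOf]
      simp [mul_assoc]
    refine ⟨c, (hiff c).2 (by simpa using le_normalizer (K.mem s hs)), ?_⟩
    intro d hd
    induction d using QuotientGroup.induction_on with
    | H g =>
      rw [QuotientGroup.eq]
      exact K.mem_normalizer (hD t htD) (hcomm (g⁻¹ * c) t htD) (K.mem s hs) (K.tetrad s h4) ((hiff g).1 hd)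
  -- the product with the duad separates the two classes
  have hne : ({x : ↥Y | IsConj a₀ x} : Set ↥Y) ≠ {x | IsConj b₀ x} := by
    intro he
    have hb : b₀ ∈ {x : ↥Y | IsConj a₀ x} := he ▸ IsConj.refl b₀
    obtain ⟨c, hc⟩ := isConj_iff.1 hb
    have hc' : (c : G) * K.κ s₀ * (c : G)⁻¹ = K.κ s₁ := congrArg Subtype.val hc
    have e1 : IsConj z (K.κ (s₁ ∆ t)) := K.tetrad _ (by
      have := card_symm s₁ t
      rw [h₁t, h₁, hD t htD] at this
      omega)
    rw [K.mul s₁ t he₁ (heven t htD), ← hc',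
      conj_mul_of_commute (hcomm c t htD),
      conj_conj_iff, ← K.mul s₀ t he₀ (heven t htD)] at e1
    refine K.duad _ ?_ e1
    have := card_symm s₀ t
    rw [Finset.inter_eq_right.2 (h₀D t htD), h₀, hD t htD] at this
    omega
  have htop := S5439.result _ _ a₀ b₀ (hord s₀ he₀ h₀) (hord s₁ he₁ h₁) rfl rfl hne M hfix ?_
  · intro g hg
    have : (⟨g, hg⟩ : ↥Y) ∈ M := htop ▸ mem_top _
    exact this
  intro a ha haM b hb hbM hab hcm w hw
  rw [hM, mem_subgroupOf]
  obtain ⟨haV, haz⟩ := hin a (Or.inl ha) haM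
  obtain ⟨hbV, hbz⟩ := hin b hb hbM
  -- the product of `a` with each duad of the set is not conjugate to `z`
  have hadz : ∀ d ∈ D, ¬ IsConj z ((a : G) * K.κ d) := by
    intro d hd
    obtain ⟨c, hc⟩ := isConj_iff.1 ha
    have hc' : (c : G) * K.κ s₀ * (c : G)⁻¹ = (a : G) := congrArg Subtype.val hc
    rw [← hc', conj_mul_of_commute (hcomm c d hd),
      conj_conj_iff, ← K.mul s₀ d he₀ (heven d hd)]
    refine K.duad _ ?_
    have := card_symm s₀ d
    rw [Finset.inter_eq_right.2 (h₀D d hd), h₀, hD d hd] at this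
    omega
  set p := (a : G) * (b : G) with hp
  have hpV : p ∈ V := mul_mem haV hbV
  have hwp : (w : G) * p = p * (w : G) :=
    congrArg Subtype.val (mem_centralizer_singleton_iff.1 hw)
  have hwY : ∀ d ∈ D, (w : G) * K.κ d = K.κ d * (w : G) := hcomm w
  by_cases hpz : IsConj z p
  · exact K.cent p hpV hpz t (hD t htD)
      (mem_inf.2 ⟨mem_centralizer_singleton_iff.2 hwp, mem_centralizer_singleton_iff.2 (hwY t htD)⟩)
  have hp1 : p ≠ 1 := fun h => hab (Subtype.ext (by
    calc (a : G) = (a : G) * ((b : G) * (b : G)) := by rw [K.sq_one hbV, mul_one]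
      _ = p * (b : G) := by rw [hp, mul_assoc]
      _ = (b : G) := by rw [h, one_mul]))
  obtain ⟨e, he, hep⟩ := K.exists_duad hpV hp1 hpz
  by_cases heD : e ∈ D
  · refine absurd ?_ (hadz e heD)
    rw [hep, hp, ← mul_assoc, K.sq_one haV, one_mul]
    exact hbz
  by_cases hdis : ∃ d ∈ D, Disjoint d e
  · obtain ⟨d, hd, hde⟩ := hdis
    have hee : Even e.card := by rw [he]; decide
    refine K.cent _ (K.mem _ (even_symm (heven d hd) hee))
      (K.tetrad _ (by rw [card_symm_disjoint hde, hD d hd, he])) t (hD t htD)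
      (mem_inf.2 ⟨mem_centralizer_singleton_iff.2 ?_, mem_centralizer_singleton_iff.2 (hwY t htD)⟩)
    rw [K.mul d e (heven d hd) hee, hep, ← mul_assoc, hwY d hd, mul_assoc, hwp, ← mul_assoc]
  · push Not at hdis
    exact hext e he heD hdis (mem_inf.2 ⟨w.2, mem_centralizer_singleton_iff.2 (hep.symm ▸ hwp)⟩)

omit [Finite G] in
include K in
theorem exists_fresh (s : Finset X) (hs : s.card < 24) : ∃ p, p ∉ s := by
  obtain ⟨p, -, hp⟩ := Finset.exists_mem_notMem_of_card_lt_card (s := s) (t := (Finset.univ : Finset X))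
    (by rw [Finset.card_univ, K.card_pts]; exact hs)
  exact ⟨p, hp⟩

/-- **The centraliser of a duad lies in the normaliser of `V`.** -/
theorem centralizer_duad_le {d : Finset X} (hd : d.card = 2) :
    centralizer ({K.κ d} : Set G) ≤ normalizer (V : Set G) := by
  obtain ⟨a, b, hab, rfl⟩ := Finset.card_eq_two.1 hd
  obtain ⟨x, hx⟩ := K.exists_fresh {a, b} (lt_of_le_of_lt Finset.card_le_two (by norm_num))
  obtain ⟨y, hy⟩ := K.exists_fresh {a, b, x} (lt_of_le_of_lt Finset.card_le_three (by norm_num))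
  obtain ⟨w, hw⟩ := K.exists_fresh {a, b, x, y} (lt_of_le_of_lt Finset.card_le_four (by norm_num))
  simp only [Finset.mem_insert, Finset.mem_singleton, not_or] at hx hy hw
  obtain ⟨hxa, hxb⟩ := hx
  obtain ⟨hya, hyb, hyx⟩ := hy
  obtain ⟨hwa, hwb, hwx, hwy⟩ := hw
  have h1 : ∀ c : Finset X, centralizer (K.κ '' (({c} : Finset (Finset X)) : Set (Finset X))) =
      centralizer ({K.κ c} : Set G) := fun c => by simp
  rw [← h1]
  let D1 : Finset (Finset X) := {{a, b}}
  let t1 : Finset X := {a, b}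
  let s1 : Finset X := {a, b, x, y}
  let s2 : Finset X := {a, x, y, w}
  refine K.centralizer_le_of D1 (t := t1) ?_ ?_ s1 s2 ?_ ?_ ?_ ?_ ?_
  all_goals simp only [D1, t1, s1, s2]
  · exact Finset.mem_singleton_self _
  · intro d hd2
    rw [Finset.mem_singleton] at hd2
    rw [hd2, hd]
  · simp [hab, Ne.symm hxa, Ne.symm hxb, Ne.symm hya, Ne.symm hyb, Ne.symm hyx]
  · intro d hd2
    rw [Finset.mem_singleton] at hd2
    simp [hd2, Finset.subset_iff]
  · simp [Ne.symm hxa, Ne.symm hya, Ne.symm hwa, Ne.symm hyx, Ne.symm hwx, Ne.symm hwy]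
  · rw [Finset.card_eq_one]
    refine ⟨a, Finset.eq_singleton_iff_unique_mem.2 ⟨by simp, fun r hr => ?_⟩⟩
    obtain ⟨h2, h3⟩ := Finset.mem_inter.1 hr
    rw [Finset.mem_insert, Finset.mem_singleton] at h3
    obtain rfl | rfl := h3
    · rfl
    · simp [Ne.symm hab, Ne.symm hxb, Ne.symm hyb, Ne.symm hwb] at h2
  intro e he heD hmeet
  -- a triangle of duads
  have hm := hmeet _ (Finset.mem_singleton_self _)
  obtain ⟨p, hpd, hpe⟩ := Finset.not_disjoint_iff.1 hm
  obtain ⟨c, hc⟩ := Finset.card_eq_one.1 (show (e.erase p).card = 1 by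
    rw [Finset.card_erase_of_mem hpe, he])
  have he' : e = {p, c} := by rw [← Finset.insert_erase hpe, hc]
  have hpc : p ≠ c := (Finset.ne_of_mem_erase (hc ▸ Finset.mem_singleton_self c)).symm
  obtain ⟨q, hq⟩ := Finset.card_eq_one.1 (show (({a, b} : Finset X).erase p).card = 1 by
    rw [Finset.card_erase_of_mem hpd, hd])
  have hd' : ({a, b} : Finset X) = {p, q} := by rw [← Finset.insert_erase hpd, hq]
  have hpq : p ≠ q := (Finset.ne_of_mem_erase (hq ▸ Finset.mem_singleton_self q)).symm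
  have hcq : c ≠ q := fun h => heD (Finset.mem_singleton.2 (by rw [he', hd', h]))
  rw [hd', he', h1]
  obtain ⟨x', hx'⟩ := K.exists_fresh {p, q, c} (lt_of_le_of_lt Finset.card_le_three (by norm_num))
  obtain ⟨y', hy'⟩ := K.exists_fresh {p, q, c, x'} (lt_of_le_of_lt Finset.card_le_four (by norm_num))
  obtain ⟨w', hw'⟩ := K.exists_fresh {p, q, c, x', y'} (lt_of_le_of_lt Finset.card_le_five (by norm_num))
  simp only [Finset.mem_insert, Finset.mem_singleton, not_or] at hx' hy' hw'
  obtain ⟨hxp, hxq, hxc⟩ := hx'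
  obtain ⟨hyp, hyq, hyc, hyx'⟩ := hy'
  obtain ⟨hwp, hwq, hwc, hwx', hwy'⟩ := hw'
  let D2 : Finset (Finset X) := {{p, q}, {p, c}, {q, c}}
  let t2 : Finset X := {p, q}
  let s3 : Finset X := {p, q, c, x'}
  let s4 : Finset X := {p, x', y', w'}
  refine le_trans ?_ (K.centralizer_le_of D2 (t := t2) (Finset.mem_insert_self _ _) ?_ s3 s4 ?_ ?_ ?_ ?_ ?_)
  all_goals simp only [D2, t2, s3, s4]
  · intro g hg
    rw [mem_centralizer_iff]
    rintro _ ⟨d, hd2, rfl⟩
    have g1 := mem_centralizer_singleton_iff.1 (mem_inf.1 hg).1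
    have g2 := mem_centralizer_singleton_iff.1 (mem_inf.1 hg).2
    simp only [Finset.coe_insert, Finset.coe_singleton, Set.mem_insert_iff, Set.mem_singleton_iff] at hd2
    rcases hd2 with rfl | rfl | rfl
    · exact g1.symm
    · exact g2.symm
    · have e3 : ({q, c} : Finset X) = {p, q} ∆ {p, c} := (pair_symm_pair hpq hpc hcq.symm).symm
      rw [e3, K.mul _ _ (by simp [hpq]) (by simp [hpc]), ← mul_assoc, mul_assoc, ← g2, ← mul_assoc,
        ← g1, mul_assoc]
  · simp [hpq, hpc, Ne.symm hcq]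
  · simp [hpq, hpc, Ne.symm hcq, Ne.symm hxp, Ne.symm hxq, Ne.symm hxc]
  · simp [Finset.subset_iff]
  · simp [Ne.symm hxp, Ne.symm hyp, Ne.symm hwp, Ne.symm hyx', Ne.symm hwx', Ne.symm hwy']
  · rw [Finset.card_eq_one]
    refine ⟨p, Finset.eq_singleton_iff_unique_mem.2 ⟨by simp, fun r hr => ?_⟩⟩
    obtain ⟨h2, h3⟩ := Finset.mem_inter.1 hr
    rw [Finset.mem_insert, Finset.mem_singleton] at h3
    obtain rfl | rfl := h3
    · rfl
    · simp [Ne.symm hpq, Ne.symm hxq, Ne.symm hyq, Ne.symm hwq] at h2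
  · intro e2 he2 hnot hall
    exfalso
    have hmeet2 : ∀ u v : X, ({u, v} : Finset X) ∈ ({{p, q}, {p, c}, {q, c}} : Finset (Finset X)) →
        u ∈ e2 ∨ v ∈ e2 := by
      intro u v huv
      obtain ⟨r, hr, hr'⟩ := Finset.not_disjoint_iff.1 (hall _ huv)
      rw [Finset.mem_insert, Finset.mem_singleton] at hr
      rcases hr with rfl | rfl
      exacts [Or.inl hr', Or.inr hr']
    have hsub : ∀ u v : X, u ≠ v → u ∈ e2 → v ∈ e2 →
        ({u, v} : Finset X) ∈ ({{p, q}, {p, c}, {q, c}} : Finset (Finset X)) → False := by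
      intro u v huv hu hv hin
      refine hnot ?_
      rw [← Finset.eq_of_subset_of_card_le (Finset.insert_subset_iff.2 ⟨hu, Finset.singleton_subset_iff.2 hv⟩)
        (by rw [Finset.card_pair huv, he2])]
      exact hin
    have m1 : ({p, q} : Finset X) ∈ ({{p, q}, {p, c}, {q, c}} : Finset (Finset X)) :=
      Finset.mem_insert_self _ _
    have m2 : ({p, c} : Finset X) ∈ ({{p, q}, {p, c}, {q, c}} : Finset (Finset X)) :=
      Finset.mem_insert_of_mem (Finset.mem_insert_self _ _)
    have m3 : ({q, c} : Finset X) ∈ ({{p, q}, {p, c}, {q, c}} : Finset (Finset X)) :=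
      Finset.mem_insert_of_mem (Finset.mem_insert_of_mem (Finset.mem_singleton_self _))
    rcases hmeet2 p q m1 with h | h <;> rcases hmeet2 p c m2 with h' | h' <;>
      rcases hmeet2 q c m3 with h'' | h''
    all_goals first
      | exact hsub p q hpq ‹_› ‹_› m1
      | exact hsub p c hpc ‹_› ‹_› m2
      | exact hsub q c hcq.symm ‹_› ‹_› m3

end Cocode

end Cfsg.Agent.JankoFour.TwoCent
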