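import Cfsg.Agent.Lib.JankoFour.BigPack
import Cfsg.Agent.Lib.JankoFour.TwoCentralizer
import Cfsg.Agent.Lib.JankoFour.DuadAut
import Cfsg.Agent.Lib.Golay.Cosets
import Cfsg.Prelude.Def_Spor_Mathieu

/-! Janko-four type: orbits on the large abelian subgroup and the centraliser of the second involution. -/

set_option autoImplicit false

namespace Cfsg.Agent.JankoFour

open Subgroup
open scoped symmDiff Pointwise
open Cfsg.Agent.JankoFour.TwoCent

variable {G : Type*} [Group G] [Finite G] {z : G} {V : Subgroup G}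

omit [Finite G] in
theorem elem_ab_of (hsq : ∀ a ∈ V, a * a = 1) : Cfsg.IsElementaryAbelian 2 V := by
  refine ⟨⟨⟨fun a b => Subtype.ext ?_⟩⟩, fun a ha => by rw [pow_two]; exact hsq a ha⟩
  have ha' : (a : G)⁻¹ = a := inv_eq_of_mul_eq_one_right (hsq a a.2)
  have hb' : (b : G)⁻¹ = b := inv_eq_of_mul_eq_one_right (hsq b b.2)
  have hab := inv_eq_of_mul_eq_one_right (hsq _ (mul_mem a.2 b.2))
  rw [mul_inv_rev, ha', hb'] at hab
  exact hab.symm

omit [Finite G] in
theorem elem_ab_map (hsq : ∀ a ∈ V, a * a = 1) (σ : MulAut G) :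
    Cfsg.IsElementaryAbelian 2 (V.map σ.toMonoidHom) := by
  refine elem_ab_of ?_
  rintro _ ⟨a, ha, rfl⟩
  rw [← map_mul, hsq a ha, map_one]

namespace BigPack

variable (B : BigPack z V)

include B in
theorem conj_mem_normalizer_imp (y : G) (h : ∀ v ∈ V, y * v * y⁻¹ ∈ normalizer (V : Set G)) :
    y ∈ normalizer (V : Set G) := by
  set E := V.map (MulAut.conj y).toMonoidHom with hE
  have hle : E ≤ normalizer (V : Set G) := by
    rintro _ ⟨v, hv, rfl⟩
    exact h v hv
  have helE : Cfsg.IsElementaryAbelian 2 E := elem_ab_map B.sq (MulAut.conj y)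
  have hcard : Nat.card ↥E = 2048 := by rw [hE, card_map_of_injective (MulAut.conj y).injective, B.card]
  have hpV : IsPGroup 2 ↥V := IsPGroup.of_card (n := 11) (by rw [B.card]; norm_num)
  have hpE : IsPGroup 2 ↥E := IsPGroup.of_card (n := 11) (by rw [hcard]; norm_num)
  have hR : IsPGroup 2 ↥(V ⊔ E : Subgroup G) := hpV.to_sup_of_normal_left' hpE hle
  have hEV : E = V := B.unique (V ⊔ E) E hR le_sup_left le_sup_right helE hcard
  refine mem_normalizer_fintype fun v hv => ?_
  exact hEV ▸ mem_map_of_mem (MulAut.conj y).toMonoidHom hv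

/-- The coordinates of the large abelian subgroup as a cocode on 24 points. -/
noncomputable def cocode : Cocode z V GolayPt where
  ρ := M24.subtype.comp B.phi
  κ := B.eS
  card_pts := rfl
  mem := fun s _ => B.eS_mem s
  mul := B.eS_symmDiff
  inj := fun s hs h6 h1 => by
    rcases Golay.supp_zero_or_le ((B.eS_eq_one s hs).1 h1) with h | h
    · exact h
    · omega
  surj := B.eS_surj
  act := fun n s hs => B.eS_equiv n s hs
  ker := fun n hn => by
    have : n ∈ B.phi.ker := MonoidHom.mem_ker.2 (Subtype.ext hn)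
    rw [B.phi_ker] at this
    exact mem_subgroupOf.1 this
  fix_eight := fun n h2 h1 a ha => fix_eight_M24 (B.phi n).2 h2 h1 ha
  tetrad := B.four_conj
  duad := B.pair_not_conj
  cent := fun u hu huz d hd => B.cent_pair u hu _ (B.eS_mem d) huz
    (fun h => by
      rcases Golay.supp_zero_or_le ((B.eS_eq_one d (by rw [hd]; decide)).1 h) with e | e
      · rw [e] at hd; simp at hd
      · omega)
    (B.pair_not_conj d hd)
  uniq := B.conj_mem_normalizer_imp

/-- The centraliser of a duad lies in the normaliser. -/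
theorem centralizer_duad_le {d : Finset GolayPt} (hd : d.card = 2) :
    centralizer ({B.eS d} : Set G) ≤ normalizer (V : Set G) := B.cocode.centralizer_duad_le hd

omit [Finite G] in
theorem smul_eS (n : ↥(normalizer (V : Set G))) {s : Finset GolayPt} (hs : Even s.card) :
    (n : G) * B.eS s * (n : G)⁻¹ = B.eS (B.phi n • s) := B.eS_equiv n s hs


omit [Finite G] in
theorem orbit_eq {s : Finset GolayPt} (hs : Even s.card) (h5 : s.card ≤ 5) :
    {v : G | ∃ n ∈ normalizer (V : Set G), n * B.eS s * n⁻¹ = v} =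
      B.eS '' {r : Finset GolayPt | r.card = s.card} := by
  ext v
  constructor
  · rintro ⟨n, hn, rfl⟩
    exact ⟨B.phi ⟨n, hn⟩ • s, Finset.card_smul_finset _ _, (B.smul_eS ⟨n, hn⟩ hs).symm⟩
  · rintro ⟨r, hr, rfl⟩
    obtain ⟨g, hg⟩ := exists_map_finset (s := s) (t := r) (hr : r.card = s.card).symm h5
    obtain ⟨n, rfl⟩ := B.phi_surj g
    exact ⟨n, n.2, by rw [B.smul_eS n hs, hg]⟩

theorem card_duads : Set.ncard (B.eS '' {r : Finset GolayPt | r.card = 2}) = 276 := by
  rw [Set.InjOn.ncard_image]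
  · rw [show {r : Finset GolayPt | r.card = 2} = ↑(Finset.powersetCard 2 (Finset.univ : Finset GolayPt)) by
      ext r; simp, Set.ncard_coe_finset, Finset.card_powersetCard]
    rfl
  · intro r hr r' hr' he
    refine B.cocode.kap_inj (by rw [show r.card = 2 from hr]; decide) (by rw [show r'.card = 2 from hr']; decide) ?_ he
    have h1 := card_symm r r'
    have h2 : r.card = 2 := hr
    have h3 : r'.card = 2 := hr'
    omega

theorem card_tetrads : Set.ncard (B.eS '' {r : Finset GolayPt | r.card = 4}) = 1771 := by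
  classical
  set D := B.eS '' {r : Finset GolayPt | r.card = 2}
  set T := B.eS '' {r : Finset GolayPt | r.card = 4}
  have hVeq : (V : Set G) = insert 1 (D ∪ T) := by
    ext v
    simp only [SetLike.mem_coe, Set.mem_insert_iff, Set.mem_union]
    constructor
    · intro hv
      obtain ⟨s, hs, h4, rfl⟩ := B.eS_surj v hv
      rw [Nat.even_iff] at hs
      rcases (show s.card = 0 ∨ s.card = 2 ∨ s.card = 4 by omega) with h | h | h
      · exact Or.inl (by rw [Finset.card_eq_zero.1 h]; exact B.cocode.kap_empty)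
      · exact Or.inr (Or.inl ⟨s, h, rfl⟩)
      · exact Or.inr (Or.inr ⟨s, h, rfl⟩)
    · rintro (rfl | ⟨s, -, rfl⟩ | ⟨s, -, rfl⟩)
      exacts [one_mem _, B.eS_mem s, B.eS_mem s]
  have hdis : Disjoint D T := by
    rw [Set.disjoint_left]
    rintro _ ⟨s, hs, rfl⟩ ⟨r, hr, he⟩
    exact B.pair_not_conj s hs (he ▸ B.four_conj r hr)
  have h1 : (1 : G) ∉ D ∪ T := by
    rintro (⟨s, hs, he⟩ | ⟨s, hs, he⟩) <;>
      (have hc : s.card = _ := hs
       have := B.cocode.inj s (by rw [hc]; decide) (by omega) he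
       simp [this] at hc)
  have hc : Set.ncard (V : Set G) = 2048 := by
    rw [← Nat.card_coe_set_eq, SetLike.coe_sort_coe, B.card]
  rw [hVeq, Set.ncard_insert_of_notMem h1 (Set.toFinite _),
    Set.ncard_union_eq hdis (Set.toFinite _) (Set.toFinite _), B.card_duads] at hc
  omega

end BigPack

/-- The two orbits of the normaliser on any elementary abelian subgroup of order 2^11. -/
theorem two_eleven_orbits {V₀ : Subgroup G} (B : BigPack z V₀) (V : Subgroup G)
    (hV : Cfsg.IsElementaryAbelian 2 V) (hcard : Nat.card ↥V = 2 ^ 11) :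
    ∃ z' t : G, z' ∈ V ∧ t ∈ V ∧ t ≠ 1 ∧ IsConj z z' ∧ ¬ IsConj z t ∧
    Set.ncard {v : G | ∃ n ∈ normalizer (V : Set G), n * z' * n⁻¹ = v} = 1771 ∧
    Set.ncard {v : G | ∃ n ∈ normalizer (V : Set G), n * t * n⁻¹ = v} = 276 ∧
    centralizer ({t} : Set G) ≤ normalizer (V : Set G) := by
  obtain ⟨g, rfl⟩ := B.conjugate V hV (by rw [hcard]; norm_num)
  obtain ⟨p, q, hpq⟩ : ∃ p q : GolayPt, p ≠ q := ⟨none, some 0, by simp⟩
  set d : Finset GolayPt := {p, q}
  have hd : d.card = 2 := Finset.card_pair hpq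
  obtain ⟨s, -, hs⟩ := Finset.exists_subset_card_eq (s := (Finset.univ : Finset GolayPt)) (n := 4)
    (by rw [Finset.card_univ, show Fintype.card GolayPt = 24 from rfl]; norm_num)
  have hN : ∀ n, n ∈ normalizer ((V₀.map (MulAut.conj g).toMonoidHom : Subgroup G) : Set G) ↔
      g⁻¹ * n * g ∈ normalizer (V₀ : Set G) := by
    intro n
    have := map_equiv_normalizer_eq V₀ (MulAut.conj g)
    rw [← this]
    constructor
    · rintro ⟨m, hm, rfl⟩
      simpa [mul_assoc] using hm
    · intro h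
      exact ⟨_, h, by simp [mul_assoc]⟩
  have horb : ∀ a : G, {v : G | ∃ n ∈ normalizer ((V₀.map (MulAut.conj g).toMonoidHom : Subgroup G) : Set G),
      n * (g * a * g⁻¹) * n⁻¹ = v} =
      MulAut.conj g '' {v : G | ∃ n ∈ normalizer (V₀ : Set G), n * a * n⁻¹ = v} := by
    intro a
    ext v
    constructor
    · rintro ⟨n, hn, rfl⟩
      exact ⟨_, ⟨_, (hN n).1 hn, rfl⟩, by simp [mul_assoc]⟩
    · rintro ⟨_, ⟨n, hn, rfl⟩, rfl⟩
      exact ⟨g * n * g⁻¹, (hN _).2 (by simpa [mul_assoc] using hn), by simp [mul_assoc]⟩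
  refine ⟨g * B.eS s * g⁻¹, g * B.eS d * g⁻¹, mem_map_of_mem _ (B.eS_mem s), mem_map_of_mem _ (B.eS_mem d),
    ?_, (conj_conj_iff g).2 (B.four_conj s hs), fun h => B.pair_not_conj d hd ((conj_conj_iff g).1 h),
    ?_, ?_, ?_⟩
  · intro h
    rw [mul_inv_eq_one, mul_eq_left] at h
    have := B.cocode.inj d (by rw [hd]; decide) (by omega) h
    simp [this] at hd
  · rw [horb, Set.ncard_image_of_injective _ (MulAut.conj g).injective,
      B.orbit_eq (by rw [hs]; decide) (by omega), hs, B.card_tetrads]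
  · rw [horb, Set.ncard_image_of_injective _ (MulAut.conj g).injective,
      B.orbit_eq (by rw [hd]; decide) (by omega), hd, B.card_duads]
  · intro n hn
    rw [hN]
    refine B.centralizer_duad_le hd (mem_centralizer_singleton_iff.2 ?_)
    have h := mem_centralizer_singleton_iff.1 hn
    calc g⁻¹ * n * g * B.eS d = g⁻¹ * (n * (g * B.eS d * g⁻¹)) * g := by group
      _ = g⁻¹ * (g * B.eS d * g⁻¹ * n) * g := by rw [h]
      _ = B.eS d * (g⁻¹ * n * g) := by group

/-- The centraliser of an involution conjugate to a duad, given a complement to `V`. -/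
theorem second_centralizer_split {V : Subgroup G} (B : BigPack z V) {K : Subgroup G}
    (hKN : K ≤ normalizer (V : Set G)) (hKV : K ⊓ V = ⊥) (hsup : K ⊔ V = normalizer (V : Set G))
    {t : G} (ht : orderOf t = 2) (hnc : ¬ IsConj z t) (hinto : ∃ g : G, g * t * g⁻¹ ∈ V) :
    ∃ V' K' : Subgroup G, V' ≤ centralizer ({t} : Set G) ∧ K' ≤ centralizer ({t} : Set G) ∧
    centralizer ({t} : Set G) ≤ normalizer (V' : Set G) ∧ Cfsg.IsElementaryAbelian 2 V' ∧ Nat.card ↥V' = 2 ^ 11 ∧
    K' ⊓ V' = ⊥ ∧ K' ⊔ V' = centralizer ({t} : Set G) ∧ Nonempty (↥K' ≃* MulAut ↥Cfsg.Spor.M22) := by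
  obtain ⟨g, hg⟩ := hinto
  have hne : g * t * g⁻¹ ≠ 1 := by
    intro h
    rw [mul_inv_eq_one, mul_eq_left] at h
    simp [h] at ht
  obtain ⟨d, hd, hdt⟩ := B.cocode.exists_duad hg hne (fun h => hnc ((conj_conj_iff g).1 h))
  have hde : Even d.card := by rw [hd]; decide
  have hcomm : ∀ u ∈ V, u * B.eS d = B.eS d * u := fun u hu => B.cocode.comm hu (B.eS_mem d)
  -- the centraliser of the duad
  set C := centralizer ({B.eS d} : Set G) with hC
  have hCN : C ≤ normalizer (V : Set G) := B.centralizer_duad_le hd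
  set L := K ⊓ C with hL
  have hVC : V ≤ C := fun u hu => mem_centralizer_singleton_iff.2 (hcomm u hu)
  have hLV : L ⊔ V = C := by
    refine le_antisymm (sup_le inf_le_right hVC) fun c hc => ?_
    have hc' : c ∈ (((K ⊔ V : Subgroup G)) : Set G) := by rw [hsup]; exact hCN hc
    rw [coe_mul_of_left_le_normalizer_right K V hKN] at hc'
    obtain ⟨k, hk, v, hv, rfl⟩ := hc'
    exact mul_mem (mem_sup_left ⟨hk, by simpa using C.mul_mem hc (inv_mem (hVC hv))⟩) (mem_sup_right hv)
  -- the complement part is the stabiliser of the duad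
  let f : ↥K →* ↥Cfsg.M24 := B.phi.comp (Subgroup.inclusion hKN)
  have hf : Function.Bijective f := by
    constructor
    · rw [injective_iff_map_eq_one]
      intro k hk
      have h1 : (Subgroup.inclusion hKN k) ∈ B.phi.ker := MonoidHom.mem_ker.2 hk
      rw [B.phi_ker, mem_subgroupOf] at h1
      exact Subtype.ext (mem_bot.1 (hKV ▸ mem_inf.2 ⟨k.2, h1⟩))
    · intro m
      obtain ⟨n, rfl⟩ := B.phi_surj m
      have hn : (n : G) ∈ (((K ⊔ V : Subgroup G)) : Set G) := by rw [hsup]; exact n.2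
      rw [coe_mul_of_left_le_normalizer_right K V hKN] at hn
      obtain ⟨k, hk, v, hv, hkv⟩ := hn
      refine ⟨⟨k, hk⟩, ?_⟩
      have hvk : (⟨v, le_normalizer hv⟩ : ↥(normalizer (V : Set G))) ∈ B.phi.ker := by
        rw [B.phi_ker, mem_subgroupOf]; exact hv
      have hnkv : n = (Subgroup.inclusion hKN ⟨k, hk⟩) * ⟨v, le_normalizer hv⟩ := Subtype.ext hkv.symm
      show B.phi _ = _
      rw [hnkv, map_mul, MonoidHom.mem_ker.1 hvk, mul_one]
  let F : ↥K ≃* ↥Cfsg.M24 := MulEquiv.ofBijective f hf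
  have hmap : (L.subgroupOf K).map F.toMonoidHom = MulAction.stabilizer ↥Cfsg.M24 d := by
    ext m
    constructor
    · rintro ⟨k, hk, rfl⟩
      have h := (mem_inf.1 (mem_subgroupOf.1 hk)).2
      exact B.cocode.image_duad (n := Subgroup.inclusion hKN k) hd (mem_centralizer_singleton_iff.1 h)
    · intro hm
      obtain ⟨k, rfl⟩ := F.surjective m
      refine ⟨k, mem_subgroupOf.2 (mem_inf.2 ⟨k.2, mem_centralizer_singleton_iff.2 ?_⟩), rfl⟩
      exact B.cocode.commute_of_image (n := Subgroup.inclusion hKN k) hde hm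
  obtain ⟨e⟩ := duad_stab_equiv hd
  have eL : ↥L ≃* MulAut ↥Cfsg.Spor.M22 :=
    (((Subgroup.subgroupOfEquivOfLe (inf_le_left : L ≤ K)).symm.trans
      (F.subgroupMap (L.subgroupOf K))).trans (MulEquiv.subgroupCongr hmap)).trans e
  -- back to t
  set σ := MulAut.conj g⁻¹ with hσ
  have hCt : C.map σ.toMonoidHom = centralizer ({t} : Set G) := by
    ext x
    constructor
    · rintro ⟨c, hc, rfl⟩
      have h : c * (g * t * g⁻¹) = g * t * g⁻¹ * c :=
        (congrArg (c * ·) hdt.symm).trans ((mem_centralizer_singleton_iff.1 hc).trans (congrArg (· * c) hdt))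
      refine mem_centralizer_singleton_iff.2 ?_
      show g⁻¹ * c * g⁻¹⁻¹ * t = t * (g⁻¹ * c * g⁻¹⁻¹)
      calc g⁻¹ * c * g⁻¹⁻¹ * t = g⁻¹ * (c * (g * t * g⁻¹)) * g := by group
        _ = g⁻¹ * (g * t * g⁻¹ * c) * g := by rw [h]
        _ = t * (g⁻¹ * c * g⁻¹⁻¹) := by group
    · intro hx
      refine ⟨g * x * g⁻¹, mem_centralizer_singleton_iff.2 ?_, by simp [hσ, mul_assoc]⟩
      show g * x * g⁻¹ * B.cocode.κ d = B.cocode.κ d * (g * x * g⁻¹)
      rw [hdt]
      have h := mem_centralizer_singleton_iff.1 hx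
      calc g * x * g⁻¹ * (g * t * g⁻¹) = g * (x * t) * g⁻¹ := by group
        _ = g * (t * x) * g⁻¹ := by rw [h]
        _ = g * t * g⁻¹ * (g * x * g⁻¹) := by group
  refine ⟨V.map σ.toMonoidHom, L.map σ.toMonoidHom, hCt ▸ map_mono hVC, hCt ▸ map_mono inf_le_right, ?_, ?_,
    ?_, ?_, ?_, ⟨(σ.subgroupMap L).symm.trans eL⟩⟩
  · rw [← hCt, ← map_equiv_normalizer_eq]
    exact map_mono hCN
  · exact elem_ab_map B.sq σ
  · rw [card_map_of_injective σ.injective, B.card]; norm_num
  · rw [← map_inf _ _ _ σ.injective, ← map_bot σ.toMonoidHom]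
    congr 1
    exact le_bot_iff.1 (le_trans (inf_le_inf_right V inf_le_left) hKV.le)
  · rw [← Subgroup.map_sup, hLV, hCt]

end Cfsg.Agent.JankoFour
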