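import Cfsg.Agent.Lib.JankoFour.HintoFusion
import Cfsg.Agent.Lib.JankoFour.TwoCentralizerMain

/-!
The large abelian subgroup, its normaliser and the second class of involutions, from coordinates on the subgroup.
-/

set_option autoImplicit false
set_option linter.unusedSectionVars false

namespace Cfsg.Agent.JankoFour

open Subgroup
open Cfsg.Agent.LargeFischer (QG)

variable {G : Type*} [Group G] [Finite G] {z : G} {P : Subgroup G}

/-- Coordinates exist, and the centraliser of the involution and of a further involution normalises the subgroup. -/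
structure BigData.Facts {M : Model z P} (B : BigData M) where
  coords : BigCoords B
  hcent : ∀ t ∈ B.V, t ≠ 1 → t ≠ z → (∀ x : ↥(QG M.Q), (x : G) = t → cls (M.vec x) = 2) →
    centralizer ({z} : Set G) ⊓ centralizer ({t} : Set G) ≤ normalizer (B.V : Set G)

namespace BigData.Facts

variable {M : Model z P} {B : BigData M} (F : B.Facts) [IsSimpleGroup G]
include F

theorem exists_pack (hG : ¬ IsMulCommutative G) :
    Nonempty (BigPack z B.V) := by
  obtain ⟨hT, hcard⟩ := F.coords.classify (B.exists_fused hG)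
  exact F.coords.exists_pack hT hcard F.hcent

/-- The normaliser splits with complement the Mathieu group. -/
theorem normalizer_split (hG : ¬ IsMulCommutative G) (V : Subgroup G) (hV : Cfsg.IsElementaryAbelian 2 V)
    (hcard : Nat.card ↥V = 2 ^ 11) :
    centralizer (V : Set G) ≤ V ∧ ∃ K : Subgroup G, K ≤ normalizer (V : Set G) ∧ K ⊓ V = ⊥ ∧
      K ⊔ V = normalizer (V : Set G) ∧ Cfsg.Spor.IsoM24 ↥K := by
  obtain ⟨D⟩ := F.exists_pack hG
  obtain ⟨K, hKN, hKV, hKsup, hK⟩ := exists_complement M D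
  obtain ⟨g, rfl⟩ := B.conjugate V hV (by rw [hcard]; norm_num)
  refine ⟨?_, K.map (MulAut.conj g).toMonoidHom, ?_, ?_, ?_, ?_⟩
  · intro c hc
    refine ⟨g⁻¹ * c * g, D.cent.le (mem_centralizer_iff.2 fun v hv => ?_), by simp [mul_assoc]⟩
    have h := mem_centralizer_iff.1 hc (g * v * g⁻¹) ⟨v, hv, rfl⟩
    calc v * (g⁻¹ * c * g) = g⁻¹ * (g * v * g⁻¹ * c) * g := by group
      _ = g⁻¹ * (c * (g * v * g⁻¹)) * g := by rw [h]
      _ = g⁻¹ * c * g * v := by group
  · rw [← map_equiv_normalizer_eq]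
    exact map_mono hKN
  · rw [← map_inf _ _ _ (MulAut.conj g).injective, hKV, Subgroup.map_bot]
  · rw [← map_equiv_normalizer_eq, ← Subgroup.map_sup, hKsup]
  · obtain ⟨e⟩ := hK
    exact ⟨((MulAut.conj g).subgroupMap K).symm.trans e⟩

/-- The two orbits. -/
theorem orbits (hG : ¬ IsMulCommutative G) (V : Subgroup G) (hV : Cfsg.IsElementaryAbelian 2 V)
    (hcard : Nat.card ↥V = 2 ^ 11) :
    ∃ z' t : G, z' ∈ V ∧ t ∈ V ∧ t ≠ 1 ∧ IsConj z z' ∧ ¬ IsConj z t ∧
    Set.ncard {v : G | ∃ n ∈ normalizer (V : Set G), n * z' * n⁻¹ = v} = 1771 ∧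
    Set.ncard {v : G | ∃ n ∈ normalizer (V : Set G), n * t * n⁻¹ = v} = 276 ∧
    centralizer ({t} : Set G) ≤ normalizer (V : Set G) := by
  obtain ⟨D⟩ := F.exists_pack hG
  exact two_eleven_orbits D V hV hcard

/-- The centraliser of the second class of involutions. -/
theorem second_centralizer (hG : ¬ IsMulCommutative G) {t : G} (ht : orderOf t = 2) (hnc : ¬ IsConj z t) :
    ∃ V K : Subgroup G, V ≤ centralizer ({t} : Set G) ∧ K ≤ centralizer ({t} : Set G) ∧
    centralizer ({t} : Set G) ≤ normalizer (V : Set G) ∧ Cfsg.IsElementaryAbelian 2 V ∧ Nat.card ↥V = 2 ^ 11 ∧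
    K ⊓ V = ⊥ ∧ K ⊔ V = centralizer ({t} : Set G) ∧ Nonempty (↥K ≃* MulAut ↥Cfsg.Spor.M22) := by
  obtain ⟨D⟩ := F.exists_pack hG
  obtain ⟨K, hKN, hKV, hKsup, -⟩ := exists_complement M D
  obtain ⟨hT, hcard⟩ := F.coords.classify (B.exists_fused hG)
  exact second_centralizer_split D hKN hKV hKsup ht hnc (F.coords.involution_into hT hG hcard ht)

end BigData.Facts

end Cfsg.Agent.JankoFour
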