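import Cfsg.Agent.S2062
import Cfsg.Agent.Lib.Golay.Mathieu

/-!
The automorphism group of M22: order 887040, one subgroup of index two.
-/

set_option autoImplicit false

namespace Cfsg.Agent.JankoFour

open Subgroup

theorem conj_injective : Function.Injective (MulAut.conj : ↥Cfsg.Spor.M22 →* MulAut ↥Cfsg.Spor.M22) := by
  have hs := Golay.isSimpleGroup_sporM22
  rw [← MonoidHom.ker_eq_bot_iff]
  rcases hs.eq_bot_or_eq_top_of_normal (MulAut.conj : ↥Cfsg.Spor.M22 →* MulAut ↥Cfsg.Spor.M22).ker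
    inferInstance with h | h
  · exact h
  · exfalso
    have hcomm : ∀ a b : ↥Cfsg.Spor.M22, a * b = b * a := fun a b => by
      have ha : a ∈ (MulAut.conj : ↥Cfsg.Spor.M22 →* MulAut ↥Cfsg.Spor.M22).ker := h ▸ mem_top a
      have := DFunLike.congr_fun (MonoidHom.mem_ker.1 ha) b
      simpa [mul_inv_eq_iff_eq_mul] using this
    let _ : CommGroup ↥Cfsg.Spor.M22 := { mul_comm := hcomm }
    have hp := IsSimpleGroup.prime_card (α := ↥Cfsg.Spor.M22)
    rw [Golay.card_sporM22] at hp
    norm_num at hp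

theorem card_inn : Nat.card ↥(Cfsg.Inn ↥Cfsg.Spor.M22) = 443520 := by
  rw [← Golay.card_sporM22]
  exact (Nat.card_congr (MonoidHom.ofInjective conj_injective).toEquiv).symm

theorem index_inn : (Cfsg.Inn ↥Cfsg.Spor.M22).index = 2 := by
  rw [index_eq_card]
  exact Cfsg.Agent.S2062.result

theorem card_aut : Nat.card (MulAut ↥Cfsg.Spor.M22) = 887040 := by
  rw [← (Cfsg.Inn ↥Cfsg.Spor.M22).card_mul_index, card_inn, index_inn]

/-- The only subgroup of index two is the inner one. -/
theorem eq_inn {K : Subgroup (MulAut ↥Cfsg.Spor.M22)} (hK : K.index = 2) :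
    K = Cfsg.Inn ↥Cfsg.Spor.M22 := by
  haveI hs := Golay.isSimpleGroup_sporM22
  haveI : Finite (MulAut ↥Cfsg.Spor.M22) := Nat.finite_of_card_ne_zero (by rw [card_aut]; norm_num)
  have hn : K.Normal := normal_of_index_eq_two hK
  have hle : Cfsg.Inn ↥Cfsg.Spor.M22 ≤ K := by
    intro a ha
    obtain ⟨g, rfl⟩ := ha
    set φ := (QuotientGroup.mk' K).comp (MulAut.conj : ↥Cfsg.Spor.M22 →* MulAut ↥Cfsg.Spor.M22)
    rcases hs.eq_bot_or_eq_top_of_normal φ.ker inferInstance with h | h
    · exfalso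
      have := Nat.card_le_card_of_injective φ ((MonoidHom.ker_eq_bot_iff φ).1 h)
      rw [Golay.card_sporM22, ← index_eq_card, hK] at this
      omega
    · exact (QuotientGroup.eq_one_iff _).1 (MonoidHom.mem_ker.1 (h ▸ mem_top g : g ∈ φ.ker))
  refine (eq_of_le_of_card_ge hle ?_).symm
  have h1 := K.card_mul_index
  rw [hK, card_aut] at h1
  rw [card_inn]
  omega

end Cfsg.Agent.JankoFour
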