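import Cfsg.Agent.Lib.JankoFour.BigSylow
import Cfsg.Agent.Lib.FGBasics.Extraspecial

/-!
The large elementary abelian subgroup of order 2^11 in the centraliser of the involution in groups of
Janko-four type: existence and uniqueness inside the Sylow subgroup.
-/

set_option autoImplicit false
set_option linter.unusedSectionVars false

namespace Cfsg.Agent.JankoFour

open Subgroup
open Cfsg.Agent.LargeFischer (Ctx QG)
open Cfsg.Agent.J4Module (app oneC compC elemI ElemBase ElemSub)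
open Cfsg.Agent.J4Module.Data
open Big

namespace Model

variable {G : Type*} [Group G] [Finite G] {z : G} {P : Subgroup G} (M : Model z P)

theorem cfix_comm {l : ↥(centralizer ({z} : Set G))} (x : ↥(QG M.Q)) :
    (M.ctx.conjQ l x = x) ↔ (l : G) * x = x * l := by
  rw [Subtype.ext_iff]
  show (l : G) * x * (l : G)⁻¹ = x ↔ _
  exact mul_inv_eq_iff_eq_mul

/-- The elements of Q inside the centraliser. -/
def toH : ↥(QG M.Q) →* ↥(centralizer ({z} : Set G)) where
  toFun q := ⟨q.1, M.ctx.xs.le_centralizer q.2⟩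
  map_one' := rfl
  map_mul' _ _ := rfl

theorem toH_injective : Function.Injective M.toH := fun _ _ e => Subtype.ext (congrArg Subtype.val e :)

theorem toH_mem (q : ↥(QG M.Q)) : M.toH q ∈ M.Q := by
  obtain ⟨q', hq, e⟩ := q.2
  exact (show q' = M.toH q from Subtype.ext e) ▸ hq

theorem toH_surj {c : ↥(centralizer ({z} : Set G))} (hc : c ∈ M.Q) : ∃ q, M.toH q = c := ⟨⟨c.1, c, hc, rfl⟩, rfl⟩

theorem toH_conj (c : ↥(centralizer ({z} : Set G))) (q : ↥(QG M.Q)) :
    c * M.toH q * c⁻¹ = M.toH (M.ctx.conjQ c q) := rfl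

theorem sylow_len {C : List ℕ} (hC : C ∈ sylow) : C.length = 12 := sylow_shape.2.2 C hC

theorem abelian_le {S : Subgroup ↥(QG M.Q)} (hS : ∀ a ∈ S, ∀ b ∈ S, a * b = b * a) : Nat.card ↥S ≤ 128 := by
  haveI : Fact (Nat.Prime 2) := ⟨Nat.prime_two⟩
  have h := FGBasics.XS.card_abelian_sq_le M.ctx.xs.xs S ⟨⟨fun a b => Subtype.ext (hS a a.2 b b.2)⟩⟩
  rw [M.ctx.card] at h
  nlinarith

/-- The preimage of the hexad space. -/
def aQ : Subgroup ↥(QG M.Q) where
  carrier := {x | M.vec x ∈ bigW}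
  one_mem' := by
    show M.vec 1 ∈ bigW
    rw [M.vec_one]
    decide +kernel
  mul_mem' := fun {x y} hx hy => by
    obtain ⟨hl, -, hxor, -⟩ := bigW_spec
    obtain ⟨i, hi, ei⟩ := List.getElem_of_mem (hx : M.vec x ∈ bigW)
    obtain ⟨j, hj, ej⟩ := List.getElem_of_mem (hy : M.vec y ∈ bigW)
    show M.vec (x * y) ∈ bigW
    have hk : i ^^^ j < bigW.length := by rw [hl] at hi hj ⊢; exact Nat.xor_lt_two_pow (n := 6) hi hj
    have := hxor i (hl ▸ hi) j (hl ▸ hj)
    rw [List.getD_eq_getElem _ _ hi, List.getD_eq_getElem _ _ hj, List.getD_eq_getElem _ _ hk, ei, ej] at this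
    rw [M.vec_mul, this]
    exact List.getElem_mem hk
  inv_mem' := fun {x} hx => by
    show M.vec x⁻¹ ∈ bigW
    have h : M.vec x⁻¹ = M.vec x := by
      have h1 := M.vec_mul x⁻¹ x
      rw [inv_mul_cancel, M.vec_one] at h1
      exact Nat.xor_eq_zero_iff.1 h1.symm
    rwa [h]

theorem mem_aQ {x : ↥(QG M.Q)} : x ∈ M.aQ ↔ M.vec x ∈ bigW := Iff.rfl

theorem aQ_comm {x y : ↥(QG M.Q)} (hx : x ∈ M.aQ) (hy : y ∈ M.aQ) : x * y = y * x :=
  Subtype.ext ((M.comm_iff x y).2 (bigW_perp _ hx _ hy))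

theorem aQ_sq {x : ↥(QG M.Q)} (hx : x ∈ M.aQ) : x * x = 1 :=
  Subtype.ext ((M.sq_iff x).2 (bigW_sing _ hx))

/-- The central involution inside Q. -/
def zQ : ↥(QG M.Q) := ⟨z, M.ctx.xs.mem⟩

theorem zQ_aQ : M.zQ ∈ M.aQ := by
  show M.vec ⟨z, M.ctx.xs.mem⟩ ∈ bigW
  rw [M.vec_z]
  decide +kernel

theorem card_aQ : Nat.card ↥M.aQ = 128 := by
  classical
  obtain ⟨hl, hlt, -, hinj⟩ := bigW_spec
  choose s hs using fun i : Fin 64 => M.vec_surj _ (hlt (bigW.getD i.1 0) (by
    rw [List.getD_eq_getElem _ _ (show i.1 < bigW.length by omega)]; exact List.getElem_mem _))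
  have hs' : ∀ i, s i ∈ M.aQ := fun i => by
    rw [mem_aQ, hs, List.getD_eq_getElem _ _ (show i.1 < bigW.length by omega)]
    exact List.getElem_mem _
  let f : Fin 64 × Bool → ↥M.aQ := fun p => ⟨s p.1 * (if p.2 then M.zQ else 1), mul_mem (hs' _) (by
    cases p.2
    · exact one_mem _
    · exact M.zQ_aQ)⟩
  have hvz : M.vec M.zQ = 0 := M.vec_z
  have hvec : ∀ p, M.vec (f p).1 = bigW.getD p.1.1 0 := fun p => by
    show M.vec (s p.1 * if p.2 = true then M.zQ else 1) = _
    rw [M.vec_mul, hs]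
    cases p.2 <;> simp [M.vec_one, hvz]
  have hf : Function.Bijective f := by
    refine ⟨fun p q h => ?_, fun x => ?_⟩
    · have e : p.1 = q.1 := Fin.ext (hinj _ p.1.2 _ q.1.2 (by rw [← hvec p, ← hvec q, h]))
      obtain ⟨i, b⟩ := p
      obtain ⟨j, b'⟩ := q
      simp only at e
      subst e
      have h' := mul_left_cancel (congrArg Subtype.val h)
      have hne : M.zQ ≠ 1 := fun e' => M.ctx.xs.ne_one (congrArg Subtype.val e')
      cases b <;> cases b' <;> first | rfl | exact absurd (by simpa using h') hne | exact absurd (by simpa using h'.symm) hne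
    · obtain ⟨i, hi, e⟩ := List.getElem_of_mem (M.mem_aQ.1 x.2)
      have e' : M.vec (s ⟨i, by omega⟩) = M.vec x.1 := by rw [hs, List.getD_eq_getElem _ _ hi, e]
      rcases M.vec_eq_iff.1 e' with h | h
      · exact ⟨(⟨i, by omega⟩, false), Subtype.ext (Subtype.ext (by simpa [f] using h.symm))⟩
      · exact ⟨(⟨i, by omega⟩, true), Subtype.ext (Subtype.ext (by simpa [f, zQ] using h.symm))⟩
  rw [← Nat.card_congr (Equiv.ofBijective f hf), Nat.card_prod, Nat.card_fin, Nat.card_eq_fintype_card,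
    Fintype.card_bool]

/-- The preimage of the hexad space is its own centraliser in Q. -/
theorem mem_aQ_of_comm {x : ↥(QG M.Q)} (h : ∀ a ∈ M.aQ, x * a = a * x) : x ∈ M.aQ := by
  have hS : ∀ a ∈ M.aQ ⊔ zpowers x, ∀ b ∈ M.aQ ⊔ zpowers x, a * b = b * a := by
    have h1 : M.aQ ⊔ zpowers x ≤ centralizer (M.aQ : Set ↥(QG M.Q)) :=
      sup_le (fun a ha => mem_centralizer_iff.2 fun b hb => M.aQ_comm hb ha)
        (zpowers_le.2 (mem_centralizer_iff.2 fun b hb => (h b hb).symm))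
    have h2 : M.aQ ⊔ zpowers x ≤ centralizer ({x} : Set ↥(QG M.Q)) :=
      sup_le (fun a ha => mem_centralizer_iff.2 fun b hb => by rw [Set.mem_singleton_iff.1 hb, h a ha])
        (zpowers_le.2 (mem_centralizer_iff.2 fun b hb => by rw [Set.mem_singleton_iff.1 hb]))
    intro a ha b hb
    refine (mem_centralizer_iff.1 ((sup_le ?_ ?_ : M.aQ ⊔ zpowers x ≤ centralizer ({a} : Set ↥(QG M.Q))) hb) a rfl)
    · exact fun c hc => mem_centralizer_iff.2 fun d hd => by
        rw [Set.mem_singleton_iff.1 hd]; exact (mem_centralizer_iff.1 (h1 ha) c hc).symm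
    · exact zpowers_le.2 (mem_centralizer_iff.2 fun d hd => by
        rw [Set.mem_singleton_iff.1 hd]; exact (mem_centralizer_iff.1 (h2 ha) x rfl).symm)
  have hle : M.aQ ⊔ zpowers x = M.aQ :=
    (Subgroup.eq_of_le_of_card_ge le_sup_left (by rw [M.card_aQ]; exact M.abelian_le hS)).symm
  exact hle.le (mem_sup_right (mem_zpowers x))

section Unique

variable {E : Subgroup ↥(centralizer ({z} : Set G))} (hE : E ≤ M.syl) (h2 : ∀ a ∈ E, a * a = 1)
  (hc : 2048 ≤ Nat.card ↥E)

include hE h2 hc in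
/-- The shape of an elementary subgroup of order at least 2^11 in the Sylow subgroup. -/
theorem big_shape : Nat.card ↥E = 2048 ∧ E.comap M.toH = M.aQ ∧
    (∀ c ∈ E, ∃ i < 16, M.Acts c (bEl i)) ∧ ∀ i < 16, ∃ c ∈ E, M.Acts c (bEl i) := by
  classical
  haveI := M.normal
  set B : Set (List ℕ) := {C | C ∈ sylow ∧ ∃ c ∈ E, M.Acts c C}
  set A := E.comap M.toH with hA
  have hcomm : ∀ a ∈ E, ∀ b ∈ E, a * b = b * a := fun a ha b hb => by
    have hi : ∀ c ∈ E, c⁻¹ = c := fun c hc => inv_eq_of_mul_eq_one_right (h2 c hc)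
    calc a * b = (a * b)⁻¹ := (hi _ (mul_mem ha hb)).symm
      _ = b * a := by rw [_root_.mul_inv_rev, hi a ha, hi b hb]
  have hmem : ∀ c ∈ E, ∃ C ∈ B, M.Acts c C := fun c hcE => by
    obtain ⟨C, hC, h⟩ := hE hcE
    exact ⟨C, ⟨hC, c, hcE, h⟩, h⟩
  have hB : ElemBase B := by
    refine ⟨fun C h => h.1, ⟨unit_mem_sylow, 1, one_mem _, M.acts_one⟩, ?_, ?_, ?_⟩
    · rintro C ⟨hC, c, hcE, hc'⟩ D ⟨hD, d, hdE, hd⟩
      exact ⟨sylow_mul hC hD, c * d, mul_mem hcE hdE, M.acts_mul hc' hd⟩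
    · rintro C ⟨hC, c, hcE, hc'⟩
      have h := M.acts_mul hc' hc'
      rw [h2 c hcE] at h
      exact M.acts_unique (sylow_len (sylow_mul hC hC)) rfl h M.acts_one
    · rintro C ⟨hC, c, hcE, hc'⟩ D ⟨hD, d, hdE, hd⟩
      have h := M.acts_mul hc' hd
      rw [hcomm c hcE d hdE] at h
      exact M.acts_unique (sylow_len (sylow_mul hC hD)) (sylow_len (sylow_mul hD hC)) h (M.acts_mul hd hc')
  have hcard : Nat.card ↥E = B.ncard * Nat.card ↥A := by
    rw [card_eq_card_quotient_mul_card_subgroup (M.Q.subgroupOf E)]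
    congr 1
    · choose el helE hel using fun C : B => C.2.2
      let f : B → ↥E ⧸ M.Q.subgroupOf E := fun C => QuotientGroup.mk ⟨el C, helE C⟩
      have hf : Function.Bijective f := by
        refine ⟨fun C D h => Subtype.ext ?_, fun q => ?_⟩
        · have hm : (el C)⁻¹ * el D ∈ M.Q := by simpa [mem_subgroupOf] using QuotientGroup.eq.1 h
          exact M.acts_unique (sylow_len C.2.1) (sylow_len D.2.1) (M.acts_mul_Q (hel C) hm (sylow_len C.2.1))
            (hel D)
        · induction q using QuotientGroup.induction_on with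
          | H c =>
            obtain ⟨C, hC, h⟩ := hmem c.1 c.2
            refine ⟨⟨C, hC⟩, QuotientGroup.eq.2 ?_⟩
            rw [mem_subgroupOf]
            exact M.inv_mul_mem (hel ⟨C, hC⟩) h
      rw [← Nat.card_congr (Equiv.ofBijective f hf), Nat.card_coe_set_eq]
    · refine (Nat.card_congr (Equiv.ofBijective (fun a : ↥A => (⟨⟨M.toH a.1, a.2⟩, M.toH_mem a.1⟩ :
        ↥(M.Q.subgroupOf E))) ⟨fun a b h => ?_, fun c => ?_⟩)).symm
      · exact Subtype.ext (M.toH_injective (congrArg (fun u => u.1.1) h))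
      · obtain ⟨q, hq⟩ := M.toH_surj (mem_subgroupOf.1 c.2)
        exact ⟨⟨q, by show M.toH q ∈ E; rw [hq]; exact c.1.2⟩, Subtype.ext (Subtype.ext hq)⟩
  have hAc : Nat.card ↥A ≤ 128 := M.abelian_le fun a ha b hb =>
    M.toH_injective (by rw [map_mul, map_mul]; exact hcomm _ ha _ hb)
  have hB32 := hB.card_le
  have hB16 : 16 ≤ B.ncard := by nlinarith
  have hA64 : 64 ≤ Nat.card ↥A := by nlinarith
  have hfixA : ∀ x ∈ A, ∀ g ∈ B, app g (M.vec x) = M.vec x := by
    rintro x hx g ⟨-, c, hcE, hc'⟩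
    rw [← hc' x]
    congr 1
    refine (M.cfix_comm x).2 ?_
    exact congrArg Subtype.val (hcomm c hcE _ hx)
  have hS : ElemSub B := by
    refine { toElemBase := hB, fix := fun s hs => ?_ }
    have : Nat.card ↥A ≤ 2 * s.card := by
      haveI : Fintype ↥A := Fintype.ofFinite _
      rw [Nat.card_eq_fintype_card, ← Finset.card_univ, mul_comm]
      refine le_trans (Finset.card_le_mul_card_image (f := fun x : ↥A => M.vec x.1) _ 2 fun n _ => ?_) ?_
      · by_contra hne
        obtain ⟨a, b, c, ha, hb, hc', hab, hac, hbc⟩ := Finset.two_lt_card_iff.1 (not_le.1 hne)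
        simp only [Finset.mem_filter, Finset.mem_univ, true_and] at ha hb hc'
        rcases M.vec_eq_iff.1 (ha.trans hb.symm) with h | h
        · exact hab (Subtype.ext (Subtype.ext h.symm))
        rcases M.vec_eq_iff.1 (ha.trans hc'.symm) with h' | h'
        · exact hac (Subtype.ext (Subtype.ext h'.symm))
        exact hbc (Subtype.ext (Subtype.ext (h.trans h'.symm)))
      · refine (mul_comm 2 _).trans_le (Nat.mul_le_mul_right 2 (Finset.card_le_card fun n hn => ?_))
        obtain ⟨x, -, rfl⟩ := Finset.mem_image.1 hn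
        exact hs _ (M.vec_lt _) fun g hg => hfixA x.1 x.2 g hg
    omega
  obtain ⟨hBeq, hfix⟩ := hS.eq_big hB16
  obtain ⟨hsyl, -, -, hbinj, hidx⟩ := bEl_spec
  have hBel : ∀ C ∈ B, ∃ i < 16, C = bEl i := fun C hC => by
    rw [hBeq] at hC
    obtain ⟨k, hk, rfl⟩ := hC
    exact hidx k hk
  have hle : A ≤ M.aQ := fun x hx =>
    (bigW_iff _ (M.vec_lt x)).1 ((hfix _ (M.vec_lt x)).1 fun g hg => hfixA x hx g hg)
  have hB16' : B.ncard ≤ 16 := by
    have h1 : B ⊆ ↑((Finset.range 16).image bEl) := fun C hC => by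
      obtain ⟨i, hi, rfl⟩ := hBel C hC
      exact Finset.mem_coe.2 (Finset.mem_image_of_mem _ (Finset.mem_range.2 hi))
    refine (Set.ncard_le_ncard h1 (Finset.finite_toSet _)).trans ?_
    rw [Set.ncard_coe_finset]
    exact Finset.card_image_le.trans (Finset.card_range 16).le
  have hAeq : A = M.aQ := Subgroup.eq_of_le_of_card_ge hle (by rw [M.card_aQ]; nlinarith)
  refine ⟨by rw [hcard, hAeq, M.card_aQ]; nlinarith, hAeq, fun c hcE => ?_, fun i hi => ?_⟩
  · obtain ⟨C, hC, h⟩ := hmem c hcE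
    obtain ⟨i, hi, rfl⟩ := hBel C hC
    exact ⟨i, hi, h⟩
  · have hall : (↑((Finset.range 16).image bEl) : Set (List ℕ)) = B := by
      symm
      refine Set.eq_of_subset_of_ncard_le (fun C hC => ?_) ?_ (Finset.finite_toSet _)
      · obtain ⟨j, hj, rfl⟩ := hBel C hC
        exact Finset.mem_coe.2 (Finset.mem_image_of_mem _ (Finset.mem_range.2 hj))
      · rw [Set.ncard_coe_finset]
        exact (Finset.card_image_le.trans (Finset.card_range 16).le).trans hB16
    have hi' : bEl i ∈ B := hall ▸ Finset.mem_coe.2 (Finset.mem_image_of_mem _ (Finset.mem_range.2 hi))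
    exact hi'.2

end Unique

/-- Any two elementary subgroups of order at least 2^11 in the Sylow subgroup are equal. -/
theorem big_le {E F : Subgroup ↥(centralizer ({z} : Set G))} (hE : E ≤ M.syl) (h2 : ∀ a ∈ E, a * a = 1)
    (hc : 2048 ≤ Nat.card ↥E) (hF : F ≤ M.syl) (h2' : ∀ a ∈ F, a * a = 1) (hc' : 2048 ≤ Nat.card ↥F) :
    F ≤ E := by
  obtain ⟨-, hAE, -, hsE⟩ := M.big_shape hE h2 hc
  obtain ⟨-, hAF, hmF, -⟩ := M.big_shape hF h2' hc'
  intro f hf
  obtain ⟨i, hi, hfi⟩ := hmF f hf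
  obtain ⟨e, he, hei⟩ := hsE i hi
  obtain ⟨q, hq⟩ := M.toH_surj (M.inv_mul_mem hei hfi)
  have hcm : ∀ (S : Subgroup ↥(centralizer ({z} : Set G))), (∀ a ∈ S, a * a = 1) →
      ∀ a ∈ S, ∀ b ∈ S, Commute a b := fun S hS a ha b hb => by
    have hi : ∀ c ∈ S, c⁻¹ = c := fun c hc => inv_eq_of_mul_eq_one_right (hS c hc)
    calc a * b = (a * b)⁻¹ := (hi _ (mul_mem ha hb)).symm
      _ = b * a := by rw [_root_.mul_inv_rev, hi a ha, hi b hb]
  have hqA : q ∈ M.aQ := M.mem_aQ_of_comm fun a ha => M.toH_injective (by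
    rw [map_mul, map_mul, hq]
    exact ((hcm E h2 e he _ (show a ∈ E.comap M.toH from hAE.symm ▸ ha)).inv_left.mul_left
      (hcm F h2' f hf _ (show a ∈ F.comap M.toH from hAF.symm ▸ ha))).eq)
  have : M.toH q ∈ E := show q ∈ E.comap M.toH from hAE.symm ▸ hqA
  rw [hq] at this
  simpa using mul_mem he this

end Model

end Cfsg.Agent.JankoFour
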