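import Cfsg.Agent.Lib.JankoFour.BigExists

/-!
The large elementary abelian subgroup is self-centralising, unique in each 2-subgroup containing it, and its
normaliser controls fusion in it; the Sylow subgroup of the centraliser is a Sylow subgroup of the group.
-/

set_option autoImplicit false
set_option linter.unusedSectionVars false

namespace Cfsg.Agent.JankoFour

open Subgroup
open Cfsg.Agent.LargeFischer (Ctx QG)
open Cfsg.Agent.J4Module (app)
open Cfsg.Agent.J4Module.Data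
open Big
open scoped Pointwise

namespace Model

variable {G : Type*} [Group G] [Finite G] {z : G} {P : Subgroup G} (M : Model z P)

/-- The large elementary abelian subgroup of the group. -/
def vG : Subgroup G := M.vH.map (centralizer ({z} : Set G)).subtype

theorem vG_le : M.vG ≤ centralizer ({z} : Set G) := map_subtype_le _

theorem mem_vG {c : ↥(centralizer ({z} : Set G))} : (c : G) ∈ M.vG ↔ c ∈ M.vH :=
  ⟨fun ⟨d, hd, e⟩ => Subtype.ext (e : (d : G) = c) ▸ hd, fun h => ⟨c, h, rfl⟩⟩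

theorem vG_sq : ∀ a ∈ M.vG, a * a = 1 := by
  rintro _ ⟨a, ha, rfl⟩
  exact congrArg Subtype.val (M.vH_sq a ha)

theorem vG_card : Nat.card ↥M.vG = 2048 := by
  rw [vG, card_map_of_injective (centralizer ({z} : Set G)).subtype_injective, M.vH_card]

theorem z_mem_vG : z ∈ M.vG := ⟨_, M.toH_vH M.zQ_aQ, rfl⟩

theorem vG_comm {a b : G} (ha : a ∈ M.vG) (hb : b ∈ M.vG) : a * b = b * a := by
  have hi : ∀ c ∈ M.vG, c⁻¹ = c := fun c hc => inv_eq_of_mul_eq_one_right (M.vG_sq c hc)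
  calc a * b = (a * b)⁻¹ := (hi _ (mul_mem ha hb)).symm
    _ = b * a := by rw [_root_.mul_inv_rev, hi a ha, hi b hb]

theorem sylow_of_cent : ∃ S : Sylow 2 G, (S : Subgroup G) = M.syl.map (centralizer ({z} : Set G)).subtype := by
  haveI : Fact (Nat.Prime 2) := ⟨Nat.prime_two⟩
  set T' := M.syl.map (centralizer ({z} : Set G)).subtype with hT'
  obtain ⟨S, hS⟩ := (M.syl_isPGroup.map (centralizer ({z} : Set G)).subtype).exists_le_sylow
  refine ⟨S, le_antisymm ?_ hS⟩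
  haveI : Group.IsNilpotent ↥(S : Subgroup G) := S.isPGroup'.isNilpotent
  by_contra hne
  have hlt : T'.subgroupOf (S : Subgroup G) < ⊤ := lt_top_iff_ne_top.2 fun e => hne (subgroupOf_eq_top.1 e)
  obtain ⟨n, hn, hnT⟩ := SetLike.exists_of_lt (Group.normalizerCondition_of_isNilpotent _ hlt)
  have hQT : QG M.Q ≤ T' := map_mono M.Q_le_syl
  have hnorm : ∀ a : G, a ∈ T' ↔ n.1 * a * n.1⁻¹ ∈ T' := by
    intro a
    constructor
    · intro ha
      exact mem_subgroupOf.1 ((Subgroup.mem_normalizer_iff.1 hn ⟨a, hS ha⟩).1 (mem_subgroupOf.2 ha))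
    · intro ha
      have haS : a ∈ (S : Subgroup G) := by
        have := mul_mem (mul_mem (inv_mem n.2) (hS ha)) n.2
        rwa [show n.1⁻¹ * (n.1 * a * n.1⁻¹) * n.1 = a by group] at this
      exact mem_subgroupOf.1 ((Subgroup.mem_normalizer_iff.1 hn ⟨a, haS⟩).2 (mem_subgroupOf.2 ha))
  have hzc : n.1 * z * n.1⁻¹ = z := by
    have hzT := (hnorm z).1 (hQT M.ctx.xs.mem)
    have hcen : ∀ t ∈ T', n.1 * z * n.1⁻¹ * t = t * (n.1 * z * n.1⁻¹) := fun t ht => by
      have h1 : n.1⁻¹ * t * n.1 ∈ T' :=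
        (hnorm _).2 (by rw [show n.1 * (n.1⁻¹ * t * n.1) * n.1⁻¹ = t by group]; exact ht)
      obtain ⟨t', -, e⟩ := h1
      have h2 : n.1⁻¹ * t * n.1 * z = z * (n.1⁻¹ * t * n.1) := by
        rw [← e]; exact mem_centralizer_singleton_iff.1 t'.2
      calc n.1 * z * n.1⁻¹ * t = n.1 * (z * (n.1⁻¹ * t * n.1)) * n.1⁻¹ := by group
        _ = n.1 * (n.1⁻¹ * t * n.1 * z) * n.1⁻¹ := by rw [h2]
        _ = t * (n.1 * z * n.1⁻¹) := by group
    obtain ⟨c, -, e⟩ := hzT
    have hcQ := M.ctx.ker c.1 c.2 fun x hx => by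
      rw [show (c : G) = n.1 * z * n.1⁻¹ from e]; exact hcen x (hQT hx)
    rw [show (c : G) = n.1 * z * n.1⁻¹ from e] at hcQ
    rcases M.ctx.xs.eq_of_central hcQ fun r hr => hcen r (hQT hr) with h | h
    · exact absurd (conj_eq_one_iff.1 h) M.ctx.xs.ne_one
    · exact h
  have hnC : n.1 ∈ centralizer ({z} : Set G) := mem_centralizer_singleton_iff.2 (mul_inv_eq_iff_eq_mul.1 hzc)
  have hP : IsPGroup 2 ↥((S : Subgroup G).subgroupOf (centralizer ({z} : Set G))) :=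
    S.isPGroup'.comap_of_injective _ (centralizer ({z} : Set G)).subtype_injective
  have heq := M.sylS.is_maximal' hP (fun t ht => mem_subgroupOf.2 (hS ⟨t, ht, rfl⟩))
  exact hnT (mem_subgroupOf.2 ⟨⟨n.1, hnC⟩, heq.le (mem_subgroupOf.2 n.2), rfl⟩)

theorem eq_vG_of_le {F : Subgroup G} (hF : F ≤ M.syl.map (centralizer ({z} : Set G)).subtype)
    (h2 : ∀ a ∈ F, a * a = 1) (hc : 2048 ≤ Nat.card ↥F) : F = M.vG := by
  have hC : F ≤ centralizer ({z} : Set G) := hF.trans (map_subtype_le _)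
  have h := M.vH_unique (E := F.subgroupOf (centralizer ({z} : Set G)))
    (fun a ha => by
      obtain ⟨t, ht, e⟩ := hF (mem_subgroupOf.1 ha)
      exact (show t = a from Subtype.ext e) ▸ ht)
    (fun a ha => Subtype.ext (h2 _ (mem_subgroupOf.1 ha)))
    (by rwa [Nat.card_congr (subgroupOfEquivOfLe hC).toEquiv])
  rw [vG, ← h, map_subgroupOf_eq_of_le hC]

/-- The large subgroup is conjugate to every elementary subgroup of its order in a given 2-subgroup. -/
theorem exists_conj_le {R : Subgroup G} (hR : IsPGroup 2 ↥R) : ∃ g : G, ∀ F ≤ R, (∀ a ∈ F, a * a = 1) →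
    2048 ≤ Nat.card ↥F → F.map (MulAut.conj g).toMonoidHom = M.vG := by
  haveI : Fact (Nat.Prime 2) := ⟨Nat.prime_two⟩
  obtain ⟨S, hS⟩ := M.sylow_of_cent
  obtain ⟨S', hS'⟩ := hR.exists_le_sylow
  obtain ⟨g, hg⟩ := MulAction.exists_smul_eq G S' S
  refine ⟨g, fun F hFR hF2 hFc => M.eq_vG_of_le ?_ ?_ ?_⟩
  · rw [← hS, ← hg]
    rintro _ ⟨a, ha, rfl⟩
    rw [Sylow.coe_subgroup_smul, Subgroup.mem_pointwise_smul_iff_inv_smul_mem]
    show (MulAut.conj g)⁻¹ (MulAut.conj g a) ∈ (S' : Subgroup G)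
    rw [MulAut.inv_apply_self]
    exact hS' (hFR ha)
  · rintro _ ⟨b, hb, rfl⟩
    rw [← map_mul, hF2 b hb, map_one]
  · rw [card_map_of_injective (MulAut.conj g).injective]
    exact hFc

theorem unique_vG {R E : Subgroup G} (hR : IsPGroup 2 ↥R) (hV : M.vG ≤ R) (hE : E ≤ R)
    (hE2 : ∀ a ∈ E, a * a = 1) (hc : 2048 ≤ Nat.card ↥E) : E = M.vG := by
  obtain ⟨g, hg⟩ := M.exists_conj_le hR
  exact map_injective (MulAut.conj g).injective
    ((hg E hE hE2 hc).trans (hg _ hV M.vG_sq M.vG_card.ge).symm)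

theorem unique_elem {R E : Subgroup G} (hR : IsPGroup 2 ↥R) (hV : M.vG ≤ R) (hE : E ≤ R)
    (hel : Cfsg.IsElementaryAbelian 2 E) (hc : Nat.card ↥E = 2048) : E = M.vG :=
  M.unique_vG hR hV hE (fun a ha => by
    rw [← pow_two]; exact hel.2 a ha) hc.ge

theorem conjugate_vG (E : Subgroup G) (hel : Cfsg.IsElementaryAbelian 2 E) (hc : Nat.card ↥E = 2048) :
    ∃ g : G, E = M.vG.map (MulAut.conj g).toMonoidHom := by
  haveI : Fact (Nat.Prime 2) := ⟨Nat.prime_two⟩
  obtain ⟨g, hg⟩ := M.exists_conj_le (IsPGroup.of_card (n := 11) (show Nat.card ↥E = 2 ^ 11 by rw [hc]; norm_num))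
  refine ⟨g⁻¹, ?_⟩
  rw [← hg E le_rfl (fun a ha => by rw [← pow_two]; exact hel.2 a ha) hc.ge,
    Subgroup.map_map]
  convert (map_id E).symm using 2
  ext x
  simp [mul_assoc]

theorem mem_aQ_of_cent {c : ↥(centralizer ({z} : Set G))} (hc : (c : G) ∈ centralizer (M.vG : Set G))
    {a : ↥(QG M.Q)} (ha : a ∈ M.aQ) : c * M.toH a = M.toH a * c :=
  Subtype.ext (mem_centralizer_iff.1 hc _ (M.mem_vG.2 (M.toH_vH ha))).symm

theorem centralizer_vG : centralizer (M.vG : Set G) = M.vG := by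
  haveI : Fact (Nat.Prime 2) := ⟨Nat.prime_two⟩
  haveI := M.normal
  refine le_antisymm (fun g hg => ?_) fun a ha => mem_centralizer_iff.2 fun b hb => M.vG_comm hb ha
  set K := (centralizer (M.vG : Set G)).subgroupOf (centralizer ({z} : Set G)) with hK
  have hgz : g ∈ centralizer ({z} : Set G) :=
    mem_centralizer_singleton_iff.2 (mem_centralizer_iff.1 hg z M.z_mem_vG).symm
  have hKp : IsPGroup 2 ↥K := by
    rintro ⟨k, hk⟩
    refine ⟨2, Subtype.ext ?_⟩
    show k ^ 2 ^ 2 = 1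
    have hk' : ∀ a ∈ M.aQ, k * M.toH a = M.toH a * k := fun a ha => M.mem_aQ_of_cent (mem_subgroupOf.1 hk) ha
    have hfix : ∀ a ∈ M.aQ, M.ctx.conjQ k a = a := fun a ha => (M.cfix_comm a).2 (congrArg Subtype.val (hk' a ha))
    have hkk : ∀ x, M.ctx.conjQ (k * k) x = x := fun x => by
      set a := M.ctx.conjQ k x * x⁻¹ with ha
      have haA : a ∈ M.aQ := M.mem_aQ_of_comm fun b hb => by
        have h1 : M.ctx.conjQ k (x * b * x⁻¹ * b⁻¹) = x * b * x⁻¹ * b⁻¹ := by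
          refine hfix _ (mul_mem ?_ (inv_mem hb))
          rcases M.ctx.xs.conj_cases x.2 b.2 with e | e
          · rw [show x * b * x⁻¹ = b from Subtype.ext e]; exact hb
          · rw [show x * b * x⁻¹ = b * M.zQ from Subtype.ext e]; exact mul_mem hb M.zQ_aQ
        rw [map_mul, map_mul, map_mul, map_inv, map_inv, hfix b hb] at h1
        have h2 : M.ctx.conjQ k x * b * (M.ctx.conjQ k x)⁻¹ = x * b * x⁻¹ := mul_right_cancel h1
        have h4 : M.ctx.conjQ k x = a * x := by rw [ha, inv_mul_cancel_right]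
        rw [h4, _root_.mul_inv_rev] at h2
        have hz' : ∀ u : ↥(QG M.Q), u * M.zQ = M.zQ * u := fun u => Subtype.ext (M.ctx.xs.comm u.2)
        have h6 : a * (x * b * x⁻¹) = x * b * x⁻¹ * a := by
          calc a * (x * b * x⁻¹) = a * x * b * (x⁻¹ * a⁻¹) * a := by group
            _ = _ := by rw [h2]
        rcases M.ctx.xs.conj_cases x.2 b.2 with e | e
        · rwa [show x * b * x⁻¹ = b from Subtype.ext e] at h6
        · rw [show x * b * x⁻¹ = b * M.zQ from Subtype.ext e, ← mul_assoc, mul_assoc b, ← hz' a, ← mul_assoc] at h6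
          exact mul_right_cancel h6
      have h5 : M.ctx.conjQ k x = a * x := by rw [ha, inv_mul_cancel_right]
      rw [M.ctx.conjQ_mul, h5, map_mul, hfix a haA, h5, ← mul_assoc, M.aQ_sq haA, one_mul]
    have hco : ∀ x ∈ QG M.Q, (k * k : ↥(centralizer ({z} : Set G))).1 * x = x * (k * k).1 := fun x hx =>
      congrArg id ((M.cfix_comm ⟨x, hx⟩).1 (hkk ⟨x, hx⟩))
    have hQ := M.ctx.ker _ (k * k).2 hco
    rcases M.ctx.xs.eq_of_central hQ hco with h | h
    · rw [show (2 : ℕ) ^ 2 = 2 + 2 from rfl, pow_add, pow_two,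
        show k * k = 1 from Subtype.ext h, one_mul]
    · rw [show (2 : ℕ) ^ 2 = 2 + 2 from rfl, pow_add, pow_two]
      exact Subtype.ext (by
        show (k * k).1 * (k * k).1 = 1
        rw [h, M.ctx.xs.sq])
  have hnorm : M.syl ≤ normalizer (K : Set ↥(centralizer ({z} : Set G))) := fun t ht => by
    have hcj : ∀ t ∈ M.syl, ∀ k ∈ K, t * k * t⁻¹ ∈ K := by
      intro t ht k hk
      refine mem_subgroupOf.2 (mem_centralizer_iff.2 ?_)
      rintro _ ⟨v, hv, rfl⟩
      have hv' : t⁻¹ * v * t ∈ M.vH := by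
        have := (Subgroup.mem_normalizer_iff.1 (inv_mem (M.syl_normalizes ht)) v).1 hv
        simpa using this
      have hc : t⁻¹ * v * t * k = k * (t⁻¹ * v * t) :=
        Subtype.ext (mem_centralizer_iff.1 (mem_subgroupOf.1 hk) _ (M.mem_vG.2 hv'))
      have : v * (t * k * t⁻¹) = t * k * t⁻¹ * v := by
        calc v * (t * k * t⁻¹) = t * (t⁻¹ * v * t * k) * t⁻¹ := by group
          _ = _ := by rw [hc]; group
      exact congrArg Subtype.val this
    refine Subgroup.mem_normalizer_iff.2 fun x => ⟨hcj t ht x, fun hx => ?_⟩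
    simpa [mul_assoc] using hcj t⁻¹ (inv_mem ht) _ hx
  have hsup : IsPGroup 2 ↥(M.syl ⊔ K) := M.syl_isPGroup.to_sup_of_normal_right' hKp hnorm
  have hKle : K ≤ M.syl := (le_sup_right).trans (M.sylS.is_maximal' hsup le_sup_left).le
  obtain ⟨C, hC, hca⟩ := hKle (mem_subgroupOf.2 hg : (⟨g, hgz⟩ : ↥(centralizer ({z} : Set G))) ∈ K)
  have hfixW : ∀ n ∈ bigW, app C n = n := fun n hn => by
    obtain ⟨a, rfl⟩ := M.vec_surj n (bigW_spec.2.1 n hn)
    rw [← hca a]
    exact congrArg M.vec ((M.cfix_comm a).2 (congrArg Subtype.val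
      (M.mem_aQ_of_cent (c := ⟨g, hgz⟩) hg (M.mem_aQ.2 hn))))
  obtain ⟨i, hi, rfl⟩ := sylow_fix_W C hC hfixW
  obtain ⟨l, hl, hla⟩ := M.exists_lift_bP hi
  obtain ⟨q, hq⟩ := M.toH_surj (M.inv_mul_mem hla hca)
  have hqA : q ∈ M.aQ := M.mem_aQ_of_comm fun a ha => M.toH_injective (by
    rw [map_mul, map_mul, hq]
    exact ((show Commute l (M.toH a) from M.bP_comm_aQ hl ha).inv_left.mul_left
      (show Commute (⟨g, hgz⟩ : ↥(centralizer ({z} : Set G))) (M.toH a) from M.mem_aQ_of_cent hg ha)).eq)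
  have := mul_mem (M.bP_le_vH hl) (M.toH_vH hqA)
  rw [hq, mul_inv_cancel_left] at this
  exact ⟨_, this, rfl⟩

/-- The normaliser controls fusion in the large subgroup. -/
theorem fusion_vG {a : G} (ha : a ∈ M.vG) (g : G) (hga : g * a * g⁻¹ ∈ M.vG) :
    ∃ m ∈ normalizer (M.vG : Set G), m * a * m⁻¹ = g * a * g⁻¹ := by
  haveI : Fact (Nat.Prime 2) := ⟨Nat.prime_two⟩
  set Y := centralizer ({a} : Set G) with hY
  set B := M.vG.map (MulAut.conj g⁻¹).toMonoidHom with hB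
  have hAY : M.vG ≤ Y := fun x hx => mem_centralizer_singleton_iff.2 (M.vG_comm hx ha)
  have hBY : B ≤ Y := by
    rintro _ ⟨x, hx, rfl⟩
    refine mem_centralizer_singleton_iff.2 ?_
    show g⁻¹ * x * g⁻¹⁻¹ * a = a * (g⁻¹ * x * g⁻¹⁻¹)
    have := M.vG_comm hx hga
    calc g⁻¹ * x * g⁻¹⁻¹ * a = g⁻¹ * (x * (g * a * g⁻¹)) * g := by group
      _ = g⁻¹ * (g * a * g⁻¹ * x) * g := by rw [this]
      _ = a * (g⁻¹ * x * g⁻¹⁻¹) := by group
  have hAp : IsPGroup 2 ↥(M.vG.subgroupOf Y) := IsPGroup.of_card (n := 11) (by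
    rw [Nat.card_congr (subgroupOfEquivOfLe hAY).toEquiv, M.vG_card]; norm_num)
  have hcB : Nat.card ↥B = 2048 := by rw [card_map_of_injective (MulAut.conj g⁻¹).injective, M.vG_card]
  have hBp : IsPGroup 2 ↥(B.subgroupOf Y) := IsPGroup.of_card (n := 11) (by
    rw [Nat.card_congr (subgroupOfEquivOfLe hBY).toEquiv, hcB]; norm_num)
  obtain ⟨R, hR⟩ := hAp.exists_le_sylow
  obtain ⟨R', hR'⟩ := hBp.exists_le_sylow
  obtain ⟨h, hh⟩ := MulAction.exists_smul_eq ↥Y R' R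
  set E := B.map (MulAut.conj h.1).toMonoidHom with hE
  have heq : E = M.vG := by
    refine M.unique_vG (R := (R : Subgroup ↥Y).map Y.subtype) (R.isPGroup'.map _)
      (fun x hx => ⟨⟨x, hAY hx⟩, hR (mem_subgroupOf.2 hx), rfl⟩) ?_ ?_ ?_
    · rintro _ ⟨x, hx, rfl⟩
      refine ⟨h * ⟨x, hBY hx⟩ * h⁻¹, ?_, rfl⟩
      rw [← hh, Sylow.coe_subgroup_smul, SetLike.mem_coe, Subgroup.mem_pointwise_smul_iff_inv_smul_mem]
      show (MulAut.conj h)⁻¹ (MulAut.conj h ⟨x, hBY hx⟩) ∈ (R' : Subgroup ↥Y)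
      rw [MulAut.inv_apply_self]
      exact hR' (mem_subgroupOf.2 hx)
    · rintro _ ⟨_, ⟨y, hy, rfl⟩, rfl⟩
      rw [← map_mul, ← map_mul, M.vG_sq y hy, map_one, map_one]
    · rw [card_map_of_injective (MulAut.conj h.1).injective, hcB]
  refine ⟨g * h.1⁻¹, ?_, ?_⟩
  · have e2 : M.vG.map (MulAut.conj (h.1 * g⁻¹)).toMonoidHom = M.vG := by
      conv_rhs => rw [← heq, hE, hB, Subgroup.map_map]
      congr 1
      ext x
      simp [mul_assoc]
    have hn : h.1 * g⁻¹ ∈ normalizer (M.vG : Set G) := by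
      refine Subgroup.mem_normalizer_iff.2 fun x => ⟨fun hx => e2.le ⟨x, hx, rfl⟩, fun hx => ?_⟩
      obtain ⟨y, hy, e⟩ := e2.ge hx
      exact (MulAut.conj (h.1 * g⁻¹)).injective
        (show MulAut.conj (h.1 * g⁻¹) y = MulAut.conj (h.1 * g⁻¹) x from e) ▸ hy
    have := inv_mem hn
    rwa [_root_.mul_inv_rev, inv_inv] at this
  · have hc' : h.1 * a = a * h.1 := mem_centralizer_singleton_iff.1 h.2
    calc g * h.1⁻¹ * a * (g * h.1⁻¹)⁻¹ = g * (h.1⁻¹ * (a * h.1)) * g⁻¹ := by group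
      _ = g * (h.1⁻¹ * (h.1 * a)) * g⁻¹ := by rw [hc']
      _ = g * a * g⁻¹ := by group

end Model

end Cfsg.Agent.JankoFour
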