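import Cfsg.Agent.Lib.JankoFour.BigData
import Cfsg.Agent.Lib.JankoFour.BigFusion

/-!
The data of the large elementary abelian subgroup exist.
-/

set_option autoImplicit false

namespace Cfsg.Agent.JankoFour

open Subgroup
open Cfsg.Agent.LargeFischer (QG)
open Cfsg.Agent.J4Module (elemI)
open Cfsg.Agent.J4Module.Data
open Big
open scoped Pointwise

namespace Big

theorem bEl_elemI : ∀ i < 16, ∃ j ∈ 71 :: bigIdx, bEl i = elemI j := by decide +kernel

theorem elemI_InK0 {j : ℕ} (hj : j ∈ 71 :: bigIdx) : InK0 (elemI j) := by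
  obtain ⟨i, hi, e⟩ := bEl_spec.2.2.2.2 j hj
  exact e ▸ bEl_InK0 hi

theorem elemI_sylow {j : ℕ} (hj : j ≤ 71) : elemI j ∈ sylow := by
  revert j
  decide +kernel

end Big

namespace Model

variable {G : Type*} [Group G] [Finite G] {z : G} {P : Subgroup G} (M : Model z P)

theorem mem_vG_Q (x : ↥(QG M.Q)) : (x : G) ∈ M.vG ↔ x ∈ M.aQ := by
  obtain ⟨-, hA, -, -⟩ := M.big_shape M.vH_le M.vH_sq M.vH_card_ge
  rw [show (x : G) = ((M.toH x : ↥(centralizer ({z} : Set G))) : G) from rfl, M.mem_vG, ← hA]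
  rfl

/-- The data of the large abelian subgroup. -/
noncomputable def bigData : BigData M where
  V := M.vG
  le_cent := M.vG_le
  sq := M.vG_sq
  card := M.vG_card
  z_mem := M.z_mem_vG
  cent := M.centralizer_vG
  inf_Q x := (M.mem_vG_Q x).trans (bigW_iff _ (M.vec_lt x)).symm
  img c hc := by
    obtain ⟨-, -, h, -⟩ := M.big_shape M.vH_le M.vH_sq M.vH_card_ge
    obtain ⟨i, hi, hci⟩ := h c (M.mem_vG.1 hc)
    obtain ⟨j, hj, e⟩ := bEl_elemI i hi
    exact ⟨j, hj, e ▸ hci⟩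
  img_onto i hi := by
    obtain ⟨j, hj, e⟩ := bEl_spec.2.2.2.2 i hi
    obtain ⟨l, hl, hla⟩ := M.exists_lift_bP hj
    exact ⟨l, M.mem_vG.2 (M.bP_le_vH hl), e ▸ hla⟩
  unique _ _ hR hV hE hel hc := M.unique_elem hR hV hE hel hc
  conjugate := M.conjugate_vG
  fusion _ ha g hga := M.fusion_vG ha g hga

theorem sylow_InL0' {c : ↥(centralizer ({z} : Set G))} (hc : c ∈ M.syl) : ∃ C ∈ sylow, InL0 C ∧ M.Acts c C := by
  obtain ⟨C, hC, h⟩ := hc
  exact ⟨C, hC, sylow_InL0 hC, h⟩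

/-- Every 2-subgroup of the centraliser is conjugate into the tabulated Sylow subgroup. -/
theorem exists_conj_sylow {T : Subgroup ↥(centralizer ({z} : Set G))} (hT : IsPGroup 2 ↥T) :
    ∃ h : ↥(centralizer ({z} : Set G)), ∀ t ∈ T, ∃ C ∈ sylow, InL0 C ∧ M.Acts (h * t * h⁻¹) C := by
  haveI : Fact (Nat.Prime 2) := ⟨Nat.prime_two⟩
  obtain ⟨R, hR⟩ := hT.exists_le_sylow
  obtain ⟨h, hh⟩ := MulAction.exists_smul_eq ↥(centralizer ({z} : Set G)) R M.sylS
  refine ⟨h, fun t ht => M.sylow_InL0' ?_⟩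
  rw [← M.sylS_coe, ← hh, Sylow.coe_subgroup_smul, Subgroup.mem_pointwise_smul_iff_inv_smul_mem]
  show (MulAut.conj h)⁻¹ (MulAut.conj h t) ∈ (R : Subgroup ↥(centralizer ({z} : Set G)))
  rw [MulAut.inv_apply_self]
  exact hR ht

theorem exists_bigData : Nonempty (BigData M) := ⟨M.bigData⟩

end Model

end Cfsg.Agent.JankoFour
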