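import Cfsg.Agent.Lib.JankoFour.Build

/-!
Elements given by columns: the centraliser of P gives exactly the linear part, the elements inverting P act as
the semilinear involution times a linear element.
-/

set_option autoImplicit false
set_option linter.style.haveILetI false
set_option linter.unusedSectionVars false

namespace Cfsg.Agent.JankoFour

open Subgroup
open Cfsg.Agent.LargeFischer (Ctx QG VQ mkV mkV_surjective)
open Cfsg.Agent.J4Module (app phi Rep IsModel gen mask of_chunks)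
open Cfsg.Agent.J4Module.Data

variable {G : Type*} [Group G] [Finite G] {z : G} {P : Subgroup G}

theorem gens_lt : ∀ g ∈ gensL, ∀ c ∈ g, c < 2 ^ 12 := by decide +kernel

theorem gensK_sub {g : List ℕ} (hg : g ∈ gensK) : g ∈ gensL := by
  simp only [gensK, gensL, List.mem_cons, List.not_mem_nil, or_false] at hg ⊢
  tauto

theorem gen_mono {C : List ℕ} (h : InK0 C) : InL0 C := by
  induction h with
  | one => exact Gen.one
  | mul hg _ ih => exact Gen.mul (gensK_sub hg) ih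

theorem app_gen_lt {g : List ℕ} (hg : g ∈ gensL) (n : ℕ) : app g n < 4096 := J4Module.app_lt (gens_lt g hg) n

theorem gen_app_lt {C : List ℕ} (h : InL0 C) (n : ℕ) : app C n < 4096 := by
  induction h with
  | one => exact J4Module.app_lt (k := 12) (C := unitC) (by decide) n
  | mul hg _ ih => rw [app_mulC]; exact app_gen_lt hg _

namespace Shape

/-- Coordinates in which the generators act by their tables. -/
structure Coords (S : Shape z P) where
  L : S.Lifts
  b : List (VQ S.Q)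
  inj : ∀ m < 4096, ∀ n < 4096, phi b m = phi b n → m = n
  surj : ∀ w, ∃ n < 4096, phi b n = w
  /-- A generator of P acting by the table of the scalar. -/
  pElem : ↥(centralizer ({z} : Set G))
  p_lift : S.Lift 1 pElem
  p_zp : zpowers (pElem : G) = P
  p_pow : ∃ i, S.rho pElem = S.pi1 ^ i
  pi1_pow : ∃ i, S.pi1 = S.rho pElem ^ i
  hx : ∀ n, S.rho L.x (phi b n) = phi b (app xC n)
  hy : ∀ n, S.rho L.y (phi b n) = phi b (app yC n)
  hf : ∀ n, S.rho L.f (phi b n) = phi b (app fC n)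
  hp : ∀ n, S.rho pElem (phi b n) = phi b (app pC n)

theorem exists_coords (S : Shape z P) : Nonempty S.Coords := by
  obtain ⟨L⟩ := S.exists_lifts
  obtain ⟨b, hb⟩ := L.rep.exists_model
  rcases hb.hp with h | h
  · exact ⟨⟨L, b, hb.inj, hb.surj, S.pH, S.lift_p, S.p_gen, ⟨1, (pow_one _).symm⟩, ⟨1, (pow_one _).symm⟩,
      hb.hx, hb.hy, hb.hf, h⟩⟩
  · refine ⟨⟨L, b, hb.inj, hb.surj, S.pH ^ 2, by simpa using S.lift_pow S.lift_p 2, ?_, ⟨2, map_pow _ _ _⟩,
      ⟨2, ?_⟩, hb.hx, hb.hy, hb.hf, fun n => ?_⟩⟩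
    · refine le_antisymm (zpowers_le.2 (pow_mem S.p_memP 2)) (S.p_gen.ge.trans (zpowers_le.2 ?_))
      refine ⟨2, ?_⟩
      show (S.p ^ 2) ^ (2 : ℤ) = S.p
      rw [show (2 : ℤ) = ((2 : ℕ) : ℤ) from rfl, zpow_natCast, ← pow_mul, show 2 * 2 = 3 + 1 by rfl, pow_add,
        ← S.p_order, pow_orderOf_eq_one, one_mul, pow_one]
    · rw [map_pow, ← pow_mul, show 2 * 2 = 3 + 1 by rfl, pow_add, S.pi1_cube, one_mul, pow_one]
    · have h2 := J4Module.comp_cols S.ctx.two h h n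
      rw [show p2C.map (app p2C) = pC from J4Module.p2_cols] at h2
      rw [map_pow, pow_two]
      exact h2

namespace Coords

variable {S : Shape z P} (K : S.Coords)

/-- An element acts by the given columns. -/
def Rel (c : ↥(centralizer ({z} : Set G))) (C : List ℕ) : Prop :=
  ∀ n < 4096, S.rho c (phi K.b n) = phi K.b (app C n)

theorem rel_one : K.Rel 1 unitC := fun n hn => by rw [map_one, app_unitC n hn]; rfl

theorem rel_mul {c d : ↥(centralizer ({z} : Set G))} {C D : List ℕ} (hc : K.Rel c C) (hd : K.Rel d D)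
    (hD : InL0 D) : K.Rel (c * d) (mulC C D) := fun n hn => by
  rw [map_mul, Equiv.Perm.mul_apply, hd n hn, hc _ (gen_app_lt hD n), app_mulC]

theorem rel_mul' {c d : ↥(centralizer ({z} : Set G))} {C D : List ℕ} (hc : K.Rel c C) (hd : K.Rel d D)
    (hD : ∀ n < 4096, app D n < 4096) : K.Rel (c * d) (mulC C D) := fun n hn => by
  rw [map_mul, Equiv.Perm.mul_apply, hd n hn, hc _ (hD n hn), app_mulC]

theorem gen_rel {g : List ℕ} (hg : g ∈ gensK) :
    ∃ c, (∃ m, S.Lift m c) ∧ K.Rel c g := by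
  simp only [gensK, List.mem_cons, List.not_mem_nil, or_false] at hg
  rcases hg with rfl | rfl | rfl | rfl
  · exact ⟨K.L.x, ⟨_, K.L.hx⟩, fun n _ => K.hx n⟩
  · exact ⟨K.L.y, ⟨_, K.L.hy⟩, fun n _ => K.hy n⟩
  · exact ⟨K.L.f, ⟨_, K.L.hf⟩, fun n _ => K.hf n⟩
  · exact ⟨K.pElem, ⟨_, K.p_lift⟩, fun n _ => K.hp n⟩

theorem exists_cent {C : List ℕ} (h : InK0 C) : ∃ c, (∃ m, S.Lift m c) ∧ K.Rel c C := by
  induction h with
  | one => exact ⟨1, ⟨1, S.lift_one⟩, K.rel_one⟩
  | @mul g C hg hC ih =>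
    obtain ⟨c, ⟨m, hm⟩, hc⟩ := ih
    obtain ⟨d, ⟨m', hm'⟩, hd⟩ := K.gen_rel hg
    exact ⟨d * c, ⟨_, S.lift_mul hm' hm⟩, K.rel_mul hd hc (gen_mono hC)⟩

theorem cent_cols (m : ↥Cfsg.Spor.M22) :
    ∀ c, S.Lift m c → ∃ C, InK0 C ∧ K.Rel c C := by
  have step : ∀ (g : ↥(centralizer ({z} : Set G))) (m0 : ↥Cfsg.Spor.M22) (T : List ℕ), T ∈ gensK →
      S.Lift m0 g → K.Rel g T → ∀ m, (∀ c, S.Lift m c → ∃ C, InK0 C ∧ K.Rel c C) →
      ∀ c, S.Lift (m0 * m) c → ∃ C, InK0 C ∧ K.Rel c C := by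
    intro g m0 T hT hg hgr m ih c hc
    obtain ⟨C, hC, hr⟩ := ih (g⁻¹ * c) (by simpa using S.lift_mul (S.lift_inv hg) hc)
    exact ⟨mulC T C, Gen.mul hT hC, by simpa using K.rel_mul hgr hr (gen_mono hC)⟩
  have stepN : ∀ (g : ↥(centralizer ({z} : Set G))) (m0 : ↥Cfsg.Spor.M22) (T : List ℕ), T ∈ gensK →
      S.Lift m0 g → K.Rel g T → ∀ k : ℕ, ∀ m, (∀ c, S.Lift m c → ∃ C, InK0 C ∧ K.Rel c C) →
      ∀ c, S.Lift (m0 ^ k * m) c → ∃ C, InK0 C ∧ K.Rel c C := by
    intro g m0 T hT hg hgr k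
    induction k with
    | zero => intro m hm; simpa using hm
    | succ k ih =>
      intro m hm
      rw [pow_succ', mul_assoc]
      exact step g m0 T hT hg hgr _ (ih m hm)
  have hm : m ∈ Subgroup.closure (Set.range gen) := J4Module.gen_closure ▸ mem_top m
  induction hm using Subgroup.closure_induction_left with
  | one =>
    intro c hc
    obtain ⟨i, hi, e⟩ := S.rho_lift_one hc
    obtain ⟨j, hj⟩ := K.pi1_pow
    rw [hj, ← pow_mul] at e
    have hpow : ∀ k : ℕ, ∃ C, InK0 C ∧ K.Rel (K.pElem ^ k) C := by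
      intro k
      induction k with
      | zero => exact ⟨unitC, Gen.one, by simpa using K.rel_one⟩
      | succ k ih =>
        obtain ⟨C, hC, hr⟩ := ih
        exact ⟨mulC pC C, Gen.mul (by simp [gensK]) hC,
          by rw [pow_succ']; exact K.rel_mul (fun n _ => K.hp n) hr (gen_mono hC)⟩
    obtain ⟨C, hC, hr⟩ := hpow (j * i)
    refine ⟨C, hC, fun n hn => ?_⟩
    rw [e, ← map_pow]
    exact hr n hn
  | mul_left g hg y _ ih =>
    obtain ⟨i, rfl⟩ := hg
    fin_cases i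
    · exact step K.L.x _ xC (by simp [gensK]) K.L.hx (fun n _ => K.hx n) y ih
    · exact step K.L.y _ yC (by simp [gensK]) K.L.hy (fun n _ => K.hy n) y ih
    · exact step K.L.f _ fC (by simp [gensK]) K.L.hf (fun n _ => K.hf n) y ih
  | inv_mul_cancel g hg y _ ih =>
    obtain ⟨i, rfl⟩ := hg
    fin_cases i
    · show ∀ c, S.Lift ((gen 0)⁻¹ * y) c → ∃ C, InK0 C ∧ K.Rel c C
      rw [show (gen 0)⁻¹ = gen 0 ^ 10 from inv_eq_of_mul_eq_one_right (by rw [← pow_succ', J4Module.gen_pow11])]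
      exact stepN K.L.x _ xC (by simp [gensK]) K.L.hx (fun n _ => K.hx n) 10 y ih
    · show ∀ c, S.Lift ((gen 1)⁻¹ * y) c → ∃ C, InK0 C ∧ K.Rel c C
      rw [show (gen 1)⁻¹ = gen 1 ^ 4 from inv_eq_of_mul_eq_one_right (by rw [← pow_succ', J4Module.gen_pow5])]
      exact stepN K.L.y _ yC (by simp [gensK]) K.L.hy (fun n _ => K.hy n) 4 y ih
    · show ∀ c, S.Lift ((gen 2)⁻¹ * y) c → ∃ C, InK0 C ∧ K.Rel c C
      rw [show (gen 2)⁻¹ = gen 2 ^ 3 from inv_eq_of_mul_eq_one_right (by rw [← pow_succ', J4Module.gen_pow4])]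
      exact stepN K.L.f _ fC (by simp [gensK]) K.L.hf (fun n _ => K.hf n) 3 y ih

end Coords

end Shape

end Cfsg.Agent.JankoFour
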