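import Cfsg.Agent.Lib.JankoFour.BigTables
import Cfsg.Agent.Lib.JankoFour.Cols
import Cfsg.Agent.Lib.J4Module.BigSubgroup

/-!
Decidable facts about the Sylow subgroup of the concrete group and the hexad subgroup.
-/

set_option autoImplicit false
set_option maxRecDepth 100000

namespace Cfsg.Agent.JankoFour.Big

open Cfsg.Agent.J4Module (app oneC elemI compC)
open Cfsg.Agent.J4Module.Data

/-- The product of a word. -/
def wordC (w : List ℕ) : List ℕ := w.foldr (fun k C => mulC (gensL.getD k unitC) C) unitC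

/-- An element of the hexad subgroup. -/
def bEl (i : ℕ) : List ℕ := (oneC :: bigIdx.map elemI).getD i oneC

/-- An element of the stabiliser of the hexad space. -/
def sEl (k : ℕ) : List ℕ := wordC (stabWords.getD k [])

/-- The permutation of the hexad subgroup. -/
def sPerm (k i : ℕ) : ℕ := (stabPerm.getD k []).getD i 0

theorem wordC_mem : ∀ {w : List ℕ}, (∀ k ∈ w, k < 5) → InL0 (wordC w)
  | [], _ => Gen.one
  | k :: w, h => by
    refine Gen.mul (g := gensL.getD k unitC) ?_ (wordC_mem fun j hj => h j (List.mem_cons_of_mem _ hj))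
    have : k < gensL.length := h k List.mem_cons_self
    rw [List.getD_eq_getElem _ _ this]
    exact List.getElem_mem this

theorem wordC_memK : ∀ {w : List ℕ}, (∀ k ∈ w, k < 4) → InK0 (wordC w)
  | [], _ => Gen.one
  | k :: w, h => by
    refine Gen.mul (g := gensL.getD k unitC) ?_ (wordC_memK fun j hj => h j (List.mem_cons_of_mem _ hj))
    have h4 : ∀ j < 4, gensL.getD j unitC ∈ gensK := by decide +kernel
    exact h4 k (h k List.mem_cons_self)

theorem sylWords_spec : sylWords.map wordC = sylGens ∧ (∀ w ∈ sylWords, ∀ k ∈ w, k < 5) := by decide +kernel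

theorem sylow_steps : sylow.getD 0 [] = unitC ∧
    (∀ s ∈ sylSteps, s.2.1 < 4 ∧ mulC (sylGens.getD s.2.1 []) (sylow.getD s.2.2 []) = sylow.getD s.1 []) ∧
      (∀ g ∈ sylGens, ∀ h ∈ sylow, mulC g h ∈ sylow) := by
  decide +kernel

/-- Every position is reached by the search, from positions reached before it. -/
def reached : List (ℕ × ℕ × ℕ) → List ℕ → Bool
  | [], r => (List.range 256).all fun i => r.contains i
  | s :: ss, r => r.contains s.2.2 && reached ss (s.1 :: r)

theorem sylow_reached : reached sylSteps [0] = true := by decide +kernel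

theorem sylow_shape : sylow.length = 256 ∧ sylow.Nodup ∧ ∀ g ∈ sylow, g.length = 12 := by decide +kernel

theorem bigWords_spec : bigWords.length = 16 ∧ (∀ w ∈ bigWords, ∀ k ∈ w, k < 4) ∧
    ∀ i < 16, wordC (bigWords.getD i []) = bEl i := by
  decide +kernel

theorem bEl_spec : (∀ i < 16, bEl i ∈ sylow ∧ (bEl i).length = 12) ∧ bEl 0 = unitC ∧
    (∀ i < 16, ∀ j < 16, mulC (bEl i) (bEl j) = bEl (i ^^^ j)) ∧
      (∀ i < 16, ∀ j < 16, bEl i = bEl j → i = j) ∧
        (∀ i ∈ 71 :: bigIdx, ∃ j < 16, elemI i = bEl j) := by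
  decide +kernel

theorem bEl_fix : ∀ i < 16, ∀ n ∈ bigW, app (bEl i) n = n := by decide +kernel

theorem bigW_spec : bigW.length = 64 ∧ (∀ n ∈ bigW, n < 4096) ∧
    (∀ i < 64, ∀ j < 64, bigW.getD i 0 ^^^ bigW.getD j 0 = bigW.getD (i ^^^ j) 0) ∧
      (∀ i < 64, ∀ j < 64, bigW.getD i 0 = bigW.getD j 0 → i = j) := by
  decide +kernel

theorem bigW_iff : ∀ n < 4096, (bigFix.testBit n = true ↔ n ∈ bigW) :=
  J4Module.of_chunks (P := fun n => bigFix.testBit n = true ↔ n ∈ bigW) 64 (by decide +kernel)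

theorem bigW_sing : ∀ n ∈ bigW, qbit n = false := by decide +kernel

theorem bigW_perp : ∀ m ∈ bigW, ∀ n ∈ bigW, bbit m n = false := by decide +kernel

theorem bigW_p : ∀ n ∈ bigW, app pC n ∈ bigW ∧ app pC (app pC n) ^^^ app pC n ^^^ n = 0 := by decide +kernel

theorem sylow_fix_W : ∀ g ∈ sylow, (∀ n ∈ bigW, app g n = n) → ∃ i < 16, g = bEl i := by decide +kernel

theorem stab_spec : (∀ w ∈ stabWords, ∀ k ∈ w, k < 5) ∧ (∀ k ∈ stabWords.getD 0 [] ++ stabWords.getD 1 [], k < 4) ∧
    (∀ k < 3, (sEl k).length = 12 ∧ (∀ n ∈ bigW, app (sEl k) n ∈ bigW) ∧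
      ∀ i < 16, sPerm k i < 16 ∧ mulC (sEl k) (bEl i) = mulC (bEl (sPerm k i)) (sEl k)) := by
  decide +kernel

theorem bigSteps_spec : (∀ s ∈ bigSteps, s.2.1 < 2 ∧ sPerm s.2.1 s.2.2 = s.1) ∧
    (∀ i < 16, i = 0 ∨ i = 1 ∨ ∃ s ∈ bigSteps, s.1 = i) := by
  decide +kernel

end Cfsg.Agent.JankoFour.Big
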