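import Cfsg.Agent.Lib.JankoFour.Data
import Cfsg.Agent.Lib.J4Module.SylowData

/-!
Words in the generators for the Sylow subgroup, the hexad subgroup and its stabiliser, and tables for them.
-/

namespace Cfsg.Agent.JankoFour.Big

/-- Words for the generators of the Sylow subgroup. -/
def sylWords : List (List Nat) :=
  [[3, 2, 2, 2, 0, 2, 0, 0, 0, 0, 2, 0, 0], [2, 1, 0, 4, 3, 2, 0, 2, 0, 1, 0, 2, 0], [0, 0, 1, 2, 1, 0, 0, 2, 0, 4,
  2, 0, 2, 2, 1, 2, 0], [0, 2, 1, 1, 0, 0, 2, 2, 0, 2, 0, 0, 1, 1]]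

/-- The elements of the Sylow subgroup in the order of a search: position, generator, earlier position. -/
def sylSteps : List (Nat × Nat × Nat) :=
  [(44, 0, 0), (112, 1, 0), (139, 2, 0), (67, 3, 0), (219, 0, 44), (135, 1, 44), (227, 2, 44), (30, 3, 44), (202, 0,
  112), (35, 1, 112), (140, 2, 112), (255, 3, 112), (156, 0, 139), (153, 1, 139), (103, 3, 139), (241, 0, 67), (148,
  1, 67), (133, 2, 67), (29, 0, 219), (99, 1, 219), (73, 2, 219), (209, 3, 219), (137, 0, 135), (238, 1, 135), (37,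
  2, 135), (146, 3, 135), (145, 0, 227), (57, 1, 227), (165, 3, 227), (63, 0, 30), (118, 1, 30), (228, 2, 30), (88,
  0, 202), (12, 1, 202), (189, 3, 202), (243, 0, 35), (136, 1, 35), (216, 3, 35), (214, 0, 140), (187, 1, 140), (59,
  3, 140), (38, 2, 255), (195, 1, 156), (5, 2, 156), (248, 3, 156), (77, 0, 153), (115, 1, 153), (69, 2, 153), (91,
  0, 103), (192, 1, 103), (191, 2, 103), (183, 0, 241), (166, 1, 241), (53, 2, 241), (4, 3, 241), (230, 0, 148),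
  (18, 2, 148), (10, 0, 133), (253, 1, 133), (97, 3, 133), (185, 0, 29), (203, 1, 29), (181, 2, 29), (222, 3, 29),
  (134, 0, 99), (64, 1, 99), (168, 2, 99), (87, 3, 99), (125, 0, 73), (80, 1, 73), (108, 3, 73), (177, 0, 209),
  (158, 1, 209), (75, 2, 209), (179, 0, 137), (1, 1, 137), (149, 3, 137), (236, 0, 238), (224, 1, 238), (8, 3, 238),
  (157, 1, 37), (107, 3, 37), (94, 2, 146), (169, 1, 145), (85, 3, 145), (81, 0, 57), (7, 1, 57), (251, 0, 165),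
  (129, 1, 165), (43, 2, 165), (60, 0, 63), (110, 1, 63), (250, 2, 63), (184, 3, 63), (171, 0, 118), (130, 2, 118),
  (74, 0, 228), (126, 1, 228), (172, 3, 228), (225, 0, 88), (47, 1, 88), (154, 2, 88), (100, 3, 88), (34, 0, 12),
  (78, 1, 12), (201, 2, 12), (61, 3, 12), (223, 1, 189), (27, 1, 243), (176, 3, 243), (178, 0, 136), (25, 2, 216),
  (200, 1, 214), (123, 2, 214), (105, 3, 214), (6, 0, 187), (82, 1, 187), (46, 2, 187), (131, 0, 59), (159, 2, 59),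
  (106, 0, 38), (26, 2, 195), (120, 3, 195), (206, 0, 5), (240, 3, 5), (102, 0, 248), (9, 2, 248), (141, 0, 77),
  (226, 1, 77), (128, 3, 77), (173, 0, 115), (175, 1, 115), (218, 1, 69), (132, 0, 91), (150, 3, 91), (127, 0, 192),
  (111, 2, 192), (210, 0, 191), (170, 1, 191), (237, 3, 191), (31, 0, 183), (51, 2, 183), (104, 2, 166), (48, 3,
  166), (93, 1, 53), (207, 0, 4), (122, 3, 230), (92, 0, 253), (109, 1, 253), (86, 2, 253), (143, 1, 97), (41, 0,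
  185), (20, 1, 185), (117, 2, 185), (62, 3, 185), (89, 0, 203), (13, 1, 203), (56, 2, 203), (188, 3, 203), (163, 0,
  181), (36, 1, 181), (23, 3, 181), (208, 0, 222), (161, 1, 222), (239, 1, 134), (147, 3, 134), (68, 1, 64), (116,
  1, 168), (19, 3, 168), (252, 2, 87), (247, 1, 125), (16, 0, 80), (96, 1, 80), (22, 0, 108), (232, 1, 108), (220,
  2, 108), (221, 0, 177), (231, 1, 177), (242, 3, 177), (167, 0, 158), (58, 2, 158), (198, 0, 75), (39, 1, 75),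
  (114, 3, 75), (54, 0, 179), (33, 1, 179), (196, 3, 179), (45, 0, 1), (113, 1, 1), (138, 2, 1), (66, 3, 1), (217,
  1, 149), (190, 3, 236), (21, 0, 224), (249, 2, 8), (72, 0, 157), (194, 1, 157), (71, 0, 107), (212, 0, 94), (98,
  2, 169), (52, 0, 85), (205, 2, 85), (17, 0, 81), (76, 1, 7), (162, 3, 251), (14, 2, 129), (204, 0, 43), (197, 1,
  43), (32, 3, 43), (199, 2, 60), (193, 2, 110), (245, 3, 110), (70, 1, 250), (40, 0, 184), (55, 3, 171), (11, 1,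
  126), (160, 2, 126), (215, 1, 172), (119, 3, 225), (186, 2, 47), (144, 1, 154), (213, 3, 154), (28, 1, 78), (90,
  2, 223), (229, 0, 25), (244, 0, 123), (246, 3, 131), (182, 1, 159), (15, 3, 26), (164, 3, 226), (235, 0, 175),
  (234, 2, 48), (233, 1, 109), (151, 2, 41), (2, 3, 20), (155, 1, 117), (50, 3, 117), (101, 3, 89), (79, 1, 13),
  (95, 3, 56), (152, 0, 36), (84, 0, 23), (211, 2, 23), (124, 2, 239), (121, 0, 19), (142, 1, 96), (180, 3, 22),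
  (42, 0, 220), (3, 1, 220), (65, 0, 242), (49, 3, 167), (254, 2, 39), (174, 1, 114), (24, 2, 217), (83, 2, 245)]

/-- The hexad subgroup: words for its elements. -/
def bigWords : List (List Nat) :=
  [[], [0, 2, 2, 0, 2, 1, 2, 0], [2, 0, 2, 1, 0, 2, 0, 1, 2, 0, 0, 1, 2, 0, 1, 0], [2, 1, 2, 2, 0, 2, 0, 0, 2, 0, 0,
  2, 0, 1, 2], [0, 2, 2, 0, 2, 0, 0, 2, 2, 1, 0, 0, 0, 2, 0], [0, 1, 1, 0, 2, 0, 2, 2, 0, 0, 1, 2, 1, 0], [1, 0, 2,
  2, 1, 1, 0, 1, 2, 0, 2, 0, 0, 0, 2], [0, 1, 0, 2, 0, 2, 0, 0, 0, 2], [2, 0, 2, 1, 0, 0, 1, 2, 1, 0, 2, 2, 1], [2,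
  0, 2, 1, 0, 0, 2, 2, 2, 0, 0, 1, 1, 1], [2, 0, 2, 2, 1, 2, 0, 1, 2, 0, 1, 0, 0, 0], [0, 0, 2, 1, 0, 1, 2, 0, 0, 2,
  1, 0, 1, 2], [0, 2, 2, 0, 0, 2, 0, 1, 2, 0, 2, 0, 2, 1, 1], [0, 0, 0, 2, 0, 1, 2, 0, 2, 2, 2, 0, 2, 0, 0], [2, 0,
  2, 2, 0, 2, 1, 1], [2, 0, 2, 2, 0, 1, 2, 0, 2, 2, 1, 0, 0, 1]]

/-- Words for two inner and one outer element generating the stabiliser of the hexad space. -/
def stabWords : List (List Nat) :=
  [[2, 0, 0, 2, 2, 0], [1, 0, 2, 0, 0, 1], [2, 0, 4, 1]]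

/-- The permutations of the hexad subgroup induced by these elements. -/
def stabPerm : List (List Nat) :=
  [[0, 14, 1, 15, 2, 12, 3, 13, 10, 4, 11, 5, 8, 6, 9, 7], [0, 1, 11, 10, 12, 13, 7, 6, 8, 9, 3, 2, 4, 5, 15, 14],
  [0, 14, 15, 1, 10, 4, 5, 11, 6, 8, 9, 7, 12, 2, 3, 13]]

/-- The non-identity elements of the hexad subgroup in the order of a search. -/
def bigSteps : List (Nat × Nat × Nat) :=
  [(14, 0, 1), (9, 0, 14), (15, 1, 14), (4, 0, 9), (7, 0, 15), (2, 0, 4), (12, 1, 4), (13, 0, 7), (6, 1, 7), (11, 1,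
  2), (8, 0, 12), (5, 1, 13), (3, 0, 6), (10, 0, 8)]

/-- The hexad space. -/
def bigW : List Nat :=
  [0, 33, 69, 100, 273, 304, 340, 373, 641, 672, 708, 741, 912, 945, 981, 1012, 1183, 1214, 1242, 1275, 1422, 1455,
  1483, 1514, 1566, 1599, 1627, 1658, 1807, 1838, 1866, 1899, 2206, 2239, 2267, 2298, 2447, 2478, 2506, 2539, 2591,
  2622, 2650, 2683, 2830, 2863, 2891, 2922, 3073, 3104, 3140, 3173, 3344, 3377, 3413, 3444, 3712, 3745, 3781, 3812,
  3985, 4016, 4052, 4085]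

end Cfsg.Agent.JankoFour.Big
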