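/-!
Conjugation on coordinates of the large abelian subgroup: twelve elements of the extraspecial subgroup
(lifts of the unit vectors), the two inner elements of the hexad stabiliser centralising P, and the generator of P;
for the two possible forms.
-/

namespace Cfsg.Agent.JankoFour

/-- The columns on coordinates below 2048 of the fifteen generators, in the two forms. -/
def moveTab : List (List (List Nat)) :=
  [[[1, 2, 4, 8, 1040, 1056, 64, 1159, 266, 561, 1024],
    [1025, 1026, 1028, 1032, 1040, 32, 64, 1181, 318, 524, 1024],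
    [1025, 1026, 4, 8, 16, 32, 1091, 132, 292, 544, 1024],
    [1025, 2, 4, 8, 16, 32, 126, 156, 308, 556, 1024],
    [1025, 2, 1028, 8, 16, 32, 1093, 1157, 1293, 1575, 1024],
    [1, 2, 4, 8, 1040, 1056, 64, 1159, 266, 561, 1024],
    [1025, 1026, 4, 8, 1040, 1056, 1091, 1155, 1326, 1553, 1024],
    [1025, 2, 4, 1032, 16, 32, 73, 155, 272, 555, 1024],
    [1025, 2, 1028, 8, 1040, 1056, 1093, 130, 1287, 534, 1024],
    [1025, 2, 4, 1032, 1040, 1056, 73, 156, 1306, 1562, 1024],
    [1025, 2, 4, 8, 16, 1056, 113, 156, 313, 573, 1024],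
    [1025, 2, 4, 8, 1040, 32, 113, 155, 307, 524, 1024],
    [52, 59, 12, 63, 2, 18, 896, 64, 128, 640, 1024],
    [1, 14, 57, 53, 28, 44, 64, 704, 768, 512, 1024],
    [30, 27, 24, 37, 57, 43, 64, 128, 256, 512, 1024]],
   [[1, 2, 4, 8, 1040, 1056, 64, 1159, 266, 561, 1024],
    [1025, 1026, 1028, 1032, 1040, 32, 64, 1181, 318, 524, 1024],
    [1025, 1026, 4, 8, 16, 32, 1091, 132, 292, 544, 1024],
    [1025, 2, 4, 8, 16, 32, 126, 156, 308, 556, 1024],
    [1025, 2, 1028, 8, 16, 32, 1093, 1157, 1293, 1575, 1024],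
    [1, 2, 4, 8, 1040, 1056, 64, 1159, 266, 561, 1024],
    [1025, 1026, 4, 8, 1040, 1056, 1091, 1155, 1326, 1553, 1024],
    [1025, 2, 4, 1032, 16, 32, 73, 155, 272, 555, 1024],
    [1025, 2, 1028, 8, 1040, 1056, 1093, 130, 1287, 534, 1024],
    [1025, 2, 4, 1032, 1040, 1056, 73, 156, 1306, 1562, 1024],
    [1025, 2, 4, 8, 16, 1056, 113, 156, 313, 573, 1024],
    [1025, 2, 4, 8, 1040, 32, 113, 155, 307, 524, 1024],
    [52, 59, 12, 63, 2, 18, 896, 64, 128, 640, 1024],
    [1, 14, 57, 53, 28, 44, 64, 1728, 1792, 512, 1024],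
    [30, 27, 24, 37, 57, 43, 64, 128, 256, 512, 1024]]]

end Cfsg.Agent.JankoFour
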