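import Cfsg.Agent.Lib.JankoFour.BigData
import Cfsg.Agent.Lib.JankoFour.BigTables
import Cfsg.Agent.Lib.JankoFour.MoveData

/-!
Coordinates on the large abelian subgroup in which its normaliser in the centraliser of the involution acts by
one of two tabulated forms (interface).
-/

set_option autoImplicit false

namespace Cfsg.Agent.JankoFour

open Subgroup
open Cfsg.Agent.LargeFischer (QG)
open Cfsg.Agent.J4Module (app)

variable {G : Type*} [Group G] [Finite G] {z : G} {P : Subgroup G}

/-- The columns of a generator in a form. -/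
def moveC (form k : ℕ) : List ℕ := (moveTab.getD form []).getD k []

/-- Coordinates on the large abelian subgroup: bits 0-5 the vector in the hexad space, bits 6-9 the element of
the hexad subgroup, bit 10 the involution. -/
structure BigCoords {M : Model z P} (B : BigData M) where
  el : ℕ → G
  el_mem : ∀ n < 2048, el n ∈ B.V
  el_xor : ∀ m < 2048, ∀ n < 2048, el (m ^^^ n) = el m * el n
  el_surj : ∀ a ∈ B.V, ∃ n < 2048, el n = a
  el_inj : ∀ m < 2048, ∀ n < 2048, el m = el n → m = n
  el_z : el 1024 = z
  el_mem_Q : ∀ n < 2048, (el n ∈ QG M.Q ↔ n / 64 % 16 = 0)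
  el_vec : ∀ n < 2048, ∀ x : ↥(QG M.Q), (x : G) = el n → M.vec x = Big.bigW.getD (n % 64) 0
  form : ℕ
  form_lt : form < 2
  moves : ∀ k < 15, ∃ g ∈ normalizer (B.V : Set G) ⊓ centralizer ({z} : Set G),
    ∀ n < 2048, g * el n * g⁻¹ = el (app (moveC form k) n)
  card_stab : Nat.card ↥(normalizer (B.V : Set G) ⊓ centralizer ({z} : Set G) : Subgroup G) = 2 ^ 21 * 135

end Cfsg.Agent.JankoFour
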