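import Cfsg.Agent.Lib.JankoFour.Interface
import Cfsg.Agent.Lib.J4Module.SylowChecks

/-!
The large elementary abelian subgroup in the coordinates of the centraliser (interface).
-/

set_option autoImplicit false

namespace Cfsg.Agent.JankoFour

open Subgroup
open Cfsg.Agent.LargeFischer (QG)
open Cfsg.Agent.J4Module (elemI)
open Cfsg.Agent.J4Module.Data

variable {G : Type*} [Group G] [Finite G] {z : G} {P : Subgroup G}

/-- The large abelian subgroup of the centraliser: the preimage of the hexad space times lifts of the hexad group. -/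
structure BigData (M : Model z P) where
  V : Subgroup G
  le_cent : V ≤ centralizer ({z} : Set G)
  sq : ∀ a ∈ V, a * a = 1
  card : Nat.card ↥V = 2048
  z_mem : z ∈ V
  cent : centralizer (V : Set G) = V
  inf_Q : ∀ x : ↥(QG M.Q), (x : G) ∈ V ↔ bigFix.testBit (M.vec x) = true
  img : ∀ c : ↥(centralizer ({z} : Set G)), (c : G) ∈ V → ∃ i ∈ 71 :: bigIdx, M.Acts c (elemI i)
  img_onto : ∀ i ∈ 71 :: bigIdx, ∃ c : ↥(centralizer ({z} : Set G)), (c : G) ∈ V ∧ M.Acts c (elemI i)
  unique : ∀ R E : Subgroup G, IsPGroup 2 ↥R → V ≤ R → E ≤ R → Cfsg.IsElementaryAbelian 2 E →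
    Nat.card ↥E = 2048 → E = V
  conjugate : ∀ E : Subgroup G, Cfsg.IsElementaryAbelian 2 E → Nat.card ↥E = 2048 →
    ∃ g : G, E = V.map (MulAut.conj g).toMonoidHom
  fusion : ∀ a ∈ V, ∀ g : G, g * a * g⁻¹ ∈ V → ∃ n ∈ normalizer (V : Set G), n * a * n⁻¹ = g * a * g⁻¹

end Cfsg.Agent.JankoFour
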