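import Cfsg.Agent.Lib.JankoFour.BigAbelian

/-!
Existence of the large elementary abelian subgroup: the preimage of the hexad space extended by the elements
centralising the subgroup of order three which act as the hexad group.
-/

set_option autoImplicit false
set_option linter.unusedSectionVars false

namespace Cfsg.Agent.JankoFour

open Subgroup
open Cfsg.Agent.LargeFischer (Ctx QG)
open Cfsg.Agent.J4Module (app)
open Cfsg.Agent.J4Module.Data
open Big

namespace Big

theorem bEl_InK0 {i : ℕ} (hi : i < 16) : InK0 (bEl i) := by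
  obtain ⟨hl, hk, he⟩ := bigWords_spec
  rw [← he i hi]
  refine wordC_memK (hk _ ?_)
  rw [List.getD_eq_getElem _ _ (show i < bigWords.length by omega)]
  exact List.getElem_mem _

theorem bEl_unit {i : ℕ} (hi : i < 16) (h : bEl i = unitC) : i = 0 :=
  bEl_spec.2.2.2.1 i hi 0 (by norm_num) (h.trans bEl_spec.2.1.symm)

theorem sEl_InK0 {k : ℕ} (hk : k < 2) : InK0 (sEl k) := by
  refine wordC_memK fun j hj => stab_spec.2.1 j (List.mem_append.2 ?_)
  rcases (by omega : k = 0 ∨ k = 1) with rfl | rfl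
  · exact Or.inl hj
  · exact Or.inr hj

/-- A search reaches every non-identity element of the hexad group from the first one. -/
def reached16 : List (ℕ × ℕ × ℕ) → List ℕ → Bool
  | [], r => (List.range 16).all fun i => i == 0 || r.contains i
  | s :: ss, r => r.contains s.2.2 && reached16 ss (s.1 :: r)

theorem bigSteps_reached : reached16 bigSteps [1] = true := by decide +kernel

theorem reached16_all {p : ℕ → Prop} : ∀ {l : List (ℕ × ℕ × ℕ)} {r : List ℕ}, reached16 l r = true →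
    (∀ i ∈ r, p i) → (∀ s ∈ l, p s.2.2 → p s.1) → ∀ i < 16, i = 0 ∨ p i
  | [], r, h, hr, _, i, hi => by
    simp only [reached16, List.all_eq_true, List.mem_range, Bool.or_eq_true, List.contains_iff_mem,
      beq_iff_eq] at h
    exact (h i hi).imp id (hr i)
  | s :: ss, r, h, hr, hs, i, hi => by
    simp only [reached16, Bool.and_eq_true, List.contains_iff_mem] at h
    refine reached16_all h.2 (fun j hj => ?_) (fun t ht => hs t (List.mem_cons_of_mem _ ht)) i hi
    rcases List.mem_cons.1 hj with rfl | hj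
    · exact hs s List.mem_cons_self (hr _ h.1)
    · exact hr j hj

end Big

namespace Model

variable {G : Type*} [Group G] [Finite G] {z : G} {P : Subgroup G} (M : Model z P)

theorem z_fix (c : ↥(centralizer ({z} : Set G))) : c * M.toH M.zQ = M.toH M.zQ * c :=
  Subtype.ext (mem_centralizer_singleton_iff.1 c.2)

theorem p_fix {c : ↥(centralizer ({z} : Set G))} (hc : (c : G) ∈ centralizer (P : Set G)) :
    c * M.pElem = M.pElem * c :=
  Subtype.ext (mem_centralizer_iff.1 hc _ (M.p_gen.le (mem_zpowers (M.pElem : G)))).symm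

theorem cent_Q {c : ↥(centralizer ({z} : Set G))} (hQ : c ∈ M.Q) (hc : (c : G) ∈ centralizer (P : Set G)) :
    c = 1 ∨ c = M.toH M.zQ := by
  have h : (c : G) ∈ zpowers z := M.inf_cent ▸ ⟨⟨c, hQ, rfl⟩, hc⟩
  obtain ⟨i, hi⟩ := mem_zpowers_iff.1 h
  rcases Int.even_or_odd i with ⟨j, rfl⟩ | ⟨j, rfl⟩
  · refine Or.inl (Subtype.ext ?_)
    rw [← hi, zpow_add, ← Commute.mul_zpow (Commute.refl z), M.ctx.xs.sq, one_zpow]
    rfl
  · refine Or.inr (Subtype.ext ?_)
    rw [← hi, zpow_add, zpow_mul, zpow_two, M.ctx.xs.sq, one_zpow, one_mul, zpow_one]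
    rfl

/-- The elements centralising P which act as the hexad group. -/
def bP : Subgroup ↥(centralizer ({z} : Set G)) where
  carrier := {c | (c : G) ∈ centralizer (P : Set G) ∧ ∃ i < 16, M.Acts c (bEl i)}
  one_mem' := ⟨one_mem _, 0, by norm_num, bEl_spec.2.1 ▸ M.acts_one⟩
  mul_mem' := fun {c d} ⟨hc, i, hi, hci⟩ ⟨hd, j, hj, hdj⟩ =>
    ⟨mul_mem hc hd, i ^^^ j, Nat.xor_lt_two_pow (n := 4) hi hj, bEl_spec.2.2.1 i hi j hj ▸ M.acts_mul hci hdj⟩
  inv_mem' := fun {c} ⟨hc, i, hi, hci⟩ => by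
    refine ⟨inv_mem hc, i, hi, ?_⟩
    have h := M.acts_mul hci hci
    rw [bEl_spec.2.2.1 i hi i hi, Nat.xor_self, bEl_spec.2.1] at h
    refine M.acts_mul_Q hci ?_ (bEl_spec.1 i hi).2
    have := inv_mem (M.mem_Q _ h)
    rwa [_root_.mul_inv_rev] at this

theorem exists_lift_bP {i : ℕ} (hi : i < 16) : ∃ c ∈ M.bP, M.Acts c (bEl i) := by
  obtain ⟨c, hc, h⟩ := M.cent_elem _ (bEl_InK0 hi)
  exact ⟨c, ⟨hc, i, hi, h⟩, h⟩

theorem lift_eq {c d : ↥(centralizer ({z} : Set G))} {C : List ℕ} (hc : (c : G) ∈ centralizer (P : Set G))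
    (hd : (d : G) ∈ centralizer (P : Set G)) (hcC : M.Acts c C) (hdC : M.Acts d C) :
    d = c ∨ d = c * M.toH M.zQ := by
  rcases M.cent_Q (M.inv_mul_mem hcC hdC) (mul_mem (inv_mem hc) hd) with h | h
  · exact Or.inl (inv_mul_eq_one.1 h).symm
  · exact Or.inr (inv_mul_eq_iff_eq_mul.1 h)

theorem sq_lift_eq {c d : ↥(centralizer ({z} : Set G))} {C : List ℕ} (hc : (c : G) ∈ centralizer (P : Set G))
    (hd : (d : G) ∈ centralizer (P : Set G)) (hcC : M.Acts c C) (hdC : M.Acts d C) : d * d = c * c := by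
  rcases M.lift_eq hc hd hcC hdC with rfl | rfl
  · rfl
  · have hz : M.toH M.zQ * M.toH M.zQ = 1 := Subtype.ext M.ctx.xs.sq
    rw [show c * M.toH M.zQ * (c * M.toH M.zQ) = c * (M.toH M.zQ * c) * M.toH M.zQ by group, ← M.z_fix c,
      show c * (c * M.toH M.zQ) * M.toH M.zQ = c * c * (M.toH M.zQ * M.toH M.zQ) by group, hz, mul_one]

theorem bP_sq {c : ↥(centralizer ({z} : Set G))} (hc : c ∈ M.bP) : c * c = 1 := by
  classical
  choose l hl hla using fun i : Fin 16 => M.exists_lift_bP i.2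
  obtain ⟨-, h0, hmul, -, -⟩ := bEl_spec
  let s : ℕ → ↥(centralizer ({z} : Set G)) := fun i => if h : i < 16 then l ⟨i, h⟩ * l ⟨i, h⟩ else 1
  have hs : ∀ {d i} (hi : i < 16), d ∈ M.bP → M.Acts d (bEl i) → d * d = s i := fun {d i} hi hd hda => by
    simp only [s, dif_pos hi]
    exact M.sq_lift_eq (hl ⟨i, hi⟩).1 hd.1 (hla ⟨i, hi⟩) hda
  have hsz : ∀ i < 16, s i = 1 ∨ s i = M.toH M.zQ := fun i hi => by
    simp only [s, dif_pos hi]
    have h := M.acts_mul (hla ⟨i, hi⟩) (hla ⟨i, hi⟩)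
    rw [hmul i hi i hi, Nat.xor_self, h0] at h
    exact M.cent_Q (M.mem_Q _ h) (mul_mem (hl ⟨i, hi⟩).1 (hl ⟨i, hi⟩).1)
  have hconst : ∀ i < 16, i = 0 ∨ s i = s 1 := by
    refine reached16_all bigSteps_reached (fun i hi => by rw [List.mem_singleton] at hi; rw [hi]) ?_
    rintro ⟨i, k, j⟩ hmem hj
    obtain ⟨hk, hp⟩ := bigSteps_spec.1 _ hmem
    simp only at hk hp hj ⊢
    by_cases hj16 : j < 16
    · obtain ⟨hlen, -, hperm⟩ := stab_spec.2.2 k (by omega)
      obtain ⟨hi16, he⟩ := hperm j hj16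
      obtain ⟨g, hg, hga⟩ := M.cent_elem _ (sEl_InK0 hk)
      rw [hp] at hi16 he
      set d := g * l ⟨j, hj16⟩ * g⁻¹ with hd
      have hdc : (d : G) ∈ centralizer (P : Set G) := mul_mem (mul_mem hg (hl _).1) (inv_mem hg)
      have hda : M.Acts d (bEl i) := by
        refine fun x => ?_
        obtain ⟨y, rfl⟩ : ∃ y, M.ctx.conjQ g y = x := ⟨M.ctx.conjQ g⁻¹ x, by
          rw [← M.ctx.conjQ_mul, mul_inv_cancel]
          exact Subtype.ext (by simp [Ctx.conjQ])⟩
        rw [← M.ctx.conjQ_mul, hd, inv_mul_cancel_right, (M.acts_mul hga (hla ⟨j, hj16⟩)) y, he, app_mulC, hga]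
      have := hs hi16 ⟨hdc, i, hi16, hda⟩ hda
      rw [← this, ← hj]
      simp only [s, dif_pos hj16]
      rw [hd, show g * l ⟨j, hj16⟩ * g⁻¹ * (g * l ⟨j, hj16⟩ * g⁻¹) = g * (l ⟨j, hj16⟩ * l ⟨j, hj16⟩) * g⁻¹ by group]
      have h01 := hsz j hj16
      simp only [s, dif_pos hj16] at h01
      rcases h01 with e | e <;> rw [e]
      · group
      · rw [M.z_fix g, mul_inv_cancel_right]
    · have h1 := (bigSteps_ok _ hmem).2
      exact absurd h1 hj16
  have hs1 : s 1 = 1 := by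
    rcases hsz 1 (by norm_num) with h | h
    · exact h
    exfalso
    set w := M.toH M.zQ with hw
    have hww : w * w = 1 := Subtype.ext M.ctx.xs.sq
    have hne : w ≠ 1 := fun e => M.ctx.xs.ne_one (congrArg Subtype.val e)
    have key : ∀ {x y : ↥(centralizer ({z} : Set G))}, x * x = w → y * y = w → x * y * (x * y) = w →
        y * x = x * y * w := fun {x y} hx hy hxy => by
      have h3 : x * y * (x * y) = x * (y * x) * y := by group
      rw [h3] at hxy
      have hx' : x⁻¹ = x * w := inv_eq_of_mul_eq_one_right (by rw [← mul_assoc, hx, hww])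
      have hy' : y⁻¹ = y * w := inv_eq_of_mul_eq_one_right (by rw [← mul_assoc, hy, hww])
      calc y * x = x⁻¹ * (x * (y * x) * y) * y⁻¹ := by group
        _ = x * w * w * (y * w) := by rw [hxy, hx', hy']
        _ = x * y * w := by rw [mul_assoc x w w, hww, mul_one, mul_assoc]
    have hall : ∀ {d i} (_ : i < 16) (_ : i ≠ 0), d ∈ M.bP → M.Acts d (bEl i) → d * d = w :=
      fun {d i} hi hne0 hd hda => by rw [hs hi hd hda, (hconst i hi).resolve_left hne0, h]
    set a := l 1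
    set b := l 2
    set d := l 4
    have ha : M.Acts a (bEl 1) := hla 1
    have hb : M.Acts b (bEl 2) := hla 2
    have hd : M.Acts d (bEl 4) := hla 4
    have sq : ∀ {x : ↥(centralizer ({z} : Set G))} {i : ℕ}, x ∈ M.bP → i < 16 → i ≠ 0 → M.Acts x (bEl i) →
        x * x = w := fun hx hi hne0 hxa => hall hi hne0 hx hxa
    have hbd : M.Acts (b * d) (bEl 6) := hmul 2 (by norm_num) 4 (by norm_num) ▸ M.acts_mul hb hd
    have e1 := key (sq (hl 1) (by norm_num) (by norm_num) ha) (sq (hl 2) (by norm_num) (by norm_num) hb)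
      (sq (mul_mem (hl 1) (hl 2)) (i := 3) (by norm_num) (by norm_num)
        (hmul 1 (by norm_num) 2 (by norm_num) ▸ M.acts_mul ha hb))
    have e2 := key (sq (hl 1) (by norm_num) (by norm_num) ha) (sq (hl 4) (by norm_num) (by norm_num) hd)
      (sq (mul_mem (hl 1) (hl 4)) (i := 5) (by norm_num) (by norm_num)
        (hmul 1 (by norm_num) 4 (by norm_num) ▸ M.acts_mul ha hd))
    have e3 := key (sq (hl 1) (by norm_num) (by norm_num) ha)
      (sq (mul_mem (hl 2) (hl 4)) (i := 6) (by norm_num) (by norm_num) hbd)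
      (sq (mul_mem (hl 1) (mul_mem (hl 2) (hl 4))) (i := 7) (by norm_num) (by norm_num)
        (hmul 1 (by norm_num) 6 (by norm_num) ▸ M.acts_mul ha hbd))
    apply hne
    have e4 : b * d * a = a * (b * d) := by
      calc b * d * a = b * (d * a) := mul_assoc _ _ _
        _ = b * (a * d * w) := by rw [e2]
        _ = (b * a) * d * w := by group
        _ = a * b * w * d * w := by rw [e1]
        _ = a * b * (w * d) * w := by group
        _ = a * b * (d * w) * w := by rw [← M.z_fix d]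
        _ = a * (b * d) * (w * w) := by group
        _ = a * (b * d) := by rw [hww, mul_one]
    have := e4.symm.trans e3
    exact (mul_eq_left.1 this.symm)
  obtain ⟨-, i, hi, hci⟩ := id hc
  rcases hconst i hi with rfl | h
  · rw [h0] at hci
    rcases M.cent_Q (M.mem_Q c hci) hc.1 with rfl | rfl
    · exact one_mul 1
    · exact Subtype.ext M.ctx.xs.sq
  · rw [hs hi hc hci, h, hs1]
where
  bigSteps_ok : ∀ s ∈ bigSteps, s.1 < 16 ∧ s.2.2 < 16 := by decide +kernel

theorem bP_comm_aQ {c : ↥(centralizer ({z} : Set G))} (hc : c ∈ M.bP) {x : ↥(QG M.Q)} (hx : x ∈ M.aQ) :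
    c * M.toH x = M.toH x * c := by
  obtain ⟨hcP, i, hi, hci⟩ := hc
  have hp : ∀ y, y ∈ M.aQ → M.ctx.conjQ M.pElem y ∈ M.aQ := fun y hy => by
    rw [mem_aQ, M.p_acts y]
    exact (bigW_p _ hy).1
  set y := M.ctx.conjQ M.pElem x with hy
  set w := M.ctx.conjQ M.pElem y with hw
  have hya : y ∈ M.aQ := hp x hx
  have hwa : w ∈ M.aQ := hp y hya
  have hfix : ∀ u ∈ M.aQ, M.ctx.conjQ c u = u ∨ M.ctx.conjQ c u = u * M.zQ := fun u hu => by
    have : M.vec u = M.vec (M.ctx.conjQ c u) := by rw [hci u, bEl_fix i hi _ hu]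
    rcases M.vec_eq_iff.1 this with h | h
    · exact Or.inl (Subtype.ext h)
    · exact Or.inr (Subtype.ext h)
  have hcomm : ∀ u, M.ctx.conjQ c (M.ctx.conjQ M.pElem u) = M.ctx.conjQ M.pElem (M.ctx.conjQ c u) := fun u => by
    rw [← M.ctx.conjQ_mul, M.p_fix hcP, M.ctx.conjQ_mul]
  have hzc : ∀ d, M.ctx.conjQ d M.zQ = M.zQ := fun d => Subtype.ext (by
    show d.1 * z * d.1⁻¹ = z
    rw [mem_centralizer_singleton_iff.1 d.2, mul_inv_cancel_right])
  have hzz : M.zQ * M.zQ = 1 := Subtype.ext M.ctx.xs.sq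
  rcases hfix x hx with h | h
  · have := congrArg M.toH h
    rw [← M.toH_conj] at this
    exact mul_inv_eq_iff_eq_mul.1 this
  exfalso
  have hy' : M.ctx.conjQ c y = y * M.zQ := by rw [hy, hcomm, h, map_mul, hzc]
  have hw' : M.ctx.conjQ c w = w * M.zQ := by rw [hw, hcomm, hy', map_mul, hzc]
  have hv : M.vec (x * y * w) = 0 := by
    rw [M.vec_mul, M.vec_mul, show M.vec w = app pC (M.vec y) from M.p_acts y,
      show M.vec y = app pC (M.vec x) from M.p_acts x]
    rw [← (bigW_p _ (M.mem_aQ.1 hx)).2]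
    ac_rfl
  have hone : M.ctx.conjQ c (x * y * w) = x * y * w := by
    rcases M.vec_eq_iff.1 (hv.trans M.vec_one.symm) with e | e
    · rw [show x * y * w = 1 from Subtype.ext e.symm, map_one]
    · have e' : x * y * w = M.zQ := Subtype.ext (by
        show ((x * y * w : ↥(QG M.Q)) : G) = z
        have e2 : (1 : G) = (x * y * w : ↥(QG M.Q)) * z := e
        calc ((x * y * w : ↥(QG M.Q)) : G) = ((x * y * w : ↥(QG M.Q)) : G) * z * z := by
              rw [mul_assoc _ z z, M.ctx.xs.sq, mul_one]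
          _ = z := by rw [← e2, one_mul])
      rw [e', hzc]
  rw [map_mul, map_mul, h, hy', hw'] at hone
  have hz' : ∀ u : ↥(QG M.Q), u * M.zQ = M.zQ * u := fun u => Subtype.ext (M.ctx.xs.comm u.2)
  have e3 : x * M.zQ * (y * M.zQ) * (w * M.zQ) = x * y * w * M.zQ := by
    calc x * M.zQ * (y * M.zQ) * (w * M.zQ) = x * (M.zQ * y) * (M.zQ * w) * M.zQ := by group
      _ = x * (y * M.zQ) * (M.zQ * w) * M.zQ := by rw [← hz' y]
      _ = x * y * (M.zQ * M.zQ) * w * M.zQ := by group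
      _ = _ := by rw [hzz, mul_one]
  rw [e3, mul_eq_left] at hone
  exact M.ctx.xs.ne_one (congrArg Subtype.val hone)

/-- The large elementary abelian subgroup inside the centraliser. -/
def vH : Subgroup ↥(centralizer ({z} : Set G)) where
  carrier := {c | ∃ a ∈ M.aQ, ∃ l ∈ M.bP, c = M.toH a * l}
  one_mem' := ⟨1, one_mem _, 1, one_mem _, by rw [map_one, one_mul]⟩
  mul_mem' := by
    rintro _ _ ⟨a, ha, l, hl, rfl⟩ ⟨a', ha', l', hl', rfl⟩
    refine ⟨a * a', mul_mem ha ha', l * l', mul_mem hl hl', ?_⟩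
    rw [map_mul, show M.toH a * l * (M.toH a' * l') = M.toH a * (l * M.toH a') * l' by group,
      M.bP_comm_aQ hl ha']
    group
  inv_mem' := by
    rintro _ ⟨a, ha, l, hl, rfl⟩
    refine ⟨a⁻¹, inv_mem ha, l⁻¹, inv_mem hl, ?_⟩
    rw [map_inv, _root_.mul_inv_rev]
    exact (show Commute l⁻¹ (M.toH a)⁻¹ from Commute.inv_inv (M.bP_comm_aQ hl ha)).eq

theorem vH_sq : ∀ c ∈ M.vH, c * c = 1 := by
  rintro _ ⟨a, ha, l, hl, rfl⟩
  rw [show M.toH a * l * (M.toH a * l) = M.toH a * (l * M.toH a) * l by group, M.bP_comm_aQ hl ha,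
    show M.toH a * (M.toH a * l) * l = M.toH a * M.toH a * (l * l) by group, ← map_mul, M.aQ_sq ha,
    M.bP_sq hl, map_one, one_mul]

theorem vH_le : M.vH ≤ M.syl := by
  rintro _ ⟨a, -, l, ⟨-, i, hi, hl⟩, rfl⟩
  exact mul_mem (M.Q_le_syl (M.toH_mem a)) ⟨_, (bEl_spec.1 i hi).1, hl⟩

theorem toH_vH {a : ↥(QG M.Q)} (ha : a ∈ M.aQ) : M.toH a ∈ M.vH := ⟨a, ha, 1, one_mem _, (mul_one _).symm⟩

theorem bP_le_vH : M.bP ≤ M.vH := fun l hl => ⟨1, one_mem _, l, hl, by rw [map_one, one_mul]⟩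

theorem vH_card_ge : 2048 ≤ Nat.card ↥M.vH := by
  classical
  choose l hl hla using fun i : Fin 16 => M.exists_lift_bP i.2
  let f : ↥M.aQ × Fin 16 → ↥M.vH := fun p => ⟨M.toH p.1 * l p.2, p.1, p.1.2, _, hl _, rfl⟩
  have hf : Function.Injective f := by
    rintro ⟨a, i⟩ ⟨b, j⟩ h
    have h' : M.toH a * l i = M.toH b * l j := congrArg Subtype.val h
    have hij : i = j := by
      refine Fin.ext (bEl_spec.2.2.2.1 _ i.2 _ j.2 ?_)
      have hu : ∀ (u : ↥(QG M.Q)) (k : Fin 16), M.Acts (M.toH u * l k) (bEl k) := fun u k => by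
        have h := M.acts_mul (M.acts_of_mem_Q (M.toH_mem u)) (hla k)
        rwa [unitC_mulC (sylow_InL0 (bEl_spec.1 _ k.2).1) fun _ h => h] at h
      exact M.acts_unique (bEl_spec.1 _ i.2).2 (bEl_spec.1 _ j.2).2 (hu a i) (h' ▸ hu b j)
    subst hij
    rw [Subtype.ext (M.toH_injective (mul_right_cancel h'))]
  have := Nat.card_le_card_of_injective f hf
  rwa [Nat.card_prod, M.card_aQ, Nat.card_fin] at this

theorem vH_card : Nat.card ↥M.vH = 2048 := (M.big_shape M.vH_le M.vH_sq M.vH_card_ge).1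

theorem vH_unique {E : Subgroup ↥(centralizer ({z} : Set G))} (hE : E ≤ M.syl) (h2 : ∀ a ∈ E, a * a = 1)
    (hc : 2048 ≤ Nat.card ↥E) : E = M.vH :=
  le_antisymm (M.big_le M.vH_le M.vH_sq M.vH_card_ge hE h2 hc) (M.big_le hE h2 hc M.vH_le M.vH_sq M.vH_card_ge)

theorem syl_normalizes : M.syl ≤ normalizer (M.vH : Set ↥(centralizer ({z} : Set G))) := by
  intro t ht
  have h : M.vH.map (MulAut.conj t).toMonoidHom = M.vH := by
    refine M.vH_unique ?_ ?_ (by rw [card_map_of_injective (MulAut.conj t).injective, M.vH_card])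
    · rintro _ ⟨a, ha, rfl⟩
      exact mul_mem (mul_mem ht (M.vH_le ha)) (inv_mem ht)
    · rintro _ ⟨a, ha, rfl⟩
      rw [← map_mul, M.vH_sq a ha, map_one]
  refine Subgroup.mem_normalizer_iff.2 fun x => ⟨fun hx => h.le ⟨x, hx, rfl⟩, fun hx => ?_⟩
  obtain ⟨y, hy, e⟩ := h.ge hx
  exact (MulAut.conj t).injective (show MulAut.conj t y = MulAut.conj t x from e) ▸ hy

end Model

end Cfsg.Agent.JankoFour
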