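import Cfsg.Agent.Lib.J4Module.Data
import Cfsg.Agent.Lib.J4Module.Bits
import Mathlib.Tactic.NormNum

/-!
The concrete group acting on the centre quotient of the extraspecial subgroup in groups of Janko-four type:
the triple cover of M22 extended by a semilinear involution, as twelve by twelve matrices over two elements.
-/

set_option autoImplicit false
set_option maxRecDepth 100000

namespace Cfsg.Agent.JankoFour

open Cfsg.Agent.J4Module (app)
open Cfsg.Agent.J4Module.Data

/-- The semilinear involution: it inverts the scalar and the element of order eleven. -/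
def sC : List ℕ := [1, 3, 4, 4092, 2048, 1024, 512, 256, 128, 64, 32, 16]

/-- The identity matrix. -/
def unitC : List ℕ := [1, 2, 4, 8, 16, 32, 64, 128, 256, 512, 1024, 2048]

/-- The number of non-zero coordinates in the ten-dimensional block. -/
def blkWeight (n : ℕ) : ℕ := (List.range 10).countP fun i => n.testBit (i + 2)

/-- The quadratic form. -/
def qbit (n : ℕ) : Bool := (n % 4 != 0) ^^ ((blkWeight n * (blkWeight n + 1) / 2) % 2 == 1)

/-- The alternating form. -/
def bbit (m n : ℕ) : Bool := qbit (m ^^^ n) ^^ qbit m ^^ qbit n

/-- Composition of matrices given by columns. -/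
def mulC (A B : List ℕ) : List ℕ := B.map (app A)

/-- Generators of the group of order 2661120. -/
def gensL : List (List ℕ) := [xC, yC, fC, pC, sC]

/-- Generators of the linear part. -/
def gensK : List (List ℕ) := [xC, yC, fC, pC]

/-- Products of generators. -/
inductive Gen (gens : List (List ℕ)) : List ℕ → Prop
  | one : Gen gens unitC
  | mul {g C : List ℕ} : g ∈ gens → Gen gens C → Gen gens (mulC g C)

/-- The group of order 2661120. -/
abbrev InL0 (C : List ℕ) : Prop := Gen gensL C

/-- Its linear part, of order 1330560. -/
abbrev InK0 (C : List ℕ) : Prop := Gen gensK C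

theorem testBit_ite_xor (p : Bool) (c : ℕ) (i : ℕ) :
    (if p = true then c else 0).testBit i = (p && c.testBit i) := by
  cases p <;> simp

theorem app_xor : ∀ (A : List ℕ) (m n : ℕ), app A (m ^^^ n) = app A m ^^^ app A n
  | [], m, n => by simp [app]
  | c :: cs, m, n => by
    have hd : (m ^^^ n) / 2 = (m / 2) ^^^ (n / 2) := by
      rw [← Nat.shiftRight_one, ← Nat.shiftRight_one, ← Nat.shiftRight_one, Nat.shiftRight_xor_distrib]
    have hb : ∀ k : ℕ, (if k % 2 = 1 then c else 0) = if k.testBit 0 = true then c else 0 := fun k => by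
      simp [Nat.testBit_zero]
    show (if (m ^^^ n) % 2 = 1 then c else 0) ^^^ app cs ((m ^^^ n) / 2) =
      ((if m % 2 = 1 then c else 0) ^^^ app cs (m / 2)) ^^^ ((if n % 2 = 1 then c else 0) ^^^ app cs (n / 2))
    rw [hd, app_xor cs, hb, hb, hb]
    refine Nat.eq_of_testBit_eq fun i => ?_
    simp only [Nat.testBit_xor, testBit_ite_xor]
    cases m.testBit 0 <;> cases n.testBit 0 <;> cases c.testBit i <;> cases (app cs (m / 2)).testBit i <;>
      cases (app cs (n / 2)).testBit i <;> rfl

theorem app_mulC (A : List ℕ) : ∀ (B : List ℕ) (n : ℕ), app (mulC A B) n = app A (app B n)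
  | [], n => by simp [mulC, app]
  | c :: cs, n => by
    show (if n % 2 = 1 then app A c else 0) ^^^ app (mulC A cs) (n / 2) =
      app A ((if n % 2 = 1 then c else 0) ^^^ app cs (n / 2))
    rw [app_xor, app_mulC A cs]
    split <;> simp

end Cfsg.Agent.JankoFour
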