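import Cfsg.Prelude.Def_JankoFourType
import Cfsg.Agent.Lib.LargeFischer.Setting
import Cfsg.Agent.Lib.JankoFour.Data

/-!
The working data of a group of Janko-four type: coordinates on the extraspecial subgroup modulo its centre in
which the centraliser of the involution acts as the concrete group of order 2661120.
-/

set_option autoImplicit false

namespace Cfsg.Agent.JankoFour

open Subgroup
open Cfsg.Agent.LargeFischer (Ctx QG)
open Cfsg.Agent.J4Module (app)
open Cfsg.Agent.J4Module.Data

variable {G : Type*} [Group G] [Finite G]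

/-- An element of the centraliser acts in the coordinates by the given columns. -/
def ActsOn {z : G} {Q : Subgroup ↥(centralizer ({z} : Set G))} (vec : ↥(QG Q) → ℕ) (ctx : Ctx z Q)
    (c : ↥(centralizer ({z} : Set G))) (C : List ℕ) : Prop :=
  ∀ x, vec (ctx.conjQ c x) = app C (vec x)

/-- The coordinates and the action. -/
structure Model (z : G) (P : Subgroup G) where
  /-- The largest normal 2-subgroup of the centraliser. -/
  Q : Subgroup ↥(centralizer ({z} : Set G))
  normal : Q.Normal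
  qg : QG Q = Cfsg.twoCoreOfCentralizer z
  ctx : Ctx z Q
  /-- The coordinates. -/
  vec : ↥(QG Q) → ℕ
  vec_lt : ∀ x, vec x < 4096
  vec_surj : ∀ n < 4096, ∃ x, vec x = n
  vec_eq_iff : ∀ {x y : ↥(QG Q)}, vec x = vec y ↔ (y : G) = x ∨ (y : G) = x * z
  vec_mul : ∀ x y, vec (x * y) = vec x ^^^ vec y
  sq_iff : ∀ x : ↥(QG Q), (x : G) * x = 1 ↔ qbit (vec x) = false
  exists_cols : ∀ c, ∃ C, InL0 C ∧ ActsOn vec ctx c C
  exists_elem : ∀ C, InL0 C → ∃ c, ActsOn vec ctx c C
  mem_Q : ∀ c, ActsOn vec ctx c unitC → c ∈ Q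
  card_quot : Nat.card (↥(centralizer ({z} : Set G)) ⧸ Q) = 2661120
  /-- A generator of the subgroup of order three. -/
  pElem : ↥(centralizer ({z} : Set G))
  p_gen : zpowers (pElem : G) = P
  p_acts : ActsOn vec ctx pElem pC
  card_P : Nat.card ↥P = 3
  inf_cent : QG Q ⊓ centralizer (P : Set G) = zpowers z
  decomp : ∀ c : ↥(centralizer ({z} : Set G)), ∃ q ∈ QG Q,
    ∃ n ∈ normalizer (P : Set G) ⊓ centralizer ({z} : Set G), (c : G) = q * n
  cent_cols : ∀ c : ↥(centralizer ({z} : Set G)), (c : G) ∈ centralizer (P : Set G) →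
    ∃ C, InK0 C ∧ ActsOn vec ctx c C
  cent_elem : ∀ C, InK0 C → ∃ c : ↥(centralizer ({z} : Set G)), (c : G) ∈ centralizer (P : Set G) ∧ ActsOn vec ctx c C

namespace Model

variable {z : G} {P : Subgroup G} (M : Model z P)

/-- An element of the centraliser acts by the given columns. -/
abbrev Acts (c : ↥(centralizer ({z} : Set G))) (C : List ℕ) : Prop := ActsOn M.vec M.ctx c C

theorem acts_mul {c d : ↥(centralizer ({z} : Set G))} {C D : List ℕ} (hc : M.Acts c C) (hd : M.Acts d D) :
    M.Acts (c * d) (mulC C D) := fun x => by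
  rw [M.ctx.conjQ_mul, hc, hd, app_mulC]

theorem vec_one : M.vec 1 = 0 := by
  have h := M.vec_mul 1 1
  rwa [one_mul, Nat.xor_self] at h

theorem vec_z : M.vec ⟨z, M.ctx.xs.mem⟩ = 0 := by
  rw [← M.vec_one]
  exact M.vec_eq_iff.2 (Or.inr (by simp [M.ctx.xs.sq]))

theorem comm_iff (x y : ↥(QG M.Q)) : (x : G) * y = y * x ↔ bbit (M.vec x) (M.vec y) = false := by
  have h := M.ctx.sq2_mul x y
  unfold Ctx.sq2 Ctx.chi at h
  rw [M.sq_iff, M.sq_iff, M.sq_iff, M.vec_mul] at h
  unfold bbit
  by_cases hc : (x : G) * y = y * x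
  · rw [if_pos hc] at h
    cases h1 : qbit (M.vec x) <;> cases h2 : qbit (M.vec y) <;> cases h3 : qbit (M.vec x ^^^ M.vec y) <;>
      simp [h1, h2, h3] at h ⊢ <;> first | exact hc | exact absurd h (by decide) | skip
  · rw [if_neg hc] at h
    cases h1 : qbit (M.vec x) <;> cases h2 : qbit (M.vec y) <;> cases h3 : qbit (M.vec x ^^^ M.vec y) <;>
      simp [h1, h2, h3] at h ⊢ <;> first | exact hc | exact absurd h (by decide) | skip

end Model

end Cfsg.Agent.JankoFour
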