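import Cfsg.Agent.Lib.JankoFour.BigChecks
import Cfsg.Agent.Lib.JankoFour.Interface
import Mathlib.GroupTheory.Sylow

/-!
A Sylow 2-subgroup of the centraliser of the involution in groups of Janko-four type: the elements acting by
the tabulated subgroup of order 256.
-/

set_option autoImplicit false
set_option linter.unusedSectionVars false

namespace Cfsg.Agent.JankoFour

open Subgroup
open Cfsg.Agent.LargeFischer (Ctx QG)
open Cfsg.Agent.J4Module (app oneC compC)
open Cfsg.Agent.J4Module.Data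

theorem mulC_assoc (A B C : List ℕ) : mulC (mulC A B) C = mulC A (mulC B C) := by
  simp [mulC, List.map_map, Function.comp_def, ← app_mulC]

theorem length_mulC (A B : List ℕ) : (mulC A B).length = B.length := List.length_map _

theorem gen_length {gens : List (List ℕ)} {C : List ℕ} (h : Gen gens C) : C.length = 12 := by
  induction h with
  | one => rfl
  | mul _ _ ih => rw [length_mulC, ih]

theorem app_one_bit : ∀ (C : List ℕ) (i : ℕ), app C (2 ^ i) = C.getD i 0
  | [], i => by simp [app]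
  | c :: cs, 0 => by
    show (if 2 ^ 0 % 2 = 1 then c else 0) ^^^ app cs (2 ^ 0 / 2) = c
    simp
  | c :: cs, i + 1 => by
    show (if 2 ^ (i + 1) % 2 = 1 then c else 0) ^^^ app cs (2 ^ (i + 1) / 2) = _
    rw [pow_succ, Nat.mul_div_cancel _ (by norm_num : 0 < 2), app_one_bit cs i, Nat.mul_mod_left]
    simp

theorem cols_ext {C D : List ℕ} (hC : C.length = 12) (hD : D.length = 12)
    (h : ∀ n < 4096, app C n = app D n) : C = D := by
  refine List.ext_getElem (hC.trans hD.symm) fun i h1 h2 => ?_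
  have := h (2 ^ i) (Nat.pow_lt_pow_right (by norm_num) (hC ▸ h1) |>.trans_le (by norm_num))
  rwa [app_one_bit, app_one_bit, List.getD_eq_getElem _ _ h1, List.getD_eq_getElem _ _ h2] at this

theorem mulC_unitC {C : List ℕ} (hC : C.length = 12) : mulC C unitC = C :=
  cols_ext (by rw [length_mulC]; rfl) hC fun n hn => by rw [app_mulC, app_unitC n hn]

theorem unitC_mulC {gens : List (List ℕ)} {C : List ℕ} (h : Gen gens C)
    (hg : ∀ g ∈ gens, g ∈ gensL) : mulC unitC C = C := by
  have hL : InL0 C := by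
    induction h with
    | one => exact Gen.one
    | mul hm _ ih => exact Gen.mul (hg _ hm) ih
  refine cols_ext (by rw [length_mulC, gen_length h]) (gen_length h) fun n _ => ?_
  rw [app_mulC, app_unitC _ (gen_app_lt hL n)]

theorem gen_mul {gens : List (List ℕ)} (hg : ∀ g ∈ gens, g ∈ gensL) {A B : List ℕ} (hA : Gen gens A)
    (hB : Gen gens B) : Gen gens (mulC A B) := by
  induction hA with
  | one => rwa [unitC_mulC hB hg]
  | mul hm _ ih => rw [mulC_assoc]; exact Gen.mul hm ih

namespace Big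

theorem reached_all {p : ℕ → Prop} : ∀ {l : List (ℕ × ℕ × ℕ)} {r : List ℕ}, reached l r = true →
    (∀ i ∈ r, p i) → (∀ s ∈ l, p s.2.2 → p s.1) → ∀ i < 256, p i
  | [], r, h, hr, _, i, hi => by
    simp only [reached, List.all_eq_true, List.mem_range, List.contains_iff_mem] at h
    exact hr i (h i hi)
  | s :: ss, r, h, hr, hs, i, hi => by
    simp only [reached, Bool.and_eq_true, List.contains_iff_mem] at h
    refine reached_all h.2 (fun j hj => ?_) (fun t ht => hs t (List.mem_cons_of_mem _ ht)) i hi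
    rcases List.mem_cons.1 hj with rfl | hj
    · exact hs s List.mem_cons_self (hr _ h.1)
    · exact hr j hj

theorem sylGen_mem {g : List ℕ} (hg : g ∈ sylGens) : InL0 g := by
  rw [← sylWords_spec.1] at hg
  obtain ⟨w, hw, rfl⟩ := List.mem_map.1 hg
  exact wordC_mem (sylWords_spec.2 w hw)

theorem sylow_induct {p : List ℕ → Prop} (h1 : p unitC) (hmul : ∀ g ∈ sylGens, ∀ h, p h → p (mulC g h))
    {C : List ℕ} (hC : C ∈ sylow) : p C := by
  have key : ∀ i < 256, p (sylow.getD i []) := by
    refine reached_all sylow_reached (fun i hi => ?_) fun s hs hp => ?_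
    · rw [List.mem_singleton] at hi
      subst hi
      rwa [sylow_steps.1]
    · obtain ⟨hk, he⟩ := sylow_steps.2.1 s hs
      rw [← he]
      refine hmul _ ?_ _ hp
      have : s.2.1 < sylGens.length := hk
      rw [List.getD_eq_getElem _ _ this]
      exact List.getElem_mem this
  obtain ⟨i, hi, rfl⟩ := List.getElem_of_mem hC
  have := key i (sylow_shape.1 ▸ hi)
  rwa [List.getD_eq_getElem _ _ hi] at this

theorem sylow_InL0 {C : List ℕ} (hC : C ∈ sylow) : InL0 C :=
  sylow_induct Gen.one (fun _ hg _ h => gen_mul (fun _ h => h) (sylGen_mem hg) h) hC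

theorem unit_mem_sylow : unitC ∈ sylow := by
  have h : 0 < sylow.length := by rw [sylow_shape.1]; norm_num
  rw [← sylow_steps.1, List.getD_eq_getElem _ _ h]
  exact List.getElem_mem h

theorem sylow_mul {A B : List ℕ} (hA : A ∈ sylow) (hB : B ∈ sylow) : mulC A B ∈ sylow := by
  refine sylow_induct (p := fun A => ∀ B ∈ sylow, mulC A B ∈ sylow) (fun B hB => ?_) (fun g hg h ih B hB => ?_)
    hA B hB
  · rw [unitC_mulC (sylow_InL0 hB) fun _ h => h]; exact hB
  · rw [mulC_assoc]; exact sylow_steps.2.2 g hg _ (ih B hB)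

end Big

namespace Model

variable {G : Type*} [Group G] [Finite G] {z : G} {P : Subgroup G} (M : Model z P)

theorem acts_unique {c : ↥(centralizer ({z} : Set G))} {C D : List ℕ} (hC : C.length = 12) (hD : D.length = 12)
    (h : M.Acts c C) (h' : M.Acts c D) : C = D := by
  refine cols_ext hC hD fun n hn => ?_
  obtain ⟨x, rfl⟩ := M.vec_surj n hn
  rw [← h x, h' x]

theorem acts_of_mem_Q {c : ↥(centralizer ({z} : Set G))} (hc : c ∈ M.Q) : M.Acts c unitC := by
  intro x
  rw [app_unitC _ (M.vec_lt x)]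
  symm
  rw [M.vec_eq_iff]
  exact M.ctx.xs.conj_cases (show c.1 ∈ QG M.Q from ⟨c, hc, rfl⟩) x.2

theorem acts_one : M.Acts 1 unitC := M.acts_of_mem_Q (one_mem _)

theorem inv_mul_mem {c d : ↥(centralizer ({z} : Set G))} {C : List ℕ} (hc : M.Acts c C) (hd : M.Acts d C) :
    c⁻¹ * d ∈ M.Q := by
  refine M.mem_Q _ fun x => ?_
  obtain ⟨D, -, hD⟩ := M.exists_cols c⁻¹
  have h1 : M.vec (M.ctx.conjQ (c⁻¹ * d) x) = app D (app C (M.vec x)) := by rw [M.ctx.conjQ_mul, hD, hd]
  have h2 : M.vec (M.ctx.conjQ (c⁻¹ * c) x) = app D (app C (M.vec x)) := by rw [M.ctx.conjQ_mul, hD, hc]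
  rw [h1, ← h2, inv_mul_cancel]
  exact M.acts_one x

theorem acts_mul_Q {c d : ↥(centralizer ({z} : Set G))} {C : List ℕ} (hc : M.Acts c C) (h : c⁻¹ * d ∈ M.Q)
    (hC : C.length = 12) : M.Acts d C := by
  have := M.acts_mul hc (M.acts_of_mem_Q h)
  rwa [mulC_unitC hC, mul_inv_cancel_left] at this

theorem card_Q : Nat.card ↥M.Q = 8192 := by
  have := M.ctx.card
  rwa [card_map_of_injective (centralizer ({z} : Set G)).subtype_injective] at this

theorem pow_mem_set {C : List ℕ} (hC : C ∈ sylow) {c : ↥(centralizer ({z} : Set G))} (hc : M.Acts c C) :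
    ∀ k : ℕ, ∃ D ∈ sylow, M.Acts (c ^ k) D
  | 0 => ⟨_, Big.unit_mem_sylow, by rw [pow_zero]; exact M.acts_one⟩
  | k + 1 => by
    obtain ⟨D, hD, hd⟩ := pow_mem_set hC hc k
    exact ⟨_, Big.sylow_mul hD hC, by rw [pow_succ]; exact M.acts_mul hd hc⟩

/-- The Sylow subgroup of the centraliser. -/
def syl : Subgroup ↥(centralizer ({z} : Set G)) where
  carrier := {c | ∃ C ∈ sylow, M.Acts c C}
  one_mem' := ⟨_, Big.unit_mem_sylow, M.acts_one⟩
  mul_mem' := fun ⟨C, hC, hc⟩ ⟨D, hD, hd⟩ => ⟨_, Big.sylow_mul hC hD, M.acts_mul hc hd⟩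
  inv_mem' := by
    rintro c ⟨C, hC, hc⟩
    show ∃ D ∈ sylow, M.Acts c⁻¹ D
    have h : c⁻¹ = c ^ (orderOf c - 1) := by
      refine inv_eq_of_mul_eq_one_right ?_
      rw [← pow_succ', Nat.sub_add_cancel (orderOf_pos c), pow_orderOf_eq_one]
    rw [h]
    exact M.pow_mem_set hC hc _

theorem mem_syl {c : ↥(centralizer ({z} : Set G))} : c ∈ M.syl ↔ ∃ C ∈ sylow, M.Acts c C := Iff.rfl

theorem Q_le_syl : M.Q ≤ M.syl := fun _ hc => ⟨_, Big.unit_mem_sylow, M.acts_of_mem_Q hc⟩

theorem card_syl : Nat.card ↥M.syl = 2 ^ 21 := by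
  classical
  haveI := M.normal
  rw [card_eq_card_quotient_mul_card_subgroup (M.Q.subgroupOf M.syl),
    Nat.card_congr (subgroupOfEquivOfLe M.Q_le_syl).toEquiv, M.card_Q]
  suffices h : Nat.card (↥M.syl ⧸ M.Q.subgroupOf M.syl) = 256 by rw [h]; norm_num
  obtain ⟨hl, hn, h12⟩ := Big.sylow_shape
  choose el hel using fun C : {C // C ∈ sylow} => M.exists_elem C.1 (Big.sylow_InL0 C.2)
  let f : {C // C ∈ sylow} → ↥M.syl ⧸ M.Q.subgroupOf M.syl := fun C => QuotientGroup.mk ⟨el C, C.1, C.2, hel C⟩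
  have hf : Function.Bijective f := by
    refine ⟨fun C D h => Subtype.ext ?_, fun q => ?_⟩
    · have hm : (el C)⁻¹ * el D ∈ M.Q := by
        simpa [mem_subgroupOf] using QuotientGroup.eq.1 h
      exact M.acts_unique (h12 _ C.2) (h12 _ D.2) (M.acts_mul_Q (hel C) hm (h12 _ C.2)) (hel D)
    · induction q using QuotientGroup.induction_on with
      | H c =>
        obtain ⟨C, hC, hc⟩ := c.2
        refine ⟨⟨C, hC⟩, QuotientGroup.eq.2 ?_⟩
        rw [mem_subgroupOf]
        exact M.inv_mul_mem (hel ⟨C, hC⟩) hc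
  have hfs : {C // C ∈ sylow} ≃ {C // C ∈ sylow.toFinset} := Equiv.subtypeEquivRight fun C => List.mem_toFinset.symm
  rw [← Nat.card_congr (Equiv.ofBijective f hf), Nat.card_congr hfs, Nat.card_eq_fintype_card, Fintype.card_coe,
    List.toFinset_card_of_nodup hn, hl]

include M in
theorem card_cent : Nat.card ↥(centralizer ({z} : Set G)) = 2 ^ 21 * 10395 := by
  haveI := M.normal
  rw [card_eq_card_quotient_mul_card_subgroup M.Q, M.card_quot, M.card_Q]; norm_num

/-- The Sylow subgroup, bundled. -/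
noncomputable def sylS : Sylow 2 ↥(centralizer ({z} : Set G)) :=
  haveI : Fact (Nat.Prime 2) := ⟨Nat.prime_two⟩
  Sylow.ofCard M.syl (by
    rw [M.card_syl, M.card_cent, Nat.factorization_mul (by norm_num) (by norm_num), Finsupp.add_apply,
      Nat.Prime.factorization_pow Nat.prime_two, Finsupp.single_eq_same,
      Nat.factorization_eq_zero_of_not_dvd (by norm_num)])

theorem sylS_coe : (M.sylS : Subgroup ↥(centralizer ({z} : Set G))) = M.syl := rfl

theorem syl_isPGroup : IsPGroup 2 ↥M.syl := M.sylS.isPGroup'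

end Model

end Cfsg.Agent.JankoFour
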