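import Cfsg.Agent.Lib.JankoFour.Data
import Cfsg.Agent.Lib.J4Module.Orbits

/-!
Kernel checks on the tables of the group of order 2661120.
-/

set_option autoImplicit false
set_option maxRecDepth 100000

namespace Cfsg.Agent.JankoFour

open Cfsg.Agent.J4Module (app of_chunks mask)
open Cfsg.Agent.J4Module.Data

theorem app_unitC : ∀ n < 4096, app unitC n = n :=
  of_chunks 64 (by decide +kernel)

theorem gens_cols : mulC sC sC = unitC ∧ mulC sC (mulC pC sC) = p2C ∧ mulC sC (mulC fC sC) = fC ∧
    mulC sC (mulC yC sC) = yC ∧ mulC sC (mulC xC sC) = (fun g => mulC xC g)^[10] unitC ∧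
    mulC pC pC = p2C ∧ mulC pC p2C = unitC ∧ mulC pC unitC = pC := by
  decide +kernel

/-- The class of a vector: 0, or one more than the number of its orbit. -/
def cls (n : ℕ) : ℕ :=
  if mask1.testBit n then 1 else if mask2.testBit n then 2 else if mask0.testBit n then 3 else 0

theorem cls_spec : ∀ n < 4096, ∀ k : Fin 3, (mask k).testBit n = true → cls n = k.1 + 1 :=
  of_chunks 64 (by decide +kernel)

theorem cls_qbit : ∀ n < 4096, qbit n = (cls n == 3) :=
  of_chunks 64 (by decide +kernel)

theorem cls_zero : cls 0 = 0 := by decide +kernel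

/-- The value on a class. -/
def val (a b c : Bool) (n : ℕ) : Bool :=
  match cls n with
  | 1 => a
  | 2 => b
  | 3 => c
  | _ => false

/-- The biadditivity defect of a function. -/
def defect (g : ℕ → Bool) (t : ℕ × ℕ × ℕ) : Bool :=
  g (t.1 ^^^ t.2.1 ^^^ t.2.2) ^^ g (t.1 ^^^ t.2.1) ^^ g (t.1 ^^^ t.2.2) ^^ g (t.2.1 ^^^ t.2.2) ^^
    g t.1 ^^ g t.2.1 ^^ g t.2.2

/-- Two triples telling the quadratic function among the functions constant on the orbits. -/
def witnesses : List (ℕ × ℕ × ℕ) := [(1, 32, 12), (1, 2, 4)]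

theorem val_spec : ∀ a b c : Bool, (∀ t ∈ witnesses, defect (val a b c) t = false) →
    (a = false ∧ b = false ∧ c = false) ∨ (a = false ∧ b = false ∧ c = true) := by
  decide +kernel

theorem witnesses_lt : ∀ t ∈ witnesses, t.1 < 4096 ∧ t.2.1 < 4096 ∧ t.2.2 < 4096 := by decide +kernel

/-- The displacement by the element of order eleven. -/
def dx (n : ℕ) : ℕ := app xC n ^^^ n

/-- The scalar on the displaced vectors, as a polynomial in the element of order eleven. -/
def polyX (n : ℕ) : ℕ :=
  (app xC)^[1] n ^^^ (app xC)^[3] n ^^^ (app xC)^[4] n ^^^ (app xC)^[5] n ^^^ (app xC)^[9] n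

theorem p_poly : ∀ n < 4096, app pC (dx n) = polyX (dx n) :=
  of_chunks 64 (by decide +kernel)

theorem dx_four : dx 4 < 4096 ∧ dx 4 ≠ 0 := by decide +kernel

theorem fix_x : ∀ n < 4096, app xC n = n → n < 4 :=
  of_chunks 64 (by decide +kernel)

theorem fix_cases : app xC 1 = 1 ∧ app pC 1 = 2 ∧ app p2C 1 = 3 ∧ cls 1 = 3 := by decide +kernel

theorem span_spec : ∀ i < 12, cls (2 ^ i) = 3 := by decide +kernel

end Cfsg.Agent.JankoFour
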