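import Cfsg.Agent.Lib.JankoFour.Shape
import Cfsg.Agent.Lib.JankoFour.Checks
import Cfsg.Agent.Lib.J4Module.Gens

/-!
The coordinates: the centraliser of the involution acts on the extraspecial subgroup modulo its centre as the
concrete group of order 2661120.
-/

set_option autoImplicit false
set_option linter.style.haveILetI false
set_option linter.unusedSectionVars false

namespace Cfsg.Agent.JankoFour

open Subgroup
open Cfsg.Agent.LargeFischer (Ctx QG VQ mkV mkV_surjective)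
open Cfsg.Agent.J4Module (app phi Rep IsModel gen)
open Cfsg.Agent.J4Module.Data
open Cfsg.Agent.LargeExtra (mem_centralizer_one)

variable {G : Type*} [Group G] [Finite G] {z : G} {P : Subgroup G}

namespace Shape

variable (S : Shape z P)

/-- The action on Q modulo its centre. -/
noncomputable abbrev rho : ↥(centralizer ({z} : Set G)) →* Equiv.Perm (VQ S.Q) := S.ctx.rhoC

/-- The generator of P inside the centraliser. -/
def pH : ↥(centralizer ({z} : Set G)) := ⟨S.p, S.p_mem⟩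

/-- The scalar. -/
noncomputable abbrev pi1 : Equiv.Perm (VQ S.Q) := S.rho S.pH

theorem p_memP : S.p ∈ P := S.p_gen.le (mem_zpowers S.p)

theorem comm_p {c : ↥(centralizer ({z} : Set G))} (hc : (c : G) ∈ centralizer (P : Set G)) :
    Commute c S.pH :=
  Subtype.ext ((mem_centralizer_iff.1 hc S.p S.p_memP).symm)

theorem mem_cent {c : ↥(centralizer ({z} : Set G))} (hc : Commute c S.pH) : (c : G) ∈ centralizer (P : Set G) := by
  refine mem_centralizer_iff.2 fun x hx => ?_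
  rw [← S.p_gen] at hx
  obtain ⟨k, rfl⟩ := hx
  exact (Commute.zpow_right (show Commute (c : G) S.p from congrArg Subtype.val hc.eq) k).symm.eq

theorem p_cube : S.pH ^ 3 = 1 :=
  Subtype.ext (by
    show S.p ^ 3 = 1
    rw [← S.p_order, pow_orderOf_eq_one])

theorem pi1_cube : S.pi1 ^ 3 = 1 := by rw [← map_pow, S.p_cube, map_one]

theorem pi1_pow_mod (k : ℕ) : S.pi1 ^ k = S.pi1 ^ (k % 3) := pow_eq_pow_mod k S.pi1_cube

theorem pi1_fpf {v : VQ S.Q} (h : S.pi1 v = v) : v = 0 := by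
  obtain ⟨x, rfl⟩ := mkV_surjective v
  have h1 : mkV (S.ctx.conjQ S.pH x) = mkV x := h
  rw [eq_comm, S.ctx.mkV_eq_iff] at h1
  have e : (S.ctx.conjQ S.pH x : G) = S.p * x * S.p⁻¹ := rfl
  rw [e] at h1
  rw [S.ctx.mkV_eq_zero]
  rcases h1 with h1 | h1
  · refine S.ctx.xs.mem_zpowers_iff.1 (S.inf_cent ▸ ⟨x.2, mem_centralizer_iff.2 fun y hy => ?_⟩)
    rw [← S.p_gen] at hy
    obtain ⟨k, rfl⟩ := hy
    exact (Commute.zpow_left (show Commute S.p (x : G) from mul_inv_eq_iff_eq_mul.1 h1) k).eq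
  · exfalso
    have hpz : S.p * z = z * S.p := mem_centralizer_one.1 S.p_mem
    have hz : ∀ a : G, S.p * (a * z) * S.p⁻¹ = S.p * a * S.p⁻¹ * z := fun a => by
      rw [show S.p * (a * z) * S.p⁻¹ = S.p * a * S.p⁻¹ * (S.p * z * S.p⁻¹) by group,
        mul_inv_eq_iff_eq_mul.2 hpz]
    have h3 : S.p ^ 3 = 1 := by rw [← S.p_order, pow_orderOf_eq_one]
    have : (x : G) = x * z := by
      calc (x : G) = S.p ^ 3 * x * (S.p ^ 3)⁻¹ := by rw [h3]; group
        _ = S.p * (S.p * (S.p * x * S.p⁻¹) * S.p⁻¹) * S.p⁻¹ := by rw [pow_succ, pow_two]; group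
        _ = x * z * (z * z) := by rw [h1, hz, h1, hz, hz, h1, mul_assoc, mul_assoc]
        _ = x * z := by rw [S.ctx.xs.sq, mul_one]
    exact S.ctx.xs.ne_mul_z _ this

/-- An element of the normaliser of P inside the centraliser. -/
def toNH (c : ↥(centralizer ({z} : Set G))) (hc : (c : G) ∈ normalizer (P : Set G)) :
    ↥(normalizer (P : Set G) ⊓ centralizer ({z} : Set G)) := ⟨c, Subgroup.mem_inf.2 ⟨hc, c.2⟩⟩

/-- An element centralising P over a given element of M22. -/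
def Lift (m : ↥Cfsg.Spor.M22) (c : ↥(centralizer ({z} : Set G))) : Prop :=
  ∃ hc : (c : G) ∈ centralizer (P : Set G), S.pi (toNH c (centralizer_le_normalizer _ hc)) = MulAut.conj m

theorem exists_lift (m : ↥Cfsg.Spor.M22) : ∃ c, S.Lift m c := by
  obtain ⟨n, hn⟩ := S.pi_surj (MulAut.conj m)
  have hc := S.inner_cent n (hn ▸ ⟨m, rfl⟩)
  exact ⟨⟨n, n.2.2⟩, hc, hn⟩

theorem lift_mul {m m' : ↥Cfsg.Spor.M22} {c c' : ↥(centralizer ({z} : Set G))}
    (h : S.Lift m c) (h' : S.Lift m' c') : S.Lift (m * m') (c * c') := by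
  obtain ⟨hc, e⟩ := h
  obtain ⟨hc', e'⟩ := h'
  refine ⟨mul_mem hc hc', ?_⟩
  rw [map_mul, ← e, ← e', ← map_mul]
  rfl

theorem lift_inv {m : ↥Cfsg.Spor.M22} {c : ↥(centralizer ({z} : Set G))}
    (h : S.Lift m c) : S.Lift m⁻¹ c⁻¹ := by
  obtain ⟨hc, e⟩ := h
  refine ⟨inv_mem hc, ?_⟩
  rw [map_inv, ← e, ← map_inv]
  rfl

theorem lift_p : S.Lift 1 S.pH := by
  refine ⟨S.mem_cent (Commute.refl _), ?_⟩
  rw [map_one]
  exact (S.pi_ker _).2 ⟨S.p, S.p_memP, 1, one_mem _, (mul_one _).symm⟩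

theorem lift_one : S.Lift 1 1 := by
  refine ⟨S.mem_cent (Commute.one_left _), ?_⟩
  rw [map_one]
  exact (S.pi_ker _).2 ⟨1, one_mem _, 1, one_mem _, (one_mul _).symm⟩

theorem lift_pow {m : ↥Cfsg.Spor.M22} {c : ↥(centralizer ({z} : Set G))}
    (h : S.Lift m c) : ∀ k : ℕ, S.Lift (m ^ k) (c ^ k)
  | 0 => by simpa using S.lift_one
  | k + 1 => by rw [pow_succ, pow_succ]; exact S.lift_mul (lift_pow h k) h

theorem rho_lift_one {c : ↥(centralizer ({z} : Set G))} (h : S.Lift 1 c) : ∃ i < 3, S.rho c = S.pi1 ^ i := by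
  obtain ⟨hc, e⟩ := h
  rw [map_one] at e
  classical
  obtain ⟨a, ha, s, hs, e'⟩ := (S.pi_ker _).1 e
  rw [← S.p_gen, mem_zpowers_iff_mem_range_orderOf, S.p_order, Finset.mem_image] at ha
  obtain ⟨i, hi, rfl⟩ := ha
  have hsQ : s ∈ QG S.Q := zpowers_le.2 S.ctx.xs.mem hs
  obtain ⟨s', hs', rfl⟩ := hsQ
  refine ⟨i, Finset.mem_range.1 hi, ?_⟩
  rw [show c = S.pH ^ i * s' from Subtype.ext e', map_mul, map_pow,
    MonoidHom.mem_ker.1 (S.ctx.rhoC_Q hs'), mul_one]

theorem eq_of_rho {m m' : ↥Cfsg.Spor.M22} {c c' : ↥(centralizer ({z} : Set G))}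
    (h : S.Lift m c) (h' : S.Lift m' c') (e : S.rho c = S.rho c') : m = m' := by
  obtain ⟨hc, hd⟩ := S.lift_mul (S.lift_inv h) h'
  have hQ : c⁻¹ * c' ∈ S.Q := by
    rw [← S.ctx.rhoC_ker, MonoidHom.mem_ker, map_mul, map_inv, e, inv_mul_cancel]
  have hz : ((c⁻¹ * c' : ↥(centralizer ({z} : Set G))) : G) ∈ zpowers z :=
    S.inf_cent ▸ ⟨⟨_, hQ, rfl⟩, hc⟩
  have : S.pi (toNH _ (centralizer_le_normalizer _ hc)) = 1 :=
    (S.pi_ker _).2 ⟨1, one_mem _, _, hz, (one_mul _).symm⟩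
  rw [hd] at this
  exact (inv_mul_eq_one.1 (conj_injective (this.trans (map_one _).symm)))

theorem rho_pi1_comm {m : ↥Cfsg.Spor.M22} {c : ↥(centralizer ({z} : Set G))} (h : S.Lift m c) :
    Commute (S.rho c) S.pi1 :=
  (S.comm_p h.1).map S.rho

theorem exists_lift_order {m : ↥Cfsg.Spor.M22} {n k : ℕ} (hm : m ^ n = 1) (hk : (n * k + 1) % 3 = 0) :
    ∃ c, S.Lift m c ∧ S.rho c ^ n = 1 := by
  obtain ⟨c, hc⟩ := S.exists_lift m
  obtain ⟨i, -, hi⟩ := S.rho_lift_one (hm ▸ S.lift_pow hc n)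
  refine ⟨c * S.pH ^ (k * i), by simpa using S.lift_mul hc (S.lift_pow S.lift_p (k * i)), ?_⟩
  rw [map_mul, map_pow, ((S.rho_pi1_comm hc).pow_right _).mul_pow, ← map_pow S.rho c n, hi, ← pow_mul, ← pow_add,
    S.pi1_pow_mod, show (i + k * i * n) % 3 = ((n * k + 1) * i) % 3 by ring_nf, Nat.mul_mod, hk, zero_mul,
    Nat.zero_mod, pow_zero]

/-- The lifts of the three generators. -/
structure Lifts where
  x : ↥(centralizer ({z} : Set G))
  y : ↥(centralizer ({z} : Set G))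
  f : ↥(centralizer ({z} : Set G))
  hx : S.Lift (gen 0) x
  hy : S.Lift (gen 1) y
  hf : S.Lift (gen 2) f
  x11 : S.rho x ^ 11 = 1
  y5 : S.rho y ^ 5 = 1
  f4 : S.rho f ^ 4 = 1

theorem exists_lifts : Nonempty S.Lifts := by
  obtain ⟨x, hx, ex⟩ := S.exists_lift_order (n := 11) (k := 1) J4Module.gen_pow11 (by norm_num)
  obtain ⟨y, hy, ey⟩ := S.exists_lift_order (n := 5) (k := 1) J4Module.gen_pow5 (by norm_num)
  obtain ⟨f, hf, ef⟩ := S.exists_lift_order (n := 4) (k := 2) J4Module.gen_pow4 (by norm_num)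
  exact ⟨⟨x, y, f, hx, hy, hf, ex, ey, ef⟩⟩

/-- The action of an element as an additive map. -/
noncomputable def addHom (c : ↥(centralizer ({z} : Set G))) : VQ S.Q →+ VQ S.Q :=
  AddMonoidHom.mk' (S.rho c) (S.ctx.rhoC_add c)

theorem iterate_addHom (c : ↥(centralizer ({z} : Set G))) (k : ℕ) (w : VQ S.Q) :
    (S.addHom c)^[k] w = (S.rho c ^ k) w := by
  rw [Equiv.Perm.coe_pow]; rfl

/-- Relations between lifts hold without a scalar when the orders forbid one. -/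
theorem rel_exact {m : ↥Cfsg.Spor.M22} {c d : ↥(centralizer ({z} : Set G))} (hc : S.Lift m c) (hd : S.Lift m d)
    {n : ℕ} (hn : n % 3 ≠ 0) (ec : S.rho c ^ n = 1) (ed : S.rho d ^ n = 1) : S.rho c = S.rho d := by
  obtain ⟨i, hi, e⟩ := S.rho_lift_one (inv_mul_cancel m ▸ S.lift_mul (S.lift_inv hd) hc)
  rw [map_mul, map_inv, inv_mul_eq_iff_eq_mul] at e
  have h1 : S.pi1 ^ (i * n) = 1 := by
    have h := ec
    rwa [e, ((S.rho_pi1_comm hd).pow_right i).mul_pow, ed, one_mul, ← pow_mul] at h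
  have hne : S.pi1 ≠ 1 := fun e1 => by
    have h0 : ∀ v : VQ S.Q, v = 0 := fun v => S.pi1_fpf (by rw [e1]; rfl)
    haveI : Subsingleton (VQ S.Q) := ⟨fun a b => by rw [h0 a, h0 b]⟩
    have := S.ctx.card_VQ
    rw [Nat.card_of_subsingleton (0 : VQ S.Q)] at this
    omega
  have hord : orderOf S.pi1 = 3 := orderOf_eq_prime S.pi1_cube hne
  have h3 : 3 ∣ i * n := hord ▸ orderOf_dvd_of_pow_eq_one h1
  rcases (Nat.prime_three.dvd_mul.1 h3) with h | h
  · rw [e, Nat.eq_zero_of_dvd_of_lt h hi, pow_zero, mul_one]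
  · exact absurd (Nat.mod_eq_zero_of_dvd h) hn

variable {S}

theorem Lifts.rep (L : S.Lifts) : Rep (S.addHom S.pH) (S.addHom L.x) (S.addHom L.y) (S.addHom L.f) := by
  have hsq : ∀ w, S.addHom S.pH (S.addHom S.pH w) = (S.pi1 ^ 2) w := fun w => rfl
  have hyx : S.rho L.y * S.rho L.x = S.rho L.x ^ 3 * S.rho L.y := by
    have h := S.rel_exact (n := 11) (c := L.y * L.x * L.y⁻¹) (d := L.x ^ 3)
      (S.lift_mul (S.lift_mul L.hy L.hx) (S.lift_inv L.hy))
      (by rw [J4Module.gen_yx, mul_inv_cancel_right]; exact S.lift_pow L.hx 3) (by norm_num)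
      (by rw [map_mul, map_mul, map_inv, conj_pow, L.x11, mul_one, mul_inv_cancel])
      (by rw [map_pow, ← pow_mul, mul_comm, pow_mul, L.x11, one_pow])
    rwa [map_mul, map_mul, map_inv, map_pow, mul_inv_eq_iff_eq_mul] at h
  have hfy : S.rho L.f * S.rho L.y = S.rho L.y ^ 2 * S.rho L.f := by
    have h := S.rel_exact (n := 5) (c := L.f * L.y * L.f⁻¹) (d := L.y ^ 2)
      (S.lift_mul (S.lift_mul L.hf L.hy) (S.lift_inv L.hf))
      (by rw [J4Module.gen_fy, mul_inv_cancel_right]; exact S.lift_pow L.hy 2) (by norm_num)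
      (by rw [map_mul, map_mul, map_inv, conj_pow, L.y5, mul_one, mul_inv_cancel])
      (by rw [map_pow, ← pow_mul, mul_comm, pow_mul, L.y5, one_pow])
    rwa [map_mul, map_mul, map_inv, map_pow, mul_inv_eq_iff_eq_mul] at h
  refine ⟨S.ctx.card_VQ, S.ctx.two, fun w => ?_, fun w => ?_, fun w => ?_, fun w => ?_, fun w => ?_, ?_,
    fun w => ?_, fun w => ?_, fun w => ?_, fun w => ?_, fun w => ?_⟩
  · refine S.pi1_fpf ?_
    show S.addHom S.pH (S.addHom S.pH (S.addHom S.pH w) + S.addHom S.pH w + w) = _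
    rw [map_add, map_add, show S.addHom S.pH (S.addHom S.pH (S.addHom S.pH w)) = (S.pi1 ^ 3) w from rfl,
      S.pi1_cube, Equiv.Perm.one_apply]
    abel
  · exact (Equiv.Perm.ext_iff.1 (S.rho_pi1_comm L.hx).eq w).symm
  · exact (Equiv.Perm.ext_iff.1 (S.rho_pi1_comm L.hy).eq w).symm
  · exact (Equiv.Perm.ext_iff.1 (S.rho_pi1_comm L.hf).eq w).symm
  · rw [S.iterate_addHom, L.x11]; rfl
  · by_contra hall
    push Not at hall
    refine J4Module.gen_ne_one (S.eq_of_rho L.hx S.lift_one ?_)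
    rw [map_one]
    exact Equiv.ext hall
  · rw [S.iterate_addHom, L.y5]; rfl
  · rw [S.iterate_addHom]
    exact Equiv.Perm.ext_iff.1 hyx w
  · rw [S.iterate_addHom, L.f4]; rfl
  · rw [S.iterate_addHom]
    exact Equiv.Perm.ext_iff.1 hfy w
  · have hl := S.lift_pow (S.lift_mul L.hx L.hf) 11
    rw [J4Module.gen_word11] at hl
    obtain ⟨i, hi, e⟩ := S.rho_lift_one hl
    have h : ((S.addHom L.x) ∘ (S.addHom L.f))^[11] w = (S.pi1 ^ i) w := by
      rw [show (⇑(S.addHom L.x) ∘ ⇑(S.addHom L.f)) = ⇑(S.addHom (L.x * L.f)) from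
        funext fun v => (Equiv.Perm.ext_iff.1 (map_mul S.rho L.x L.f) v).symm, S.iterate_addHom, ← map_pow, e]
    rw [h]
    interval_cases i
    · exact Or.inl rfl
    · exact Or.inr (Or.inl rfl)
    · exact Or.inr (Or.inr (hsq w).symm)

end Shape

end Cfsg.Agent.JankoFour
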