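/-!
Coset representatives of the stabiliser of the hexad space and the action of the generators on them.
-/

namespace Cfsg.Agent.JankoFour.Coset

/-- Words of the representatives of the 77 cosets. -/
def repWords : List (List Nat) :=
  [[], [0], [1], [2], [4],
    [0, 0], [1, 0], [2, 0], [4, 0], [0, 1],
    [1, 1], [2, 1], [4, 1], [0, 2], [1, 2],
    [2, 2], [4, 2], [0, 4], [0, 0, 0], [1, 0, 0],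
    [2, 0, 0], [2, 1, 0], [1, 2, 0], [0, 0, 1], [2, 0, 1],
    [1, 1, 1], [2, 1, 1], [0, 2, 1], [1, 2, 1], [4, 2, 1],
    [0, 4, 1], [0, 0, 2], [1, 0, 2], [0, 1, 2], [2, 1, 2],
    [4, 1, 2], [0, 2, 2], [0, 4, 2], [1, 0, 4], [2, 0, 4],
    [4, 0, 4], [1, 0, 0, 0], [2, 0, 0, 0], [1, 1, 0, 0], [2, 1, 0, 0],
    [1, 2, 0, 0], [2, 2, 0, 0], [0, 1, 2, 0], [1, 0, 0, 1], [2, 0, 0, 1],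
    [1, 1, 1, 1], [2, 0, 2, 1], [4, 0, 2, 1], [0, 1, 2, 1], [4, 1, 2, 1],
    [1, 0, 0, 2], [2, 0, 0, 2], [0, 1, 0, 2], [0, 0, 1, 2], [2, 0, 2, 2],
    [2, 0, 4, 2], [0, 1, 0, 4], [2, 1, 0, 4], [0, 2, 0, 4], [4, 2, 0, 4],
    [2, 1, 0, 0, 0], [0, 2, 0, 0, 0], [2, 2, 0, 0, 0], [2, 1, 1, 0, 0], [1, 2, 1, 0, 0],
    [1, 1, 0, 0, 1], [0, 2, 0, 2, 1], [4, 2, 0, 2, 1], [2, 0, 1, 0, 4], [0, 2, 1, 0, 4],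
    [0, 2, 1, 0, 0, 0], [1, 2, 1, 0, 0, 0]]

/-- For a coset and a generator: the image coset and a word of the element of the stabiliser. -/
def cosetTab : List (Nat × Nat × Nat × List Nat) :=
  [(0, 0, 1, []), (0, 1, 2, []),
    (0, 2, 3, []), (0, 3, 0, [4, 4, 4, 4, 4]),
    (0, 4, 4, []), (1, 0, 5, []),
    (1, 1, 6, []), (1, 2, 7, []),
    (1, 3, 1, [4, 4, 4, 4, 4]), (1, 4, 8, []),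
    (2, 0, 9, []), (2, 1, 10, []),
    (2, 2, 11, []), (2, 3, 2, [4, 4, 4, 4, 4]),
    (2, 4, 12, []), (3, 0, 13, []),
    (3, 1, 14, []), (3, 2, 15, []),
    (3, 3, 3, [4, 4, 4, 4, 4]), (3, 4, 16, []),
    (4, 0, 17, []), (4, 1, 12, []),
    (4, 2, 16, []), (4, 3, 4, [1, 3, 4, 3, 4, 2, 0]),
    (4, 4, 0, []), (5, 0, 18, []),
    (5, 1, 19, []), (5, 2, 20, []),
    (5, 3, 5, [4, 4, 4, 4, 4]), (5, 4, 18, [0, 4, 3, 4, 2]),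
    (6, 0, 12, [0, 4, 3, 4, 2]), (6, 1, 13, [2, 1, 2, 4, 1, 0]),
    (6, 2, 21, []), (6, 3, 6, [4, 4, 4, 4, 4]),
    (6, 4, 9, [0, 4, 3, 4, 2]), (7, 0, 16, [4, 5, 3, 4, 1, 0]),
    (7, 1, 22, []), (7, 2, 6, [4, 0, 5, 4, 0, 4, 0]),
    (7, 3, 7, [4, 4, 4, 4, 4]), (7, 4, 13, [4, 5, 3, 4, 1, 0]),
    (8, 0, 4, []), (8, 1, 9, [0, 4, 3, 4, 2]),
    (8, 2, 13, [4, 5, 3, 4, 1, 0]), (8, 3, 8, [1, 3, 4, 3, 4, 2, 0]),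
    (8, 4, 1, []), (9, 0, 23, []),
    (9, 1, 7, [3, 5, 3, 4]), (9, 2, 24, []),
    (9, 3, 9, [4, 4, 4, 4, 4]), (9, 4, 6, [0, 4, 3, 4, 2]),
    (10, 0, 15, [5, 4, 1, 4, 1, 5]), (10, 1, 25, []),
    (10, 2, 26, []), (10, 3, 10, [4, 4, 4, 4, 4]),
    (10, 4, 15, [0, 3, 4, 2, 4, 5, 4, 0]), (11, 0, 27, []),
    (11, 1, 28, []), (11, 2, 12, [0, 3, 4, 2, 4, 5, 4, 0]),
    (11, 3, 11, [4, 4, 4, 4, 4]), (11, 4, 29, []),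
    (12, 0, 30, []), (12, 1, 15, [0, 3, 4, 2, 4, 5, 4, 0]),
    (12, 2, 29, []), (12, 3, 12, [1, 3, 4, 3, 4, 2, 0]),
    (12, 4, 2, []), (13, 0, 31, []),
    (13, 1, 32, []), (13, 2, 9, [3, 4, 5, 2, 4, 2, 5]),
    (13, 3, 13, [4, 4, 4, 4, 4]), (13, 4, 7, [4, 4, 5, 4, 4, 0, 1, 0]),
    (14, 0, 33, []), (14, 1, 11, []),
    (14, 2, 34, []), (14, 3, 14, [4, 4, 4, 4, 4]),
    (14, 4, 35, []), (15, 0, 36, []),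
    (15, 1, 33, [4, 2, 4, 0, 1, 4]), (15, 2, 30, [2, 0, 4, 0, 4, 4, 0]),
    (15, 3, 15, [4, 4, 4, 4, 4]), (15, 4, 10, [0, 3, 4, 2, 4, 5, 4, 0]),
    (16, 0, 37, []), (16, 1, 35, []),
    (16, 2, 10, [0, 3, 4, 2, 4, 5, 4, 0]), (16, 3, 16, [1, 3, 4, 3, 4, 2, 0]),
    (16, 4, 3, []), (17, 0, 28, [5, 1, 4, 0, 4, 0, 0]),
    (17, 1, 38, []), (17, 2, 39, []),
    (17, 3, 17, [1, 3, 4, 3, 4, 2, 0]), (17, 4, 40, []),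
    (18, 0, 8, [0, 4, 3, 4, 2]), (18, 1, 41, []),
    (18, 2, 42, []), (18, 3, 18, [4, 4, 4, 4, 4]),
    (18, 4, 5, [0, 4, 3, 4, 2]), (19, 0, 38, [0, 4, 3, 4, 2]),
    (19, 1, 43, []), (19, 2, 44, []),
    (19, 3, 19, [4, 4, 4, 4, 4]), (19, 4, 41, [0, 4, 3, 4, 2]),
    (20, 0, 39, [4, 0, 3, 4, 4, 4, 1, 0]), (20, 1, 45, []),
    (20, 2, 46, []), (20, 3, 20, [4, 4, 4, 4, 4]),
    (20, 4, 42, [0, 4, 3, 4, 2]), (21, 0, 11, [4, 4, 3, 4, 2, 4, 1, 0]),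
    (21, 1, 8, [0, 3, 4, 1, 0, 4, 0]), (21, 2, 1, [4, 0, 5, 4, 0, 4, 0]),
    (21, 3, 21, [4, 4, 4, 4, 4]), (21, 4, 24, [0, 4, 3, 4, 2]),
    (22, 0, 47, []), (22, 1, 21, []),
    (22, 2, 32, [4, 4, 5, 4, 4, 0, 0]), (22, 3, 22, [4, 4, 4, 4, 4]),
    (22, 4, 32, [4, 5, 3, 4, 1, 0]), (23, 0, 6, []),
    (23, 1, 48, []), (23, 2, 49, []),
    (23, 3, 23, [4, 4, 4, 4, 4]), (23, 4, 23, [0, 4, 3, 4, 2]),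
    (24, 0, 21, [3, 4, 1, 3, 4, 3, 1]), (24, 1, 1, [2, 3, 4, 0, 4, 0, 2]),
    (24, 2, 8, [4, 0, 4, 1, 1, 2, 0]), (24, 3, 24, [4, 4, 4, 4, 4]),
    (24, 4, 21, [0, 4, 3, 4, 2]), (25, 0, 35, [5, 1, 4, 0, 4, 0, 0]),
    (25, 1, 50, []), (25, 2, 14, []),
    (25, 3, 25, [4, 4, 4, 4, 4]), (25, 4, 33, [5, 1, 4, 0, 4, 0, 0]),
    (26, 0, 2, [1, 4, 4, 5, 3, 2, 4]), (26, 1, 3, []),
    (26, 2, 4, [0, 3, 4, 2, 4, 5, 4, 0]), (26, 3, 26, [4, 4, 4, 4, 4]),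
    (26, 4, 30, [1, 4, 4, 5, 3, 2, 4]), (27, 0, 46, [2, 1, 4, 0, 4, 0]),
    (27, 1, 40, [1, 4, 4, 5, 3, 2, 4]), (27, 2, 51, []),
    (27, 3, 27, [4, 4, 4, 4, 4]), (27, 4, 52, []),
    (28, 0, 53, []), (28, 1, 26, []),
    (28, 2, 33, [4, 2, 4, 0, 1, 4]), (28, 3, 28, [4, 4, 4, 4, 4]),
    (28, 4, 54, []), (29, 0, 24, [4, 5, 0, 4, 4, 1, 3]),
    (29, 1, 54, []), (29, 2, 2, [0, 3, 4, 2, 4, 5, 4, 0]),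
    (29, 3, 29, [1, 3, 4, 3, 4, 2, 0]), (29, 4, 11, []),
    (30, 0, 19, [0, 4, 3, 4, 2]), (30, 1, 16, [2, 1, 2, 4, 1, 0]),
    (30, 2, 0, [4, 4, 0, 4, 1, 1, 2, 0]), (30, 3, 30, [1, 3, 4, 3, 4, 2, 0]),
    (30, 4, 26, [2, 1, 2, 4, 1, 0]), (31, 0, 10, [1, 4, 4, 5, 3, 2, 4]),
    (31, 1, 55, []), (31, 2, 56, []),
    (31, 3, 31, [4, 4, 4, 4, 4]), (31, 4, 36, [1, 4, 0, 4, 4, 5, 5, 0]),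
    (32, 0, 57, []), (32, 1, 24, [2, 5, 4, 3, 1, 4, 0]),
    (32, 2, 22, [1, 4, 4, 5, 3, 2, 4]), (32, 3, 32, [4, 4, 4, 4, 4]),
    (32, 4, 22, [4, 4, 5, 4, 4, 0, 1, 0]), (33, 0, 58, []),
    (33, 1, 34, [2, 4, 0, 1]), (33, 2, 35, [5, 3, 4, 2, 3, 0]),
    (33, 3, 33, [4, 4, 4, 4, 4]), (33, 4, 25, [5, 3, 4, 2, 3, 0]),
    (34, 0, 49, [1, 3, 4, 1, 4, 0]), (34, 1, 4, [0, 3, 4, 2, 4, 5, 4, 0]),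
    (34, 2, 54, [0, 3, 4, 2, 4, 5, 4, 0]), (34, 3, 34, [4, 4, 4, 4, 4]),
    (34, 4, 50, [0, 3, 4, 2, 4, 5, 4, 0]), (35, 0, 14, [3, 4, 1, 0, 1, 4, 0, 2]),
    (35, 1, 29, []), (35, 2, 50, [0, 3, 4, 2, 4, 5, 4, 0]),
    (35, 3, 35, [1, 3, 4, 3, 4, 2, 0]), (35, 4, 14, []),
    (36, 0, 7, [3, 4, 4, 0, 2, 3, 1]), (36, 1, 57, [4, 2, 4, 0, 1, 4]),
    (36, 2, 59, []), (36, 3, 36, [4, 4, 4, 4, 4]),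
    (36, 4, 31, [1, 4, 4, 4, 5, 4, 0, 0]), (37, 0, 48, [5, 3, 4, 2, 3, 0]),
    (37, 1, 58, [3, 4, 1, 0, 1, 4, 0, 2]), (37, 2, 60, []),
    (37, 3, 37, [1, 3, 4, 3, 4, 2, 0]), (37, 4, 43, [1, 4, 4, 5, 3, 2, 4]),
    (38, 0, 61, []), (38, 1, 31, [5, 1, 4, 0, 4, 0, 0]),
    (38, 2, 62, []), (38, 3, 38, [1, 3, 4, 3, 4, 2, 0]),
    (38, 4, 61, [0, 4, 3, 4, 2]), (39, 0, 63, []),
    (39, 1, 63, [1, 4, 3, 4, 3, 4, 2, 0]), (39, 2, 55, [0, 2, 4, 4, 3, 5]),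
    (39, 3, 39, [1, 3, 4, 3, 4, 2, 0]), (39, 4, 64, []),
    (40, 0, 0, []), (40, 1, 61, [0, 4, 3, 4, 2]),
    (40, 2, 64, []), (40, 3, 40, [4, 4, 4, 4, 4]),
    (40, 4, 17, []), (41, 0, 26, [2, 1, 2, 4, 1, 0]),
    (41, 1, 37, [5, 1, 4, 0, 4, 0, 0]), (41, 2, 65, []),
    (41, 3, 41, [4, 4, 4, 4, 4]), (41, 4, 19, [0, 4, 3, 4, 2]),
    (42, 0, 66, []), (42, 1, 66, [3, 5, 2, 4, 2, 4, 5, 0]),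
    (42, 2, 67, []), (42, 3, 42, [4, 4, 4, 4, 4]),
    (42, 4, 20, [0, 4, 3, 4, 2]), (43, 0, 3, [2, 1, 2, 4, 1, 0]),
    (43, 1, 47, [3, 5, 3, 4]), (43, 2, 68, []),
    (43, 3, 43, [4, 4, 4, 4, 4]), (43, 4, 37, [2, 1, 2, 4, 1, 0]),
    (44, 0, 56, [5, 3, 5, 4, 4, 3]), (44, 1, 69, []),
    (44, 2, 47, [5, 1, 4, 1, 2, 1]), (44, 3, 44, [4, 4, 4, 4, 4]),
    (44, 4, 65, [0, 4, 3, 4, 2]), (45, 0, 20, [4, 4, 2, 4, 4, 0, 2]),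
    (45, 1, 44, []), (45, 2, 19, [4, 4, 4, 1, 4, 4, 4, 1]),
    (45, 3, 45, [4, 4, 4, 4, 4]), (45, 4, 66, [2, 0, 4, 3, 0]),
    (46, 0, 34, [2, 4, 0, 1, 4]), (46, 1, 5, [4, 4, 4, 1, 4, 4, 4, 1]),
    (46, 2, 69, [4, 4, 4, 1, 4, 4, 4, 1]), (46, 3, 46, [4, 4, 4, 4, 4]),
    (46, 4, 67, [0, 4, 3, 4, 2]), (47, 0, 25, [4, 3, 2, 4, 4, 1]),
    (47, 1, 46, [4, 3, 4, 2, 4, 1, 0]), (47, 2, 45, [4, 3, 2, 4, 4, 1]),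
    (47, 3, 47, [4, 4, 4, 4, 4]), (47, 4, 58, [4, 5, 3, 4, 1, 0]),
    (48, 0, 43, []), (48, 1, 70, []),
    (48, 2, 23, [5]), (48, 3, 48, [4, 4, 4, 4, 4]),
    (48, 4, 48, [0, 4, 3, 4, 2]), (49, 0, 50, [5]),
    (49, 1, 53, [3, 5, 2, 4, 3, 1]), (49, 2, 53, [0, 2, 4, 2, 0, 0]),
    (49, 3, 49, [4, 4, 4, 4, 4]), (49, 4, 49, [0, 4, 3, 4, 2]),
    (50, 0, 67, [2, 0, 4, 4, 1, 4, 4]), (50, 1, 0, []),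
    (50, 2, 28, []), (50, 3, 50, [4, 4, 4, 4, 4]),
    (50, 4, 34, [0, 3, 4, 2, 4, 5, 4, 0]), (51, 0, 71, []),
    (51, 1, 59, [2, 4, 0, 1]), (51, 2, 27, [4, 2, 4, 0, 1]),
    (51, 3, 51, [4, 4, 4, 4, 4]), (51, 4, 72, []),
    (52, 0, 29, []), (52, 1, 17, [1, 4, 4, 5, 3, 2, 4]),
    (52, 2, 72, []), (52, 3, 52, [1, 3, 4, 3, 4, 2, 0]),
    (52, 4, 27, []), (53, 0, 54, [3, 4, 1, 0, 1, 4, 0, 2]),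
    (53, 1, 23, [1, 4, 4, 5, 3, 2, 4]), (53, 2, 48, [1, 3, 0, 4, 0, 4, 1, 0]),
    (53, 3, 53, [4, 4, 4, 4, 4]), (53, 4, 53, [3, 4, 1, 0, 1, 4, 0, 2]),
    (54, 0, 40, [5, 3, 4, 2, 3, 0]), (54, 1, 30, [1, 4, 4, 5, 3, 2, 4]),
    (54, 2, 25, [0, 3, 4, 2, 4, 5, 4, 0]), (54, 3, 54, [1, 3, 4, 3, 4, 2, 0]),
    (54, 4, 28, []), (55, 0, 22, [4, 4, 2, 3, 4, 1, 0]),
    (55, 1, 52, [3, 4, 1, 0, 1, 4, 0, 2]), (55, 2, 63, [5, 1, 4, 0, 4, 5, 0]),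
    (55, 3, 55, [4, 4, 4, 4, 4]), (55, 4, 57, [3, 4, 1, 0, 1, 4, 0, 2]),
    (56, 0, 69, [5, 2, 4, 4, 2, 3]), (56, 1, 39, [5, 3, 4, 2, 3, 0]),
    (56, 2, 38, [2, 5, 4, 4, 0, 3]), (56, 3, 56, [4, 4, 4, 4, 4]),
    (56, 4, 59, [1, 4, 0, 4, 4, 5, 5, 0]), (57, 0, 70, [1, 4, 4, 5, 3, 2, 4]),
    (57, 1, 27, []), (57, 2, 71, [0, 3, 4, 0, 3, 5]),
    (57, 3, 57, [4, 4, 4, 4, 4]), (57, 4, 55, [3, 4, 1, 0, 1, 4, 0, 2]),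
    (58, 0, 32, []), (58, 1, 67, [4, 4, 3, 4, 4, 4, 3]),
    (58, 2, 66, [2, 4, 3, 4, 2, 3]), (58, 3, 58, [4, 4, 4, 4, 4]),
    (58, 4, 47, [4, 4, 5, 4, 4, 0, 1, 0]), (59, 0, 65, [0, 2, 4, 4, 1, 4, 4, 3]),
    (59, 1, 64, [1, 0, 4, 2, 0, 4, 0]), (59, 2, 61, [3, 4, 2, 5, 4, 5]),
    (59, 3, 59, [4, 4, 4, 4, 4]), (59, 4, 56, [1, 4, 4, 4, 5, 4, 0, 0]),
    (60, 0, 51, [3, 4, 4, 0, 1, 0, 4, 0]), (60, 1, 42, [5, 3, 4, 2, 3, 0]),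
    (60, 2, 37, [0, 4, 4, 2, 3, 4, 2]), (60, 3, 60, [1, 3, 4, 3, 4, 2, 0]),
    (60, 4, 68, [1, 4, 4, 5, 3, 2, 4]), (61, 0, 41, [0, 4, 3, 4, 2]),
    (61, 1, 36, [0, 3, 4, 2, 4, 5, 4, 0]), (61, 2, 73, []),
    (61, 3, 61, [1, 3, 4, 3, 4, 2, 0]), (61, 4, 38, [0, 4, 3, 4, 2]),
    (62, 0, 74, []), (62, 1, 72, [2, 1, 2, 4, 1, 0]),
    (62, 2, 31, [0, 2, 4, 4, 3, 5]), (62, 3, 62, [1, 3, 4, 3, 4, 2, 0]),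
    (62, 4, 73, [0, 4, 3, 4, 2]), (63, 0, 72, [3, 4, 0, 5]),
    (63, 1, 62, [3, 4, 0, 4, 1, 2, 4, 0]), (63, 2, 17, [0, 3, 4, 4, 4, 3, 0]),
    (63, 3, 63, [1, 3, 4, 3, 4, 2, 0]), (63, 4, 71, [3, 4, 0, 5]),
    (64, 0, 42, [4, 2, 4, 1, 4, 4, 0, 0]), (64, 1, 71, [3, 5, 3, 4, 1, 4, 1, 0]),
    (64, 2, 57, [1, 0, 4, 1, 1, 1, 4]), (64, 3, 64, [4, 4, 4, 4, 4]),
    (64, 4, 39, []), (65, 0, 75, []),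
    (65, 1, 76, []), (65, 2, 58, [4, 5, 5]),
    (65, 3, 65, [4, 4, 4, 4, 4]), (65, 4, 44, [0, 4, 3, 4, 2]),
    (66, 0, 76, [1, 0, 4, 5, 2, 4, 4, 0]), (66, 1, 65, [5, 1, 4, 4, 3, 4, 2, 0]),
    (66, 2, 41, [0, 5, 4, 5, 0]), (66, 3, 66, [4, 4, 4, 4, 4]),
    (66, 4, 45, [2, 5, 1, 4, 0, 4, 2]), (67, 0, 52, [4, 0, 4, 3, 4, 2]),
    (67, 1, 18, [2, 0, 4, 4, 1, 4, 4]), (67, 2, 76, [2, 0, 4, 4, 1, 4, 4]),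
    (67, 3, 67, [4, 4, 4, 4, 4]), (67, 4, 46, [0, 4, 3, 4, 2]),
    (68, 0, 62, [1, 5, 3, 4, 2, 4, 2]), (68, 1, 20, []),
    (68, 2, 43, [4, 4, 4, 1, 4, 4, 4, 1]), (68, 3, 68, [4, 4, 4, 4, 4]),
    (68, 4, 60, [2, 1, 2, 4, 1, 0]), (69, 0, 45, [4, 1, 4, 2, 4, 3, 4, 3]),
    (69, 1, 68, []), (69, 2, 5, [4, 4, 4, 1, 4, 4, 4, 1]),
    (69, 3, 69, [4, 4, 4, 4, 4]), (69, 4, 76, [0, 4, 3, 4, 2]),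
    (70, 0, 55, [2, 1, 2, 4, 1, 0]), (70, 1, 49, [5, 5, 5]),
    (70, 2, 70, [5]), (70, 3, 70, [4, 4, 4, 4, 4]),
    (70, 4, 70, [0, 4, 3, 4, 2]), (71, 0, 64, [4, 2, 4, 3, 4, 5, 1]),
    (71, 1, 73, [4, 3, 2, 0, 4, 1, 1]), (71, 2, 40, [1, 4, 5, 4, 1, 0]),
    (71, 3, 71, [4, 4, 4, 4, 4]), (71, 4, 63, [4, 2, 4, 3, 4, 5, 1]),
    (72, 0, 68, [3, 2, 4, 4, 0, 4, 0, 0]), (72, 1, 56, [3, 4, 1, 0, 1, 4, 0, 2]),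
    (72, 2, 52, [4, 2, 4, 0, 1]), (72, 3, 72, [1, 3, 4, 3, 4, 2, 0]),
    (72, 4, 51, []), (73, 0, 60, [3, 2, 5, 4, 2, 4, 0]),
    (73, 1, 51, [5, 1, 4, 0, 4, 0, 0]), (73, 2, 36, [3, 4, 1, 5, 0, 4, 5]),
    (73, 3, 73, [1, 3, 4, 3, 4, 2, 0]), (73, 4, 62, [0, 4, 3, 4, 2]),
    (74, 0, 44, [4, 5, 4, 3, 0, 1]), (74, 1, 74, [1, 4, 3, 4, 3, 4, 2, 0]),
    (74, 2, 75, [5, 0, 0, 4, 4, 0, 1]), (74, 3, 74, [1, 3, 4, 3, 4, 2, 0]),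
    (74, 4, 75, [4, 2, 4, 1, 4, 4, 0, 0]), (75, 0, 73, [4, 5, 4, 4, 0, 4, 0, 1]),
    (75, 1, 75, [3, 5, 2, 4, 2, 4, 5, 0]), (75, 2, 74, [0, 4, 1, 4, 3, 1, 1]),
    (75, 3, 75, [4, 4, 4, 4, 4]), (75, 4, 74, [0, 4, 0, 3, 4, 3]),
    (76, 0, 59, [0, 0, 4, 2, 0, 2]), (76, 1, 60, [5, 1, 4, 0, 4, 0, 0]),
    (76, 2, 18, [2, 0, 4, 4, 1, 4, 4]), (76, 3, 76, [4, 4, 4, 4, 4]),
    (76, 4, 69, [0, 4, 3, 4, 2])]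

end Cfsg.Agent.JankoFour.Coset
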