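import Cfsg.Agent.Lib.JankoFour.BigExists
import Cfsg.Agent.Lib.JankoFour.CosetData

/-!
Decidable facts on the cosets of the stabiliser of the hexad space.
-/

set_option autoImplicit false
set_option maxRecDepth 100000

namespace Cfsg.Agent.JankoFour.Coset

open Cfsg.Agent.J4Module (app)
open Cfsg.Agent.J4Module.Data
open Big

/-- The generators of the stabiliser. -/
def sgen (k : ℕ) : List ℕ := if k < 4 then sylGens.getD k unitC else sEl (k - 4)

/-- A word in the generators of the stabiliser. -/
def sWord (w : List ℕ) : List ℕ := w.foldr (fun k C => mulC (sgen k) C) unitC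

/-- A representative. -/
def rep (j : ℕ) : List ℕ := wordC (repWords.getD j [])

theorem rep_spec : repWords.length = 77 ∧ (∀ w ∈ repWords, ∀ k ∈ w, k < 5) ∧ rep 0 = unitC := by decide +kernel

theorem sgen_syl : ∀ k < 4, sylGens.getD k unitC ∈ sylow := by decide +kernel

theorem tab_spec : ∀ e ∈ cosetTab, e.2.2.1 < 77 ∧ (∀ k ∈ e.2.2.2, k < 6) ∧
    mulC (gensL.getD e.2.1 unitC) (rep e.1) = mulC (rep e.2.2.1) (sWord e.2.2.2) := by decide +kernel

theorem tab_cover : ∀ j < 77, ∀ k < 5, ∃ e ∈ cosetTab, e.1 = j ∧ e.2.1 = k := by decide +kernel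

theorem moved_vec : ∀ j < 77, j ≠ 0 → ∀ v ∈ bigW, app (rep j) v ∈ bigW → cls (app (rep j) v) ≠ 2 := by decide +kernel

/-- The representative conjugates no non-trivial element of the hexad group into it. -/
def hexFree (r : List ℕ) (l : List (List ℕ)) : Bool :=
  l.all fun x => l.all fun y => mulC r x != mulC y r

/-- The non-trivial elements of the hexad group. -/
def hexList : List (List ℕ) := (List.range 15).map fun i => bEl (i + 1)

theorem hexFree_ok : ∀ j < 77, j ≠ 0 → hexFree (rep j) hexList = true := by decide +kernel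

theorem moved_hex (j : ℕ) (hj : j < 77) (h0 : j ≠ 0) (a : ℕ) (ha : a < 16) (b : ℕ) (hb : b < 16) (ha0 : a ≠ 0)
    (hb0 : b ≠ 0) : mulC (rep j) (bEl a) ≠ mulC (bEl b) (rep j) := by
  have h := hexFree_ok j hj h0
  simp only [hexFree, List.all_eq_true, bne_iff_ne] at h
  refine h _ ?_ _ ?_
  · exact List.mem_map.2 ⟨a - 1, List.mem_range.2 (by omega), by rw [Nat.sub_add_cancel (by omega)]⟩
  · exact List.mem_map.2 ⟨b - 1, List.mem_range.2 (by omega), by rw [Nat.sub_add_cancel (by omega)]⟩

end Cfsg.Agent.JankoFour.Coset
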