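import Cfsg.Agent.Lib.JankoFour.HintoInner
import Cfsg.Agent.Lib.JankoFour.CosetChecks
import Cfsg.Agent.Lib.JankoFour.Split

/-!
The centraliser of the involution and of a further involution of the large abelian subgroup normalises it.
-/

set_option autoImplicit false
set_option linter.unusedSectionVars false

namespace Cfsg.Agent.JankoFour

open Subgroup
open Cfsg.Agent.LargeFischer (Ctx QG)
open Cfsg.Agent.J4Module (app elemI)
open Cfsg.Agent.J4Module.Data
open Big Coset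

variable {G : Type*} [Group G] [Finite G] {z : G} {P : Subgroup G}

namespace BigData

variable {M : Model z P} (B : BigData M)
include B

/-- Some lift of the columns normalises the subgroup. -/
def Good (D : List ℕ) : Prop :=
  ∃ n : ↥(centralizer ({z} : Set G)), (n : G) ∈ normalizer (B.V : Set G) ∧ M.Acts n D

theorem good_sgen {k : ℕ} (hk : k < 6) : B.Good (sgen k) := by
  unfold sgen
  split_ifs with h
  · obtain ⟨c, hc⟩ := M.exists_elem _ (sylow_InL0 (sgen_syl k h))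
    exact ⟨c, by rw [B.V_eq_vG]; exact Model.syl_mem_normalizer ⟨_, sgen_syl k h, hc⟩, hc⟩
  · obtain ⟨c, hcP, hc⟩ := M.cent_elem _ (sEl_InK0 (show k - 4 < 2 by omega))
    exact ⟨c, B.stab_norm (by omega) hcP hc, hc⟩

theorem good_word : ∀ {w : List ℕ}, (∀ k ∈ w, k < 6) → B.Good (sWord w)
  | [], _ => ⟨1, one_mem _, M.acts_one⟩
  | k :: w, h => by
    obtain ⟨c, hc, hca⟩ := B.good_sgen (h k List.mem_cons_self)
    obtain ⟨d, hd, hda⟩ := good_word (w := w) fun j hj => h j (List.mem_cons_of_mem _ hj)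
    exact ⟨c * d, mul_mem hc hd, M.acts_mul hca hda⟩

theorem coset_decomp {C : List ℕ} (hC : InL0 C) :
    ∃ j < 77, ∃ D, B.Good D ∧ ∀ n < 4096, app C n = app (rep j) (app D n) := by
  induction hC with
  | one =>
    exact ⟨0, by norm_num, unitC, ⟨1, one_mem _, M.acts_one⟩, fun n hn => by
      rw [rep_spec.2.2, app_unitC _ hn, app_unitC _ hn]⟩
  | @mul g h hg _ ih =>
    obtain ⟨j, hj, D, ⟨d, hd, hda⟩, e⟩ := ih
    obtain ⟨k, hk, rfl⟩ := List.getElem_of_mem hg
    have hk5 : k < 5 := hk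
    obtain ⟨t, ht, rfl, htk⟩ := tab_cover j hj k hk5
    obtain ⟨hj', hw, he⟩ := tab_spec t ht
    obtain ⟨c, hc, hca⟩ := B.good_word hw
    refine ⟨_, hj', mulC (sWord t.2.2.2) D, ⟨c * d, mul_mem hc hd, M.acts_mul hca hda⟩, fun n hn => ?_⟩
    rw [app_mulC, e n hn, ← app_mulC, ← app_mulC, ← app_mulC, ← mulC_assoc, ← he, htk,
      List.getD_eq_getElem _ _ hk]

/-- The centraliser lemma. -/
theorem cent_pair_le {t : G} (htV : t ∈ B.V) (ht1 : t ≠ 1) (htz : t ≠ z)
    (hcls : ∀ x : ↥(QG M.Q), (x : G) = t → cls (M.vec x) = 2) :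
    centralizer ({z} : Set G) ⊓ centralizer ({t} : Set G) ≤ normalizer (B.V : Set G) := by
  intro a ha
  set c : ↥(centralizer ({z} : Set G)) := ⟨a, ha.1⟩
  obtain ⟨C, hC, hcC⟩ := M.exists_cols c
  obtain ⟨j, hj, D, ⟨d, hd, hdD⟩, e⟩ := B.coset_decomp hC
  obtain ⟨r, hr⟩ := M.exists_elem (rep j) (wordC_mem (fun k hk => by
    rw [List.getD_eq_getElem _ _ (show j < repWords.length by rw [rep_spec.1]; exact hj)] at hk
    exact rep_spec.2.1 _ (List.getElem_mem _) k hk))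
  have hQN : ∀ q ∈ M.Q, (q : G) ∈ normalizer (B.V : Set G) := fun q hq => by
    rw [B.V_eq_vG]; exact Model.syl_mem_normalizer (M.Q_le_syl hq)
  -- split off the representative
  set m := r⁻¹ * c with hm
  have hmN : (m : G) ∈ normalizer (B.V : Set G) := by
    have hrd : M.Acts (r * d) C := fun x => by
      rw [M.acts_mul hr hdD x, app_mulC, e _ (M.vec_lt x)]
    have hq := hQN _ (M.inv_mul_mem hrd hcC)
    have := mul_mem hd hq
    convert this using 1
    simp [hm, mul_assoc]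
  have hcm : c = r * m := by rw [hm, mul_inv_cancel_left]
  set t' := (m : G) * t * (m : G)⁻¹ with ht'
  have ht'V : t' ∈ B.V := (Subgroup.mem_normalizer_iff.1 hmN _).1 htV
  have hrt : (r : G) * t' = t * r := by
    have h := mem_centralizer_singleton_iff.1 ha.2
    have hc' : a = (r : G) * m := congrArg Subtype.val hcm
    rw [ht', show (r : G) * ((m : G) * t * (m : G)⁻¹) = ((r : G) * m) * t * (m : G)⁻¹ by group, ← hc', h, hc']
    group
  rcases eq_or_ne j 0 with rfl | hj0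
  · rw [rep_spec.2.2] at hr
    have := mul_mem (hQN _ (M.mem_Q r hr)) hmN
    rwa [show (r : G) * m = a from (congrArg Subtype.val hcm).symm] at this
  exfalso
  by_cases htQ : t ∈ QG M.Q
  · have ht'Q : t' ∈ QG M.Q := (M.ctx.conjQ m ⟨t, htQ⟩).2
    have hx : M.ctx.conjQ r ⟨t', ht'Q⟩ = ⟨t, htQ⟩ := Subtype.ext (mul_inv_eq_iff_eq_mul.2 hrt)
    have h1 := hr ⟨t', ht'Q⟩
    rw [hx] at h1
    have hW : ∀ y : ↥(QG M.Q), (y : G) ∈ B.V → M.vec y ∈ bigW := fun y hy =>
      (bigW_iff _ (M.vec_lt y)).1 ((B.inf_Q y).1 hy)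
    exact moved_vec j hj hj0 _ (hW ⟨t', ht'Q⟩ ht'V) (h1 ▸ hW ⟨t, htQ⟩ htV) (h1 ▸ hcls ⟨t, htQ⟩ rfl)
  · have hact : ∀ u : G, ∀ hu : u ∈ B.V, u ∉ QG M.Q →
        ∃ i < 16, i ≠ 0 ∧ M.Acts ⟨u, B.le_cent hu⟩ (bEl i) := by
      intro u hu huQ
      obtain ⟨i, hi, hci⟩ := B.img ⟨u, B.le_cent hu⟩ hu
      obtain ⟨k, hk, ek⟩ := bEl_spec.2.2.2.2 i hi
      refine ⟨k, hk, ?_, ek ▸ hci⟩
      rintro rfl
      replace hci : M.Acts ⟨u, B.le_cent hu⟩ (bEl 0) := ek ▸ hci
      rw [bEl_spec.2.1] at hci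
      exact huQ ((M.mem_Q_iff _).1 (M.mem_Q _ hci))
    have ht'Q : t' ∉ QG M.Q := fun h => htQ (by
      have := (M.ctx.conjQ m⁻¹ ⟨t', h⟩).2
      simpa [Ctx.conjQ, ht', mul_assoc] using this)
    obtain ⟨b, hb, hb0, hbt⟩ := hact t htV htQ
    obtain ⟨a', ha', ha0, hat⟩ := hact t' ht'V ht'Q
    refine moved_hex j hj hj0 a' ha' b hb ha0 hb0 (M.acts_unique ?_ ?_ (M.acts_mul hr hat) ?_)
    · rw [length_mulC]; exact (bEl_spec.1 a' ha').2
    · rw [length_mulC]
      exact gen_length (wordC_mem (fun k hk => by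
        rw [List.getD_eq_getElem _ _ (show j < repWords.length by rw [rep_spec.1]; exact hj)] at hk
        exact rep_spec.2.1 _ (List.getElem_mem _) k hk))
    · rw [show r * ⟨t', B.le_cent ht'V⟩ = (⟨t, B.le_cent htV⟩ : ↥(centralizer ({z} : Set G))) * r from
        Subtype.ext hrt]
      exact M.acts_mul hbt hr

end BigData

end Cfsg.Agent.JankoFour
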