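import Mathlib

/-!
Counting conjugacy classes by the part of odd order.
-/

set_option autoImplicit false

namespace Cfsg.Agent.JankoFour.KCount

open Subgroup

variable {G : Type*} [Group G]

/-- An element of 2-power order. -/
def TwoEl (u : G) : Prop := ∃ k : ℕ, u ^ 2 ^ k = 1

theorem TwoEl.conj {u : G} (h : TwoEl u) (g : G) : TwoEl (g * u * g⁻¹) := by
  obtain ⟨k, hk⟩ := h
  exact ⟨k, by rw [conj_pow, hk, mul_one, mul_inv_cancel]⟩

/-- Every element is the product of a 2-element and a commuting element of odd order. -/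
theorem exists_parts [Finite G] (g : G) :
    ∃ u w : G, TwoEl u ∧ Odd (orderOf w) ∧ u * w = w * u ∧ g = u * w := by
  have hn : orderOf g ≠ 0 := (orderOf_pos g).ne'
  obtain ⟨k, m, hm, hg⟩ := Nat.exists_eq_two_pow_mul_odd hn
  obtain ⟨a, b, hab⟩ : IsCoprime ((2 : ℤ) ^ k) (m : ℤ) := by
    have h := Nat.Coprime.pow_left k (Nat.coprime_two_left.2 hm)
    exact_mod_cast Nat.isCoprime_iff_coprime.2 h
  refine ⟨g ^ (b * m), g ^ (a * 2 ^ k), ⟨k, ?_⟩, ?_, ?_, ?_⟩
  · rw [← zpow_natCast, ← zpow_mul, show b * (m : ℤ) * ((2 ^ k : ℕ) : ℤ) = (orderOf g : ℤ) * b by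
      rw [hg]; push_cast; ring, zpow_mul, zpow_natCast, pow_orderOf_eq_one, one_zpow]
  · refine Odd.of_dvd_nat hm (orderOf_dvd_of_pow_eq_one ?_)
    rw [← zpow_natCast, ← zpow_mul, show a * (2 : ℤ) ^ k * (m : ℤ) = (orderOf g : ℤ) * a by
      rw [hg]; push_cast; ring, zpow_mul, zpow_natCast, pow_orderOf_eq_one, one_zpow]
  · rw [← zpow_add, ← zpow_add, add_comm]
  · rw [← zpow_add, add_comm, hab, zpow_one]

/-- The parts are unique. -/
theorem parts_unique [Finite G] {u w u' w' : G} (hu : TwoEl u) (hw : Odd (orderOf w)) (hc : u * w = w * u)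
    (hu' : TwoEl u') (hw' : Odd (orderOf w')) (hc' : u' * w' = w' * u') (h : u * w = u' * w') :
    u = u' ∧ w = w' := by
  obtain ⟨k, hk⟩ := hu
  obtain ⟨l, hl⟩ := hu'
  have hN : u ^ 2 ^ (k + l) = 1 ∧ u' ^ 2 ^ (k + l) = 1 := by
    refine ⟨?_, ?_⟩
    · rw [pow_add, pow_mul, hk, one_pow]
    · rw [add_comm, pow_add, pow_mul, hl, one_pow]
  have e : w ^ 2 ^ (k + l) = w' ^ 2 ^ (k + l) := by
    have := congrArg (fun x => x ^ 2 ^ (k + l)) h
    simp only [Commute.mul_pow hc, Commute.mul_pow hc', hN.1, hN.2, one_mul] at this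
    exact this
  obtain ⟨q, r, hqr⟩ : IsCoprime ((2 : ℤ) ^ (k + l)) ((orderOf w * orderOf w' : ℕ) : ℤ) := by
    have h := Nat.Coprime.pow_left (k + l) (Nat.coprime_two_left.2 (hw.mul hw'))
    exact_mod_cast Nat.isCoprime_iff_coprime.2 h
  have key : ∀ x : G, x ^ (orderOf w * orderOf w') = 1 → x = (x ^ 2 ^ (k + l)) ^ q := by
    intro x hx
    conv_lhs => rw [← zpow_one x, ← hqr]
    rw [zpow_add, mul_comm r, zpow_mul x _ r, zpow_natCast, hx, one_zpow, mul_one, mul_comm q, zpow_mul]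
    norm_cast
  have hww : w = w' := by
    rw [key w (by rw [pow_mul, pow_orderOf_eq_one, one_pow]),
      key w' (by rw [mul_comm, pow_mul, pow_orderOf_eq_one, one_pow]), e]
  subst hww
  exact ⟨mul_right_cancel h, rfl⟩

/-- The number of classes with the part of odd order conjugate to a given element. -/
noncomputable def sectionCard (w : G) : ℕ :=
  Nat.card {c : ConjClasses G // ∃ u, TwoEl u ∧ u * w = w * u ∧ ConjClasses.mk (u * w) = c}

/-- Representatives of the classes of 2-elements in the centraliser of an element give the number of classes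
over it. -/
theorem sectionCard_eq [Finite G] {w : G} (hw : Odd (orderOf w)) {n : ℕ} (r : Fin n → G)
    (hr : ∀ i, TwoEl (r i) ∧ r i * w = w * r i)
    (hcov : ∀ u, TwoEl u → u * w = w * u → ∃ i, ∃ k, k * w = w * k ∧ k * u * k⁻¹ = r i)
    (hsep : ∀ i j, ∀ k, k * w = w * k → k * r i * k⁻¹ = r j → i = j) : sectionCard w = n := by
  have hf : Function.Bijective (fun i : Fin n => (⟨ConjClasses.mk (r i * w), r i, (hr i).1, (hr i).2, rfl⟩ :
      {c : ConjClasses G // ∃ u, TwoEl u ∧ u * w = w * u ∧ ConjClasses.mk (u * w) = c})) := by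
    constructor
    · intro i j e
      obtain ⟨k, hk⟩ := isConj_iff.1 (ConjClasses.mk_eq_mk_iff_isConj.1 (congrArg Subtype.val e))
      have h1 : k * r i * k⁻¹ * (k * w * k⁻¹) = r j * w := by rw [conj_mul, hk]
      obtain ⟨a, b⟩ := parts_unique ((hr i).1.conj k)
        (show Odd (orderOf (k * w * k⁻¹)) by rw [← MulAut.conj_apply, MulEquiv.orderOf_eq]; exact hw)
        (by rw [conj_mul, conj_mul, (hr i).2]) (hr j).1 hw (hr j).2 h1
      exact hsep i j k (mul_inv_eq_iff_eq_mul.1 b) a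
    · rintro ⟨c, u, hu, hc, rfl⟩
      obtain ⟨i, k, hk, e⟩ := hcov u hu hc
      refine ⟨i, Subtype.ext (ConjClasses.mk_eq_mk_iff_isConj.2 (IsConj.symm (isConj_iff.2 ⟨k, ?_⟩)))⟩
      rw [← conj_mul, e, mul_inv_eq_iff_eq_mul.2 hk]
  rw [sectionCard, ← Nat.card_eq_of_bijective _ hf, Nat.card_fin]

/-- The classes fall into the sections of a system of representatives of the elements of odd order. -/
theorem card_classes [Finite G] {m : ℕ} (w : Fin m → G) (hw : ∀ i, Odd (orderOf (w i)))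
    (hcov : ∀ x : G, Odd (orderOf x) → ∃ i, IsConj x (w i))
    (hsep : ∀ i j, IsConj (w i) (w j) → i = j) :
    Nat.card (ConjClasses G) = ∑ i, sectionCard (w i) := by
  have hf : Function.Bijective (fun s : Σ i, {c : ConjClasses G // ∃ u, TwoEl u ∧ u * w i = w i * u ∧
      ConjClasses.mk (u * w i) = c} => s.2.1) := by
    constructor
    · rintro ⟨i, c, u, hu, hc, rfl⟩ ⟨j, c', u', hu', hc', rfl⟩ (e : ConjClasses.mk _ = ConjClasses.mk _)
      obtain ⟨k, hk⟩ := isConj_iff.1 (ConjClasses.mk_eq_mk_iff_isConj.1 e)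
      have h1 : k * u * k⁻¹ * (k * w i * k⁻¹) = u' * w j := by rw [conj_mul, hk]
      obtain ⟨-, b⟩ := parts_unique (hu.conj k)
        (show Odd (orderOf (k * w i * k⁻¹)) by rw [← MulAut.conj_apply, MulEquiv.orderOf_eq]; exact hw i)
        (by rw [conj_mul, conj_mul, hc]) hu' (hw j) hc' h1
      obtain rfl := hsep i j (isConj_iff.2 ⟨k, b⟩)
      exact Sigma.ext rfl (heq_of_eq (Subtype.ext (ConjClasses.mk_eq_mk_iff_isConj.2 (isConj_iff.2 ⟨k, hk⟩))))
    · intro c
      obtain ⟨g, rfl⟩ := ConjClasses.exists_rep c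
      obtain ⟨u, x, hu, hx, hc, rfl⟩ := exists_parts g
      obtain ⟨i, hi⟩ := hcov x hx
      obtain ⟨k, hk⟩ := isConj_iff.1 hi
      refine ⟨⟨i, ConjClasses.mk (k * u * k⁻¹ * w i), k * u * k⁻¹, hu.conj k, ?_, rfl⟩, ?_⟩
      · rw [← hk, conj_mul, conj_mul, hc]
      · exact ConjClasses.mk_eq_mk_iff_isConj.2 (IsConj.symm (isConj_iff.2 ⟨k, by rw [← hk, conj_mul]⟩))
  rw [← Nat.card_eq_of_bijective _ hf, Nat.card_sigma]
  rfl

/-- An element whose centraliser has odd order carries one class. -/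
theorem sectionCard_one_eq {w : G} [Finite G] (hw : Odd (orderOf w))
    (h : ∀ u, TwoEl u → u * w = w * u → u = 1) : sectionCard w = 1 :=
  sectionCard_eq hw (fun _ : Fin 1 => 1) (fun _ => ⟨⟨0, one_pow _⟩, by rw [one_mul, mul_one]⟩)
    (fun u hu hc => ⟨0, 1, by rw [one_mul, mul_one], by rw [h u hu hc]; group⟩)
    (fun i j _ _ _ => Subsingleton.elim i j)

end Cfsg.Agent.JankoFour.KCount
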