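/-!
Tables for a complement to the large abelian subgroup in the Sylow 2-subgroup of the centraliser.
-/

namespace Cfsg.Agent.JankoFour.Split

/-- The first inner involution. -/
def dA : List Nat :=
  [860, 1336, 1923, 1234, 1226, 3964, 2203, 3201, 2694, 1415, 1504, 2749]

/-- The second inner involution. -/
def dB : List Nat :=
  [913, 4018, 481, 3533, 2550, 944, 421, 1350, 1222, 3046, 2992, 1056]

/-- The outer involution. -/
def dS : List Nat :=
  [1624, 1836, 647, 537, 3972, 307, 976, 2106, 4067, 3021, 1409, 2818]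

/-- The vectors of the opposite subspace, by coordinates. -/
def wU : List Nat :=
  [0, 75, 189, 246, 259, 328, 446, 501, 574, 629, 643, 712, 829, 886, 896, 971, 1031, 1100, 1210, 1265, 1284,
  1359, 1465, 1522, 1593, 1650, 1668, 1743, 1850, 1905, 1927, 1996, 2067, 2136, 2222, 2277, 2320, 2395, 2477,
  2534, 2605, 2662, 2704, 2779, 2862, 2917, 2963, 3032, 3092, 3167, 3241, 3298, 3351, 3420, 3498, 3553, 3626,
  3681, 3735, 3804, 3881, 3938, 3988, 4063]

/-- A word carrying an element of the hexad subgroup to the first involution. -/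
def wordA : List Nat :=
  [1, 1, 1, 1, 1, 1, 1, 1, 0, 0, 0, 0, 0, 0, 0, 0, 0, 0]

/-- A word carrying an element of the hexad subgroup to the second involution. -/
def wordB : List Nat :=
  [2, 2, 2, 0, 0, 0, 0, 0, 0, 0, 0, 0, 0, 2, 2, 2, 2, 2, 2, 2, 2, 2]

/-- A word carrying an element of the hexad subgroup to the central inner involution. -/
def wordZ : List Nat :=
  [2, 2, 2, 0, 0, 0, 0, 0, 0, 0, 0, 0, 0, 1, 1, 1, 1]

/-- A word carrying the outer involution to the first product. -/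
def wordAS : List Nat :=
  [1, 1, 1, 1, 2, 2, 2, 1, 1, 1, 1, 0, 0, 0, 0, 0, 0, 0, 0, 0, 0, 2, 2, 2, 2, 2, 2, 3, 3]

/-- A word carrying the outer involution to the second product. -/
def wordBS : List Nat :=
  [1, 2, 0, 0, 1, 0, 1, 1, 1, 1, 2, 2, 2, 1, 1, 1, 1, 0, 0, 0, 0, 0, 0, 0, 0, 0, 0, 2, 2, 2, 2, 2, 2, 3, 3]

/-- An element of order three centralising the outer involution. -/
def wordC0 : List Nat :=
  [1, 0, 2, 0, 0, 1, 2, 0, 0, 2, 2, 0, 1, 0, 2, 0, 0, 1, 2, 0, 0, 2, 2, 0, 2, 0, 0, 2, 2, 0, 1, 0, 2, 0, 0,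
  1, 2, 0, 0, 2, 2, 0, 1, 0, 2, 0, 0, 1, 2, 0, 0, 2, 2, 0, 1, 0, 2, 0, 0, 1, 2, 0, 0, 2, 2, 0, 2, 0, 0, 2, 2,
  0, 2, 0, 0, 2, 2, 0]

/-- Its permutation of the hexad subgroup. -/
def cPerm : List Nat :=
  [0, 10, 1, 11, 7, 13, 6, 12, 3, 9, 2, 8, 4, 14, 5, 15]

/-- The permutation of the hexad subgroup by the outer involution. -/
def sPermB : List Nat :=
  [0, 1, 2, 3, 13, 12, 15, 14, 8, 9, 10, 11, 5, 4, 7, 6]

end Cfsg.Agent.JankoFour.Split
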