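import Cfsg.Agent.Lib.JankoFour.BigChecks
import Cfsg.Agent.Lib.JankoFour.SplitData

/-!
Decidable facts about a complement to the large abelian subgroup in the Sylow 2-subgroup.
-/

set_option autoImplicit false
set_option maxRecDepth 100000

namespace Cfsg.Agent.JankoFour.Split

open Cfsg.Agent.J4Module (app)
open Cfsg.Agent.J4Module.Data
open Big

/-- A power of a matrix. -/
def powC (C : List ℕ) : ℕ → List ℕ
  | 0 => unitC
  | k + 1 => mulC (powC C k) C

/-- The rotation of the dihedral part. -/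
def dD : List ℕ := mulC dA dB

/-- The elements of the complement modulo the extraspecial subgroup. -/
def dEl (k i j : ℕ) : List ℕ := mulC (mulC (powC dS k) (powC dD i)) (powC dA j)

theorem gens_syl : dA ∈ sylow ∧ dB ∈ sylow ∧ dS ∈ sylow ∧ mulC dS dS = unitC := by decide +kernel

/-- The elements of the complement modulo the extraspecial subgroup, numbered. -/
def dT (t : ℕ) : List ℕ := dEl (t / 8) (t / 2 % 4) (t % 2)

theorem dT_spec : ∀ t < 16, (dT t = unitC → t = 0) ∧ ∀ m < 16, dT t = bEl m → t = 0 := by decide +kernel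

theorem dT_inj : ∀ t < 16, ∀ u < 16, dT t = dT u → t = u := by decide +kernel

theorem words_ok : ∀ w ∈ [wordA, wordB, wordZ, wordAS, wordBS, wordC0], ∀ k ∈ w, k < 4 := by decide +kernel

theorem inner_conj : mulC (wordC wordA) (bEl 6) = mulC dA (wordC wordA) ∧
    mulC (wordC wordB) (bEl 12) = mulC dB (wordC wordB) ∧
    mulC (wordC wordZ) (bEl 15) = mulC (mulC dD dD) (wordC wordZ) := by decide +kernel

theorem outer_conj : mulC (wordC wordAS) dS = mulC (mulC dA dS) (wordC wordAS) ∧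
    mulC (wordC wordBS) dS = mulC (mulC dB dS) (wordC wordBS) := by decide +kernel

theorem wU_spec : wU.length = 64 ∧ (∀ n ∈ wU, n < 4096 ∧ qbit n = false) ∧
    (∀ i < 64, ∀ j < 64, wU.getD i 0 ^^^ wU.getD j 0 = wU.getD (i ^^^ j) 0) ∧
      (∀ i < 64, ∀ j < 64, wU.getD i 0 = wU.getD j 0 → i = j) ∧ wU.getD 0 0 = 0 := by decide +kernel

theorem wU_perp : ∀ m ∈ wU, ∀ n ∈ wU, bbit m n = false := by decide +kernel

theorem wU_p : ∀ n ∈ wU, app pC n ∈ wU ∧ app pC (app pC n) ^^^ app pC n ^^^ n = 0 := by decide +kernel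

theorem wU_stab : ∀ n ∈ wU, app dA n ∈ wU ∧ app dB n ∈ wU ∧ app dS n ∈ wU := by decide +kernel

theorem wU_bigW : ∀ n ∈ wU, n ∈ bigW → n = 0 := by decide +kernel

theorem pick_spec : 75 ∈ wU ∧ 446 ∈ wU ∧ app (bEl 8) 75 = 75 ∧ bEl 8 ≠ unitC ∧
    (∀ i < 16, app (bEl i) 446 = 446 → i = 0) ∧ ¬ (75 ∈ bigW) ∧ ¬ (446 ∈ bigW) := by decide +kernel

theorem dS_bigW : ∀ n ∈ bigW, app dS n ∈ bigW ∧
    (app dS n = n → ∃ m ∈ bigW, app dS m ^^^ m = n) := by decide +kernel

theorem sPermB_spec : ∀ i < 16, sPermB.getD i 0 < 16 ∧ mulC dS (bEl i) = mulC (bEl (sPermB.getD i 0)) dS := by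
  decide +kernel

theorem cPerm_spec : mulC (wordC wordC0) dS = mulC dS (wordC wordC0) ∧
    ∀ i < 16, cPerm.getD i 0 < 16 ∧ mulC (wordC wordC0) (bEl i) = mulC (bEl (cPerm.getD i 0)) (wordC wordC0) := by
  decide +kernel

theorem fix_spec : sPermB.getD 4 0 ^^^ 4 = 9 ∧ ∀ i < 16, sPermB.getD i 0 = i →
    (i = 0 ∨ i = 9) ∨ (i ^^^ cPerm.getD i 0 ^^^ cPerm.getD (cPerm.getD i 0) 0 = 0 ∨
      i ^^^ cPerm.getD i 0 ^^^ cPerm.getD (cPerm.getD i 0) 0 = 9) := by decide +kernel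

end Cfsg.Agent.JankoFour.Split
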