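import Cfsg.Agent.Lib.JankoFour.Checks
import Cfsg.Agent.Lib.JankoFour.SplitChecks
import Cfsg.Agent.Lib.J4Module.Checks

/-!
Kernel checks for the centraliser of the element of order eleven in the concrete group.
-/

set_option autoImplicit false
set_option maxRecDepth 100000

namespace Cfsg.Agent.JankoFour.ElevenTab

open Cfsg.Agent.J4Module (app of_chunks)
open Cfsg.Agent.J4Module.Data
open Split

/-- The thirty-three linear elements commuting with the element of order eleven. -/
def listX : List (List ℕ) :=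
  (List.range 11).flatMap fun a => (List.range 3).map fun b => mulC (powC xC a) (powC pC b)

/-- The sum of the first images of a vector. -/
def orbSum : ℕ → ℕ → ℕ
  | 0, _ => 0
  | k + 1, n => (app xC)^[k] n ^^^ orbSum k n

/-- The columns of a map commuting with the element of order eleven. -/
def xImg (c : ℕ × ℕ × ℕ) : List ℕ := [c.1, c.2.1] ++ (List.range 10).map fun i => (app xC)^[i] c.2.2

/-- Triples passing the tests. -/
def xCands : List (ℕ × ℕ × ℕ) :=
  ((List.range 1024).filter fun k => cls (4 * k) == cls 4).flatMap fun k =>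
    ([(1, 2, 4 * k), (1, 3, 4 * k), (2, 1, 4 * k), (2, 3, 4 * k), (3, 1, 4 * k), (3, 2, 4 * k)]).filter fun c =>
      [308, 13, 190].all fun m => cls (app (xImg c) m) == cls m

theorem cands_spec : ∀ c ∈ xCands, xImg c ∈ listX := by decide +kernel

theorem sum_spec : ∀ n < 4096, orbSum 11 n = 0 → n % 4 = 0 :=
  of_chunks 64 (by decide +kernel)

theorem sum_four : orbSum 11 4 = 0 ∧ [1, 2] ++ (List.range 10).map (fun i => (app xC)^[i] 4) = unitC := by
  decide +kernel

theorem list_spec : listX.Nodup ∧ listX.length = 33 ∧ (∀ C ∈ listX, mulC C xC = mulC xC C) ∧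
    (∀ C ∈ listX, mulC C C = unitC → C = unitC) := by decide +kernel

theorem fix_spec : ∀ n < 4, app xC n = n ∧ n < 4096 ∧ (n ≠ 0 → cls n = 3) := by decide +kernel

theorem powX : (∀ a < 11, powC xC a = unitC → a = 0) ∧ powC xC 11 = unitC ∧ powC xC 12 = xC := by decide +kernel

theorem norm_spec : mulC yC xC = mulC (powC xC 3) yC ∧ mulC sC xC = mulC (powC xC 10) sC ∧
    mulC sC pC = mulC (powC pC 2) sC ∧ mulC sC sC = unitC ∧ (∀ a < 3, powC pC a = unitC → a = 0) ∧
    powC pC 3 = unitC ∧ app pC 1 = 2 ∧ app pC 2 = 3 ∧ app pC 3 = 1 := by decide +kernel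

end Cfsg.Agent.JankoFour.ElevenTab
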