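import Cfsg.Agent.Lib.JankoFour.OrbitExclude

/-!
The orbit of the involution in the large abelian subgroup has 1771 members.
-/

set_option autoImplicit false
set_option linter.unusedSectionVars false
set_option maxRecDepth 100000

namespace Cfsg.Agent.JankoFour

open Subgroup
open Cfsg.Agent.LargeFischer (QG)
open Cfsg.Agent.J4Module (app)
open Cfsg.Agent.J4Module.Data

variable {G : Type*} [Group G] [Finite G] {z : G} {P : Subgroup G}

theorem cls_InL0 {C : List ℕ} (h : InL0 C) : ∀ n < 4096, cls (app C n) = cls n := by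
  induction h with
  | one => intro n hn; rw [app_unitC n hn]
  | @mul g D hg hD ih =>
    intro n hn
    have hlt := gen_app_lt hD n
    obtain ⟨h1, h2, h3, h4, h5⟩ := Orb.cls_invariant _ hlt
    rw [app_mulC, ← ih n hn]
    simp only [gensL, List.mem_cons, List.not_mem_nil, or_false] at hg
    rcases hg with rfl | rfl | rfl | rfl | rfl <;> assumption

namespace Model

variable (M : Model z P)
include M

/-- Two distinct non-zero vectors are separated by the form. -/
theorem exists_sep {v1 v2 : ℕ} (h1 : v1 < 4096) (h2 : v2 < 4096) (hne2 : v2 ≠ 0) (hne : v1 ≠ v2) :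
    ∃ q : ↥(QG M.Q), bbit (M.vec q) v1 = false ∧ bbit (M.vec q) v2 = true := by
  by_contra hno
  simp only [not_exists, not_and, Bool.not_eq_true] at hno
  have key : ∀ m < 4096, bbit m v1 = false → bbit m v2 = false := fun m hm h => by
    obtain ⟨q, rfl⟩ := M.vec_surj m hm
    exact hno q h
  by_cases hall : ∀ m < 4096, bbit m v1 = true → bbit m v2 = true
  · refine hne (Nat.xor_eq_zero_iff.1 (M.nondeg (Nat.xor_lt_two_pow (n := 12) h1 h2) fun m hm => ?_))
    rw [M.bbit_xor h1 h2 hm, bbit_comm v1, bbit_comm v2]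
    cases e : bbit m v1
    · rw [key m hm e]; rfl
    · rw [hall m hm e]; rfl
  · simp only [not_forall, Bool.not_eq_true] at hall
    obtain ⟨m0, hm0, e1, e2⟩ := hall
    refine hne2 (M.nondeg h2 fun m hm => ?_)
    rw [bbit_comm]
    cases e : bbit m v1
    · exact key m hm e
    · have h := key (m ^^^ m0) (Nat.xor_lt_two_pow (n := 12) hm hm0) (by rw [M.bbit_xor hm hm0 h1, e, e1]; rfl)
      rw [M.bbit_xor hm hm0 h2, e2, Bool.xor_false] at h
      exact h

end Model

namespace BigCoords

variable {M : Model z P} {B : BigData M} (C : BigCoords B)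
include C

/-- The conjugates cannot be exactly the non-identity elements of the intersection with E. -/
theorem not_hyperplane
    (hA : ∀ n < 2048, n ≠ 0 → (IsConj z (C.el n) ↔ n / 64 % 16 = 0)) : False := by
  have hconj2 : IsConj z (C.el 2) := (hA 2 (by norm_num) (by norm_num)).2 (by norm_num)
  obtain ⟨g0, hg0⟩ := isConj_iff.1 hconj2
  obtain ⟨m, hm, e⟩ := B.fusion z B.z_mem g0 (hg0 ▸ C.el_mem 2 (by norm_num))
  rw [hg0] at e
  have hinA : ∀ a ∈ B.V, IsConj z a → a ∈ QG M.Q := by
    intro a ha hc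
    obtain ⟨k, hk, rfl⟩ := C.el_surj a ha
    refine (C.el_mem_Q k hk).2 ((hA k hk ?_).1 hc)
    rintro rfl
    exact C.not_conj_zero hc
  -- pull back u and z
  have hy : m⁻¹ * C.el 1 * m ∈ B.V := by
    have := (Subgroup.mem_normalizer_iff.1 (inv_mem hm) (C.el 1)).1 (C.el_mem 1 (by norm_num))
    rwa [inv_inv] at this
  have hyc : IsConj z (m⁻¹ * C.el 1 * m) := by
    have := (isConj_conj_iff m⁻¹ (C.el 1)).2 ((hA 1 (by norm_num) (by norm_num)).2 (by norm_num))
    rwa [inv_inv] at this
  have hx : m⁻¹ * z * m ∈ B.V := by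
    have := (Subgroup.mem_normalizer_iff.1 (inv_mem hm) z).1 B.z_mem
    rwa [inv_inv] at this
  have hxc : IsConj z (m⁻¹ * z * m) := by
    have := (isConj_conj_iff m⁻¹ z).2 (IsConj.refl z)
    rwa [inv_inv] at this
  set y : ↥(QG M.Q) := ⟨_, hinA _ hy hyc⟩ with hydef
  set x : ↥(QG M.Q) := ⟨_, hinA _ hx hxc⟩ with hxdef
  have ne_el : ∀ n < 2048, ∀ a : G, ∀ k < 2048, k ≠ n → C.el k = a → C.el n ≠ a := fun n hn a k hk hkn hk' e' =>
    hkn (C.el_inj k hk n hn (hk'.trans e'.symm))
  have hy0 : M.vec y ≠ 0 := by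
    rw [Ne, M.vec_eq_zero, not_or]
    constructor
    · show ¬ m⁻¹ * C.el 1 * m = 1
      intro h
      refine C.el_ne_one (n := 1) (by norm_num) (by norm_num) ?_
      calc C.el 1 = m * (m⁻¹ * C.el 1 * m) * m⁻¹ := by group
        _ = 1 := by rw [h]; group
    · show ¬ m⁻¹ * C.el 1 * m = z
      intro h
      refine ne_el 1 (by norm_num) (C.el 2) 2 (by norm_num) (by norm_num) rfl ?_
      calc C.el 1 = m * (m⁻¹ * C.el 1 * m) * m⁻¹ := by group
        _ = C.el 2 := by rw [h, e]
  have hne : M.vec x ≠ M.vec y := by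
    intro h
    rcases M.vec_eq_iff.1 h with h' | h'
    · refine ne_el 1 (by norm_num) z 1024 (by norm_num) (by norm_num) C.el_z ?_
      calc C.el 1 = m * (m⁻¹ * C.el 1 * m) * m⁻¹ := by group
        _ = z := by rw [show m⁻¹ * C.el 1 * m = m⁻¹ * z * m from h']; group
    · refine ne_el 1 (by norm_num) (z * C.el 2) (1024 ^^^ 2) (by decide) (by decide) ?_ ?_
      · rw [C.el_xor _ (by norm_num) _ (by norm_num), C.el_z]
      · calc C.el 1 = m * (m⁻¹ * C.el 1 * m) * m⁻¹ := by group
          _ = m * (m⁻¹ * z * m * z) * m⁻¹ := by rw [show m⁻¹ * C.el 1 * m = m⁻¹ * z * m * z from h']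
          _ = z * (m * z * m⁻¹) := by group
          _ = z * C.el 2 := by rw [e]
  obtain ⟨q, hqx, hqy⟩ := M.exists_sep (M.vec_lt x) (M.vec_lt y) hy0 hne
  have hcx : (q : G) * x * (q : G)⁻¹ = x := mul_inv_eq_iff_eq_mul.2 ((M.comm_iff q x).2 hqx)
  have hcy : (q : G) * y * (q : G)⁻¹ = y * z := by
    refine (M.ctx.xs.conj_cases q.2 y.2).resolve_left fun h => ?_
    rw [(M.comm_iff q y).1 (mul_inv_eq_iff_eq_mul.1 h)] at hqy
    exact Bool.false_ne_true hqy
  set c : G := m * q * m⁻¹ with hc
  have hcz : c * z = z * c := by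
    refine mul_inv_eq_iff_eq_mul.1 ?_
    calc c * z * c⁻¹ = m * ((q : G) * (m⁻¹ * z * m) * (q : G)⁻¹) * m⁻¹ := by rw [hc]; group
      _ = z := by rw [show (q : G) * (m⁻¹ * z * m) * (q : G)⁻¹ = m⁻¹ * z * m from hcx]; group
  have hcu : c * C.el 1 * c⁻¹ = C.el 3 := by
    calc c * C.el 1 * c⁻¹ = m * ((q : G) * (m⁻¹ * C.el 1 * m) * (q : G)⁻¹) * m⁻¹ := by rw [hc]; group
      _ = m * (m⁻¹ * C.el 1 * m * z) * m⁻¹ := by
        rw [show (q : G) * (m⁻¹ * C.el 1 * m) * (q : G)⁻¹ = m⁻¹ * C.el 1 * m * z from hcy]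
      _ = C.el 1 * (m * z * m⁻¹) := by group
      _ = C.el 3 := by
        rw [e, ← C.el_xor 1 (by norm_num) 2 (by norm_num), show (1 : ℕ) ^^^ 2 = 3 from rfl]
  -- but the two vectors lie in different classes
  have hcH : c ∈ centralizer ({z} : Set G) := mem_centralizer_singleton_iff.2 hcz
  obtain ⟨D, hD, hact⟩ := M.exists_cols ⟨c, hcH⟩
  set a1 : ↥(QG M.Q) := ⟨C.el 1, (C.el_mem_Q 1 (by norm_num)).2 (by norm_num)⟩
  set a3 : ↥(QG M.Q) := ⟨C.el 3, (C.el_mem_Q 3 (by norm_num)).2 (by norm_num)⟩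
  have h13 : M.vec a3 = app D (M.vec a1) := by
    rw [← hact a1]
    exact congrArg M.vec (Subtype.ext hcu.symm)
  have hcls := cls_InL0 hD (M.vec a1) (M.vec_lt a1)
  rw [← h13, C.el_vec 3 (by norm_num) a3 rfl, C.el_vec 1 (by norm_num) a1 rfl] at hcls
  obtain ⟨r1, r3, -, -⟩ := Orb.rep_cls
  rw [show (3 : ℕ) % 64 = 3 from rfl, show (1 : ℕ) % 64 = 1 from rfl, r1, r3] at hcls
  exact absurd hcls (by norm_num)

/-- The classification. -/
theorem classify (hfused : ∃ n ∈ normalizer (B.V : Set G), n * z * n⁻¹ ≠ z) :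
    (∀ n < 2048, (Orb.tMask.testBit n = true ↔ n ≠ 0 ∧ ¬ IsConj z (C.el n))) ∧
      Nat.card ↥(normalizer (B.V : Set G)) = 1771 * (2 ^ 21 * 135) := by
  obtain ⟨m, hm32, hm, hb⟩ := C.exists_set
  have hcard := C.card_normalizer hm
  have hf := C.form_lt
  rcases C.few_sets hm32 hm hb hfused with rfl | rfl | ⟨e, rfl⟩ | ⟨e, rfl⟩
  · exfalso
    refine C.not_hyperplane fun n hn h0 => ?_
    rw [← hm n hn, Orb.zSet_bit]
    constructor
    · rintro (rfl | ⟨j, hj, hj3, hjn⟩)
      · norm_num
      · refine Orb.small_Q n hn ?_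
        have hj2 : j = 0 ∨ j = 1 := by
          have h3 : ∀ k < 5, Nat.testBit 3 k = true → k = 0 ∨ k = 1 := by decide
          exact h3 j hj hj3
        simp only [Nat.testBit_or, Bool.or_eq_true]
        rcases (show C.form = 0 ∨ C.form = 1 by omega) with e | e <;> rcases hj2 with rfl | rfl <;>
          rw [e] at hjn
        exacts [Or.inl (Or.inl hjn), Or.inl (Or.inr hjn), Or.inr (Or.inl hjn), Or.inr (Or.inr hjn)]
    · intro hq
      rcases Orb.zero_Q n hn with h | h | h | h
      · exact absurd hq h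
      · exact absurd h h0
      · exact Or.inl h
      · right
        simp only [Nat.testBit_or, Bool.or_eq_true] at h
        interval_cases e : C.form
        · rcases h.1 with h | h
          exacts [⟨0, by norm_num, by decide, h⟩, ⟨1, by norm_num, by decide, h⟩]
        · rcases h.2 with h | h
          exacts [⟨0, by norm_num, by decide, h⟩, ⟨1, by norm_num, by decide, h⟩]
  · exfalso
    refine C.not_89 ?_
    obtain ⟨-, -, h0, h1⟩ := Orb.sizes
    interval_cases e : C.form
    · rw [hcard, h0]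
    · rw [hcard, h1]
  · exfalso
    exact C.not_241 (by rw [hcard, e, Orb.sizes.1])
  · refine ⟨fun n hn => ?_, by rw [hcard, e, Orb.sizes.2.1]⟩
    rw [← hm n hn, Orb.zSet_bit, e]
    constructor
    · intro ht
      have ht' : (Orb.oMask 1 1).testBit n = true ∨ (Orb.oMask 1 2).testBit n = true := by
        simpa [Orb.tMask, Nat.testBit_or, Bool.or_eq_true] using ht
      refine ⟨?_, ?_⟩
      · rintro rfl
        rcases ht' with h | h
        · rw [(Orb.rep_spec 1 (by norm_num) 1 (by norm_num)).2.2.1] at h; simp at h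
        · rw [(Orb.rep_spec 1 (by norm_num) 2 (by norm_num)).2.2.1] at h; simp at h
      · intro hc
        have hc' : IsConj z (C.el n) := by
          rw [← hm n hn, Orb.zSet_bit, e]; exact hc
        rcases ht' with h | h
        · have := (hb 1 (by norm_num)).2 ((C.orbit_const (j := 1) (by norm_num) (e.symm ▸ h)).2.1 hc')
          exact absurd this (by decide)
        · have := (hb 2 (by norm_num)).2 ((C.orbit_const (j := 2) (by norm_num) (e.symm ▸ h)).2.1 hc')
          exact absurd this (by decide)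
    · rintro ⟨h0, hz⟩
      rcases Orb.cover 1 (by norm_num) n hn with h | h | h
      · exact absurd h h0
      · exact absurd (Or.inl h) hz
      · simp only [List.any_eq_true, List.mem_range] at h
        obtain ⟨j, hj, hj'⟩ := h
        interval_cases j
        · exact absurd (Or.inr ⟨0, by norm_num, by decide, hj'⟩) hz
        · simp [Orb.tMask, Nat.testBit_or, hj']
        · simp [Orb.tMask, Nat.testBit_or, hj']
        · exact absurd (Or.inr ⟨3, by norm_num, by decide, hj'⟩) hz
        · exact absurd (Or.inr ⟨4, by norm_num, by decide, hj'⟩) hz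

end BigCoords

end Cfsg.Agent.JankoFour
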