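import Cfsg.Agent.Lib.JankoFour.FiveCent
import Cfsg.Agent.Lib.JankoFour.ElevenChecks
import Cfsg.Agent.Lib.LinearBlock.MonThree
import Cfsg.Agent.Lib.JankoFour.OrbitClassify

/-!
The centraliser of an element of order eleven inside the centraliser of the involution.
-/

set_option autoImplicit false
set_option linter.unusedSectionVars false
set_option maxRecDepth 20000

namespace Cfsg.Agent.JankoFour

open Subgroup
open Cfsg.Agent.LargeFischer (QG)
open Cfsg.Agent.J4Module (app)
open Cfsg.Agent.J4Module.Data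
open ElevenTab Big Split

theorem xC_K : InK0 xC := gen_single (by simp [gensK]) (by decide)

theorem orbSum_app {C : List ℕ} (h : ∀ n, app C (app xC n) = app xC (app C n)) :
    ∀ k n, orbSum k (app C n) = app C (orbSum k n)
  | 0, n => (J4Module.app_zero C).symm
  | k + 1, n => by
    have hit : ∀ j m, (app xC)^[j] (app C m) = app C ((app xC)^[j] m) := by
      intro j
      induction j with
      | zero => intro m; rfl
      | succ j ih => intro m; rw [Function.iterate_succ_apply', ih, ← h, ← Function.iterate_succ_apply' (app xC)]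
    rw [orbSum, orbSum, app_xor, hit, orbSum_app h k n]

theorem iter_xC_lt {n : ℕ} (hn : n < 4096) : ∀ j, (app xC)^[j] n < 4096
  | 0 => hn
  | j + 1 => by rw [Function.iterate_succ_apply']; exact gen_app_lt (gen_mono xC_K) _

/-- The elements of the group commuting with the element of order eleven. -/
theorem mem_listX {C : List ℕ} (hC : InL0 C) (hx : mulC C xC = mulC xC C) : C ∈ listX := by
  have hxx : ∀ n, app C (app xC n) = app xC (app C n) := fun n => by rw [← app_mulC, hx, app_mulC]
  have hlt := gen_app_lt hC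
  have hcls : ∀ n < 4096, cls (app C n) = cls n := cls_InL0 hC
  have hfix : ∀ n < 4, app C n < 4 := fun n hn =>
    fix_x _ (hlt n) (by rw [← hxx, (ElevenTab.fix_spec n hn).1])
  have h3 : ∀ n < 4, n ≠ 0 → app C n ≠ 0 := fun n hn h0 e => by
    have := hcls n (ElevenTab.fix_spec n hn).2.1
    rw [e, cls_zero, (ElevenTab.fix_spec n hn).2.2 h0] at this
    omega
  set w := app C 4 with hw
  have hw4 : w % 4 = 0 := sum_spec w (hlt 4) (by rw [hw, orbSum_app hxx, sum_four.1, J4Module.app_zero])
  have hC' : C = xImg (app C 1, app C 2, w) := by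
    have hit : ∀ j m, app C ((app xC)^[j] m) = (app xC)^[j] (app C m) := by
      intro j
      induction j with
      | zero => intro m; rfl
      | succ j ih => intro m; rw [Function.iterate_succ_apply', hxx, ih, ← Function.iterate_succ_apply' (app xC)]
    have h1 : mulC C ([1, 2] ++ (List.range 10).map fun i => (app xC)^[i] 4) = C := by
      rw [sum_four.2, mulC_unitC (gen_length hC)]
    conv_lhs => rw [← h1]
    simp only [mulC, xImg, List.map_append, List.map_map, Function.comp_def, hit, ← hw, List.map_cons,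
      List.map_nil]
  have hne : app C 1 ≠ app C 2 := fun e => h3 3 (by norm_num) (by norm_num) (by
    rw [show (3 : ℕ) = 1 ^^^ 2 from rfl, app_xor, e, Nat.xor_self])
  have hmem : (app C 1, app C 2, w) ∈ xCands := by
    have hwlt : w < 4096 := hlt 4
    obtain ⟨k, hk⟩ : ∃ k, w = 4 * k := ⟨w / 4, by omega⟩
    have hk' : k < 1024 := by omega
    refine List.mem_flatMap.2 ⟨k, List.mem_filter.2 ⟨List.mem_range.2 hk', ?_⟩, List.mem_filter.2 ⟨?_, ?_⟩⟩
    · rw [← hk, hw, hcls 4 (by norm_num), beq_self_eq_true]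
    · have ha := hfix 1 (by norm_num)
      have hb := hfix 2 (by norm_num)
      have ha0 := h3 1 (by norm_num) one_ne_zero
      have hb0 := h3 2 (by norm_num) two_ne_zero
      rw [← hk]
      simp only [List.mem_cons, Prod.mk.injEq, List.not_mem_nil, or_false, and_true]
      omega
    · rw [List.all_eq_true]
      intro m hm
      have hm' : m < 4096 := by
        simp only [List.mem_cons, List.not_mem_nil, or_false] at hm
        omega
      rw [← hC', hcls m hm', beq_self_eq_true]
  rw [hC']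
  exact cands_spec _ hmem

theorem listX_K {C : List ℕ} (h : C ∈ listX) : InK0 C := by
  simp only [listX, List.mem_flatMap, List.mem_map] at h
  obtain ⟨a, -, b, -, rfl⟩ := h
  exact gen_mul (fun _ hg => gensK_sub hg) (powC_K xC_K a) (powC_K pC_K b)

namespace Model

variable {G : Type*} [Group G] [Finite G] {z : G} {P : Subgroup G} (M : Model z P)
include M

/-- The chosen element of order eleven. -/
structure Eleven where
  c : ↥(centralizer ({z} : Set G))
  pow_eleven : c ^ 11 = 1
  centP : (c : G) ∈ centralizer (P : Set G)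
  acts : M.Acts c xC

theorem exists_eleven : Nonempty M.Eleven := by
  obtain ⟨c, hcP, hc⟩ := M.cent_elem xC xC_K
  have hP : ∀ k : ℕ, ((c ^ k : ↥(centralizer ({z} : Set G))) : G) ∈ centralizer (P : Set G) := fun k => by
    rw [SubmonoidClass.coe_pow]; exact pow_mem hcP k
  have h11 : c ^ 11 ∈ M.Q := M.mem_Q _ (powX.2.1 ▸ M.acts_pow hc 11)
  have h22 : c ^ 22 = 1 := by
    rw [show (22 : ℕ) = 11 + 11 from rfl, pow_add]
    rcases M.cent_Q h11 (hP 11) with e | e <;> rw [e]
    · exact one_mul _
    · exact M.zz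
  refine ⟨⟨c ^ 12, ?_, hP 12, powX.2.2 ▸ M.acts_pow hc 12⟩⟩
  rw [← pow_mul, show 12 * 11 = 22 * 6 from rfl, pow_mul, h22, one_pow]

namespace Eleven

variable {M} (F : M.Eleven)
include F

theorem order : orderOf F.c = 11 :=
  haveI : Fact (Nat.Prime 11) := ⟨by norm_num⟩
  orderOf_eq_prime F.pow_eleven fun e => by
    have h := M.acts_unique (by decide) (by decide) F.acts (e ▸ M.acts_one)
    exact absurd h (by decide +kernel)

theorem order' : orderOf (F.c : G) = 11 := by rw [Subgroup.orderOf_coe, F.order]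

/-- Commutation with the element in the extraspecial subgroup. -/
theorem comm_iff (x : ↥(QG M.Q)) : (F.c : G) * x = x * F.c ↔ M.vec x < 4 := by
  rw [← M.cfix_comm]
  constructor
  · intro h
    refine fix_x _ (M.vec_lt x) ?_
    rw [← F.acts x, h]
  · intro h
    rcases M.toH_cases (x := x) (y := M.ctx.conjQ F.c x)
      (by rw [F.acts x, (ElevenTab.fix_spec _ h).1]) with e | e
    · exact M.toH_injective e
    · exfalso
      rw [← M.toH_conj] at e
      have key : ∀ k : ℕ, F.c ^ k * M.toH x * (F.c ^ k)⁻¹ = M.toH x * M.toH M.zQ ^ k := by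
        intro k
        induction k with
        | zero => simp
        | succ k ih =>
          rw [pow_succ', show F.c * F.c ^ k * M.toH x * (F.c * F.c ^ k)⁻¹ =
            F.c * (F.c ^ k * M.toH x * (F.c ^ k)⁻¹) * F.c⁻¹ by group, ih,
            show F.c * (M.toH x * M.toH M.zQ ^ k) * F.c⁻¹ =
              F.c * M.toH x * F.c⁻¹ * (F.c * M.toH M.zQ * F.c⁻¹) ^ k by rw [conj_pow]; group,
            M.z_conj, e, pow_succ', mul_assoc]
      have h11 := key 11
      rw [F.pow_eleven, M.zQ_pow_odd (by decide), one_mul, inv_one, mul_one] at h11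
      exact M.z_ne (left_eq_mul.1 h11)

/-- Elements commuting with it act by the tabulated matrices. -/
theorem acts_list {h : ↥(centralizer ({z} : Set G))} {C : List ℕ} (hh : h * F.c = F.c * h) (hC : InL0 C)
    (ha : M.Acts h C) : C ∈ listX := by
  refine mem_listX hC (M.acts_unique (by rw [length_mulC]; rfl) (by rw [length_mulC]; exact gen_length hC)
    (M.acts_mul ha F.acts) ?_)
  rw [hh]
  exact M.acts_mul F.acts ha

/-- Lifts normalising the subgroup of order three transport the element. -/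
theorem conj_eq {h : ↥(centralizer ({z} : Set G))} {C : List ℕ} (hN : InN (P := P) h) (ha : M.Acts h C) {a : ℕ}
    (he : mulC C xC = mulC (powC xC a) C) : h * F.c * h⁻¹ = F.c ^ a := by
  have hPa : InN (P := P) (F.c ^ a) := InN.of_cent (by rw [SubmonoidClass.coe_pow]; exact pow_mem F.centP a)
  rcases M.lift_eqN hPa ((hN.mul (InN.of_cent F.centP)).mul hN.inv) (M.acts_pow F.acts a)
    (M.acts_conj ha F.acts he) with e | e
  · exact e
  · exfalso
    have h11 := congrArg (· ^ 11) e
    simp only [conj_pow, F.pow_eleven, mul_one, mul_inv_cancel] at h11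
    rw [(show Commute (F.c ^ a) (M.toH M.zQ) from M.z_fix _).mul_pow, ← pow_mul, mul_comm a 11, pow_mul,
      F.pow_eleven, one_pow, one_mul, M.zQ_pow_odd (by decide)] at h11
    exact M.z_ne h11.symm

/-- Every tabulated matrix has a commuting lift. -/
theorem exists_lift {C : List ℕ} (hC : C ∈ listX) :
    ∃ h : ↥(centralizer ({z} : Set G)), h * F.c = F.c * h ∧ M.Acts h C := by
  obtain ⟨h, hh, ha⟩ := M.cent_elem C (listX_K hC)
  refine ⟨h, ?_, ha⟩
  have e := F.conj_eq (a := 1) (InN.of_cent hh) ha (by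
    rw [show powC xC 1 = mulC unitC xC from rfl, unitC_mulC (gens := gensK) xC_K (fun _ hg => gensK_sub hg)]
    exact ElevenTab.list_spec.2.2.1 C hC)
  rwa [pow_one, mul_inv_eq_iff_eq_mul] at e

/-- The centraliser inside the centraliser of the involution. -/
def cent : Subgroup ↥(centralizer ({z} : Set G)) := centralizer ({F.c} : Set ↥(centralizer ({z} : Set G)))

theorem mem_cent {h : ↥(centralizer ({z} : Set G))} : h ∈ F.cent ↔ h * F.c = F.c * h :=
  mem_centralizer_singleton_iff

theorem toH_mem_cent {x : ↥(QG M.Q)} : M.toH x ∈ F.cent ↔ M.vec x < 4 := by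
  rw [F.mem_cent, ← F.comm_iff]
  exact ⟨fun h => (congrArg Subtype.val h).symm, fun h => Subtype.ext h.symm⟩

theorem card_inf : Nat.card ↥(F.cent ⊓ M.Q : Subgroup ↥(centralizer ({z} : Set G))) = 8 := by
  classical
  have hlt : ∀ n : Fin 4, ∃ x : ↥(QG M.Q), M.vec x = n.1 := fun n => M.vec_surj _ (by have := n.2; omega)
  choose X hX using hlt
  have hvz : ∀ x : ↥(QG M.Q), M.vec (x * M.zQ) = M.vec x := fun x => by
    rw [M.vec_mul, show M.vec M.zQ = 0 from M.vec_z, Nat.xor_zero]
  let u : Fin 4 × Bool → ↥(QG M.Q) := fun nb => if nb.2 then X nb.1 * M.zQ else X nb.1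
  have hu : ∀ nb, M.vec (u nb) = nb.1.1 := fun nb => by
    rcases nb with ⟨n, _ | _⟩ <;> simp [u, hX, hvz]
  let ψ : Fin 4 × Bool → ↥(F.cent ⊓ M.Q : Subgroup ↥(centralizer ({z} : Set G))) := fun nb =>
    ⟨M.toH (u nb), F.toH_mem_cent.2 (by rw [hu]; exact nb.1.2), M.toH_mem _⟩
  have hψ : Function.Bijective ψ := by
    refine ⟨fun a b e => ?_, fun h => ?_⟩
    · have e' : u a = u b := M.toH_injective (congrArg Subtype.val e)
      have hn : a.1 = b.1 := Fin.ext (by rw [← hu a, ← hu b, e'])
      obtain ⟨n, s⟩ := a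
      obtain ⟨m, t⟩ := b
      cases hn
      cases s <;> cases t <;> simp only [u, Bool.false_eq_true, if_false, if_true] at e' ⊢
      · exact absurd (congrArg M.toH (left_eq_mul.1 e')) (by rw [map_one]; exact M.z_ne)
      · exact absurd (congrArg M.toH (left_eq_mul.1 e'.symm)) (by rw [map_one]; exact M.z_ne)
    · obtain ⟨x, hx⟩ := M.toH_surj h.2.2
      have hv : M.vec x < 4 := F.toH_mem_cent.1 (hx ▸ h.2.1)
      rcases M.toH_cases (x := X ⟨_, hv⟩) (y := x) (hX _) with e | e
      · exact ⟨(⟨_, hv⟩, false), Subtype.ext (e.symm.trans hx)⟩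
      · exact ⟨(⟨_, hv⟩, true), Subtype.ext ((map_mul M.toH _ _).trans (e.symm.trans hx))⟩
  rw [← Nat.card_congr (Equiv.ofBijective ψ hψ), Nat.card_prod, Nat.card_eq_fintype_card, Fintype.card_fin,
    Nat.card_eq_fintype_card, Fintype.card_bool]

theorem card_cent : Nat.card ↥F.cent = 264 := by
  classical
  haveI := M.normal
  set f : ↥F.cent →* ↥(centralizer ({z} : Set G)) ⧸ M.Q := (QuotientGroup.mk' M.Q).comp F.cent.subtype with hf
  have hlift : ∀ C : {C // C ∈ listX.toFinset}, ∃ h : ↥F.cent, M.Acts h C.1 := fun C => by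
    obtain ⟨h, hh, ha⟩ := F.exists_lift (List.mem_toFinset.1 C.2)
    exact ⟨⟨h, F.mem_cent.2 hh⟩, ha⟩
  choose L hL using hlift
  have hrange : Nat.card ↥f.range = 33 := by
    let φ : {C // C ∈ listX.toFinset} → ↥f.range := fun C => ⟨f (L C), L C, rfl⟩
    have hφ : Function.Bijective φ := by
      refine ⟨fun C D e => ?_, ?_⟩
      · have hm : ((L C).1)⁻¹ * (L D).1 ∈ M.Q := QuotientGroup.eq.1 (congrArg Subtype.val e)
        have hC := gen_length (listX_K (List.mem_toFinset.1 C.2))
        refine Subtype.ext (M.acts_unique hC (gen_length (listX_K (List.mem_toFinset.1 D.2))) ?_ (hL D))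
        exact M.acts_mul_Q (hL C) hm hC
      · rintro ⟨_, h, rfl⟩
        obtain ⟨C, hC, ha⟩ := M.exists_cols h.1
        have hm := F.acts_list (F.mem_cent.1 h.2) hC ha
        exact ⟨⟨C, List.mem_toFinset.2 hm⟩, Subtype.ext (QuotientGroup.eq.2 (M.inv_mul_mem (hL ⟨C, _⟩) ha))⟩
    rw [← Nat.card_congr (Equiv.ofBijective φ hφ), Nat.card_eq_fintype_card, Fintype.card_coe,
      List.toFinset_card_of_nodup ElevenTab.list_spec.1, ElevenTab.list_spec.2.1]
  have hker : f.ker = (F.cent ⊓ M.Q).subgroupOf F.cent := by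
    ext h
    rw [MonoidHom.mem_ker, hf, MonoidHom.comp_apply, QuotientGroup.mk'_apply, QuotientGroup.eq_one_iff,
      mem_subgroupOf, mem_inf]
    exact ⟨fun hh => ⟨h.2, hh⟩, fun hh => hh.2⟩
  rw [Subgroup.card_eq_card_quotient_mul_card_subgroup f.ker,
    Nat.card_congr (QuotientGroup.quotientKerEquivRange f).toEquiv, hrange, hker,
    Nat.card_congr (subgroupOfEquivOfLe inf_le_left).toEquiv, F.card_inf]

/-- Its only involution is the central one. -/
theorem invol {h : ↥(centralizer ({z} : Set G))} (hh : h ∈ F.cent) (h2 : h * h = 1) :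
    h = 1 ∨ h = M.toH M.zQ := by
  obtain ⟨C, hC, ha⟩ := M.exists_cols h
  have hm := F.acts_list (F.mem_cent.1 hh) hC ha
  have hu : mulC C C = unitC := M.acts_unique (by rw [length_mulC]; exact gen_length hC) rfl
    (M.acts_mul ha ha) (h2 ▸ M.acts_one)
  obtain ⟨x, rfl⟩ := M.toH_surj (M.mem_Q h (ElevenTab.list_spec.2.2.2 C hm hu ▸ ha))
  have hq : qbit (M.vec x) = false := (M.sq_iff x).1 (congrArg Subtype.val h2)
  have hv := F.toH_mem_cent.1 hh
  by_cases h0 : M.vec x = 0
  · rcases M.vec_eq_zero.1 h0 with e | e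
    · exact Or.inl (Subtype.ext e)
    · exact Or.inr (Subtype.ext e)
  · exfalso
    rw [cls_qbit _ (M.vec_lt x), (ElevenTab.fix_spec _ hv).2.2 h0] at hq
    exact absurd hq (by decide)

/-- The quaternion group. -/
theorem quat : Nonempty (↥(F.cent ⊓ M.Q : Subgroup ↥(centralizer ({z} : Set G))) ≃* QuaternionGroup 2) := by
  refine LBMon.q8_of_unique F.card_inf (fun x => ?_) fun x y hx hy hx2 hy2 => ?_
  · obtain ⟨u, hu⟩ := M.toH_surj x.2.2
    refine Subtype.ext ?_
    rw [SubmonoidClass.coe_pow, ← hu, ← map_pow, OneMemClass.coe_one]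
    have hv : M.vec (u * u) = 0 := by rw [M.vec_mul, Nat.xor_self]
    rcases M.toH_cases (x := 1) (y := u * u) (by rw [M.vec_one, hv]) with e | e <;>
      rw [show u ^ 4 = u * u * (u * u) by simp [pow_succ, mul_assoc], map_mul, e, map_one]
    · rw [one_mul]
    · rw [one_mul, M.zz]
  · have key : ∀ w : ↥(F.cent ⊓ M.Q : Subgroup ↥(centralizer ({z} : Set G))), w ≠ 1 → w ^ 2 = 1 →
        (w : ↥(centralizer ({z} : Set G))) = M.toH M.zQ := fun w hw hw2 =>
      (F.invol w.2.1 (by rw [← pow_two, ← SubmonoidClass.coe_pow, hw2]; rfl)).resolve_left fun e => hw (Subtype.ext e)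
    exact Subtype.ext ((key x hx hx2).trans (key y hy hy2).symm)

/-- An element inducing the third power. -/
theorem exists_three : ∃ n : ↥(centralizer ({z} : Set G)), (n : G) ∈ centralizer (P : Set G) ∧
    n * F.c * n⁻¹ = F.c ^ 3 := by
  obtain ⟨n, hn, ha⟩ := M.cent_elem yC yC_K
  exact ⟨n, hn, F.conj_eq (InN.of_cent hn) ha ElevenTab.norm_spec.1⟩

/-- An element inverting it and the subgroup of order three. -/
theorem exists_inv : ∃ n : ↥(centralizer ({z} : Set G)), InN (P := P) n ∧ n * F.c * n⁻¹ = F.c ^ 10 ∧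
    (n * n = 1 ∨ n * n = M.toH M.zQ) ∧ n * M.pElem * n⁻¹ = M.pElem ^ 2 := by
  obtain ⟨h0, h1, h2, h3, h4, h5, -⟩ := ElevenTab.norm_spec
  obtain ⟨n, hn, ha⟩ := M.exists_liftNP sC_L
  refine ⟨n, hn, F.conj_eq hn ha h1, M.np_Q (M.mem_Q _ (h3 ▸ M.acts_mul ha ha)) (hn.mul hn), ?_⟩
  have hp : InN (P := P) M.pElem := le_normalizer (M.p_gen.le (mem_zpowers (M.pElem : G)))
  rcases M.lift_eqN (c := M.pElem ^ 2) (d := n * M.pElem * n⁻¹) (by rw [pow_two]; exact hp.mul hp)
    ((hn.mul hp).mul hn.inv) (M.acts_pow M.p_acts 2) (M.acts_conj ha M.p_acts h2) with e | e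
  · exact e
  · exfalso
    have hp3 : M.pElem ^ 3 = 1 := Subtype.ext (by rw [SubmonoidClass.coe_pow]; exact M.p_pow)
    have h3' := congrArg (· ^ 3) e
    simp only [conj_pow, hp3, mul_one, mul_inv_cancel] at h3'
    rw [(show Commute (M.pElem ^ 2) (M.toH M.zQ) from M.z_fix _).mul_pow, ← pow_mul, mul_comm 2 3, pow_mul, hp3,
      one_pow, one_mul, M.zQ_pow_odd (by decide)] at h3'
    exact M.z_ne h3'.symm

theorem p_comm : (M.pElem : G) * F.c = F.c * M.pElem :=
  mem_centralizer_iff.1 F.centP _ (M.p_gen.le (mem_zpowers _))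

end Eleven

end Model

end Cfsg.Agent.JankoFour
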