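import Cfsg.Agent.Lib.JankoFour.ClassFiveMain
import Cfsg.Agent.Lib.JankoFour.ElevenCent

/-!
Classes of elements whose order is divisible by five.
-/

set_option autoImplicit false
set_option linter.unusedSectionVars false
set_option linter.style.haveILetI false
set_option maxRecDepth 100000

namespace Cfsg.Agent.JankoFour

open Subgroup
open scoped Pointwise

namespace KCount

variable {G : Type*} [Group G] [Finite G]

/-- An element of prime order is conjugate into the Sylow subgroup generated by another one. -/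
theorem conj_into_zpowers {p : ℕ} (hp : p.Prime) (hfac : (Nat.card G).factorization p = 1) {w x : G}
    (hw : orderOf w = p) (hx : orderOf x = p) : ∃ g : G, g * x * g⁻¹ ∈ zpowers w := by
  haveI : Fact p.Prime := ⟨hp⟩
  let S : Sylow p G := Sylow.ofCard (zpowers w) (by rw [hfac, Nat.card_zpowers, hw, pow_one])
  let T : Sylow p G := Sylow.ofCard (zpowers x) (by rw [hfac, Nat.card_zpowers, hx, pow_one])
  obtain ⟨g, hg⟩ := MulAction.exists_smul_eq G T S
  refine ⟨g, ?_⟩
  rw [show zpowers w = (S : Subgroup G) from rfl, ← hg]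
  exact ⟨x, mem_zpowers x, rfl⟩

end KCount

namespace Model.Five

open Cfsg.Agent.LargeFischer (Ctx QG)
open Cfsg.Agent.J4Module (app)
open Cfsg.Agent.J4Module.Data
open FiveTab Big Split KCount

variable {G : Type*} [Group G] [Finite G] {z : G} {P : Subgroup G} {M : Model z P} (F : M.Five)
include F

omit F in
theorem out_not_lin : ∀ C ∈ outs, mulC C pC ≠ mulC pC C := by decide +kernel

theorem p_mem : (M.pElem : G) ∈ F.K :=
  mem_centralizer_singleton_iff.2 (mem_centralizer_iff.1 F.centP _ (M.p_gen.le (mem_zpowers _)))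

theorem p_order : orderOf (M.pElem : G) = 3 := by
  rw [← Nat.card_zpowers, M.p_gen, M.card_P]

/-- An element of the centraliser inverting the element of order three. -/
theorem exists_inv_three : ∃ n ∈ F.K, n * (M.pElem : G) * n⁻¹ = (M.pElem : G) ^ 2 := by
  obtain ⟨n, hn, ha⟩ := M.exists_liftNP sC_L
  have hc : n * F.c * n⁻¹ = F.c := by
    have e := F.conj_eq (a := 1) hn ha (by
      rw [show powC yC 1 = mulC unitC yC from rfl, unitC_mulC (gens := gensK) yC_K (fun _ hg => gensK_sub hg)]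
      exact list_spec.2.2.2.2.2.2 sC two_part.1)
    rwa [pow_one] at e
  refine ⟨n, mem_centralizer_singleton_iff.2 (mul_inv_eq_iff_eq_mul.1 (congrArg Subtype.val hc)), ?_⟩
  obtain ⟨-, -, h2, -⟩ := ElevenTab.norm_spec
  have hp : InN (P := P) M.pElem := le_normalizer (M.p_gen.le (mem_zpowers (M.pElem : G)))
  rcases M.lift_eqN (c := M.pElem ^ 2) (d := n * M.pElem * n⁻¹) (by rw [pow_two]; exact hp.mul hp)
    ((hn.mul hp).mul hn.inv) (M.acts_pow M.p_acts 2) (M.acts_conj ha M.p_acts h2) with e | e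
  · exact congrArg Subtype.val e
  · exfalso
    have hp3 : M.pElem ^ 3 = 1 := Subtype.ext (by rw [SubmonoidClass.coe_pow]; exact M.p_pow)
    have h3' := congrArg (· ^ 3) e
    simp only [conj_pow, hp3, mul_one, mul_inv_cancel] at h3'
    rw [(show Commute (M.pElem ^ 2) (M.toH M.zQ) from M.z_fix _).mul_pow, ← pow_mul, mul_comm 2 3, pow_mul, hp3,
      one_pow, one_mul, M.zQ_pow_odd (by decide)] at h3'
    exact M.z_ne h3'.symm

theorem prod_order : orderOf ((F.c : G) * M.pElem) = 15 := by
  rw [(show Commute (F.c : G) (M.pElem : G) from (mem_centralizer_singleton_iff.1 F.p_mem).symm).orderOf_mul_eq_mul_orderOf_of_coprime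
    (by rw [F.order', F.p_order]; norm_num), F.order', F.p_order]

theorem prod_pow : ((F.c : G) * M.pElem) ^ 6 = F.c ∧ ((F.c : G) * M.pElem) ^ 10 = M.pElem := by
  have hc : Commute (F.c : G) (M.pElem : G) := (mem_centralizer_singleton_iff.1 F.p_mem).symm
  constructor <;> rw [hc.mul_pow, ← pow_mod_orderOf (F.c : G), F.order', ← pow_mod_orderOf (M.pElem : G),
    F.p_order]
  · rw [show 6 % 5 = 1 from rfl, show 6 % 3 = 0 from rfl, pow_one, pow_zero, mul_one]
  · rw [show 10 % 5 = 0 from rfl, show 10 % 3 = 1 from rfl, pow_zero, pow_one, one_mul]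

/-- Two classes lie over the element of order fifteen. -/
theorem section_fifteen (hC3 : centralizer (P : Set G) ≤ centralizer ({z} : Set G)) :
    sectionCard ((F.c : G) * M.pElem) = 2 := by
  obtain ⟨h6, h10⟩ := F.prod_pow
  have hz : ∀ g : G, g = 1 ∨ g = z → g * ((F.c : G) * M.pElem) = (F.c : G) * M.pElem * g := by
    rintro g (rfl | rfl)
    · rw [one_mul, mul_one]
    · exact (mem_centralizer_singleton_iff.1 (mul_mem F.c.2 M.pElem.2)).symm
  refine sectionCard_eq (by rw [F.prod_order]; decide) ![1, z] (fun i => ?_) ?_ ?_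
  · fin_cases i
    · exact ⟨⟨0, one_pow _⟩, hz _ (Or.inl rfl)⟩
    · exact ⟨⟨1, by rw [pow_one, pow_two]; exact M.z_sq⟩, hz _ (Or.inr rfl)⟩
  · intro u hu hc
    have hc1 : u * (F.c : G) = F.c * u := h6 ▸ (show Commute u _ from hc).pow_right 6
    have hc2 : u * (M.pElem : G) = M.pElem * u := h10 ▸ (show Commute u _ from hc).pow_right 10
    have huP : u ∈ centralizer (P : Set G) := by
      rw [mem_centralizer_iff]
      intro g hg
      rw [SetLike.mem_coe, ← M.p_gen] at hg
      obtain ⟨i, rfl⟩ := hg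
      exact ((show Commute u (M.pElem : G) from hc2).zpow_right i).eq.symm
    set x : ↥(centralizer ({z} : Set G)) := ⟨u, hC3 huP⟩
    have hx : (x : G) ∈ F.K := mem_centralizer_singleton_iff.2 hc1
    obtain ⟨C, hL, ha, hC⟩ := F.two_cols hx hu
    obtain ⟨C', hC', ha'⟩ := M.cent_cols x huP
    have hCu : C = unitC := hC.resolve_right fun h => out_not_lin C h (by
      rw [M.acts_unique (gen_length (listL_mem hL)) (gen_length (gen_mono hC')) ha ha']
      exact lin_of_K hC')
    rcases M.cent_Q (M.mem_Q x (hCu ▸ ha)) huP with e | e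
    · exact ⟨0, 1, by rw [one_mul, mul_one], by rw [show u = 1 from congrArg Subtype.val e]; simp⟩
    · exact ⟨1, 1, by rw [one_mul, mul_one], by rw [show u = z from congrArg Subtype.val e]; simp⟩
  · intro i j k _ e
    fin_cases i <;> fin_cases j <;> first | rfl | skip
    all_goals exfalso; simp at e
    · exact M.ctx.xs.ne_one e.symm
    · exact M.ctx.xs.ne_one e

variable {B : BigData M} (Cc : BigCoords B)
  (hT : ∀ n < 2048, (Orb.tMask.testBit n = true ↔ n ≠ 0 ∧ ¬ IsConj z (Cc.el n))) (D : BigPack z B.V)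
include Cc hT D

/-- One class of elements of order five. -/
theorem reps_five (hfac : (Nat.card G).factorization 5 = 1) : OrderReps 5 [(F.c : G)] := by
  have h := prime_reps (p := 5) (k := 4) (c := 6720) (by norm_num) hfac F.order' (F.card_K Cc hT D)
    (by rw [(F.normalizer_facts Cc hT D).2]; norm_num) (by decide +kernel) (es := [1]) (by decide +kernel)
  simpa using h

/-- One class of elements of order fifteen. -/
theorem reps_fifteen (hfac : (Nat.card G).factorization 5 = 1) :
    OrderReps 15 [(F.c : G) * M.pElem] := by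
  refine ⟨fun w hw => by rw [List.mem_singleton.1 hw]; exact F.prod_order, fun x hx => ?_,
    List.pairwise_singleton _ _⟩
  refine ⟨_, List.mem_singleton.2 rfl, ?_⟩
  obtain ⟨w, hw, hc⟩ := (F.reps_five Cc hT D hfac).cover (x ^ 6) (by rw [orderOf_pow, hx]; rfl)
  rw [List.mem_singleton] at hw
  subst hw
  obtain ⟨k, hk⟩ := isConj_iff.1 hc
  set y := k * x * k⁻¹ with hy
  have hyo : orderOf y = 15 := by rw [hy, ← MulAut.conj_apply, MulEquiv.orderOf_eq, hx]
  have hy6 : y ^ 6 = F.c := by rw [hy, conj_pow, hk]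
  have hyK : y ∈ F.K := mem_centralizer_singleton_iff.2 (by rw [← hy6]; exact (Commute.self_pow y 6).eq)
  have hfac3 : (Nat.card ↥F.K).factorization 3 = 1 := by
    rw [F.card_K Cc hT D, show 6720 = 3 * 2240 by norm_num,
      Nat.factorization_mul (by norm_num) (by norm_num), Finsupp.add_apply,
      (by norm_num : Nat.Prime 3).factorization_self, Nat.factorization_eq_zero_of_not_dvd (by norm_num)]
  obtain ⟨g, hg⟩ := conj_into_zpowers Nat.prime_three hfac3 (w := (⟨_, F.p_mem⟩ : ↥F.K)) (x := ⟨y ^ 10, pow_mem hyK _⟩)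
    (by rw [← Subgroup.orderOf_coe]; exact F.p_order)
    (by rw [← Subgroup.orderOf_coe]; show orderOf (y ^ 10) = 3; rw [orderOf_pow, hyo]; rfl)
  obtain ⟨i, hi⟩ := mem_powers_iff_mem_zpowers.2 hg
  have hi' : (M.pElem : G) ^ i = (g : G) * y ^ 10 * (g : G)⁻¹ := congrArg Subtype.val hi
  have hi0 : i % 3 ≠ 0 := fun h => by
    rw [← pow_mod_orderOf, F.p_order, h, pow_zero, eq_comm, conj_eq_one_iff] at hi'
    have := orderOf_dvd_of_pow_eq_one hi'
    rw [hyo] at this
    norm_num at this
  obtain ⟨m, hm, hmp⟩ : ∃ m ∈ F.K, m * ((g : G) * y ^ 10 * (g : G)⁻¹) * m⁻¹ = M.pElem := by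
    rw [← hi', ← pow_mod_orderOf, F.p_order]
    rcases (show i % 3 = 1 ∨ i % 3 = 2 by omega) with h | h <;> rw [h]
    · exact ⟨1, one_mem _, by rw [pow_one]; group⟩
    · obtain ⟨n, hn, hnp⟩ := F.exists_inv_three
      refine ⟨n, hn, ?_⟩
      rw [← conj_pow, hnp, ← pow_mul, ← pow_mod_orderOf, F.p_order, show 2 * 2 % 3 = 1 from rfl, pow_one]
  have hmgc : m * (g : G) * F.c * (m * g)⁻¹ = F.c :=
    mul_inv_eq_iff_eq_mul.2 (mem_centralizer_singleton_iff.1 (mul_mem hm g.2))
  refine isConj_iff.2 ⟨m * g * k, ?_⟩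
  have hyy : y = y ^ 6 * y ^ 10 := by rw [← pow_add, ← pow_mod_orderOf, hyo, pow_one]
  calc m * g * k * x * (m * g * k)⁻¹ = m * g * y * (m * g)⁻¹ := by rw [hy]; group
    _ = (m * g * y ^ 6 * (m * g)⁻¹) * (m * ((g : G) * y ^ 10 * (g : G)⁻¹) * m⁻¹) := by
      conv_lhs => rw [hyy]
      group
    _ = _ := by rw [hy6, hmgc, hmp]

/-- The orders divisible by five. -/
theorem order_cases_five (hfac : (Nat.card G).factorization 5 = 1) {x : G} (hodd : Odd (orderOf x))
    (hx : 5 ∣ orderOf x) (h7 : 7 ∣ orderOf x → orderOf x = 7 ∨ orderOf x = 21 ∨ orderOf x = 35) :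
    orderOf x = 5 ∨ orderOf x = 15 ∨ orderOf x = 35 := by
  have hpos := orderOf_pos x
  obtain ⟨w, hw, hc⟩ := (F.reps_five Cc hT D hfac).cover (x ^ (orderOf x / 5)) (by
    rw [orderOf_pow_of_dvd (Nat.div_pos (Nat.le_of_dvd hpos hx) (by norm_num)).ne' (Nat.div_dvd_of_dvd hx),
      Nat.div_div_self hx hpos.ne'])
  rw [List.mem_singleton] at hw
  subst hw
  obtain ⟨k, hk⟩ := isConj_iff.1 hc
  have hyK : k * x * k⁻¹ ∈ F.K := mem_centralizer_singleton_iff.2 (by
    rw [← hk, ← conj_pow]
    exact (Commute.self_pow _ _).eq)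
  have hd := Subgroup.orderOf_dvd_natCard _ hyK
  rw [F.card_K Cc hT D, ← MulAut.conj_apply, MulEquiv.orderOf_eq, show 6720 = 2 ^ 6 * 105 from rfl] at hd
  have h105 : orderOf x ∣ 105 := (Nat.Coprime.pow_right 6 (Nat.coprime_two_right.2 hodd)).dvd_of_dvd_mul_left hd
  have hle := Nat.le_of_dvd (by norm_num) h105
  interval_cases h : orderOf x <;> omega

end Model.Five

end Cfsg.Agent.JankoFour
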