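import Cfsg.Agent.Lib.JankoFour.ElevenMain
import Mathlib.GroupTheory.Subgroup.Centralizer
import Cfsg.Agent.Lib.Qd.Basic

/-!
The elements of order eleven fall into two classes.
-/

set_option autoImplicit false
set_option linter.unusedSectionVars false

namespace Cfsg.Agent.JankoFour

open Subgroup

variable {G : Type*} [Group G] [Finite G] {z : G} {P : Subgroup G} {M : Model z P}

namespace Model.ElevenSetup

variable (S : M.ElevenSetup) (hord : Nat.card G = 86775571046077562880)
include S hord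

theorem not_comm_z {a : G} (ha : a ∈ S.K.O) (ha' : a ∉ zpowers (S.F.c : G)) {g : G}
    (hg : g ∈ centralizer ({(S.F.c : G)} : Set G)) (hgz : z * (g * a * g⁻¹) = g * a * g⁻¹ * z) : False := by
  obtain ⟨i, hi⟩ := S.K.inf _ (S.K.conj_mem g hg a ha) hgz.symm
  have hi' : (S.F.c : G) ^ i = g * a * g⁻¹ := hi
  refine ha' ⟨i, ?_⟩
  have hc := (show Commute g (S.F.c : G) from mem_centralizer_singleton_iff.1 hg).zpow_right i
  show (S.F.c : G) ^ i = a
  calc (S.F.c : G) ^ i = g⁻¹ * (g * (S.F.c : G) ^ i) := by group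
    _ = g⁻¹ * ((S.F.c : G) ^ i * g) := by rw [hc.eq]
    _ = a := by rw [hi']; group

/-- No involution fixing the distinguished element commutes with another element of the core. -/
theorem no_two {a : G} (ha : a ∈ S.K.O) (ha' : a ∉ zpowers (S.F.c : G)) {g : G} (hg : orderOf g = 2)
    (hgX : g ∈ centralizer ({(S.F.c : G)} : Set G)) (hga : g * a = a * g) : False := by
  haveI : Fact (Nat.Prime 2) := ⟨Nat.prime_two⟩
  set X := centralizer ({(S.F.c : G)} : Set G) with hX
  have hfac : (Nat.card ↥X).factorization 2 = 3 := by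
    rw [S.card_X, show (31944 : ℕ) = 2 ^ 3 * 3993 by norm_num, Nat.factorization_mul (by norm_num) (by norm_num),
      Finsupp.add_apply, Nat.Prime.factorization_pow (by norm_num), Finsupp.single_eq_same,
      Nat.factorization_eq_zero_of_not_dvd (by norm_num)]
  let T : Sylow 2 ↥X := Sylow.ofCard (S.F.eight.subgroupOf X) (by
    rw [Nat.card_congr (subgroupOfEquivOfLe (S.F.eight_le.trans inf_le_left)).toEquiv, S.F.card_eight, hfac]
    norm_num)
  have hg' : orderOf (⟨g, hgX⟩ : ↥X) = 2 := by rw [← Subgroup.orderOf_coe]; exact hg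
  obtain ⟨U, hU⟩ := IsPGroup.exists_le_sylow (P := zpowers (⟨g, hgX⟩ : ↥X))
    (IsPGroup.of_card (n := 1) (by rw [Nat.card_zpowers, hg', pow_one]))
  obtain ⟨h, hh⟩ := MulAction.exists_smul_eq ↥X U T
  have hmem : h * ⟨g, hgX⟩ * h⁻¹ ∈ S.F.eight.subgroupOf X := by
    rw [show S.F.eight.subgroupOf X = (T : Subgroup ↥X) from rfl, ← hh]
    exact ⟨_, hU (mem_zpowers _), rfl⟩
  rw [mem_subgroupOf] at hmem
  have hg2 : g * g = 1 := by rw [← pow_two, ← hg, pow_orderOf_eq_one]
  have hg1 : g ≠ 1 := fun e => by rw [e, orderOf_one] at hg; norm_num at hg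
  have hz := S.F.eight_invol hmem
    (by
      show (h : G) * g * (h : G)⁻¹ * ((h : G) * g * (h : G)⁻¹) = 1
      rw [show (h : G) * g * (h : G)⁻¹ * ((h : G) * g * (h : G)⁻¹) = h * (g * g) * (h : G)⁻¹ by group, hg2]
      group)
    (by
      intro e
      exact hg1 (conj_eq_one_iff.1 (show (h : G) * g * (h : G)⁻¹ = 1 from e)))
  have hz' : (h : G) * g * (h : G)⁻¹ = z := hz
  refine S.not_comm_z hord ha ha' h.2 ?_
  conv_lhs => rw [← hz']
  conv_rhs => rw [← hz']
  calc (h : G) * g * (h : G)⁻¹ * ((h : G) * a * (h : G)⁻¹) = h * (g * a) * (h : G)⁻¹ := by group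
    _ = h * (a * g) * (h : G)⁻¹ := by rw [hga]
    _ = _ := by group

/-- No element of order three fixing the distinguished element commutes with another element of the core. -/
theorem no_three {a : G} (ha : a ∈ S.K.O) (ha' : a ∉ zpowers (S.F.c : G)) {g : G} (hg : orderOf g = 3)
    (hgX : g ∈ centralizer ({(S.F.c : G)} : Set G)) (hga : g * a = a * g) : False := by
  haveI : Fact (Nat.Prime 3) := ⟨Nat.prime_three⟩
  set X := centralizer ({(S.F.c : G)} : Set G) with hX
  have hfac : (Nat.card ↥X).factorization 3 = 1 := by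
    rw [S.card_X, show (31944 : ℕ) = 3 ^ 1 * 10648 by norm_num, Nat.factorization_mul (by norm_num) (by norm_num),
      Finsupp.add_apply, Nat.Prime.factorization_pow (by norm_num), Finsupp.single_eq_same,
      Nat.factorization_eq_zero_of_not_dvd (by norm_num)]
  have hPX : P ≤ X := by
    rw [← M.p_gen]
    exact zpowers_le.2 (mem_centralizer_singleton_iff.2 S.F.p_comm)
  let T : Sylow 3 ↥X := Sylow.ofCard (P.subgroupOf X) (by
    rw [Nat.card_congr (subgroupOfEquivOfLe hPX).toEquiv, M.card_P, hfac]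
    norm_num)
  have hg' : orderOf (⟨g, hgX⟩ : ↥X) = 3 := by rw [← Subgroup.orderOf_coe]; exact hg
  obtain ⟨U, hU⟩ := IsPGroup.exists_le_sylow (P := zpowers (⟨g, hgX⟩ : ↥X))
    (IsPGroup.of_card (n := 1) (by rw [Nat.card_zpowers, hg', pow_one]))
  obtain ⟨h, hh⟩ := MulAction.exists_smul_eq ↥X U T
  have hmem : h * ⟨g, hgX⟩ * h⁻¹ ∈ P.subgroupOf X := by
    rw [show P.subgroupOf X = (T : Subgroup ↥X) from rfl, ← hh]
    exact ⟨_, hU (mem_zpowers _), rfl⟩
  rw [mem_subgroupOf] at hmem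
  set r := (h : G) * g * (h : G)⁻¹ with hr
  have hrP : r ∈ P := hmem
  have hgen : zpowers r = P := Subgroup.eq_of_le_of_card_ge (zpowers_le.2 hrP) (by
    rw [Nat.card_zpowers, M.card_P, hr, ← MulAut.conj_apply, MulEquiv.orderOf_eq, hg])
  refine S.not_comm_z hord ha ha' h.2 (mem_centralizer_singleton_iff.1 (S.cent_three ?_)).symm
  rw [← hgen, Subgroup.zpowers_eq_closure, Subgroup.centralizer_closure]
  refine mem_centralizer_singleton_iff.2 ?_
  rw [hr]
  calc (h : G) * a * (h : G)⁻¹ * ((h : G) * g * (h : G)⁻¹) = h * (a * g) * (h : G)⁻¹ := by group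
    _ = h * (g * a) * (h : G)⁻¹ := by rw [hga]
    _ = _ := by group

/-- The stabiliser of an element of the core outside its centre is small. -/
theorem card_stab_le {a : G} (ha : a ∈ S.K.O) (ha' : a ∉ zpowers (S.F.c : G)) :
    Nat.card ↥(normalizer (zpowers (S.F.c : G) : Set G) ⊓ centralizer ({a} : Set G) : Subgroup G) ≤ 242 := by
  classical
  set Z := zpowers (S.F.c : G) with hZ
  set H := normalizer (Z : Set G) ⊓ centralizer ({a} : Set G) with hH
  set φ : ↥H →* MulAut ↥Z := (normalizerMonoidHom Z).comp (Subgroup.inclusion inf_le_left) with hφ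
  have h1 := Subgroup.card_eq_card_quotient_mul_card_subgroup φ.ker
  rw [Nat.card_congr (QuotientGroup.quotientKerEquivRange φ).toEquiv] at h1
  -- the kernel
  have hker : ∀ h : ↥H, h ∈ φ.ker → (h : G) ∈ centralizer ({(S.F.c : G)} : Set G) := by
    intro h hh
    have h2 : Subgroup.inclusion inf_le_left h ∈ (normalizerMonoidHom Z).ker := hh
    rw [normalizerMonoidHom_ker, mem_subgroupOf] at h2
    exact mem_centralizer_singleton_iff.2 (mem_centralizer_iff.1 h2 _ (mem_zpowers _)).symm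
  set W := φ.ker.map H.subtype with hW
  have hWX : W ≤ centralizer ({(S.F.c : G)} : Set G) := by
    rintro _ ⟨h, hh, rfl⟩
    exact hker h hh
  have hWa : W ≤ centralizer ({a} : Set G) := by
    rintro _ ⟨h, -, rfl⟩
    exact h.2.2
  have hWc : Nat.card ↥φ.ker = Nat.card ↥W := (card_map_of_injective H.subtype_injective).symm
  have hcop : Nat.Coprime (Nat.card ↥W) 24 := by
    refine Nat.coprime_of_dvd fun p hp hpW hp24 => ?_
    haveI : Fact p.Prime := ⟨hp⟩
    obtain ⟨g, hg⟩ := exists_prime_orderOf_dvd_card' (G := ↥W) p hpW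
    have hg' : orderOf (g : G) = p := by rw [Subgroup.orderOf_coe, hg]
    have hga := mem_centralizer_singleton_iff.1 (hWa g.2)
    have hp6 : p = 2 ∨ p = 3 := by
      have h24 : p ∣ 2 ^ 3 * 3 := by norm_num; exact hp24
      rcases hp.dvd_mul.1 h24 with h | h
      · exact Or.inl ((Nat.prime_dvd_prime_iff_eq hp Nat.prime_two).1 (hp.dvd_of_dvd_pow h))
      · exact Or.inr ((Nat.prime_dvd_prime_iff_eq hp Nat.prime_three).1 h)
    rcases hp6 with rfl | rfl
    · exact S.no_two hord ha ha' hg' (hWX g.2) hga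
    · exact S.no_three hord ha ha' hg' (hWX g.2) hga
  have hWd : Nat.card ↥W ∣ 11 ^ 3 := by
    have := Subgroup.card_dvd_of_le hWX
    rw [S.card_X, show (31944 : ℕ) = 11 ^ 3 * 24 by norm_num] at this
    exact hcop.dvd_of_dvd_mul_right this
  have hWO : W ≤ S.K.O := fun g hg => by
    refine S.K.mem_O_of_pow S.card_O S.card_X hord S.other (hWX hg) (k := 3) ?_
    exact orderOf_dvd_iff_pow_eq_one.1 ((Subgroup.orderOf_dvd_natCard W hg).trans hWd)
  have hW121 : Nat.card ↥W ≤ 121 := by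
    obtain ⟨k, hk, e⟩ := (Nat.dvd_prime_pow (by norm_num : Nat.Prime 11)).1 hWd
    rcases Nat.lt_or_ge k 3 with h | h
    · rw [e]
      calc 11 ^ k ≤ 11 ^ 2 := Nat.pow_le_pow_right (by norm_num) (by omega)
        _ = 121 := by norm_num
    · exfalso
      obtain rfl : k = 3 := by omega
      have heq : W = S.K.O := Subgroup.eq_of_le_of_card_ge hWO (by rw [e, S.card_O])
      refine ha' ((S.K.mem_center_iff' S.card_O S.card_X hord S.other (o := ⟨a, ha⟩)).1
        (Subgroup.mem_center_iff.2 fun b => Subtype.ext ?_))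
      exact mem_centralizer_singleton_iff.1 (hWa (heq.ge b.2))
  -- the image
  have hr10 : Nat.card ↥φ.range ∣ 10 := by
    refine dvd_trans φ.range.card_subgroup_dvd_card ?_
    rw [IsCyclic.card_mulAut, Nat.card_zpowers, S.F.order', Nat.totient_prime (by norm_num)]
  have hr5 : ¬ 5 ∣ Nat.card ↥φ.range := by
    intro h5
    haveI : Fact (Nat.Prime 5) := ⟨by norm_num⟩
    obtain ⟨f, hf⟩ := exists_prime_orderOf_dvd_card' (G := ↥H) 5 (h1 ▸ h5.trans (dvd_mul_right _ _))
    have hf' : orderOf (f : G) = 5 := by rw [Subgroup.orderOf_coe, hf]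
    have hfa : (a : G) ∈ centralizer ({(f : G)} : Set G) :=
      mem_centralizer_singleton_iff.2 (mem_centralizer_singleton_iff.1 f.2.2).symm
    have hd := Subgroup.orderOf_dvd_natCard _ hfa
    rw [S.cent_five _ hf'] at hd
    have ha11 : orderOf a ∣ 11 := orderOf_dvd_of_pow_eq_one (S.K.pow_eleven S.card_O S.card_X hord S.other ha)
    have ha1 : orderOf a = 1 := Nat.eq_one_of_dvd_coprimes (show Nat.Coprime 11 6720 by norm_num) ha11 hd
    exact ha' (by rw [orderOf_eq_one_iff.1 ha1]; exact one_mem _)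
  have hr2 : Nat.card ↥φ.range ≤ 2 := by
    have hd2 : Nat.card ↥φ.range ∣ 2 :=
      ((Nat.Prime.coprime_iff_not_dvd (by norm_num : Nat.Prime 5)).2 hr5).symm.dvd_of_dvd_mul_right
        (show Nat.card ↥φ.range ∣ 2 * 5 from hr10)
    exact Nat.le_of_dvd (by norm_num) hd2
  rw [h1, hWc]
  calc Nat.card ↥φ.range * Nat.card ↥W ≤ 2 * 121 := Nat.mul_le_mul hr2 hW121
    _ = 242 := by norm_num

/-- The normaliser is transitive on the elements of the core outside its centre. -/
theorem conj_noncentral {a b : G} (ha : a ∈ S.K.O) (ha' : a ∉ zpowers (S.F.c : G)) (hb : b ∈ S.K.O)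
    (hb' : b ∉ zpowers (S.F.c : G)) : IsConj a b := by
  classical
  set Z := zpowers (S.F.c : G) with hZ
  set N := normalizer (Z : Set G) with hN
  have hNO : N = normalizer (S.K.O : Set G) :=
    (S.K.normalizer_eq S.card_O S.card_X hord S.other).symm
  letI act : MulAction ↥N G := MulAction.compHom G (ConjAct.toConjAct.toMonoidHom.comp N.subtype)
  have hsmul : ∀ (n : ↥N) (w : G), n • w = (n : G) * w * (n : G)⁻¹ := fun n w => rfl
  have hstab : Nat.card ↥(MulAction.stabilizer ↥N a) =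
      Nat.card ↥(N ⊓ centralizer ({a} : Set G) : Subgroup G) := by
    refine Nat.card_congr
      { toFun := fun n => ⟨n.1.1, n.1.2, mem_centralizer_singleton_iff.2 (mul_inv_eq_iff_eq_mul.1 n.2)⟩
        invFun := fun g => ⟨⟨g.1, g.2.1⟩, mul_inv_eq_iff_eq_mul.2 (mem_centralizer_singleton_iff.1 g.2.2)⟩
        left_inv := fun _ => rfl
        right_inv := fun _ => rfl }
  have hsub : MulAction.orbit ↥N a ⊆ (S.K.O : Set G) \ (Z : Set G) := by
    rintro _ ⟨n, rfl⟩
    have hnO : (n : G) ∈ normalizer (S.K.O : Set G) := hNO ▸ n.2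
    refine ⟨(Subgroup.mem_normalizer_iff.1 hnO a).1 ha, fun h => ha' ?_⟩
    exact (Subgroup.mem_normalizer_iff.1 n.2 a).2 h
  have hdiff : ((S.K.O : Set G) \ (Z : Set G)).ncard = 1320 := by
    rw [Set.ncard_sdiff (show (Z : Set G) ⊆ S.K.O from S.K.x_le) (Set.toFinite _),
      ← Nat.card_coe_set_eq, ← Nat.card_coe_set_eq]
    change Nat.card ↥S.K.O - Nat.card ↥Z = 1320
    rw [S.card_O, Nat.card_zpowers, S.F.order']
    norm_num
  have hge : 1320 ≤ (MulAction.orbit ↥N a).ncard := by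
    have h := (MulAction.stabilizer ↥N a).card_mul_index
    rw [MulAction.index_stabilizer, hstab] at h
    have hNc : Nat.card ↥N = 319440 := by
      rw [hNO, S.K.card_normalizer S.card_O S.card_X hord S.other]
      norm_num
    have hle := S.card_stab_le hord ha ha'
    by_contra hlt
    have := Nat.mul_le_mul hle (show (MulAction.orbit ↥N a).ncard ≤ 1319 by omega)
    rw [h, hNc] at this
    norm_num at this
  have heq : MulAction.orbit ↥N a = (S.K.O : Set G) \ (Z : Set G) :=
    Set.eq_of_subset_of_ncard_le hsub (by rw [hdiff]; exact hge) (Set.toFinite _)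
  obtain ⟨n, hn⟩ := heq.ge ⟨hb, hb'⟩
  exact isConj_iff.2 ⟨n, (hsmul n a).symm.trans hn⟩

/-- The non-identity elements of the centre are conjugate. -/
theorem conj_central {a : G} (ha : a ∈ zpowers (S.F.c : G)) (ha1 : a ≠ 1) : IsConj (S.F.c : G) a := by
  obtain ⟨i, hi⟩ := (mem_powers_iff_mem_zpowers).2 ha
  have hi' : (S.F.c : G) ^ i = a := hi
  have hi0 : i % 11 ≠ 0 := fun h => ha1 (by rw [← hi', ← pow_mod_orderOf, S.F.order', h, pow_zero])
  obtain ⟨e, -, f, -, hef⟩ : ∃ e < 5, ∃ f < 2, 10 ^ f * 3 ^ e % 11 = i % 11 := by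
    have htab : ∀ r < 11, r ≠ 0 → ∃ e < 5, ∃ f < 2, 10 ^ f * 3 ^ e % 11 = r := by decide
    exact htab _ (Nat.mod_lt _ (by norm_num)) hi0
  obtain ⟨n3, -, e3⟩ := S.F.exists_three
  obtain ⟨n10, -, e10, -, -⟩ := S.F.exists_inv
  have hstep : ∀ {n : ↥(centralizer ({z} : Set G))} {k : ℕ}, n * S.F.c * n⁻¹ = S.F.c ^ k → ∀ j : ℕ,
      IsConj ((S.F.c : G) ^ j) ((S.F.c : G) ^ (k * j)) := by
    intro n k h j
    refine isConj_iff.2 ⟨n, ?_⟩
    have h' : (n : G) * S.F.c * (n : G)⁻¹ = (S.F.c : G) ^ k := by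
      have := congrArg Subtype.val h; simpa using this
    rw [← conj_pow, h', pow_mul]
  have hiter : ∀ {n : ↥(centralizer ({z} : Set G))} {k : ℕ}, n * S.F.c * n⁻¹ = S.F.c ^ k → ∀ (e j : ℕ),
      IsConj ((S.F.c : G) ^ j) ((S.F.c : G) ^ (k ^ e * j)) := by
    intro n k h e
    induction e with
    | zero => intro j; rw [pow_zero, one_mul]
    | succ e ih =>
      intro j
      refine (ih j).trans ?_
      rw [pow_succ', mul_assoc]
      exact hstep h _
  have h := (hiter e3 e 1).trans (hiter e10 f (3 ^ e * 1))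
  rw [pow_one, mul_one] at h
  rwa [← pow_mod_orderOf _ (10 ^ f * 3 ^ e), S.F.order', hef, ← S.F.order', pow_mod_orderOf, hi'] at h

/-- Exactly two classes of elements of order eleven. -/
theorem two_classes : ∃ x y : G, orderOf x = 11 ∧ orderOf y = 11 ∧ ¬ IsConj x y ∧
    ∀ w : G, orderOf w = 11 → IsConj w x ∨ IsConj w y := by
  haveI : Fact (Nat.Prime 11) := ⟨by norm_num⟩
  obtain ⟨U, hU⟩ := S.K.exists_sylow S.card_O S.card_X hord S.other
  obtain ⟨y, hy, hy3, -⟩ := S.other
  have hxy : ¬ IsConj (S.F.c : G) y := fun h => hy3 (by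
    rw [← card_cent_of_isConj h, S.card_X]; norm_num)
  have hinto : ∀ w : G, orderOf w = 11 → ∃ v ∈ S.K.O, IsConj w v ∧ v ≠ 1 := by
    intro w hw
    obtain ⟨T, hT⟩ := IsPGroup.exists_le_sylow (P := zpowers w)
      (IsPGroup.of_card (n := 1) (by rw [Nat.card_zpowers, hw, pow_one]))
    obtain ⟨g, hg⟩ := MulAction.exists_smul_eq G T U
    refine ⟨g * w * g⁻¹, ?_, isConj_iff.2 ⟨g, rfl⟩, fun e => ?_⟩
    · rw [← hU, ← hg]
      exact ⟨w, hT (mem_zpowers w), rfl⟩
    · rw [conj_eq_one_iff.1 e, orderOf_one] at hw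
      norm_num at hw
  refine ⟨S.F.c, y, S.F.order', hy, hxy, fun w hw => ?_⟩
  obtain ⟨v, hv, hwv, hv1⟩ := hinto w hw
  obtain ⟨u, hu, hyu, hu1⟩ := hinto y hy
  by_cases hvZ : v ∈ zpowers (S.F.c : G)
  · exact Or.inl (hwv.trans (S.conj_central hord hvZ hv1).symm)
  · have huZ : u ∉ zpowers (S.F.c : G) := fun h => hxy ((S.conj_central hord h hu1).trans hyu.symm)
    exact Or.inr (hwv.trans ((S.conj_noncentral hord hv hvZ hu huZ).trans hyu.symm))

/-- The Sylow subgroup, its normaliser and GL(2,3) inside. -/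
theorem sylow_structure (U : Sylow 11 G) :
    Cfsg.IsExtraspecial 11 ↥(U : Subgroup G) ∧ Nat.card ↥(U : Subgroup G) = 11 ^ 3 ∧
      Monoid.exponent ↥(U : Subgroup G) = 11 ∧
      Nat.card ↥(Subgroup.normalizer ((U : Subgroup G) : Set G)) = 2 ^ 4 * 3 * 5 * 11 ^ 3 ∧
      ∃ L : Subgroup G, L ≤ Subgroup.normalizer ((U : Subgroup G) : Set G) ∧
        Nonempty (↥L ≃* GL (Fin 2) (ZMod 3)) := by
  haveI : Fact (Nat.Prime 11) := ⟨by norm_num⟩
  obtain ⟨T, hT⟩ := S.K.exists_sylow S.card_O S.card_X hord S.other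
  obtain ⟨g, hg⟩ := MulAction.exists_smul_eq G T U
  set σ : G ≃* G := MulAut.conj g with hσ
  have hmap : S.K.O.map σ.toMonoidHom = (U : Subgroup G) := by
    rw [← hT, ← hg]
    rfl
  set e : ↥S.K.O ≃* ↥(S.K.O.map σ.toMonoidHom) := S.K.O.equivMapOfInjective σ.toMonoidHom σ.injective
  rw [← hmap]
  refine ⟨Qd.isExtraspecial_congr e.symm (S.K.extraspecial S.card_O S.card_X hord S.other), ?_, ?_, ?_, ?_⟩
  · rw [card_map_of_injective σ.injective, S.card_O]
  · rw [← Monoid.exponent_eq_of_mulEquiv e]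
    exact S.K.exponent S.card_O S.card_X hord S.other
  · rw [← map_equiv_normalizer_eq, card_map_of_injective σ.injective,
      S.K.card_normalizer S.card_O S.card_X hord S.other]
  · obtain ⟨L, hL, ⟨f⟩⟩ := S.K.exists_gl S.card_O S.card_X hord S.other
    exact ⟨L.map σ.toMonoidHom, by rw [← map_equiv_normalizer_eq]; exact map_mono hL,
      ⟨(L.equivMapOfInjective σ.toMonoidHom σ.injective).symm.trans f⟩⟩

end Model.ElevenSetup

end Cfsg.Agent.JankoFour
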