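import Cfsg.Agent.Lib.JankoFour.ElevenRegular

/-!
An element of order eleven centralising an involution of the second class has centraliser of order not divisible
by the cube of eleven.
-/

set_option autoImplicit false
set_option linter.unusedSectionVars false
set_option linter.style.haveILetI false

namespace Cfsg.Agent.JankoFour

open Subgroup
open Cfsg (GolayPt M24)

variable {G : Type*} [Group G] [Finite G]

/-- The elements of a subgroup fixed modulo a cyclic central subgroup. -/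
def fixMod (O : Subgroup G) (y f : G) (hc : ∀ a ∈ O, a * y = y * a) : Subgroup G where
  carrier := {a | a ∈ O ∧ f * a * f⁻¹ * a⁻¹ ∈ zpowers y}
  one_mem' := ⟨one_mem O, by simp⟩
  mul_mem' := fun {a b} ha hb => by
    refine ⟨mul_mem ha.1 hb.1, ?_⟩
    obtain ⟨i, hi⟩ := hb.2
    have hi' : y ^ i = f * b * f⁻¹ * b⁻¹ := hi
    rw [show f * (a * b) * f⁻¹ * (a * b)⁻¹ = f * a * f⁻¹ * (f * b * f⁻¹ * b⁻¹) * a⁻¹ by group, ← hi',
      mul_assoc _ (y ^ i), ((show Commute a y from hc a ha.1).symm.zpow_left i).inv_right.eq, ← mul_assoc]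
    exact mul_mem ha.2 (zpow_mem (mem_zpowers y) i)
  inv_mem' := fun {a} ha => by
    refine ⟨inv_mem ha.1, ?_⟩
    obtain ⟨i, hi⟩ := ha.2
    have hi' : y ^ i = f * a * f⁻¹ * a⁻¹ := hi
    have hya : Commute (y ^ i) a := (show Commute a y from hc a ha.1).symm.zpow_left i
    have he : f * a⁻¹ * f⁻¹ * a⁻¹⁻¹ = (y ^ i)⁻¹ := by
      calc f * a⁻¹ * f⁻¹ * a⁻¹⁻¹ = (f * a * f⁻¹)⁻¹ * a := by group
        _ = ((y ^ i) * a)⁻¹ * a := by rw [hi']; group
        _ = (a * y ^ i)⁻¹ * a := by rw [hya.eq]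
        _ = _ := by group
    rw [he]
    exact inv_mem (zpow_mem (mem_zpowers y) i)

omit [Finite G] in
theorem mem_fixMod {O : Subgroup G} {y f : G} {hc : ∀ a ∈ O, a * y = y * a} {a : G} :
    a ∈ fixMod O y f hc ↔ a ∈ O ∧ f * a * f⁻¹ * a⁻¹ ∈ zpowers y := Iff.rfl

omit [Finite G] in
theorem fixMod_pow {O : Subgroup G} {y f : G} {hc : ∀ a ∈ O, a * y = y * a} (hf : f * y * f⁻¹ ∈ zpowers y)
    {a : G} (ha : a ∈ fixMod O y f hc) : ∀ n : ℕ, a ∈ fixMod O y (f ^ n) hc
  | 0 => ⟨ha.1, by simp⟩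
  | n + 1 => by
    refine ⟨ha.1, ?_⟩
    have h := (fixMod_pow hf ha n).2
    obtain ⟨i, hi⟩ := h
    obtain ⟨j, hj⟩ := hf
    have hi' : y ^ i = f ^ n * a * (f ^ n)⁻¹ * a⁻¹ := hi
    have hj' : y ^ j = f * y * f⁻¹ := hj
    rw [show f ^ (n + 1) * a * (f ^ (n + 1))⁻¹ * a⁻¹ =
      f * (f ^ n * a * (f ^ n)⁻¹ * a⁻¹) * f⁻¹ * (f * a * f⁻¹ * a⁻¹) by rw [pow_succ']; group, ← hi',
      show f * y ^ i * f⁻¹ = (f * y * f⁻¹) ^ i from (conj_zpow).symm, ← hj', ← zpow_mul]
    exact mul_mem (zpow_mem (mem_zpowers y) _) ha.2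

omit [Finite G] in
/-- Changing the element by a power of the central element changes nothing. -/
theorem fixMod_mul {O : Subgroup G} {y f : G} {hc : ∀ a ∈ O, a * y = y * a} {a : G}
    (ha : a ∈ fixMod O y f hc) (i : ℤ) : a ∈ fixMod O y (f * y ^ i) hc := by
  refine ⟨ha.1, ?_⟩
  have h : Commute (y ^ i) a := (show Commute a y from hc a ha.1).symm.zpow_left i
  rw [show f * y ^ i * a * (f * y ^ i)⁻¹ * a⁻¹ = f * (y ^ i * a * (y ^ i)⁻¹) * f⁻¹ * a⁻¹ by group, h.eq,
    mul_inv_cancel_right]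
  exact ha.2

/-- A subgroup of odd order is not covered by three proper subgroups. -/
theorem not_cover_three {O A B C : Subgroup G} (ho : Odd (Nat.card ↥O)) (hA : A ≤ O) (hB : B ≤ O) (hC : C ≤ O)
    (hcov : ∀ a ∈ O, a ∈ A ∨ a ∈ B ∨ a ∈ C) : A = O ∨ B = O ∨ C = O := by
  classical
  by_contra hne
  push Not at hne
  have hle : ∀ K : Subgroup G, K ≤ O → K ≠ O → 3 * Nat.card ↥K ≤ Nat.card ↥O := by
    intro K hK hKO
    obtain ⟨m, hm⟩ := Subgroup.card_dvd_of_le hK
    have hm1 : m ≠ 1 := fun e => hKO (eq_of_le_of_card_ge hK (by rw [hm, e, mul_one]))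
    have hmo : Odd m := (Nat.odd_mul.1 (hm ▸ ho)).2
    obtain ⟨j, hj⟩ := hmo
    rw [hm, mul_comm 3]
    exact Nat.mul_le_mul_left _ (by omega)
  have hsub : ((O : Set G) \ {1}) ⊆ ((A : Set G) \ {1}) ∪ ((B : Set G) \ {1}) ∪ ((C : Set G) \ {1}) := by
    rintro a ⟨ha, ha1⟩
    rcases hcov a ha with h | h | h
    · exact Or.inl (Or.inl ⟨h, ha1⟩)
    · exact Or.inl (Or.inr ⟨h, ha1⟩)
    · exact Or.inr ⟨h, ha1⟩
  have hn : ∀ K : Subgroup G, ((K : Set G) \ {1}).ncard = Nat.card ↥K - 1 := fun K => by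
    rw [Set.ncard_sdiff_singleton_of_mem (show (1 : G) ∈ (K : Set G) from K.one_mem), ← Nat.card_coe_set_eq]
    rfl
  have h := (Set.ncard_le_ncard hsub (Set.toFinite _)).trans
    ((Set.ncard_union_le _ _).trans (Nat.add_le_add_right (Set.ncard_union_le _ _) _))
  rw [hn, hn, hn, hn] at h
  have := hle A hA hne.1
  have := hle B hB hne.2.1
  have := hle C hC hne.2.2
  have : 0 < Nat.card ↥A := Nat.card_pos
  have : 0 < Nat.card ↥B := Nat.card_pos
  have : 0 < Nat.card ↥C := Nat.card_pos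
  omega

/-- An element acting non-trivially on the central element and trivially modulo it fixes a complement. -/
theorem card_eq_fix_mul {O : Subgroup G} {y f : G} (hy : orderOf y = 11) (hyO : y ∈ O)
    (hc : ∀ a ∈ O, a * y = y * a) {k : ℕ} (hk : k < 11) (hk1 : k ≠ 1) (hfy : f * y * f⁻¹ = y ^ k)
    (hall : ∀ a ∈ O, f * a * f⁻¹ * a⁻¹ ∈ zpowers y) :
    Nat.card ↥O = Nat.card ↥(O ⊓ centralizer ({f} : Set G) : Subgroup G) * 11 := by
  classical
  have htab : ∀ k < 11, k ≠ 1 → ∀ j < 11, ∃ i < 11, (j + k * i) % 11 = i := by decide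
  set C := O ⊓ centralizer ({f} : Set G)
  let ψ : ↥C × ↥(zpowers y) → ↥O := fun p => ⟨p.1 * p.2, mul_mem p.1.2.1 (zpowers_le.2 hyO p.2.2)⟩
  have hψ : Function.Bijective ψ := by
    constructor
    · rintro ⟨⟨c, hcc⟩, ⟨_, i, rfl⟩⟩ ⟨⟨d, hdc⟩, ⟨_, j, rfl⟩⟩ e
      have e' : c * y ^ i = d * y ^ j := congrArg Subtype.val e
      have h1 : d⁻¹ * c = y ^ (j - i) := by
        rw [zpow_sub, eq_mul_inv_iff_mul_eq, mul_assoc, e', inv_mul_cancel_left]
      have h2 : y ^ (j - i) = 1 := by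
        have hfix : f * (d⁻¹ * c) * f⁻¹ = d⁻¹ * c := mul_inv_eq_iff_eq_mul.2
          (((show Commute d f from mem_centralizer_singleton_iff.1 hdc.2).inv_left).mul_left
            (mem_centralizer_singleton_iff.1 hcc.2)).eq.symm
        rw [h1, ← conj_zpow, hfy, ← zpow_natCast, ← zpow_mul] at hfix
        by_contra hne
        have hco : ((j - i) : ℤ) * ((k : ℤ) - 1) ≡ 0 [ZMOD (11 : ℕ)] := by
          rw [Int.modEq_zero_iff_dvd, ← hy]
          refine orderOf_dvd_iff_zpow_eq_one.2 ?_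
          rw [mul_sub, mul_one, zpow_sub, mul_comm, hfix, mul_inv_cancel]
        rw [Int.modEq_zero_iff_dvd] at hco
        rcases (Nat.prime_iff_prime_int.1 (by norm_num : Nat.Prime 11)).dvd_mul.1 hco with h | h
        · exact hne (orderOf_dvd_iff_zpow_eq_one.1 (hy ▸ h))
        · omega
      rw [h2, inv_mul_eq_one] at h1
      subst h1
      exact Prod.ext rfl (Subtype.ext (mul_left_cancel e'))
    · rintro ⟨a, ha⟩
      obtain ⟨j, hj⟩ := (mem_powers_iff_mem_zpowers).2 (hall a ha)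
      have hj' : y ^ j = f * a * f⁻¹ * a⁻¹ := hj
      obtain ⟨i, -, hi⟩ := htab k hk hk1 (j % 11) (Nat.mod_lt _ (by norm_num))
      have hcy : Commute a y := hc a ha
      have hfix : f * (a * y ^ i) * f⁻¹ = a * y ^ i := by
        calc f * (a * y ^ i) * f⁻¹ = f * a * f⁻¹ * a⁻¹ * a * (f * y * f⁻¹) ^ i := by rw [conj_pow]; group
          _ = y ^ j * a * y ^ (k * i) := by rw [← hj', hfy, ← pow_mul]
          _ = a * y ^ (j + k * i) := by rw [(hcy.pow_right j).symm.eq, mul_assoc, ← pow_add]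
          _ = _ := by
            congr 1
            rw [← pow_mod_orderOf, hy, Nat.add_mod]
            rw [Nat.add_mod, Nat.mod_mod] at hi
            rw [hi]
      refine ⟨⟨⟨a * y ^ i, ⟨mul_mem ha (pow_mem hyO i), mem_centralizer_singleton_iff.2
        (mul_inv_eq_iff_eq_mul.1 hfix).symm⟩⟩, ⟨(y ^ i)⁻¹, inv_mem (pow_mem (mem_zpowers y) i)⟩⟩, Subtype.ext ?_⟩
      show a * y ^ i * (y ^ i)⁻¹ = a
      rw [mul_inv_cancel_right]
  rw [← Nat.card_congr (Equiv.ofBijective ψ hψ), Nat.card_prod, Nat.card_zpowers, hy]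

namespace BigPack

variable {z : G} {V : Subgroup G} (D : BigPack z V)
include D

/-- The centraliser of such an element has order not divisible by the cube of eleven. -/
theorem not_cube_dvd (hord : Nat.card G = 86775571046077562880)
    (h121 : ∀ f : G, orderOf f = 2 ∨ orderOf f = 5 → ¬ 121 ∣ Nat.card ↥(centralizer ({f} : Set G)))
    {d : Finset GolayPt} (hd : d.card = 2) {y : G} (hy : orderOf y = 11) (hty : D.eS d * y = y * D.eS d) :
    ¬ 11 ^ 3 ∣ Nat.card ↥(centralizer ({y} : Set G)) := by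
  classical
  intro h1331
  haveI : Fact (Nat.Prime 11) := ⟨by norm_num⟩
  haveI : Fact (Nat.Prime 2) := ⟨Nat.prime_two⟩
  set t := D.eS d
  have htV : t ∈ V := D.eS_mem d
  have ht1 : t ≠ 1 := by
    intro h
    have := D.cocode.inj d (by rw [hd]; decide) (by omega) h
    rw [this] at hd
    simp at hd
  have ht2 : orderOf t = 2 := orderOf_eq_prime (by rw [pow_two, D.sq t htV]) ht1
  set N := normalizer (V : Set G) with hN
  have hCt : centralizer ({t} : Set G) ≤ N := D.centralizer_duad_le hd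
  have hyN : y ∈ N := hCt (mem_centralizer_singleton_iff.2 hty.symm)
  set X := centralizer ({y} : Set G) with hX
  have htX : t ∈ X := mem_centralizer_singleton_iff.2 hty
  have h4 : ¬ 4 ∣ Nat.card ↥X := by
    intro h
    obtain ⟨K, hK, hle⟩ := Sylow.exists_subgroup_card_pow_prime_le 2 (n := 1) (m := 2)
      (by norm_num; exact h) (zpowers (⟨t, htX⟩ : ↥X)) (by rw [Nat.card_zpowers, Subgroup.orderOf_mk, ht2, pow_one])
      (by norm_num)
    have hle' : (K.map X.subtype) ≤ zpowers t := by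
      rintro _ ⟨n, hn, rfl⟩
      have hc := IsPGroup.commutative_of_card_eq_prime_sq hK ⟨n, hn⟩ ⟨_, hle (mem_zpowers _)⟩
      have hnt : (n : G) * t = t * n := congrArg (fun q : ↥K => ((q : ↥X) : G)) hc
      have hnN : (n : G) ∈ N := hCt (mem_centralizer_singleton_iff.2 hnt)
      by_cases hn1 : (n : G) = 1
      · rw [show X.subtype n = (n : G) from rfl, hn1]; exact one_mem _
      have h4' : orderOf (n : G) ∣ 4 := by
        rw [Subgroup.orderOf_coe]
        exact (Subgroup.orderOf_dvd_natCard K hn).trans (by rw [hK]; norm_num)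
      have hny : (n : G) * y = y * n := mem_centralizer_singleton_iff.1 n.2
      obtain ⟨i, e | e⟩ := D.cent_eleven_cases hy hyN htV ht1 hty hnN hny
      · exfalso
        refine hn1 (orderOf_eq_one_iff.1 (Nat.eq_one_of_dvd_coprimes (show Nat.Coprime 4 11 by norm_num) h4' ?_))
        rw [e]; exact hy ▸ orderOf_pow_dvd i
      · have hc' : Commute t (y ^ i) := (show Commute t y from hty).pow_right i
        have h44 : (n : G) ^ 4 = 1 := orderOf_dvd_iff_pow_eq_one.1 h4'
        rw [e, hc'.mul_pow, show (4 : ℕ) = 2 * 2 from rfl, pow_mul, pow_two t, D.sq t htV, one_pow, one_mul,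
          ← pow_mul] at h44
        have hd' := orderOf_dvd_of_pow_eq_one h44
        rw [hy] at hd'
        rcases (by norm_num : Nat.Prime 11).dvd_mul.1 hd' with hd' | hd'
        · obtain ⟨j, rfl⟩ := hd'
          rw [show X.subtype n = (n : G) from rfl, e, pow_mul, ← hy, pow_orderOf_eq_one, one_pow, mul_one]
          exact mem_zpowers t
        · norm_num at hd'
    have h := Subgroup.card_le_of_le hle'
    rw [card_map_of_injective X.subtype_injective, hK, Nat.card_zpowers, ht2] at h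
    norm_num at h
  obtain ⟨O, hOX, hcO, hodd, hmemO⟩ := exists_odd_complement htX ht2 h4
  have hcy : ∀ a ∈ O, a * y = y * a := fun a ha => mem_centralizer_singleton_iff.1 (hOX ha)
  have hoddO : ∀ a ∈ O, Odd (orderOf a) := fun a ha =>
    Odd.of_dvd_nat hodd (Subgroup.orderOf_dvd_natCard O ha)
  have hON : ∀ a ∈ O, a ∈ N → a ∈ zpowers y := fun a ha haN =>
    D.cent_eleven_odd hy hyN htV ht1 hty haN (hcy a ha) (hoddO a ha)
  have hyO : y ∈ O := hmemO y (mem_centralizer_singleton_iff.2 rfl) (by rw [hy]; decide)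
  have hO1331 : 11 ^ 3 ∣ Nat.card ↥O := by
    rw [hcO] at h1331
    exact (Nat.Coprime.pow_left 3 (by norm_num : Nat.Coprime 11 2)).dvd_of_dvd_mul_left h1331
  -- exponents
  have hexp : ∀ f : G, f * y * f⁻¹ ∈ zpowers y → ∃ k, k < 11 ∧ k ≠ 0 ∧ f * y * f⁻¹ = y ^ k := by
    intro f hf
    obtain ⟨j, hj⟩ := (mem_powers_iff_mem_zpowers).2 hf
    have hj' : y ^ j = f * y * f⁻¹ := hj
    refine ⟨j % 11, Nat.mod_lt _ (by norm_num), fun h0 => ?_, by rw [← hy, pow_mod_orderOf, hj']⟩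
    have : y ^ j = 1 := by rw [← pow_mod_orderOf, hy, h0, pow_zero]
    rw [hj', conj_eq_one_iff] at this
    rw [this, orderOf_one] at hy
    norm_num at hy
  have hconjpow : ∀ (f : G) (k n : ℕ), f * y * f⁻¹ = y ^ k → f ^ n * y * (f ^ n)⁻¹ = y ^ (k ^ n) := by
    intro f k n hf
    induction n with
    | zero => simp
    | succ n ih =>
      rw [pow_succ' f, show f * f ^ n * y * (f * f ^ n)⁻¹ = f * (f ^ n * y * (f ^ n)⁻¹) * f⁻¹ by group, ih,
        ← conj_pow, hf, ← pow_mul, ← pow_succ']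
  have hone : ∀ f ∈ N, ∀ k : ℕ, f * y * f⁻¹ = y ^ k → k % 11 = 1 → ∃ i : ℕ, f = y ^ i ∨ f = t * y ^ i :=
    fun f hf k hk h1 => D.cent_eleven_cases hy hyN htV ht1 hty hf
      (mul_inv_eq_iff_eq_mul.1 (by rw [hk, ← pow_mod_orderOf, hy, h1, pow_one]))
  have hcent : ∀ f ∈ N, f * y * f⁻¹ ∈ zpowers y → f * t = t * f := by
    intro f hf hfy
    obtain ⟨k, -, -, hk⟩ := hexp f hfy
    have h2 : f * t * f⁻¹ * (f * y * f⁻¹) = f * y * f⁻¹ * (f * t * f⁻¹) := by
      rw [show f * t * f⁻¹ * (f * y * f⁻¹) = f * (t * y) * f⁻¹ by group, hty]; group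
    have hkco : ∃ m, k * m % 11 = 1 := by
      have htab : ∀ k < 11, k ≠ 0 → ∃ m < 11, k * m % 11 = 1 := by decide
      obtain ⟨k', hk', hk0, hk''⟩ := hexp f hfy
      obtain ⟨m, -, hm⟩ := htab k' hk' hk0
      refine ⟨m, ?_⟩
      have := pow_eq_pow_iff_modEq.1 (hk.symm.trans hk'')
      rw [hy] at this
      rw [Nat.mul_mod, this, ← Nat.mul_mod, hm]
    obtain ⟨m, hm⟩ := hkco
    have h3 : Commute (f * t * f⁻¹) y := by
      have h := (show Commute (f * t * f⁻¹) (f * y * f⁻¹) from h2).pow_right m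
      rwa [hk, ← pow_mul, ← pow_mod_orderOf, hy, hm, pow_one] at h
    have h4 := D.cent_eleven_invol hy hyN htV ht1 hty
      ((Subgroup.mem_normalizer_iff.1 hf t).1 htV |> le_normalizer) h3.eq
      (by rw [show f * t * f⁻¹ * (f * t * f⁻¹) = f * (t * t) * f⁻¹ by group, D.sq t htV]; group)
      (fun h => ht1 (conj_eq_one_iff.1 h))
    exact mul_inv_eq_iff_eq_mul.1 h4
  -- the involution fixes nothing
  have htfix : ∀ a ∈ fixMod O y t hcy, a ∈ zpowers y := by
    rintro a ⟨ha, hfa⟩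
    obtain ⟨j, hj⟩ := hfa
    have hj' : y ^ j = t * a * t⁻¹ * a⁻¹ := hj
    have hti : t⁻¹ = t := inv_eq_of_mul_eq_one_right (D.sq t htV)
    have h1 : t * a * t⁻¹ = y ^ j * a := by rw [hj']; group
    have h2 : a = y ^ j * (y ^ j * a) := by
      calc a = t * t * a * (t * t)⁻¹ := by rw [D.sq t htV]; group
        _ = t * (t * a * t⁻¹) * t⁻¹ := by group
        _ = t * y ^ j * t⁻¹ * (t * a * t⁻¹) := by
          rw [show t * y ^ j * t⁻¹ * (t * a * t⁻¹) = t * (y ^ j * a) * t⁻¹ by group, ← h1]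
        _ = y ^ j * (y ^ j * a) := by
          rw [((show Commute t y from hty).zpow_right j).eq, mul_inv_cancel_right, h1]
    rw [← mul_assoc, ← zpow_add, eq_comm, mul_eq_right, ← orderOf_dvd_iff_zpow_eq_one, hy] at h2
    have hj0 : y ^ j = 1 := orderOf_dvd_iff_zpow_eq_one.1 (by rw [hy]; omega)
    rw [hj0, one_mul, mul_inv_eq_iff_eq_mul] at h1
    exact hON a ha (hCt (mem_centralizer_singleton_iff.2 h1.symm))
  -- every element is fixed by an element with exponent ten or nine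
  have hfixed : ∀ a ∈ O, a ∉ zpowers y → ∃ f ∈ N, ∃ k : ℕ, (k = 10 ∨ k = 9) ∧ f * y * f⁻¹ = y ^ k ∧
      a ∈ fixMod O y f hcy := by
    intro a ha haY
    have haN : a ∉ N := fun h => haY (hON a ha h)
    have hat : a * t ≠ t * a := fun h => haN (hCt (mem_centralizer_singleton_iff.2 h))
    by_contra hno
    push Not at hno
    refine D.regular_false hord hy htV ht1 hty hyN (hcy a ha) haN hat fun f hf hfa hfy => ?_
    obtain ⟨k, hk, hk0, hfk⟩ := hexp f hfy
    have hfao : f * a * f⁻¹ ∈ O := by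
      refine hmemO _ (mem_centralizer_singleton_iff.2 ?_) ?_
      · obtain ⟨m, hm, hmk⟩ : ∃ m < 11, k * m % 11 = 1 := (by decide :
          ∀ k < 11, k ≠ 0 → ∃ m < 11, k * m % 11 = 1) k hk hk0
        have h : Commute (f * a * f⁻¹) (y ^ k) := by
          rw [← hfk]
          exact (show Commute a y from hcy a ha).map (MulAut.conj f).toMonoidHom
        have h' := h.pow_right m
        rw [← pow_mul, ← pow_mod_orderOf, hy, hmk, pow_one] at h'
        exact h'.eq
      · rw [show f * a * f⁻¹ = MulAut.conj f a from rfl, MulEquiv.orderOf_eq]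
        exact hoddO a ha
    have hb : a⁻¹ * (f * a * f⁻¹) ∈ zpowers y := by
      refine hON _ (mul_mem (inv_mem ha) hfao) ?_
      rw [show a⁻¹ * (f * a * f⁻¹) = (a⁻¹ * f * a) * f⁻¹ by group]
      exact mul_mem hfa (inv_mem hf)
    have hmem : a ∈ fixMod O y f hcy := by
      refine ⟨ha, ?_⟩
      obtain ⟨j, hj⟩ := hb
      have hj' : y ^ j = a⁻¹ * (f * a * f⁻¹) := hj
      rw [show f * a * f⁻¹ * a⁻¹ = a * (a⁻¹ * (f * a * f⁻¹)) * a⁻¹ by group, ← hj',
        ((show Commute a y from hcy a ha).zpow_right j).eq, mul_inv_cancel_right]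
      exact zpow_mem (mem_zpowers y) j
    by_cases hk1 : k = 1
    · obtain ⟨i, e | e⟩ := hone f hf k hfk (by rw [hk1])
      · rw [e]; exact pow_mem (mem_zpowers y) i
      · exfalso
        refine haY (htfix a ?_)
        have := fixMod_mul hmem (-(i : ℤ))
        rwa [e, zpow_neg, zpow_natCast, mul_inv_cancel_right] at this
    exfalso
    obtain ⟨n, -, hn⟩ : ∃ n < 10, k ^ n % 11 = 10 ∨ k ^ n % 11 = 9 := (by decide :
      ∀ k < 11, k ≠ 0 → k ≠ 1 → ∃ n < 10, k ^ n % 11 = 10 ∨ k ^ n % 11 = 9) k hk hk0 hk1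
    refine hno (f ^ n) (pow_mem hf n) (k ^ n % 11) hn ?_ (fixMod_pow hfy hmem n)
    rw [hconjpow f k n hfk, ← pow_mod_orderOf y (k ^ n), hy]
  -- one element fixes everything
  have hall : ∃ f ∈ N, ∃ k : ℕ, (k = 10 ∨ k = 9) ∧ f * y * f⁻¹ = y ^ k ∧ ∀ a ∈ O, a ∈ fixMod O y f hcy := by
    have hpick : ∀ k : ℕ, ∃ g : G, (∃ f ∈ N, f * y * f⁻¹ = y ^ k) → g ∈ N ∧ g * y * g⁻¹ = y ^ k := fun k => by
      by_cases h : ∃ f ∈ N, f * y * f⁻¹ = y ^ k
      · obtain ⟨f, hf, e⟩ := h; exact ⟨f, fun _ => ⟨hf, e⟩⟩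
      · exact ⟨1, fun h' => absurd h' h⟩
    choose g hg using hpick
    -- elements of the same exponent differ by the centraliser
    have hsame : ∀ (k : ℕ), k = 10 ∨ k = 9 → ∀ f ∈ N, f * y * f⁻¹ = y ^ k → ∀ a ∈ fixMod O y f hcy,
        a ∈ fixMod O y (g k) hcy ∨ a ∈ fixMod O y (g k * t) hcy := by
      intro k _ f hf hfk a ha
      obtain ⟨hgN, hgk⟩ := hg k ⟨f, hf, hfk⟩
      have hq : f⁻¹ * g k ∈ N := mul_mem (inv_mem hf) hgN
      have hqy : (f⁻¹ * g k) * y = y * (f⁻¹ * g k) := by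
        rw [← mul_inv_eq_iff_eq_mul]
        calc f⁻¹ * g k * y * (f⁻¹ * g k)⁻¹ = f⁻¹ * (g k * y * (g k)⁻¹) * f := by group
          _ = f⁻¹ * (f * y * f⁻¹) * f := by rw [hgk, hfk]
          _ = y := by group
      obtain ⟨i, e | e⟩ := D.cent_eleven_cases hy hyN htV ht1 hty hq hqy
      · left
        have h := fixMod_mul ha (i : ℤ)
        rwa [zpow_natCast, ← e, mul_inv_cancel_left] at h
      · right
        have hc : Commute t (y ^ i) := (show Commute t y from hty).pow_right i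
        have hgt : g k * t = f * y ^ i := by
          rw [show g k = f * (f⁻¹ * g k) by group, e, mul_assoc f, mul_assoc t, ← hc.eq, ← mul_assoc t,
            D.sq t htV, one_mul]
        rw [hgt, ← zpow_natCast]
        exact fixMod_mul ha _
    set A := fixMod O y (g 10) hcy
    set B := fixMod O y (g 10 * t) hcy
    -- exponent nine: pass to the square to kill the involution
    set h9 := g 9 ^ 2
    set C := fixMod O y h9 hcy
    by_cases hex10 : ∃ f ∈ N, f * y * f⁻¹ = y ^ 10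
    all_goals by_cases hex9 : ∃ f ∈ N, f * y * f⁻¹ = y ^ 9
    all_goals (
      have hcov : ∀ a ∈ O, a ∈ zpowers y ∨ (a ∈ A ∧ ∃ f ∈ N, f * y * f⁻¹ = y ^ 10) ∨
          (a ∈ B ∧ ∃ f ∈ N, f * y * f⁻¹ = y ^ 10) ∨ (a ∈ C ∧ ∃ f ∈ N, f * y * f⁻¹ = y ^ 9) := by
        intro a ha
        by_cases haY : a ∈ zpowers y
        · exact Or.inl haY
        obtain ⟨f, hf, k, hk, hfk, hfa⟩ := hfixed a ha haY
        rcases hk with rfl | rfl
        · rcases hsame 10 (Or.inl rfl) f hf hfk a hfa with h | h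
          · exact Or.inr (Or.inl ⟨h, f, hf, hfk⟩)
          · exact Or.inr (Or.inr (Or.inl ⟨h, f, hf, hfk⟩))
        · obtain ⟨hgN, hgk⟩ := hg 9 ⟨f, hf, hfk⟩
          have hgy : g 9 * y * (g 9)⁻¹ ∈ zpowers y := by rw [hgk]; exact pow_mem (mem_zpowers y) 9
          refine Or.inr (Or.inr (Or.inr ⟨?_, f, hf, hfk⟩))
          rcases hsame 9 (Or.inr rfl) f hf hfk a hfa with h | h
          · exact fixMod_pow hgy h 2
          · have hgt : Commute (g 9) t := hcent _ hgN hgy
            have h2 : (g 9 * t) ^ 2 = h9 := by rw [hgt.mul_pow, pow_two t, D.sq t htV, mul_one]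
            have hgty : g 9 * t * y * (g 9 * t)⁻¹ ∈ zpowers y := by
              rw [show g 9 * t * y * (g 9 * t)⁻¹ = g 9 * (t * y * t⁻¹) * (g 9)⁻¹ by group, hty,
                mul_inv_cancel_right]
              exact hgy
            show a ∈ fixMod O y h9 hcy
            rw [← h2]
            exact fixMod_pow hgty h 2)
    · -- both exponents occur
      obtain ⟨f10, hf10, hfk10⟩ := hex10
      obtain ⟨hg10N, hg10⟩ := hg 10 ⟨f10, hf10, hfk10⟩
      obtain ⟨hg9N, hg9⟩ := hg 9 hex9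
      have hY : ∀ {f : G}, f * y * f⁻¹ ∈ zpowers y → ∀ a ∈ zpowers y, a ∈ fixMod O y f hcy := by
        intro f hfy a ha
        refine ⟨zpowers_le.2 hyO ha, ?_⟩
        obtain ⟨i, rfl⟩ := ha
        obtain ⟨j, hj⟩ := hfy
        rw [← conj_zpow, ← (hj : y ^ j = f * y * f⁻¹), ← zpow_mul]
        exact mul_mem (zpow_mem (mem_zpowers y) _) (inv_mem (zpow_mem (mem_zpowers y) i))
      have hp10 : g 10 * y * (g 10)⁻¹ ∈ zpowers y := by rw [hg10]; exact pow_mem (mem_zpowers y) _
      rcases not_cover_three (A := A) (B := B) (C := C) hodd (fun a h => h.1) (fun a h => h.1) (fun a h => h.1)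
        (fun a ha => by
          rcases hcov a ha with h | ⟨h, -⟩ | ⟨h, -⟩ | ⟨h, -⟩
          · exact Or.inl (hY hp10 a h)
          · exact Or.inl h
          · exact Or.inr (Or.inl h)
          · exact Or.inr (Or.inr h)) with e | e | e
      · exact ⟨g 10, hg10N, 10, Or.inl rfl, hg10, fun a ha => e.ge ha⟩
      · refine ⟨g 10 * t, mul_mem hg10N (le_normalizer htV), 10, Or.inl rfl, ?_, fun a ha => e.ge ha⟩
        rw [show g 10 * t * y * (g 10 * t)⁻¹ = g 10 * (t * y * t⁻¹) * (g 10)⁻¹ by group, hty,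
          mul_inv_cancel_right, hg10]
      · refine ⟨h9 ^ 3, pow_mem (pow_mem hg9N 2) 3, 9, Or.inr rfl, ?_, fun a ha => fixMod_pow ?_ (e.ge ha) 3⟩
        · rw [hconjpow h9 (9 ^ 2) 3 (hconjpow (g 9) 9 2 hg9), ← pow_mod_orderOf, hy]
          rfl
        · rw [hconjpow (g 9) 9 2 hg9]; exact pow_mem (mem_zpowers y) _
    · -- only exponent ten
      obtain ⟨f10, hf10, hfk10⟩ := hex10
      obtain ⟨hg10N, hg10⟩ := hg 10 ⟨f10, hf10, hfk10⟩
      have hp10 : g 10 * y * (g 10)⁻¹ ∈ zpowers y := by rw [hg10]; exact pow_mem (mem_zpowers y) _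
      have hYA : ∀ a ∈ zpowers y, a ∈ A := by
        intro a ha
        refine ⟨zpowers_le.2 hyO ha, ?_⟩
        obtain ⟨i, rfl⟩ := ha
        rw [← conj_zpow, hg10, ← zpow_natCast, ← zpow_mul]
        exact mul_mem (zpow_mem (mem_zpowers y) _) (inv_mem (zpow_mem (mem_zpowers y) i))
      rcases not_cover_three (A := A) (B := B) (C := A) hodd (fun a h => h.1) (fun a h => h.1) (fun a h => h.1)
        (fun a ha => by
          rcases hcov a ha with h | ⟨h, -⟩ | ⟨h, -⟩ | ⟨-, h⟩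
          · exact Or.inl (hYA a h)
          · exact Or.inl h
          · exact Or.inr (Or.inl h)
          · exact absurd h hex9) with e | e | e
      · exact ⟨g 10, hg10N, 10, Or.inl rfl, hg10, fun a ha => e.ge ha⟩
      · refine ⟨g 10 * t, mul_mem hg10N (le_normalizer htV), 10, Or.inl rfl, ?_, fun a ha => e.ge ha⟩
        rw [show g 10 * t * y * (g 10 * t)⁻¹ = g 10 * (t * y * t⁻¹) * (g 10)⁻¹ by group, hty,
          mul_inv_cancel_right, hg10]
      · exact ⟨g 10, hg10N, 10, Or.inl rfl, hg10, fun a ha => e.ge ha⟩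
    · -- only exponent nine
      obtain ⟨hg9N, hg9⟩ := hg 9 hex9
      refine ⟨h9 ^ 3, pow_mem (pow_mem hg9N 2) 3, 9, Or.inr rfl, ?_, fun a ha => ?_⟩
      · rw [hconjpow h9 (9 ^ 2) 3 (hconjpow (g 9) 9 2 hg9), ← pow_mod_orderOf, hy]
        rfl
      · refine fixMod_pow (by rw [hconjpow (g 9) 9 2 hg9]; exact pow_mem (mem_zpowers y) _) ?_ 3
        rcases hcov a ha with h | ⟨-, h⟩ | ⟨-, h⟩ | ⟨h, -⟩
        · refine ⟨ha, ?_⟩
          obtain ⟨i, rfl⟩ := h
          rw [← conj_zpow, hconjpow (g 9) 9 2 hg9, ← zpow_natCast, ← zpow_mul]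
          exact mul_mem (zpow_mem (mem_zpowers y) _) (inv_mem (zpow_mem (mem_zpowers y) i))
        · exact absurd h hex10
        · exact absurd h hex10
        · exact h
    · -- neither
      exfalso
      have hle : O ≤ zpowers y := fun a ha => by
        rcases hcov a ha with h | ⟨-, h⟩ | ⟨-, h⟩ | ⟨-, h⟩
        · exact h
        · exact absurd h hex10
        · exact absurd h hex10
        · exact absurd h hex9
      have := hO1331.trans (Subgroup.card_dvd_of_le hle)
      rw [Nat.card_zpowers, hy] at this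
      norm_num at this
  obtain ⟨f, hf, k, hk, hfk, hfO⟩ := hall
  have hfy : f * y * f⁻¹ ∈ zpowers y := by rw [hfk]; exact pow_mem (mem_zpowers y) k
  -- pass to an element of order two, four or five
  have hfin : ∀ (n k' : ℕ), k' < 11 → k' ≠ 1 → k ^ n % 11 = k' →
      ¬ 121 ∣ Nat.card ↥(centralizer ({f ^ n} : Set G)) → False := by
    intro n k' hk' hk1 he hndvd
    have hc := card_eq_fix_mul (f := f ^ n) hy hyO hcy hk' hk1
      (by rw [hconjpow f k n hfk, ← pow_mod_orderOf, hy, he]) fun a ha => (fixMod_pow hfy (hfO a ha) n).2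
    rw [hc, show (11 : ℕ) ^ 3 = 121 * 11 by norm_num] at hO1331
    exact hndvd ((Nat.dvd_of_mul_dvd_mul_right (by norm_num) hO1331).trans (card_dvd_of_le inf_le_right))
  have hkill : ∀ e : ℕ, k ^ e % 11 = 1 → f ^ (e * 22) = 1 := by
    intro e he
    obtain ⟨i, h | h⟩ := hone (f ^ e) (pow_mem hf e) _ (hconjpow f k e hfk) he
    · rw [pow_mul, h, ← pow_mul, show i * 22 = 11 * (i * 2) by ring, pow_mul, ← hy, pow_orderOf_eq_one, one_pow]
    · rw [pow_mul, h, ((show Commute t y from hty).pow_right i).mul_pow,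
        show t ^ 22 = (t ^ 2) ^ 11 from pow_mul t 2 11, pow_two, D.sq t htV, one_pow, one_mul, ← pow_mul,
        show i * 22 = 11 * (i * 2) by ring, pow_mul, ← hy, pow_orderOf_eq_one, one_pow]
  rcases hk with rfl | rfl
  · have h44 : f ^ 44 = 1 := hkill 2 (by norm_num)
    refine hfin 11 10 (by norm_num) (by norm_num) (by norm_num) ?_
    have h4 : (f ^ 11) ^ 4 = 1 := by rw [← pow_mul]; exact h44
    by_cases h2 : (f ^ 11) ^ 2 = 1
    · refine h121 _ (Or.inl (orderOf_eq_prime h2 fun h => ?_))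
      have := hconjpow f 10 11 hfk
      rw [h] at this
      have h' := pow_eq_pow_iff_modEq.1 (show y ^ 1 = y ^ (10 ^ 11) by rw [pow_one, ← this]; group)
      rw [hy] at h'
      norm_num [Nat.ModEq] at h'
    · intro h
      refine h121 ((f ^ 11) ^ 2) (Or.inl (orderOf_eq_prime (by rw [← pow_mul]; exact h4) h2))
        (h.trans (card_dvd_of_le fun c hc => ?_))
      exact mem_centralizer_singleton_iff.2 ((show Commute c (f ^ 11) from mem_centralizer_singleton_iff.1 hc).pow_right 2).eq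
  · have h110 : f ^ 110 = 1 := hkill 5 (by norm_num)
    refine hfin 22 4 (by norm_num) (by norm_num) (by norm_num) ?_
    haveI : Fact (Nat.Prime 5) := ⟨by norm_num⟩
    refine h121 _ (Or.inr (orderOf_eq_prime (by rw [← pow_mul]; exact h110) fun h => ?_))
    have := hconjpow f 9 22 hfk
    rw [h] at this
    have h' := pow_eq_pow_iff_modEq.1 (show y ^ 1 = y ^ (9 ^ 22) by rw [pow_one, ← this]; group)
    rw [hy] at h'
    norm_num [Nat.ModEq] at h'

end BigPack

end Cfsg.Agent.JankoFour
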