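import Cfsg.Agent.Lib.JankoFour.BigExists
import Cfsg.Agent.Lib.JankoFour.MoveData
import Cfsg.Agent.Lib.JankoFour.CosetChecks

/-!
Decidable facts behind the coordinates on the large abelian subgroup.
-/

set_option autoImplicit false
set_option maxRecDepth 100000

namespace Cfsg.Agent.JankoFour.Coord

open Cfsg.Agent.J4Module (app of_chunks)
open Cfsg.Agent.J4Module.Data
open Big

/-- The square of the scalar. -/
def p2 (v : ℕ) : ℕ := app pC (app pC v)

/-- A basis vector of the hexad space. -/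
def wB (i : ℕ) : ℕ := bigW.getD (2 ^ i) 0

/-- The tabulated columns. -/
def mv (f k : ℕ) : List ℕ := (moveTab.getD f []).getD k []

theorem p_sum : ∀ v < 4096, app pC v ^^^ p2 v = v :=
  of_chunks (P := fun v => app pC v ^^^ p2 v = v) 64 (by decide +kernel)

theorem bEl_p : ∀ i < 16, mulC pC (bEl i) = mulC (bEl i) pC := by decide +kernel

theorem sEl_p : ∀ k < 2, mulC pC (sEl k) = mulC (sEl k) pC := by decide +kernel

theorem bigW_zero : bigW.getD 0 0 = 0 := by decide +kernel

theorem bigW_add : ∀ a < 64, ∀ b < 64,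
    bbit (p2 (bigW.getD a 0)) (app pC (bigW.getD b 0)) = false := by decide +kernel

theorem units_six : ∀ n < 64, app [1, 2, 4, 8, 16, 32] n = n := by decide +kernel

theorem units_five : ∀ n < 32, app [1, 2, 4, 8, 16] n = n := by decide +kernel

theorem units_eleven : ∀ n < 2048, app [1, 2, 4, 8, 16, 32, 64, 128, 256, 512, 1024] n = n :=
  of_chunks (P := fun n => app [1, 2, 4, 8, 16, 32, 64, 128, 256, 512, 1024] n = n) 32 (by decide +kernel)

theorem mv_shape : ∀ f < 2, ∀ k < 15, (mv f k).length = 11 ∧ (∀ c ∈ mv f k, c < 2048) ∧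
    (mv f k).getD 10 0 = 1024 := by decide +kernel

theorem mv_space : ∀ f < 2, ∀ k < 12, ∀ i < 6,
    (mv f k).getD i 0 = 2 ^ i ^^^ (if bbit (2 ^ k) (wB i) = true then 1024 else 0) := by decide +kernel

/-- The sign of the commutator of a lift of a unit vector with a lift of the hexad group. -/
def eps (v : ℕ) (C : List ℕ) : Bool :=
  bbit (p2 v) (app pC (app C v)) ^^ bbit (p2 (app C v)) (app pC (app C v))

theorem mv_hex : ∀ f < 2, ∀ k < 12, ∀ i < 4,
    bigW.getD ((mv f k).getD (6 + i) 0 % 64) 0 = 2 ^ k ^^^ app (bEl (2 ^ i)) (2 ^ k) ∧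
      (mv f k).getD (6 + i) 0 / 64 = 2 ^ i ^^^ (if eps (2 ^ k) (bEl (2 ^ i)) = true then 16 else 0) := by
  decide +kernel

/-- The columns of an inner element on the lifts of the hexad group and the involution. -/
def tgt (f j : ℕ) : List ℕ := ((mv f (12 + j)).drop 6).map fun c => c / 64

theorem mv_inner : ∀ f < 2, ∀ j < 2, (∀ i < 6, (mv f (12 + j)).getD i 0 < 64 ∧
      bigW.getD ((mv f (12 + j)).getD i 0) 0 = app (sEl j) (wB i)) ∧
    (∀ i < 5, (mv f (12 + j)).getD (6 + i) 0 = 64 * (tgt f j).getD i 0) ∧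
      (tgt f j).length = 5 ∧ ∀ c ∈ tgt f j, c < 32 := by decide +kernel

theorem mv_p : ∀ f < 2, (∀ i < 6, (mv f 14).getD i 0 < 64 ∧
      bigW.getD ((mv f 14).getD i 0) 0 = app pC (wB i)) ∧
    ∀ i < 5, (mv f 14).getD (6 + i) 0 = 64 * 2 ^ i := by decide +kernel

/-- The columns of an element permuting the lifts with the signs of a mask. -/
def colsL (j e : ℕ) : List ℕ :=
  ((List.range 4).map fun i => sPerm j (2 ^ i) ^^^ if e.testBit i = true then 16 else 0) ++ [16]

/-- The columns of a change of lifts. -/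
def tLam (l : ℕ) : List ℕ :=
  ((List.range 4).map fun i => 2 ^ i ^^^ if l.testBit i = true then 16 else 0) ++ [16]

/-- The columns of a word in two elements. -/
def wordL (e0 e1 : ℕ) (w : List ℕ) : List ℕ :=
  w.foldr (fun k C => mulC (colsL k (if k = 0 then e0 else e1)) C) [1, 2, 4, 8, 16]

/-- The word of the first relation. -/
def relA : List ℕ := [1, 1]

/-- One side of the second relation. -/
def relB : List ℕ := [0, 0, 0, 1, 0, 0, 0, 1]

/-- The other side. -/
def relC : List ℕ := [1, 0, 1, 1, 0, 1, 0, 0]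

/-- The action of a word. -/
def wordS (w : List ℕ) : List ℕ := w.foldr (fun k C => mulC (sEl k) C) unitC

theorem rel_words : (∀ k ∈ relA, k < 2) ∧ (∀ k ∈ relB, k < 2) ∧ (∀ k ∈ relC, k < 2) ∧
    wordS relA = bEl 1 ∧ wordS relB = wordS relC := by decide +kernel

set_option synthInstance.maxSize 4096 in
theorem solve : ∀ e0 < 16, ∀ e1 < 16, wordL e0 e1 relA = [1, 2, 4, 8, 16] →
    wordL e0 e1 relB = wordL e0 e1 relC →
      ∃ l < 16, ∃ f < 2, ∀ j < 2, mulC (colsL j (if j = 0 then e0 else e1)) (tLam l) = mulC (tLam l) (tgt f j) := by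
  decide +kernel

theorem colsL_shape : ∀ j < 2, ∀ e < 16, (colsL j e).length = 5 ∧ ∀ c ∈ colsL j e, c < 32 := by decide +kernel

theorem tLam_shape : ∀ l < 16, (tLam l).length = 5 ∧ (∀ c ∈ tLam l, c < 32) ∧ app (tLam l) 16 = 16 ∧
    ∀ m < 32, app (tLam l) m % 16 = m % 16 ∧ (app (tLam l) m = 0 → m = 0) := by
  decide +kernel

/-- The image of the hexad space under a representative, as a mask. -/
def image (j : ℕ) : ℕ := bigW.foldl (fun m w => m ||| 1 <<< app (Coset.rep j) w) 0

theorem image_nodup : ((List.range 77).map image).Nodup := by decide +kernel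

end Cfsg.Agent.JankoFour.Coord
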