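import Cfsg.Agent.Lib.JankoFour.CentPair
import Cfsg.Agent.Lib.JankoFour.CoordChecks

/-!
The normaliser of the large abelian subgroup has index 77 in the centraliser of the involution.
-/

set_option autoImplicit false
set_option linter.unusedSectionVars false

namespace Cfsg.Agent.JankoFour

open Subgroup
open Cfsg.Agent.LargeFischer (Ctx QG)
open Cfsg.Agent.J4Module (app)
open Cfsg.Agent.J4Module.Data
open Big Coord

theorem Coord.testBit_foldl (g : ℕ → ℕ) : ∀ (l : List ℕ) (m v : ℕ),
    ((l.foldl (fun m w => m ||| 1 <<< g w) m).testBit v = true ↔ m.testBit v = true ∨ ∃ w ∈ l, g w = v)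
  | [], m, v => by simp
  | a :: l, m, v => by
    rw [List.foldl_cons, Coord.testBit_foldl g l, Nat.testBit_lor, Nat.one_shiftLeft, Nat.testBit_two_pow]
    simp [or_assoc]

namespace BigData

variable {G : Type*} [Group G] [Finite G] {z : G} {P : Subgroup G} {M : Model z P} (B : BigData M)
include B

theorem Q_normalizes {q : ↥(centralizer ({z} : Set G))} (hq : q ∈ M.Q) : (q : G) ∈ normalizer (B.V : Set G) := by
  rw [B.V_eq_vG]
  exact Model.syl_mem_normalizer (M.Q_le_syl hq)

theorem preserves_bigW {m : ↥(centralizer ({z} : Set G))} (hm : (m : G) ∈ normalizer (B.V : Set G)) {D : List ℕ}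
    (hD : M.Acts m D) {w : ℕ} (hw : w ∈ bigW) : app D w ∈ bigW := by
  have hlt := bigW_spec.2.1 w hw
  obtain ⟨x, rfl⟩ := M.vec_surj w hlt
  have hx : (x : G) ∈ B.V := (B.inf_Q x).2 ((bigW_iff _ hlt).2 hw)
  rw [← hD]
  exact (bigW_iff _ (M.vec_lt _)).1 ((B.inf_Q _).1 ((Subgroup.mem_normalizer_iff.1 hm _).1 hx))

theorem card_stab : Nat.card ↥(normalizer (B.V : Set G) ⊓ centralizer ({z} : Set G) : Subgroup G) = 2 ^ 21 * 135 := by
  classical
  set H := centralizer ({z} : Set G) with hH
  set N := (normalizer (B.V : Set G)).subgroupOf H with hN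
  have hrep : ∀ j : Fin 77, ∃ r : ↥H, M.Acts r (Coset.rep j) := fun j => by
    refine M.exists_elem _ (wordC_mem fun k hk => ?_)
    rw [List.getD_eq_getElem _ _ (show j.1 < Coset.repWords.length by rw [Coset.rep_spec.1]; exact j.2)] at hk
    exact Coset.rep_spec.2.1 _ (List.getElem_mem _) k hk
  choose r hr using hrep
  let f : Fin 77 → ↥H ⧸ N := fun j => QuotientGroup.mk (r j)
  have himage : ∀ (j k : Fin 77), (r j)⁻¹ * r k ∈ N → ∀ v, (image k).testBit v = true → (image j).testBit v = true := by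
    intro j k hm v hv
    obtain ⟨w, hw, rfl⟩ := ((Coord.testBit_foldl _ bigW 0 v).1 hv).resolve_left (by simp)
    obtain ⟨D, -, hD⟩ := M.exists_cols ((r j)⁻¹ * r k)
    refine (Coord.testBit_foldl _ bigW 0 _).2 (Or.inr ⟨app D w, B.preserves_bigW (mem_subgroupOf.1 hm) hD hw, ?_⟩)
    obtain ⟨x, rfl⟩ := M.vec_surj w (bigW_spec.2.1 w hw)
    have := M.acts_mul (hr j) hD
    rw [mul_inv_cancel_left] at this
    rw [← app_mulC, ← this, hr k]
  have hf : Function.Bijective f := by
    refine ⟨fun j k h => ?_, fun q => ?_⟩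
    · have hm := QuotientGroup.eq.1 h
      have hm' : (r k)⁻¹ * r j ∈ N := by
        have := inv_mem hm
        rwa [_root_.mul_inv_rev, inv_inv] at this
      have he : image j = image k := Nat.eq_of_testBit_eq fun v => by
        rw [Bool.eq_iff_iff]
        exact ⟨himage k j hm' v, himage j k hm v⟩
      refine Fin.ext ((List.Nodup.getElem_inj_iff image_nodup (hi := by simp) (hj := by simp)).1 ?_)
      simpa using he
    · induction q using QuotientGroup.induction_on with
      | H c =>
        obtain ⟨C, hC, hcC⟩ := M.exists_cols c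
        obtain ⟨j, hj, D, ⟨d, hd, hdD⟩, e⟩ := B.coset_decomp hC
        refine ⟨⟨j, hj⟩, QuotientGroup.eq.2 (mem_subgroupOf.2 ?_)⟩
        have hrd : M.Acts (r ⟨j, hj⟩ * d) C := fun x => by
          rw [M.acts_mul (hr _) hdD x, app_mulC, e _ (M.vec_lt x)]
        have := mul_mem hd (B.Q_normalizes (M.inv_mul_mem hrd hcC))
        simpa [mul_assoc] using this
  have h77 : Nat.card (↥H ⧸ N) = 77 := by rw [← Nat.card_congr (Equiv.ofBijective f hf), Nat.card_fin]
  have hcard := card_eq_card_quotient_mul_card_subgroup N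
  rw [h77, M.card_cent] at hcard
  have he : Nat.card ↥(normalizer (B.V : Set G) ⊓ H : Subgroup G) = Nat.card ↥N := by
    rw [hN, ← inf_subgroupOf_right]
    exact (Nat.card_congr (subgroupOfEquivOfLe (inf_le_right : normalizer (B.V : Set G) ⊓ H ≤ H)).toEquiv).symm
  rw [he]
  omega

end BigData

end Cfsg.Agent.JankoFour
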