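import Cfsg.Agent.Lib.JankoFour.Data
import Mathlib.Algebra.Group.Subgroup.Basic
import Mathlib.Data.List.GetD

/-!
Products indexed by the bits of a number: coordinates on elementary abelian two-groups.
-/

set_option autoImplicit false

namespace Cfsg.Agent.JankoFour.Coord

open Cfsg.Agent.J4Module (app)

variable {H K : Type*} [Group H] [Group K]

/-- The product of the entries at the set bits. -/
def prodB : List H → ℕ → H
  | [], _ => 1
  | g :: gs, n => (if n % 2 = 1 then g else 1) * prodB gs (n / 2)

theorem prodB_zero : ∀ gs : List H, prodB gs 0 = 1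
  | [] => rfl
  | g :: gs => by simp [prodB, prodB_zero gs]

theorem prodB_map (f : H →* K) : ∀ (gs : List H) (n : ℕ), f (prodB gs n) = prodB (gs.map f) n
  | [], n => map_one f
  | g :: gs, n => by
    simp only [prodB, List.map_cons, map_mul, prodB_map f gs]
    congr 1
    split <;> simp

theorem prodB_append : ∀ (A B : List H) (n : ℕ),
    prodB (A ++ B) n = prodB A (n % 2 ^ A.length) * prodB B (n / 2 ^ A.length)
  | [], B, n => by simp [prodB]
  | g :: A, B, n => by
    simp only [List.cons_append, prodB, List.length_cons, pow_succ, prodB_append A B (n / 2)]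
    rw [Nat.div_div_eq_div_mul, mul_comm (2 : ℕ) (2 ^ A.length), mul_comm (2 ^ A.length) 2,
      Nat.mod_mul_right_div_self, Nat.mod_mul_right_mod, mul_assoc]

theorem prodB_two_pow : ∀ (gs : List H) (i : ℕ), prodB gs (2 ^ i) = gs.getD i 1
  | [], i => by simp [prodB]
  | g :: gs, 0 => by simp [prodB, prodB_zero]
  | g :: gs, i + 1 => by
    simp only [prodB, pow_succ, Nat.mul_mod_left, Nat.mul_div_cancel _ (show 0 < 2 by norm_num), prodB_two_pow gs i,
      List.getD_cons_succ]
    simp

theorem prodB_mem (A : Subgroup H) : ∀ (gs : List H), (∀ g ∈ gs, g ∈ A) → ∀ n, prodB gs n ∈ A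
  | [], _, n => one_mem A
  | g :: gs, h, n => by
    refine mul_mem ?_ (prodB_mem A gs (fun x hx => h x (List.mem_cons_of_mem _ hx)) _)
    split
    · exact h g List.mem_cons_self
    · exact one_mem A

theorem prodB_xor (A : Subgroup H) (hc : ∀ a ∈ A, ∀ b ∈ A, a * b = b * a) (h2 : ∀ a ∈ A, a * a = 1) :
    ∀ (gs : List H), (∀ g ∈ gs, g ∈ A) → ∀ m n, prodB gs (m ^^^ n) = prodB gs m * prodB gs n
  | [], _, m, n => (mul_one 1).symm
  | g :: gs, h, m, n => by
    have hg := h g List.mem_cons_self
    have hrec := prodB_xor A hc h2 gs (fun x hx => h x (List.mem_cons_of_mem _ hx))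
    have hmem := prodB_mem A gs (fun x hx => h x (List.mem_cons_of_mem _ hx))
    have hd : (m ^^^ n) / 2 = (m / 2) ^^^ (n / 2) := by
      rw [← Nat.shiftRight_one, ← Nat.shiftRight_one, ← Nat.shiftRight_one, Nat.shiftRight_xor_distrib]
    have he : ∀ k : ℕ, (if k % 2 = 1 then g else 1) ∈ A := fun k => by
      split
      · exact hg
      · exact one_mem A
    simp only [prodB, hd, hrec]
    have hb : (if (m ^^^ n) % 2 = 1 then g else 1) = (if m % 2 = 1 then g else 1) * (if n % 2 = 1 then g else 1) := by
      rw [show (m ^^^ n) % 2 = (m % 2) ^^^ (n % 2) from Nat.xor_mod_two_pow (n := 1)]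
      rcases Nat.mod_two_eq_zero_or_one m with e | e <;> rcases Nat.mod_two_eq_zero_or_one n with f | f <;>
        simp [e, f, h2 g hg]
    rw [hb]
    calc _ = (if m % 2 = 1 then g else 1) * ((if n % 2 = 1 then g else 1) * prodB gs (m / 2)) * prodB gs (n / 2) := by
          simp only [mul_assoc]
      _ = _ := by rw [hc _ (he n) _ (hmem _)]; simp only [mul_assoc]

theorem app_lt {N : ℕ} : ∀ (cs : List ℕ), (∀ c ∈ cs, c < 2 ^ N) → ∀ n, app cs n < 2 ^ N
  | [], _, n => Nat.two_pow_pos N
  | c :: cs, h, n => by
    refine Nat.xor_lt_two_pow ?_ (app_lt cs (fun x hx => h x (List.mem_cons_of_mem _ hx)) _)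
    split
    · exact h c List.mem_cons_self
    · exact Nat.two_pow_pos N

/-- A map respecting the symmetric difference is determined by its values on columns. -/
theorem prodB_cols {N : ℕ} (f : ℕ → H) (hf : ∀ m < 2 ^ N, ∀ n < 2 ^ N, f (m ^^^ n) = f m * f n) :
    ∀ (cs : List ℕ), (∀ c ∈ cs, c < 2 ^ N) → ∀ n, f (app cs n) = prodB (cs.map f) n
  | [], _, n => by
    have h := hf 0 (Nat.two_pow_pos N) 0 (Nat.two_pow_pos N)
    rw [Nat.xor_self] at h
    simpa [app, prodB] using h
  | c :: cs, h, n => by
    have hcs : ∀ x ∈ cs, x < 2 ^ N := fun x hx => h x (List.mem_cons_of_mem _ hx)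
    have hc := h c List.mem_cons_self
    show f ((if n % 2 = 1 then c else 0) ^^^ app cs (n / 2)) = _
    simp only [List.map_cons, prodB]
    split
    · rw [hf _ hc _ (app_lt cs hcs _), prodB_cols f hf cs hcs]
    · rw [Nat.zero_xor, one_mul, prodB_cols f hf cs hcs]

/-- Induction over sums of powers of two. -/
theorem bits_induct {N : ℕ} {p : ℕ → Prop} (h0 : p 0)
    (hstep : ∀ i < N, ∀ m < 2 ^ N, p m → p (2 ^ i ^^^ m)) {n : ℕ} (hn : n < 2 ^ N) : p n := by
  induction n using Nat.strong_induction_on with
  | _ n ih =>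
    rcases eq_or_ne n 0 with rfl | hne
    · exact h0
    · have hlog := Nat.log2_self_le hne
      have hlt : n < 2 ^ (n.log2 + 1) := Nat.lt_log2_self
      have hiN : n.log2 < N := by
        by_contra hh
        exact absurd (lt_of_lt_of_le hn ((Nat.pow_le_pow_right (by norm_num) (not_lt.1 hh)).trans hlog)) (lt_irrefl _)
      set i := n.log2
      have hbit : n.testBit i = true := by
        obtain ⟨j, hj, hjb⟩ := Nat.exists_ge_and_testBit_of_ge_two_pow hlog
        rcases eq_or_lt_of_le hj with rfl | hj
        · exact hjb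
        · have := Nat.ge_two_pow_of_testBit hjb
          have := Nat.pow_le_pow_right (show 0 < 2 by norm_num) hj
          omega
      have hm : 2 ^ i ^^^ n < 2 ^ i := by
        refine Nat.lt_pow_two_of_testBit _ fun j hj => ?_
        rw [Nat.testBit_xor, Nat.testBit_two_pow]
        rcases eq_or_lt_of_le hj with rfl | hj
        · simp [hbit]
        · have : n.testBit j = false := Nat.testBit_lt_two_pow (hlt.trans_le (Nat.pow_le_pow_right (by norm_num) hj))
          simp [this, hj.ne]
      have := hstep i hiN _ (hm.trans_le ((Nat.pow_le_pow_right (by norm_num) hiN.le))) (ih _ (hm.trans_le hlog)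
        (hm.trans_le ((Nat.pow_le_pow_right (by norm_num) hiN.le))))
      rwa [← Nat.xor_assoc, Nat.xor_self, Nat.zero_xor] at this

end Cfsg.Agent.JankoFour.Coord
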