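import Cfsg.Agent.Lib.JankoFour.CoordSquare
import Cfsg.Agent.Lib.JankoFour.CoordBits

/-!
Lifts of the hexad group centralising P, chosen so that the two inner elements of the stabiliser act by one
of two tabulated forms.
-/

set_option autoImplicit false
set_option linter.unusedSectionVars false

namespace Cfsg.Agent.JankoFour

open Subgroup
open Cfsg.Agent.LargeFischer (Ctx QG)
open Cfsg.Agent.J4Module (app)
open Cfsg.Agent.J4Module.Data
open Big Coord

/-- A column list is determined by its values on powers of two. -/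
theorem Coord.list_ext {N : ℕ} {C D : List ℕ} (hC : C.length = N) (hD : D.length = N)
    (h : ∀ n < 2 ^ N, app C n = app D n) : C = D := by
  refine List.ext_getElem (hC.trans hD.symm) fun i h1 h2 => ?_
  have := h (2 ^ i) (Nat.pow_lt_pow_right (by norm_num) (hC ▸ h1))
  rwa [app_one_bit, app_one_bit, List.getD_eq_getElem _ _ h1, List.getD_eq_getElem _ _ h2] at this

theorem Coord.getD_map_of_lt {α β : Type*} (f : α → β) (l : List α) {i : ℕ} (hi : i < l.length) (a : α) (b : β) :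
    (l.map f).getD i b = f (l.getD i a) := by
  rw [List.getD_eq_getElem _ _ (by rw [List.length_map]; exact hi), List.getD_eq_getElem _ _ hi, List.getElem_map]

namespace Model

variable {G : Type*} [Group G] [Finite G] {z : G} {P : Subgroup G} (M : Model z P)

theorem acts_mul_bEl {c : ↥(centralizer ({z} : Set G))} {d : ↥(centralizer ({z} : Set G))} {i j : ℕ}
    (hi : i < 16) (hj : j < 16) (hc : M.Acts c (bEl i)) (hd : M.Acts d (bEl j)) :
    M.Acts (c * d) (bEl (i ^^^ j)) := bEl_spec.2.2.1 i hi j hj ▸ M.acts_mul hc hd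

theorem Z_mem_bP : M.toH M.zQ ∈ M.bP :=
  ⟨by
    refine mem_centralizer_iff.2 fun g hg => ?_
    obtain ⟨j, rfl⟩ := mem_zpowers_iff.1 (M.p_gen.ge hg)
    exact ((show Commute (M.pElem : G) z from mem_centralizer_singleton_iff.1 M.pElem.2).zpow_left j).eq,
  0, by norm_num, bEl_spec.2.1 ▸ M.acts_of_mem_Q (M.toH_mem M.zQ)⟩

/-- Chosen lifts: a basis of the hexad group. -/
structure Lifts where
  l : ℕ → ↥(centralizer ({z} : Set G))
  l_mem : ∀ i, l i ∈ M.bP
  l_acts : ∀ i < 4, M.Acts (l i) (bEl (2 ^ i))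

theorem exists_lifts : Nonempty M.Lifts := by
  choose l hl hla using fun i : Fin 4 => M.exists_lift_bP (i := 2 ^ i.1)
    (Nat.pow_lt_pow_right (by norm_num) i.2 : 2 ^ i.1 < 2 ^ 4)
  exact ⟨⟨fun i => if h : i < 4 then l ⟨i, h⟩ else 1, fun i => by
    show (dite _ _ _ : ↥(centralizer ({z} : Set G))) ∈ M.bP
    split
    · exact hl _
    · exact one_mem _, fun i hi => by
    simp only [dif_pos hi]
    exact hla ⟨i, hi⟩⟩⟩

variable {M} (L : M.Lifts)

/-- The elements over the hexad group: the four lifts and the involution. -/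
noncomputable def Lifts.list : List ↥(centralizer ({z} : Set G)) := [L.l 0, L.l 1, L.l 2, L.l 3, M.toH M.zQ]

/-- The element with given coordinates. -/
noncomputable def Lifts.el5 (m : ℕ) : ↥(centralizer ({z} : Set G)) := prodB L.list m

theorem bP_comm' {l l' : ↥(centralizer ({z} : Set G))} (hl : l ∈ M.bP) (hl' : l' ∈ M.bP) : l * l' = l' * l := by
  have h := M.bP_sq (mul_mem hl hl')
  calc l * l' = (l * l')⁻¹ := (inv_eq_of_mul_eq_one_right h).symm
    _ = l' * l := by
      rw [_root_.mul_inv_rev, inv_eq_of_mul_eq_one_right (M.bP_sq hl), inv_eq_of_mul_eq_one_right (M.bP_sq hl')]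

theorem Lifts.list_mem : ∀ g ∈ L.list, g ∈ M.bP := by
  intro g hg
  simp only [Lifts.list, List.mem_cons, List.not_mem_nil, or_false] at hg
  rcases hg with rfl | rfl | rfl | rfl | rfl
  all_goals first | exact L.l_mem _ | exact M.Z_mem_bP

theorem Lifts.el5_xor (m n : ℕ) : L.el5 (m ^^^ n) = L.el5 m * L.el5 n :=
  prodB_xor M.bP (fun _ ha _ hb => bP_comm' ha hb) (fun _ ha => M.bP_sq ha) _ L.list_mem m n

theorem Lifts.el5_mem (m : ℕ) : L.el5 m ∈ M.bP := prodB_mem M.bP _ L.list_mem m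

theorem Lifts.el5_zero : L.el5 0 = 1 := prodB_zero _

theorem Lifts.el5_16 : L.el5 16 = M.toH M.zQ := by
  rw [Lifts.el5, show (16 : ℕ) = 2 ^ 4 from rfl, prodB_two_pow]; rfl

theorem Lifts.el5_pow {i : ℕ} (hi : i < 4) : L.el5 (2 ^ i) = L.l i := by
  rw [Lifts.el5, prodB_two_pow]
  interval_cases i <;> rfl

theorem Lifts.el5_acts {m : ℕ} (hm : m < 32) : M.Acts (L.el5 m) (bEl (m % 16)) := by
  refine bits_induct (N := 5) (p := fun m => M.Acts (L.el5 m) (bEl (m % 16))) ?_ (fun i hi m hm ih => ?_) hm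
  · rw [L.el5_zero, bEl_spec.2.1]
    exact M.acts_one
  · rw [L.el5_xor, show (2 ^ i ^^^ m) % 16 = (2 ^ i % 16) ^^^ (m % 16) from Nat.xor_mod_two_pow (n := 4)]
    refine M.acts_mul_bEl (Nat.mod_lt _ (by norm_num)) (Nat.mod_lt _ (by norm_num)) ?_ ih
    rcases Nat.lt_succ_iff_lt_or_eq.1 hi with hi | rfl
    · rw [L.el5_pow hi, Nat.mod_eq_of_lt (show 2 ^ i < 16 by interval_cases i <;> norm_num)]
      exact L.l_acts i hi
    · rw [show (2 : ℕ) ^ 4 = 16 from rfl, L.el5_16, show (16 : ℕ) % 16 = 0 from rfl, bEl_spec.2.1]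
      exact M.acts_of_mem_Q (M.toH_mem _)

theorem Lifts.el5_eq_one {m : ℕ} (hm : m < 32) (h : L.el5 m = 1) : m = 0 := by
  have h1 := L.el5_acts hm
  rw [h] at h1
  have h0 := bEl_spec.2.2.2.1 _ (Nat.mod_lt m (by norm_num)) 0 (by norm_num)
    ((M.acts_unique (bEl_spec.1 _ (Nat.mod_lt m (by norm_num))).2 rfl h1 M.acts_one).trans bEl_spec.2.1.symm)
  rcases (by omega : m = 0 ∨ m = 16) with rfl | rfl
  · rfl
  · rw [L.el5_16] at h
    exact absurd (congrArg Subtype.val h) M.ctx.xs.ne_one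

theorem Lifts.el5_inj {m n : ℕ} (hm : m < 32) (hn : n < 32) (h : L.el5 m = L.el5 n) : m = n := by
  refine Nat.xor_eq_zero_iff.1 (L.el5_eq_one (Nat.xor_lt_two_pow (n := 5) hm hn) ?_)
  rw [L.el5_xor, h, M.bP_sq (L.el5_mem n)]

/-- An element centralising P over an inner element permutes the lifts up to signs. -/
theorem Lifts.exists_cols {c : ↥(centralizer ({z} : Set G))} {j : ℕ} (hj : j < 2)
    (hc : (c : G) ∈ centralizer (P : Set G)) (hca : M.Acts c (sEl j)) :
    ∃ e < 16, ∀ m, m < 32 → c * L.el5 m * c⁻¹ = L.el5 (app (colsL j e) m) := by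
  classical
  have hz5 : L.el5 16 = M.toH M.zQ := L.el5_16
  obtain ⟨-, -, hperm⟩ := stab_spec.2.2 j (by omega)
  have hb : ∀ i : Fin 4, ∃ b : Bool, c * L.l i * c⁻¹ = L.el5 (sPerm j (2 ^ i.1) ^^^ if b = true then 16 else 0) := by
    intro i
    have hi16 : 2 ^ i.1 < 16 := Nat.pow_lt_pow_right (by norm_num) i.2
    obtain ⟨hp, he⟩ := hperm _ hi16
    have ha := M.acts_conj hca (L.l_acts _ i.2) he
    have hb := L.el5_acts (show sPerm j (2 ^ i.1) < 32 by omega)
    rw [Nat.mod_eq_of_lt hp] at hb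
    rcases M.lift_eq (L.el5_mem _).1 (mul_mem (mul_mem hc (L.l_mem i.1).1) (inv_mem hc)) hb ha with e | e
    · exact ⟨false, by simpa using e⟩
    · exact ⟨true, by rw [if_pos rfl, L.el5_xor, hz5]; exact e⟩
  choose b hb using hb
  obtain ⟨e, he, heb⟩ : ∃ e < 16, ∀ i : Fin 4, Nat.testBit e i.1 = b i := by
    clear hb
    revert b
    decide
  refine ⟨e, he, fun m hm => ?_⟩
  obtain ⟨hlen, hlt⟩ := colsL_shape j hj e he
  rw [prodB_cols (N := 5) L.el5 (fun m _ n _ => L.el5_xor m n) _ hlt, Lifts.el5]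
  show MulAut.conj c (prodB L.list m) = _
  rw [show MulAut.conj c (prodB L.list m) = (MulAut.conj c).toMonoidHom (prodB L.list m) from rfl, prodB_map]
  congr 1
  have key : ∀ i : Fin 4, c * L.l i * c⁻¹ = L.el5 (sPerm j (2 ^ i.1) ^^^ if e.testBit i.1 = true then 16 else 0) :=
    fun i => by rw [heb i]; exact hb i
  simp only [Lifts.list, colsL, List.map_cons, List.map_nil, List.range_succ, List.range_zero, List.nil_append,
    List.cons_append, MulEquiv.coe_toMonoidHom, MulAut.conj_apply]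
  have k0 := key 0
  have k1 := key 1
  have k2 := key 2
  have k3 := key 3
  simp only [Fin.val_zero, Fin.val_one, show ((2 : Fin 4) : ℕ) = 2 from rfl, show ((3 : Fin 4) : ℕ) = 3 from rfl] at k0 k1 k2 k3
  rw [← k0, ← k1, ← k2, ← k3, hz5, M.z_fix c, mul_inv_cancel_right]

/-- The action of a word. -/
theorem Lifts.word_conj {c : ℕ → ↥(centralizer ({z} : Set G))} {e : ℕ → ℕ}
    (he : ∀ k < 2, e k < 16)
    (hc : ∀ k < 2, ∀ m, m < 32 → c k * L.el5 m * (c k)⁻¹ = L.el5 (app (colsL k (e k)) m)) :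
    ∀ w : List ℕ, (∀ k ∈ w, k < 2) → ∀ m < 32, app (wordL (e 0) (e 1) w) m < 32 ∧
      (w.map c).prod * L.el5 m * ((w.map c).prod)⁻¹ = L.el5 (app (wordL (e 0) (e 1) w) m)
  | [], _, m, hm => by
    have : app (wordL (e 0) (e 1) []) m = m := units_five m hm
    rw [this]
    exact ⟨hm, by simp⟩
  | k :: w, hw, m, hm => by
    have hk := hw k List.mem_cons_self
    obtain ⟨hlt, ih⟩ := word_conj he hc w (fun j hj => hw j (List.mem_cons_of_mem _ hj)) m hm
    have hek : (if k = 0 then e 0 else e 1) = e k := by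
      rcases (by omega : k = 0 ∨ k = 1) with rfl | rfl <;> simp
    have happ : app (wordL (e 0) (e 1) (k :: w)) m = app (colsL k (e k)) (app (wordL (e 0) (e 1) w) m) := by
      rw [← app_mulC, ← hek]
      rfl
    rw [happ]
    refine ⟨app_lt (N := 5) _ (colsL_shape k hk _ (he k hk)).2 _, ?_⟩
    rw [List.map_cons, List.prod_cons, ← hc k hk _ hlt, ← ih]
    group

theorem wordS_acts {c : ℕ → ↥(centralizer ({z} : Set G))} (hc : ∀ k < 2, M.Acts (c k) (sEl k))
    (hcP : ∀ k < 2, (c k : G) ∈ centralizer (P : Set G)) :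
    ∀ w : List ℕ, (∀ k ∈ w, k < 2) →
      M.Acts (w.map c).prod (wordS w) ∧ ((w.map c).prod : G) ∈ centralizer (P : Set G)
  | [], _ => ⟨M.acts_one, one_mem _⟩
  | k :: w, hw => by
    obtain ⟨h1, h2⟩ := wordS_acts hc hcP w fun j hj => hw j (List.mem_cons_of_mem _ hj)
    rw [List.map_cons, List.prod_cons]
    exact ⟨M.acts_mul (hc k (hw k List.mem_cons_self)) h1, mul_mem (hcP k (hw k List.mem_cons_self)) h2⟩

theorem wordL_length (e0 e1 : ℕ) : ∀ w : List ℕ, (wordL e0 e1 w).length = 5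
  | [] => rfl
  | k :: w => by
    show (mulC _ (wordL e0 e1 w)).length = 5
    rw [length_mulC, wordL_length e0 e1 w]

variable (M) in
/-- Lifts with the tabulated forms. -/
theorem exists_forms : ∃ (L : M.Lifts) (t : List ℕ), ∃ l < 16, t = tLam l ∧ ∃ f < 2, ∀ j < 2,
    ∃ c : ↥(centralizer ({z} : Set G)), (c : G) ∈ centralizer (P : Set G) ∧ M.Acts c (sEl j) ∧
      ∀ m, m < 32 → c * L.el5 (app t m) * c⁻¹ = L.el5 (app t (app (tgt f j) m)) := by
  obtain ⟨L⟩ := M.exists_lifts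
  choose c hcP hca using fun k : Fin 2 => M.cent_elem _ (sEl_InK0 k.2)
  let c' : ℕ → ↥(centralizer ({z} : Set G)) := fun k => if h : k < 2 then c ⟨k, h⟩ else 1
  have hca' : ∀ k < 2, M.Acts (c' k) (sEl k) := fun k hk => by simp only [c', dif_pos hk]; exact hca ⟨k, hk⟩
  have hcP' : ∀ k < 2, (c' k : G) ∈ centralizer (P : Set G) := fun k hk => by
    simp only [c', dif_pos hk]; exact hcP ⟨k, hk⟩
  choose e he hconj using fun k : Fin 2 => L.exists_cols k.2 (hcP' k k.2) (hca' k k.2)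
  let e' : ℕ → ℕ := fun k => if h : k < 2 then e ⟨k, h⟩ else 0
  have he' : ∀ k < 2, e' k < 16 := fun k hk => by simp only [e', dif_pos hk]; exact he _
  have hconj' : ∀ k < 2, ∀ m, m < 32 → c' k * L.el5 m * (c' k)⁻¹ = L.el5 (app (colsL k (e' k)) m) :=
    fun k hk => by simp only [e', dif_pos hk]; exact hconj ⟨k, hk⟩
  obtain ⟨hA, hB, hC, hA1, hBC⟩ := rel_words
  have hW := L.word_conj he' hconj'
  have hS := wordS_acts hca' hcP'
  have r1 : wordL (e' 0) (e' 1) relA = [1, 2, 4, 8, 16] := by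
    refine Coord.list_ext (N := 5) (wordL_length _ _ _) rfl fun m hm => ?_
    obtain ⟨hlt, h⟩ := hW relA hA m hm
    rw [units_five m hm]
    refine (L.el5_inj hlt hm (h.symm.trans ?_))
    obtain ⟨h1, h2⟩ := hS relA hA
    rw [hA1] at h1
    rw [bP_comm' (⟨h2, 1, by norm_num, h1⟩ : (relA.map c').prod ∈ M.bP) (L.el5_mem m), mul_inv_cancel_right]
  have r2 : wordL (e' 0) (e' 1) relB = wordL (e' 0) (e' 1) relC := by
    refine Coord.list_ext (N := 5) (wordL_length _ _ _) (wordL_length _ _ _) fun m hm => ?_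
    obtain ⟨hlt, h⟩ := hW relB hB m hm
    obtain ⟨hlt', h'⟩ := hW relC hC m hm
    refine L.el5_inj hlt hlt' (h.symm.trans (Eq.trans ?_ h'))
    obtain ⟨b1, b2⟩ := hS relB hB
    obtain ⟨c1, c2⟩ := hS relC hC
    rw [hBC] at b1
    rcases M.lift_eq c2 b2 c1 b1 with f | f <;> rw [f]
    rw [_root_.mul_inv_rev, show ∀ (x Z y : ↥(centralizer ({z} : Set G))), x * Z * y * (Z⁻¹ * x⁻¹) =
        x * (Z * y * Z⁻¹) * x⁻¹ from fun x Z y => by group, ← M.z_fix (L.el5 m), mul_inv_cancel_right]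
  obtain ⟨l, hl, f, hf, hT⟩ := solve _ (he' 0 (by norm_num)) _ (he' 1 (by norm_num)) r1 r2
  refine ⟨L, _, l, hl, rfl, f, hf, fun j hj => ⟨c' j, hcP' j hj, hca' j hj, fun m hm => ?_⟩⟩
  rw [hconj' j hj _ (app_lt (N := 5) _ (tLam_shape l hl).2.1 m), ← app_mulC, ← app_mulC]
  congr 2
  have := hT j hj
  rcases (by omega : j = 0 ∨ j = 1) with rfl | rfl
  · simpa using this
  · simpa using this

end Model

end Cfsg.Agent.JankoFour
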