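import Cfsg.Agent.Lib.JankoFour.BigCoords
import Cfsg.Agent.Lib.JankoFour.CoordLifts
import Cfsg.Agent.Lib.JankoFour.CoordIndex

/-!
Coordinates on the large abelian subgroup in which the elements normalising it act by a tabulated form.
-/

set_option autoImplicit false
set_option linter.unusedSectionVars false
set_option linter.unnecessarySimpa false

namespace Cfsg.Agent.JankoFour

open Subgroup
open Cfsg.Agent.LargeFischer (Ctx QG)
open Cfsg.Agent.J4Module (app)
open Cfsg.Agent.J4Module.Data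
open Big Coord

namespace Model

variable {G : Type*} [Group G] [Finite G] {z : G} {P : Subgroup G} {M : Model z P}

variable (M) in
/-- The element of the centraliser over a vector of the hexad space. -/
noncomputable def spaceEl (w : ℕ) : ↥(centralizer ({z} : Set G)) := M.toH (M.uS (bigW.getD w 0))

variable (L : M.Lifts) (t : List ℕ)

/-- The eleven basis elements. -/
noncomputable def Lifts.basis : List ↥(centralizer ({z} : Set G)) :=
  (([1, 2, 4, 8, 16, 32] : List ℕ).map M.spaceEl) ++ t.map L.el5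

/-- The element with given coordinates. -/
noncomputable def Lifts.el (n : ℕ) : ↥(centralizer ({z} : Set G)) := prodB (L.basis t) n

theorem _root_.Cfsg.Agent.JankoFour.Coord.bigW_lt {w : ℕ} (hw : w < 64) : bigW.getD w 0 < 4096 := by
  refine bigW_spec.2.1 _ ?_
  rw [List.getD_eq_getElem _ _ (show w < bigW.length by rw [bigW_spec.1]; exact hw)]
  exact List.getElem_mem _

variable (M) in
theorem spaceEl_mem {w : ℕ} (hw : w < 64) : M.spaceEl w ∈ M.vH := by
  refine M.toH_vH (M.mem_aQ.2 ?_)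
  rw [M.uS_vec (bigW_lt hw), List.getD_eq_getElem _ _ (show w < bigW.length by rw [bigW_spec.1]; exact hw)]
  exact List.getElem_mem _

variable (M) in
theorem vH_comm {a : ↥(centralizer ({z} : Set G))} (ha : a ∈ M.vH) {b : ↥(centralizer ({z} : Set G))}
    (hb : b ∈ M.vH) : a * b = b * a := by
  have h := M.vH_sq _ (mul_mem ha hb)
  calc a * b = (a * b)⁻¹ := (inv_eq_of_mul_eq_one_right h).symm
    _ = b * a := by
      rw [_root_.mul_inv_rev, inv_eq_of_mul_eq_one_right (M.vH_sq _ ha), inv_eq_of_mul_eq_one_right (M.vH_sq _ hb)]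

theorem Lifts.basis_mem : ∀ g ∈ L.basis t, g ∈ M.vH := by
  intro g hg
  rcases List.mem_append.1 hg with hg | hg
  · obtain ⟨w, hw, rfl⟩ := List.mem_map.1 hg
    refine M.spaceEl_mem ?_
    simp only [List.mem_cons, List.not_mem_nil, or_false] at hw
    rcases hw with rfl | rfl | rfl | rfl | rfl | rfl <;> norm_num
  · obtain ⟨w, -, rfl⟩ := List.mem_map.1 hg
    exact M.bP_le_vH (L.el5_mem w)

theorem Lifts.el_xor (m n : ℕ) : L.el t (m ^^^ n) = L.el t m * L.el t n :=
  prodB_xor M.vH (fun _ ha _ hb => M.vH_comm ha hb) (fun _ ha => M.vH_sq _ ha) _ (L.basis_mem t) m n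

theorem Lifts.el_mem (n : ℕ) : L.el t n ∈ M.vH := prodB_mem M.vH _ (L.basis_mem t) n

variable {t} (ht : ∀ c ∈ t, c < 32)
include ht

theorem Lifts.el_eq {n : ℕ} : L.el t n = M.spaceEl (n % 64) * L.el5 (app t (n / 64)) := by
  rw [Lifts.el, Lifts.basis, prodB_append, List.length_map]
  congr 1
  · have h := prodB_cols (N := 6) M.spaceEl (fun a ha b hb => by
      simp only [spaceEl]
      rw [M.uS_add ha hb, map_mul]) [1, 2, 4, 8, 16, 32] (by decide) (n % 64)
    rw [units_six _ (Nat.mod_lt _ (by norm_num))] at h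
    exact h.symm
  · exact (prodB_cols (N := 5) L.el5 (fun m _ k _ => L.el5_xor m k) t ht _).symm

theorem Lifts.el_space {w : ℕ} (hw : w < 64) : L.el t w = M.spaceEl w := by
  rw [L.el_eq ht, Nat.mod_eq_of_lt hw, Nat.div_eq_of_lt hw,
    show app t 0 = 0 from Nat.eq_zero_of_le_zero (Nat.le_of_eq ?_), L.el5_zero, mul_one]
  induction t with
  | nil => rfl
  | cons c cs ih =>
    show (if 0 % 2 = 1 then c else 0) ^^^ app cs (0 / 2) = 0
    simp [ih fun x hx => ht x (List.mem_cons_of_mem _ hx)]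

theorem Lifts.el_hex (m : ℕ) : L.el t (64 * m) = L.el5 (app t m) := by
  rw [L.el_eq ht, Nat.mul_mod_right, Nat.mul_div_cancel_left _ (show 0 < 64 by norm_num)]
  rw [spaceEl, bigW_zero, M.uS_zero, map_one, one_mul]

end Model

namespace Coord

/-- The value on a column list from the values on the basis. -/
theorem conj_el {H : Type*} [Group H] (E : ℕ → H) (gs : List H) (hE : ∀ n, E n = prodB gs n)
    (hx : ∀ m < 2 ^ 11, ∀ n < 2 ^ 11, E (m ^^^ n) = E m * E n) (hgs : gs.length = 11) {g : H} {cs : List ℕ}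
    (hl : cs.length = 11) (hlt : ∀ c ∈ cs, c < 2 ^ 11) (h : ∀ i < 11, g * E (2 ^ i) * g⁻¹ = E (cs.getD i 0)) (n : ℕ) :
    g * E n * g⁻¹ = E (app cs n) := by
  rw [prodB_cols (N := 11) E hx cs hlt, hE n]
  show (MulAut.conj g).toMonoidHom (prodB gs n) = _
  rw [prodB_map]
  congr 1
  refine List.ext_getElem (by simp [hgs, hl]) fun i h1 h2 => ?_
  have hi : i < 11 := by simpa [hl] using h2
  rw [List.getElem_map, List.getElem_map]
  have h' := h i hi
  rwa [hE, prodB_two_pow, List.getD_eq_getElem _ _ (by omega), List.getD_eq_getElem _ _ (by omega)] at h'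

end Coord

namespace Model

variable {G : Type*} [Group G] [Finite G] {z : G} {P : Subgroup G} {M : Model z P}

variable (L : M.Lifts) {l : ℕ} (hl : l < 16) {f : ℕ} (hf : f < 2)

theorem Lifts.el_z (hl : l < 16) : L.el (tLam l) 1024 = M.toH M.zQ := by
  rw [show (1024 : ℕ) = 64 * 16 from rfl, L.el_hex (tLam_shape l hl).2.1, (tLam_shape l hl).2.2.1, L.el5_16]

theorem Lifts.el_acts (hl : l < 16) {n : ℕ} (hn : n < 2048) : M.Acts (L.el (tLam l) n) (bEl (n / 64 % 16)) := by
  obtain ⟨-, hlt, -, hm⟩ := tLam_shape l hl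
  rw [L.el_eq hlt]
  have h32 := app_lt (N := 5) _ hlt (n / 64)
  have h := M.acts_mul (M.acts_of_mem_Q (M.toH_mem (M.uS (bigW.getD (n % 64) 0)))) (L.el5_acts h32)
  rwa [unitC_mulC (Big.sylow_InL0 (bEl_spec.1 _ (Nat.mod_lt _ (by norm_num))).1) fun _ h => h,
    (hm (n / 64) (by omega)).1] at h

theorem Lifts.el_inQ (hl : l < 16) {n : ℕ} (hn : n < 2048) (h : n / 64 % 16 = 0) :
    ∃ b : Bool, L.el (tLam l) n = M.toH (M.uS (bigW.getD (n % 64) 0) * M.zb b) ∧ (b = false → n / 64 = 0) := by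
  obtain ⟨-, hlt, h16, hm⟩ := tLam_shape l hl
  simp only [L.el_eq hlt, map_mul]
  rcases (by omega : n / 64 = 0 ∨ n / 64 = 16) with e | e
  · refine ⟨false, ?_, fun _ => e⟩
    have h0 : app (tLam l) 0 = 0 := by
      have := app_xor (tLam l) 0 0
      simpa using this
    simp [e, h0, L.el5_zero, zb, spaceEl]
  · exact ⟨true, by simp [e, h16, L.el5_16, zb, spaceEl], by simp⟩

theorem Lifts.el_eq_one (hl : l < 16) {n : ℕ} (hn : n < 2048) (h : L.el (tLam l) n = 1) : n = 0 := by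
  have ha := L.el_acts hl hn
  rw [h] at ha
  have h16 : n / 64 % 16 < 16 := Nat.mod_lt _ (by norm_num)
  have h0 := bEl_spec.2.2.2.1 _ h16 0 (by norm_num)
    ((M.acts_unique (bEl_spec.1 _ h16).2 rfl ha M.acts_one).trans bEl_spec.2.1.symm)
  obtain ⟨b, he, hb⟩ := L.el_inQ hl hn h0
  rw [h] at he
  have h1 : M.uS (bigW.getD (n % 64) 0) * M.zb b = 1 := M.toH_injective (by rw [← he, map_one])
  have hv := congrArg M.vec h1
  rw [M.vec_mul, M.vec_zb, M.uS_vec (bigW_lt (Nat.mod_lt _ (by norm_num))), M.vec_one, Nat.xor_zero] at hv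
  have hw : n % 64 = 0 := bigW_spec.2.2.2 _ (Nat.mod_lt _ (by norm_num)) 0 (by norm_num) (hv.trans bigW_zero.symm)
  rw [hw, bigW_zero, M.uS_zero, one_mul] at h1
  cases b
  · have := hb rfl
    omega
  · exact absurd (congrArg Subtype.val h1) M.ctx.xs.ne_one

theorem Lifts.el_two_pow_space (hl : l < 16) {i : ℕ} (hi : i < 6) :
    L.el (tLam l) (2 ^ i) = M.toH (M.uS (wB i)) := by
  rw [L.el_space (tLam_shape l hl).2.1 (show 2 ^ i < 64 from Nat.pow_lt_pow_right (n := 6) (by norm_num) hi)]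
  rfl

theorem Lifts.move_unit (hl : l < 16) (hf : f < 2) {k : ℕ} (hk : k < 12) {x : ↥(QG M.Q)} (hx : M.vec x = 2 ^ k)
    {i : ℕ} (hi : i < 11) :
    M.toH x * L.el (tLam l) (2 ^ i) * (M.toH x)⁻¹ = L.el (tLam l) ((mv f k).getD i 0) := by
  obtain ⟨-, hlt, h16, hm⟩ := tLam_shape l hl
  have hk4 : 2 ^ k < 4096 := Nat.pow_lt_pow_right (n := 12) (by norm_num) hk
  rcases (by omega : i < 6 ∨ (6 ≤ i ∧ i < 10) ∨ i = 10) with hi6 | ⟨hi6, hi10⟩ | rfl
  · rw [mv_space f hf k hk i hi6, L.el_xor, L.el_two_pow_space hl hi6, ← map_inv, ← map_mul, ← map_mul,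
      M.uS_shift x (w := wB i) (bigW_lt (Nat.pow_lt_pow_right (n := 6) (by norm_num) hi6)), hx, map_mul]
    congr 1
    split_ifs with hb
    · rw [hb, L.el_z hl]; rfl
    · rw [Bool.eq_false_iff.2 hb, Lifts.el, prodB_zero]; simp [zb]
  · obtain ⟨i, rfl⟩ := Nat.exists_eq_add_of_le hi6
    obtain ⟨hd, hu⟩ := mv_hex f hf k hk i (by omega)
    rw [show 2 ^ (6 + i) = 64 * 2 ^ i by rw [pow_add]; norm_num, L.el_hex hlt]
    set l' := L.el5 (app (tLam l) (2 ^ i)) with hl'
    have hi16 : 2 ^ i < 16 := Nat.pow_lt_pow_right (n := 4) (by norm_num) (by omega)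
    have h32 : app (tLam l) (2 ^ i) < 32 := app_lt (N := 5) _ hlt _
    have hla : M.Acts l' (bEl (2 ^ i)) := by
      have := L.el5_acts h32
      rwa [(hm _ (by omega)).1, Nat.mod_eq_of_lt hi16] at this
    have hlP := L.el5_mem (app (tLam l) (2 ^ i))
    set C := bEl (2 ^ i) with hC
    have hbv : app C (2 ^ k) < 4096 := by
      obtain ⟨y, hy⟩ := M.vec_surj _ hk4
      rw [← hy, ← hla]
      exact M.vec_lt _
    obtain ⟨b, rfl⟩ : ∃ b, x = M.uS (2 ^ k) * M.zb b := by
      rcases M.vec_eq_iff.1 (hx.trans (M.uS_vec hk4).symm) with e | e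
      · exact ⟨false, by rw [show x = M.uS (2 ^ k) from Subtype.ext e.symm]; simp [zb]⟩
      · refine ⟨true, ?_⟩
        rw [show M.uS (2 ^ k) = x * M.zQ from Subtype.ext e, show M.zb true = M.zQ by simp [zb], mul_assoc,
          M.zQ_sq, mul_one]
    have hZ : M.toH (M.zb b) * l' * (M.toH (M.zb b))⁻¹ = l' := by
      cases b
      · simp [zb]
      · simp only [zb, if_true]
        rw [← M.z_fix l', mul_inv_cancel_right]
    rw [map_mul, show M.toH (M.uS (2 ^ k)) * M.toH (M.zb b) * l' * (M.toH (M.uS (2 ^ k)) * M.toH (M.zb b))⁻¹ =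
      M.toH (M.uS (2 ^ k)) * (M.toH (M.zb b) * l' * (M.toH (M.zb b))⁻¹) * (M.toH (M.uS (2 ^ k)))⁻¹ by group, hZ]
    have hconj : l' * (M.toH (M.uS (2 ^ k)))⁻¹ * l'⁻¹ = M.toH (M.uS (app C (2 ^ k)))⁻¹ := by
      rw [← map_inv, M.toH_conj, map_inv, M.uS_conj hlP.1 hla (bEl_p _ hi16) hk4]
    calc M.toH (M.uS (2 ^ k)) * l' * (M.toH (M.uS (2 ^ k)))⁻¹
        = M.toH (M.uS (2 ^ k)) * (l' * (M.toH (M.uS (2 ^ k)))⁻¹ * l'⁻¹) * l' := by group
      _ = M.toH (M.uS (2 ^ k ^^^ app C (2 ^ k)) * M.zb (eps (2 ^ k) C)) * l' := by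
          rw [hconj, M.uS_inv hbv, ← map_mul, ← mul_assoc, M.uS_mul hk4 hbv, mul_assoc, M.zb_mul]
          rfl
      _ = L.el (tLam l) ((mv f k).getD (6 + i) 0) := by
          rw [L.el_eq hlt, hu, app_xor, L.el5_xor, ← hd, map_mul]
          simp only [spaceEl, ← hl', mul_assoc]
          congr 1
          have hzc : ∀ c, M.toH M.zQ * c = c * M.toH M.zQ := fun c => (M.z_fix c).symm
          cases eps (2 ^ k) C
          · have h0 : app (tLam l) 0 = 0 := by simpa using app_xor (tLam l) 0 0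
            simp [zb, h0, L.el5_zero]
          · simp [zb, h16, L.el5_16, hzc]
  · rw [(mv_shape f hf k (by omega)).2.2, show (2 : ℕ) ^ 10 = 1024 from rfl, L.el_z hl, M.z_conj]

theorem Lifts.move_cent (hl : l < 16) {c : ↥(centralizer ({z} : Set G))}
    (hcP : (c : G) ∈ centralizer (P : Set G)) {C : List ℕ} (hca : M.Acts c C) (hcomm : mulC pC C = mulC C pC)
    {cs : List ℕ} (u : List ℕ)
    (hsp : ∀ i < 6, cs.getD i 0 < 64 ∧ bigW.getD (cs.getD i 0) 0 = app C (wB i))
    (hhex : ∀ i < 5, cs.getD (6 + i) 0 = 64 * u.getD i 0)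
    (hc5 : ∀ i < 5, c * L.el5 (app (tLam l) (2 ^ i)) * c⁻¹ = L.el5 (app (tLam l) (u.getD i 0)))
    {i : ℕ} (hi : i < 11) : c * L.el (tLam l) (2 ^ i) * c⁻¹ = L.el (tLam l) (cs.getD i 0) := by
  have hlt := (tLam_shape l hl).2.1
  rcases Nat.lt_or_ge i 6 with hi6 | hi6
  · obtain ⟨h1, h2⟩ := hsp i hi6
    rw [L.el_two_pow_space hl hi6, M.toH_conj,
      M.uS_conj hcP hca hcomm (v := wB i) (bigW_lt (Nat.pow_lt_pow_right (n := 6) (by norm_num) hi6)),
      L.el_space hlt h1, spaceEl, h2]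
  · obtain ⟨i, rfl⟩ := Nat.exists_eq_add_of_le hi6
    rw [hhex i (by omega), show 2 ^ (6 + i) = 64 * 2 ^ i by rw [pow_add]; norm_num, L.el_hex hlt, L.el_hex hlt,
      hc5 i (by omega)]

end Model

namespace BigData

variable {G : Type*} [Group G] [Finite G] {z : G} {P : Subgroup G} {M : Model z P} (B : BigData M)
include B

theorem exists_bigCoords : Nonempty (BigCoords B) := by
  classical
  have : Fintype G := Fintype.ofFinite G
  obtain ⟨L, _, l, hl, rfl, f, hf, hforms⟩ := M.exists_forms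
  set E := L.el (tLam l) with hE
  have hmemV : ∀ n, (E n : G) ∈ B.V := fun n => by
    rw [B.V_eq_vG]; exact M.mem_vG.2 (L.el_mem _ n)
  have hinj : ∀ m < 2048, ∀ n < 2048, (E m : G) = E n → m = n := fun m hm n hn e => by
    refine Nat.xor_eq_zero_iff.1 (L.el_eq_one hl (Nat.xor_lt_two_pow (n := 11) hm hn) ?_)
    rw [L.el_xor, show L.el (tLam l) m = L.el (tLam l) n from Subtype.ext e]
    exact M.vH_sq _ (L.el_mem _ n)
  have hsurj : ∀ a ∈ B.V, ∃ n < 2048, (E n : G) = a := by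
    intro a ha
    let h : Fin 2048 → ↥B.V := fun n => ⟨E n, hmemV n⟩
    have hb : Function.Bijective h := by
      have : Fintype ↥B.V := Fintype.ofFinite _
      refine (Fintype.bijective_iff_injective_and_card h).2 ⟨fun m n e => Fin.ext
        (hinj m m.2 n n.2 (congrArg (fun u : ↥B.V => (u : G)) e)), ?_⟩
      rw [Fintype.card_fin, ← Nat.card_eq_fintype_card, B.card]
    obtain ⟨n, hn⟩ := hb.2 ⟨a, ha⟩
    exact ⟨n, n.2, congrArg Subtype.val hn⟩
  have hmove : ∀ (g : ↥(centralizer ({z} : Set G))) (cs : List ℕ), cs.length = 11 → (∀ c ∈ cs, c < 2 ^ 11) →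
      (∀ i < 11, g * E (2 ^ i) * g⁻¹ = E (cs.getD i 0)) →
      ∃ x ∈ normalizer (B.V : Set G) ⊓ centralizer ({z} : Set G),
        ∀ n < 2048, x * (E n : G) * x⁻¹ = E (app cs n) := by
    intro g cs hcl hct hg
    have hall : ∀ n, (g : G) * E n * (g : G)⁻¹ = E (app cs n) := fun n =>
      congrArg Subtype.val (Coord.conj_el E (L.basis (tLam l)) (fun _ => rfl)
        (fun m _ k _ => L.el_xor _ m k) (by simp [Model.Lifts.basis, (tLam_shape l hl).1]) hcl hct hg n)
    refine ⟨g, ⟨mem_normalizer_fintype fun a ha => ?_, g.2⟩, fun n _ => hall n⟩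
    obtain ⟨n, -, rfl⟩ := hsurj a ha
    rw [hall]
    exact hmemV _
  refine ⟨{ el := fun n => (E n : G), el_mem := fun n _ => hmemV n
            el_xor := fun m _ n _ => congrArg Subtype.val (L.el_xor _ m n)
            el_surj := hsurj, el_inj := hinj, el_z := congrArg Subtype.val (L.el_z hl)
            el_mem_Q := ?_, el_vec := ?_, form := f, form_lt := hf, moves := ?_, card_stab := B.card_stab }⟩
  · intro n hn
    constructor
    · intro hQ
      have ha := L.el_acts hl hn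
      have h16 : n / 64 % 16 < 16 := Nat.mod_lt _ (by norm_num)
      refine bEl_spec.2.2.2.1 _ h16 0 (by norm_num) ((M.acts_unique (bEl_spec.1 _ h16).2 rfl ha ?_).trans
        bEl_spec.2.1.symm)
      exact M.acts_of_mem_Q ((M.mem_Q_iff _).2 hQ)
    · intro h
      obtain ⟨b, he, -⟩ := L.el_inQ hl hn h
      show (L.el (tLam l) n : G) ∈ QG M.Q
      rw [he]
      exact (M.uS (bigW.getD (n % 64) 0) * M.zb b).2
  · intro n hn x hx
    have hQ : (E n : G) ∈ QG M.Q := hx ▸ x.2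
    have ha := L.el_acts hl hn
    have h16 : n / 64 % 16 < 16 := Nat.mod_lt _ (by norm_num)
    have h0 := bEl_spec.2.2.2.1 _ h16 0 (by norm_num) ((M.acts_unique (bEl_spec.1 _ h16).2 rfl ha
      (M.acts_of_mem_Q ((M.mem_Q_iff _).2 hQ))).trans bEl_spec.2.1.symm)
    obtain ⟨b, he, -⟩ := L.el_inQ hl hn h0
    rw [show x = M.uS (bigW.getD (n % 64) 0) * M.zb b from Subtype.ext (hx.trans (congrArg Subtype.val he)),
      M.vec_mul, M.vec_zb, M.uS_vec (bigW_lt (Nat.mod_lt _ (by norm_num))), Nat.xor_zero]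
  · intro k hk
    show ∃ x ∈ _, ∀ n < 2048, x * (E n : G) * x⁻¹ = (E (app (mv f k) n) : G)
    obtain ⟨hcl, hct, -⟩ := mv_shape f hf k hk
    rcases (by omega : k < 12 ∨ k = 12 ∨ k = 13 ∨ k = 14) with hk12 | hk12
    · obtain ⟨x, hx⟩ := M.vec_surj (2 ^ k) (Nat.pow_lt_pow_right (n := 12) (by norm_num) hk12)
      exact hmove (M.toH x) _ hcl hct fun i hi => L.move_unit hl hf hk12 hx hi
    · rcases (show (∃ j < 2, k = 12 + j) ∨ k = 14 from hk12.elim (fun h => Or.inl ⟨0, by norm_num, h⟩)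
        fun h => h.elim (fun h => Or.inl ⟨1, by norm_num, h⟩) Or.inr) with ⟨j, hj, rfl⟩ | rfl
      · obtain ⟨c, hcP, hca, hc⟩ := hforms j hj
        obtain ⟨hsp, hhex, -, -⟩ := mv_inner f hf j hj
        refine hmove c _ hcl hct fun i hi => L.move_cent hl hcP hca (sEl_p j hj) (tgt f j) hsp hhex (fun m hm => ?_) hi
        rw [hc _ (Nat.pow_lt_pow_right (n := 5) (by norm_num) hm), app_one_bit]
      · obtain ⟨hsp, hhex⟩ := mv_p f hf
        refine hmove M.pElem _ hcl hct fun i hi => L.move_cent hl M.pElem_cent M.p_acts rfl [1, 2, 4, 8, 16] hsp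
          (fun m hm => ?_) (fun m hm => ?_) hi
        · rw [hhex m hm]
          interval_cases m <;> rfl
        · have hp := L.el5_mem (app (tLam l) (2 ^ m))
          rw [← M.p_fix hp.1, mul_inv_cancel_right]
          interval_cases m <;> rfl

end BigData

end Cfsg.Agent.JankoFour
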