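import Cfsg.Agent.Lib.JankoFour.Exists
import Cfsg.Agent.Lib.JankoFour.BigBuild
import Cfsg.Agent.Lib.JankoFour.Assemble
import Cfsg.Agent.Lib.JankoFour.CentPair
import Cfsg.Agent.Lib.JankoFour.CoordMain

/-!
All data of a group of Janko-four type exist.
-/

set_option autoImplicit false

namespace Cfsg.Agent.JankoFour

variable {G : Type*} [Group G] [Finite G]

theorem exists_facts {z : G} {P : Subgroup G} (hJ : Cfsg.IsOfJankoFourTypeWith z P) :
    ∃ (M : Model z P) (B : BigData M), Nonempty B.Facts := by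
  obtain ⟨M⟩ := exists_model hJ
  obtain ⟨B⟩ := M.exists_bigData
  obtain ⟨C⟩ := B.exists_bigCoords
  exact ⟨M, B, ⟨⟨C, fun t h1 h2 h3 h4 => B.cent_pair_le h1 h2 h3 h4⟩⟩⟩

end Cfsg.Agent.JankoFour
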