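import Cfsg.Agent.Lib.JankoFour.FiveMain
import Cfsg.Prelude.Def_TwoFusion

/-!
The local structure at the prime five.
-/

set_option autoImplicit false
set_option linter.unusedSectionVars false
set_option maxRecDepth 20000

namespace Cfsg.Agent.JankoFour

open Subgroup
open Cfsg.Agent.LargeFischer (QG)
open Cfsg.Agent.J4Module (app)
open Cfsg.Agent.J4Module.Data
open FiveTab Big Split

namespace Model.Five

variable {G : Type*} [Group G] [Finite G] {z : G} {P : Subgroup G} {M : Model z P} (F : M.Five)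
  {B : BigData M} (Cc : BigCoords B)
  (hT : ∀ n < 2048, (Orb.tMask.testBit n = true ↔ n ≠ 0 ∧ ¬ IsConj z (Cc.el n)))
  (D : BigPack z B.V)
include F Cc hT D

theorem K_le : F.K ≤ normalizer (M.eG : Set G) := fun _ hk =>
  mem_normalizer_fintype fun _ ha => F.K_le_normalizer Cc hT D hk ha

omit Cc hT D in
theorem order' : orderOf (F.c : G) = 5 := by rw [Subgroup.orderOf_coe, F.order]

omit Cc hT D in
theorem c_pow_five : (F.c : G) ^ 5 = 1 := by rw [← F.order', pow_orderOf_eq_one]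

/-- The pointwise centraliser of the group of order eight. -/
theorem mem_cent_eG {g : G} (hg : g ∈ F.K) (hc : ∀ a ∈ M.eG, g * a = a * g) :
    ∃ e ∈ M.eG, ∃ a < 5, g = e * (F.c : G) ^ a := by
  have hgH : g ∈ centralizer ({z} : Set G) := mem_centralizer_singleton_iff.2 (hc z M.z_mem_eG)
  set h : ↥(centralizer ({z} : Set G)) := ⟨g, hgH⟩
  have hh := (F.mem_cent' hgH).1 hg
  obtain ⟨C, hC, ha⟩ := M.exists_cols h
  have hfix : ∀ n ∈ ell, app C n = n := fun n hn => by
    obtain ⟨x, hx⟩ := M.vec_surj n (FiveTab.fix_classes.2.2.1 _ hn).1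
    rw [← hx, ← ha x]
    refine congrArg M.vec (Subtype.ext (mul_inv_eq_iff_eq_mul.2 (hc _ (M.mem_eG.2 ?_))))
    rw [hx]; exact List.mem_cons_of_mem _ hn
  obtain ⟨a, ha5, rfl⟩ := FiveTab.ell_moved.2.1 C (F.acts_list (F.mem_cent.1 hh) hC ha) 5 (by simp [ell]) 2282
    (by simp [ell]) (by norm_num) (hfix _ (by simp [ell])) (hfix _ (by simp [ell]))
  obtain ⟨x, hx⟩ := M.toH_surj (M.inv_mul_mem (F.acts_pow_mod a) ha)
  have hxg : (x : G) = ((F.c : G) ^ a)⁻¹ * g := by
    exact congrArg Subtype.val hx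
  have hxK : (x : G) ∈ F.K := by
    rw [hxg]; exact mul_mem (inv_mem (pow_mem (mem_centralizer_singleton_iff.2 rfl) a)) hg
  have hxf := (F.comm_iff x).1 (mem_centralizer_singleton_iff.1 hxK).symm
  have hperp : ∀ m ∈ ell, bbit (M.vec x) m = false := fun m hm => by
    obtain ⟨y, hy⟩ := M.vec_surj m (FiveTab.fix_classes.2.2.1 _ hm).1
    have hyE : (y : G) ∈ M.eG := M.mem_eG.2 (by rw [hy]; exact List.mem_cons_of_mem _ hm)
    rw [← hy, ← M.comm_iff, hxg]
    have h1 : Commute ((F.c : G) ^ a)⁻¹ (y : G) :=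
      ((show Commute (F.c : G) (y : G) from (mem_centralizer_singleton_iff.1 (F.eG_le_K hyE)).symm).pow_left a).inv_left
    exact (h1.mul_left (hc _ hyE)).eq
  refine ⟨(x : G), M.mem_eG.2 ?_, a, ha5, ?_⟩
  · rcases FiveTab.fix_classes.2.2.2.2.2.1 _ hxf hperp with e | e
    · rw [e]; simp
    · exact List.mem_cons_of_mem _ e
  · have h1 : Commute (x : G) ((F.c : G) ^ a) :=
      (show Commute (x : G) (F.c : G) from mem_centralizer_singleton_iff.1 hxK).pow_right a
    rw [h1.eq, hxg, mul_inv_cancel_left]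

/-- The action on the group of order eight. -/
noncomputable def act : ↥F.K →* MulAut ↥M.eG :=
  M.eG.normalizerMonoidHom.comp (Subgroup.inclusion (F.K_le Cc hT D))

theorem act_apply (k : ↥F.K) (a : ↥M.eG) : ((F.act Cc hT D k a : ↥M.eG) : G) = (k : G) * a * (k : G)⁻¹ := rfl

theorem mem_ker {k : ↥F.K} : k ∈ (F.act Cc hT D).ker ↔ ∀ a ∈ M.eG, (k : G) * a = a * k := by
  rw [MonoidHom.mem_ker]
  constructor
  · intro h a ha
    have h' := congrArg Subtype.val (DFunLike.congr_fun h (⟨a, ha⟩ : ↥M.eG))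
    rw [F.act_apply] at h'
    exact mul_inv_eq_iff_eq_mul.1 h'
  · intro h
    exact MulEquiv.ext fun a => Subtype.ext (mul_inv_eq_iff_eq_mul.2 (h a a.2))

omit Cc hT D in
theorem pow_mem_eG {a : ℕ} (ha : a < 5) (h : (F.c : G) ^ a ∈ M.eG) : a = 0 := by
  have h2 : (F.c : G) ^ (2 * a) = 1 := by rw [two_mul, pow_add, M.eG_sq _ h]
  have := orderOf_dvd_of_pow_eq_one h2
  rw [F.order'] at this
  omega

theorem card_ker : Nat.card ↥(F.act Cc hT D).ker = 40 := by
  let f : ↥M.eG × Fin 5 → ↥(F.act Cc hT D).ker := fun p =>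
    ⟨⟨(p.1 : G) * (F.c : G) ^ (p.2 : ℕ),
      mul_mem (F.eG_le_K p.1.2) (pow_mem (mem_centralizer_singleton_iff.2 rfl) _)⟩,
      (F.mem_ker Cc hT D).2 fun a ha => (((show Commute (p.1 : G) a from M.eG_comm p.1.2 ha)).mul_left
        ((show Commute (F.c : G) a from (mem_centralizer_singleton_iff.1 (F.eG_le_K ha)).symm).pow_left _)).eq⟩
  have hf : Function.Bijective f := by
    refine ⟨?_, fun k => ?_⟩
    · rintro ⟨e, i⟩ ⟨e', j⟩ h
      have h' : (e : G) * (F.c : G) ^ (i : ℕ) = (e' : G) * (F.c : G) ^ (j : ℕ) :=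
        congrArg (fun t : ↥(F.act Cc hT D).ker => ((t : ↥F.K) : G)) h
      have hmem : (F.c : G) ^ ((i : ℕ) + (5 - j)) ∈ M.eG := by
        have e1 : (F.c : G) ^ ((i : ℕ) + (5 - j)) = (e : G)⁻¹ * e' := by
          rw [pow_add, ← inv_mul_cancel_left (e : G) ((F.c : G) ^ (i : ℕ)), h', mul_assoc, mul_assoc, ← pow_add,
            show (j : ℕ) + (5 - j) = 5 by omega, F.c_pow_five, mul_one]
        rw [e1]; exact mul_mem (inv_mem e.2) e'.2
      rw [pow_eq_pow_mod _ F.c_pow_five] at hmem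
      have := F.pow_mem_eG (Nat.mod_lt _ (by norm_num)) hmem
      have hij : i = j := Fin.ext (by omega)
      subst hij
      exact Prod.ext (Subtype.ext (mul_right_cancel h')) rfl
    · obtain ⟨e, he, a, ha, hk⟩ := F.mem_cent_eG Cc hT D k.1.2 ((F.mem_ker Cc hT D).1 k.2)
      exact ⟨(⟨e, he⟩, ⟨a, ha⟩), Subtype.ext (Subtype.ext hk.symm)⟩
  rw [← Nat.card_congr (Equiv.ofBijective f hf), Nat.card_prod, M.card_eG, Nat.card_fin]

theorem card_K : Nat.card ↥F.K = 6720 := by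
  classical
  letI : MulAction ↥F.K ↥M.eG := MulAction.compHom _ (F.act Cc hT D)
  have hsmul : ∀ (k : ↥F.K) (a : ↥M.eG), k • a = F.act Cc hT D k a := fun _ _ => rfl
  set zE : ↥M.eG := ⟨z, M.z_mem_eG⟩
  have horb : MulAction.orbit ↥F.K zE = ({1} : Set ↥M.eG)ᶜ := by
    ext a
    constructor
    · rintro ⟨k, rfl⟩ (h : k • zE = 1)
      rw [hsmul, map_eq_one_iff _ (F.act Cc hT D k).injective] at h
      exact M.ctx.xs.ne_one (congrArg Subtype.val h)
    · intro ha
      obtain ⟨g, hg, -, hgz⟩ := F.exists_move Cc hT a.2 fun h => ha (Subtype.ext h)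
      refine ⟨⟨g, hg⟩⁻¹, Subtype.ext ?_⟩
      show g⁻¹ * z * g⁻¹⁻¹ = a
      exact (congrArg (fun t => g⁻¹ * t * g⁻¹⁻¹) hgz.symm).trans (by group)
  have hstab : Nat.card ↥(MulAction.stabilizer ↥F.K zE) = 960 := by
    rw [← F.card_cent]
    refine Nat.card_congr
      { toFun := fun k => ⟨⟨k.1.1, mem_centralizer_singleton_iff.2
          (mul_inv_eq_iff_eq_mul.1 (congrArg Subtype.val k.2))⟩, (F.mem_cent' _).1 k.1.2⟩
        invFun := fun h => ⟨⟨h.1.1, (F.mem_cent' h.1.2).2 h.2⟩,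
          Subtype.ext (mul_inv_eq_iff_eq_mul.2 (mem_centralizer_singleton_iff.1 h.1.2))⟩
        left_inv := fun _ => rfl
        right_inv := fun _ => rfl }
  rw [← (MulAction.stabilizer ↥F.K zE).card_mul_index, MulAction.index_stabilizer, hstab, horb, Set.ncard_compl,
    Set.ncard_singleton, M.card_eG]

/-- The square of five does not divide the order of the group. -/
theorem not_sq_dvd : ¬ (25 ∣ Nat.card G) := by
  intro h
  haveI : Fact (Nat.Prime 5) := ⟨by norm_num⟩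
  obtain ⟨S, hS, hle⟩ := Sylow.exists_subgroup_card_pow_prime_le (p := 5) (n := 1) (m := 2)
    (show 5 ^ 2 ∣ Nat.card G by norm_num; exact h) (zpowers (F.c : G))
    (by rw [Nat.card_zpowers, F.order', pow_one]) (by norm_num)
  haveI : IsMulCommutative ↥S := IsPGroup.isMulCommutative_of_card_eq_prime_sq (p := 5) hS
  have hSK : S ≤ F.K := fun s hs => mem_centralizer_singleton_iff.2
    (congrArg Subtype.val (IsMulCommutative.is_comm.comm (⟨s, hs⟩ : ↥S) ⟨_, hle (mem_zpowers _)⟩))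
  have hdvd := card_dvd_of_le hSK
  rw [hS, F.card_K Cc hT D] at hdvd
  norm_num at hdvd

/-- The complement and its extension structure. -/
theorem exists_J : ∃ J : Subgroup G, Cfsg.IsInternalDirectProduct (zpowers (F.c : G)) J F.K ∧
    M.eG ≤ J ∧ ∃ (E : Subgroup ↥J) (_ : E.Normal), E = M.eG.subgroupOf J ∧ Cfsg.IsElementaryAbelian 2 E ∧ Nat.card ↥E = 8 ∧
      Nonempty (↥J ⧸ E ≃* Matrix.SpecialLinearGroup (Fin 3) (ZMod 2)) ∧ ∀ K : Subgroup ↥J, ¬ E.IsComplement' K := by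
  classical
  have hcK : (F.c : G) ∈ F.K := mem_centralizer_singleton_iff.2 rfl
  set N := (zpowers (F.c : G)).subgroupOf F.K with hN
  have hzle : zpowers (F.c : G) ≤ F.K := zpowers_le.2 hcK
  have hcen : ∀ t ∈ zpowers (F.c : G), ∀ k ∈ F.K, t * k = k * t := fun t ht k hk => by
    obtain ⟨i, rfl⟩ := mem_zpowers_iff.1 ht
    exact ((show Commute (F.c : G) k from (mem_centralizer_singleton_iff.1 hk).symm).zpow_left i).eq
  haveI : N.Normal := ⟨fun n hn k => by
    have : k * n * k⁻¹ = n := Subtype.ext (mul_inv_eq_iff_eq_mul.2 (hcen _ (mem_subgroupOf.1 hn) _ k.2).symm)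
    rwa [this]⟩
  have hcN : Nat.card ↥N = 5 := by
    rw [Nat.card_congr (subgroupOfEquivOfLe hzle).toEquiv, Nat.card_zpowers, F.order']
  have hiN : N.index = 1344 := by
    have h := N.card_mul_index
    rw [hcN, F.card_K Cc hT D] at h
    omega
  obtain ⟨J', hJ'⟩ := Subgroup.exists_right_complement'_of_coprime (N := N) (by rw [hcN, hiN]; norm_num)
  set J := J'.map F.K.subtype with hJ
  have hJK : J ≤ F.K := map_subtype_le _
  have hJ'' : Nat.card ↥J = 1344 := by
    rw [hJ, card_map_of_injective F.K.subtype_injective]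
    have h := hJ'.card_mul
    rw [hcN, F.card_K Cc hT D] at h
    omega
  have hdisj : zpowers (F.c : G) ⊓ J = ⊥ := by
    refine (Subgroup.eq_bot_iff_forall _).2 fun t ht => ?_
    obtain ⟨ht1, j, hj, rfl⟩ := ht
    exact congrArg Subtype.val (Subgroup.disjoint_def.1 hJ'.disjoint (mem_subgroupOf.2 ht1) hj)
  have hdec : ∀ k ∈ F.K, ∃ t ∈ zpowers (F.c : G), ∃ j ∈ J, k = t * j := fun k hk => by
    obtain ⟨⟨n, j⟩, e, -⟩ := hJ'.existsUnique (⟨k, hk⟩ : ↥F.K)
    exact ⟨_, mem_subgroupOf.1 n.2, _, mem_map_of_mem _ j.2, (congrArg Subtype.val e).symm⟩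
  have hdp : Cfsg.IsInternalDirectProduct (zpowers (F.c : G)) J F.K := by
    refine ⟨hzle, hJK, fun a ha b hb => hcen a ha b (hJK hb), hdisj, le_antisymm (sup_le hzle hJK) fun k hk => ?_⟩
    obtain ⟨t, ht, j, hj, rfl⟩ := hdec k hk
    exact mul_mem_sup ht hj
  have htwo : ∀ k ∈ F.K, k ^ 4 = 1 → k ∈ J := fun k hk h4 => by
    obtain ⟨t, ht, j, hj, rfl⟩ := hdec k hk
    rw [(show Commute t j from hcen t ht j (hJK hj)).mul_pow] at h4
    have hmem : t ^ 4 ∈ zpowers (F.c : G) ⊓ J :=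
      mem_inf.2 ⟨pow_mem ht 4, by rw [eq_inv_of_mul_eq_one_left h4]; exact inv_mem (pow_mem hj 4)⟩
    rw [hdisj, mem_bot] at hmem
    have h5 : t ^ 5 = 1 := by
      obtain ⟨i, rfl⟩ := mem_zpowers_iff.1 ht
      rw [← zpow_natCast, ← zpow_mul, mul_comm, zpow_mul, zpow_natCast, F.c_pow_five, one_zpow]
    rw [pow_succ, hmem, one_mul] at h5
    rw [h5, one_mul]; exact hj
  have hEJ : M.eG ≤ J := fun a ha => htwo a (F.eG_le_K ha) (by
    rw [show (4 : ℕ) = 2 * 2 from rfl, pow_mul, pow_two a, M.eG_sq a ha, one_pow])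
  refine ⟨J, hdp, hEJ, ?_⟩
  set E := M.eG.subgroupOf J with hE
  let ψ : ↥J →* MulAut ↥M.eG := (F.act Cc hT D).comp (Subgroup.inclusion hJK)
  have hkerψ : ψ.ker = E := by
    ext j
    rw [MonoidHom.mem_ker, hE, mem_subgroupOf]
    refine Iff.trans (MonoidHom.mem_ker (f := F.act Cc hT D) (x := Subgroup.inclusion hJK j)).symm ?_
    rw [F.mem_ker Cc hT D]
    constructor
    · intro h
      obtain ⟨e, he, a, -, hk⟩ := F.mem_cent_eG Cc hT D (hJK j.2) h
      have hmem : (F.c : G) ^ a ∈ zpowers (F.c : G) ⊓ J := mem_inf.2 ⟨pow_mem (mem_zpowers _) a, by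
        rw [show (F.c : G) ^ a = e⁻¹ * j by rw [show (j : G) = e * (F.c : G) ^ a from hk, inv_mul_cancel_left]]
        exact mul_mem (inv_mem (hEJ he)) j.2⟩
      rw [hdisj, mem_bot] at hmem
      rw [show (j : G) = e * (F.c : G) ^ a from hk, hmem, mul_one]
      exact he
    · exact fun h a ha => M.eG_comm h ha
  haveI hEn : E.Normal := hkerψ ▸ ψ.normal_ker
  have hcE : Nat.card ↥E = 8 := by rw [Nat.card_congr (subgroupOfEquivOfLe hEJ).toEquiv, M.card_eG]
  have hsurj : Function.Surjective ψ := by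
    rw [← MonoidHom.range_eq_top]
    refine Subgroup.eq_top_of_card_eq _ ?_
    have h := ψ.ker.card_eq_card_quotient_mul_card_subgroup
    rw [Nat.card_congr (QuotientGroup.quotientKerEquivRange ψ).toEquiv, hkerψ, hcE, hJ''] at h
    rw [card_aut_eight _ (fun a => Subtype.ext (M.eG_sq _ a.2)) M.card_eG]
    omega
  refine ⟨E, hEn, hE, ⟨⟨⟨fun a b => Subtype.ext (Subtype.ext (M.eG_comm (mem_subgroupOf.1 a.2) (mem_subgroupOf.1 b.2)))⟩⟩,
    fun a ha => ?_⟩, hcE, ?_, fun K' hK' => ?_⟩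
  · rw [pow_two]; exact Subtype.ext (M.eG_sq _ (mem_subgroupOf.1 ha))
  · obtain ⟨e⟩ := aut_eight ↥M.eG (fun a => Subtype.ext (M.eG_sq _ a.2)) M.card_eG
    exact ⟨((QuotientGroup.quotientMulEquivOfEq hkerψ.symm).trans
      (QuotientGroup.quotientKerEquivOfSurjective ψ hsurj)).trans e⟩
  have hsplit : ∀ j ∈ J, ∃ e ∈ M.eG, ∃ k : ↥J, k ∈ K' ∧ j = e * k := fun j hj => by
    obtain ⟨⟨e, k⟩, h, -⟩ := hK'.existsUnique (⟨j, hj⟩ : ↥J)
    exact ⟨_, mem_subgroupOf.1 e.2, k, k.2, (congrArg Subtype.val h).symm⟩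
  have hone : ∀ k : ↥J, k ∈ K' → (k : G) ∈ M.eG → k = 1 := fun k hk hke =>
    Subgroup.disjoint_def.1 hK'.disjoint (mem_subgroupOf.2 hke) hk
  have hcls : ∀ x : ↥(QG M.Q), ∀ hxJ : (x : G) ∈ J, (⟨(x : G), hxJ⟩ : ↥J) ∈ K' → (x : G) * x = 1 := by
    intro x hxJ hk
    have h2 : ((x * x : ↥(QG M.Q)) : G) ∈ M.eG := M.mem_eG.2 (by rw [M.vec_mul, Nat.xor_self]; simp)
    exact congrArg Subtype.val (hone (⟨(x : G), hxJ⟩ * ⟨(x : G), hxJ⟩) (mul_mem hk hk) h2)
  have hlift : ∀ v ∈ cVecs, ∃ (x : ↥(QG M.Q)) (hxJ : (x : G) ∈ J), M.vec x = v ∧ (⟨(x : G), hxJ⟩ : ↥J) ∈ K' := by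
    obtain ⟨-, hf2, -, hcv, -, -, hfl, -⟩ := FiveTab.fix_classes
    obtain ⟨x, hx⟩ := M.vec_surj 6 (by norm_num)
    have hxK : (x : G) ∈ F.K :=
      mem_centralizer_singleton_iff.2 ((F.comm_iff x).2 (by rw [hx]; exact (hcv 6 (by simp [cVecs])).2.2)).symm
    have hq : qbit 6 = false := by decide +kernel
    have hxJ : (x : G) ∈ J := htwo _ hxK (by
      rw [show (4 : ℕ) = 2 * 2 from rfl, pow_mul, pow_two (x : G), (M.sq_iff x).2 (by rw [hx]; exact hq), one_pow])
    obtain ⟨e, ⟨u, rfl, hu⟩, k, hk, hxk⟩ := hsplit _ hxJ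
    set y := u⁻¹ * x with hy
    have hky : (k : G) = y := by rw [hy]; simp [hxk]
    have hyJ : (y : G) ∈ J := hky ▸ k.2
    have hyk : (⟨(y : G), hyJ⟩ : ↥J) = k := Subtype.ext hky.symm
    have hyv : M.vec y ∈ cVecs := by
      have hyK : (y : G) ∈ F.K := hJK hyJ
      have hyf := (F.comm_iff y).1 (mem_centralizer_singleton_iff.1 hyK).symm
      refine hf2 _ hyf ?_
      have hq2 := (M.sq_iff y).1 (hcls y hyJ (hyk ▸ hk))
      rw [cls_qbit _ (M.vec_lt y)] at hq2
      have hne : M.vec y ∉ 0 :: ell := fun h => by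
        have := hone k hk (hky ▸ M.mem_eG.2 h)
        have hy1 : (y : G) = 1 := by rw [← hky, this]; rfl
        rw [show x = u * y by rw [hy]; group, M.vec_mul, M.vec_eq_zero.2 (Or.inl hy1), Nat.xor_zero] at hx
        rw [hx] at hu
        exact absurd hu (by decide)
      have h3 : cls (M.vec y) ≠ 3 := fun h => by rw [h] at hq2; simp at hq2
      have := (hfl _ hyf).2.2
      rcases (show cls (M.vec y) = 0 ∨ cls (M.vec y) = 1 ∨ cls (M.vec y) = 2 by omega) with h | h | h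
      · exact absurd (by rw [ell_xor.2.1 _ hyf h]; simp) hne
      · exact absurd (List.mem_cons_of_mem _ (FiveTab.fix_classes.1 _ hyf h)) hne
      · exact h
    intro v hv
    obtain ⟨C, hC, hCv⟩ := FiveTab.c_orbit.1 _ hyv v hv
    obtain ⟨L, hL, hLa⟩ := F.exists_lift hC
    have hLK : (L : G) ∈ F.K := (F.mem_cent' L.2).2 (F.mem_cent.2 hL)
    obtain ⟨t, ht, j, hj, hLtj⟩ := hdec _ hLK
    obtain ⟨e, he, k', hk', hjk⟩ := hsplit j hj
    set w := M.ctx.conjQ L y with hw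
    have hyc : ∀ {s : G}, s ∈ zpowers (F.c : G) → s * y = y * s := fun hs => hcen _ hs _ (hJK hyJ)
    have hwy : (w : G) = e * ((k' : G) * y * (k' : G)⁻¹) * e⁻¹ := by
      show (L : G) * y * (L : G)⁻¹ = _
      rw [hLtj, hjk, show t * (e * (k' : G)) = e * k' * t from hcen t ht _
        (mul_mem (F.eG_le_K he) (hJK k'.2)), show e * (k' : G) * t * y * (e * (k' : G) * t)⁻¹ =
        e * (k' : G) * (t * y * t⁻¹) * (e * (k' : G))⁻¹ by group, hyc ht, mul_inv_cancel_right]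
      group
    obtain ⟨u', rfl, hu'⟩ := he
    set w' := u'⁻¹ * w * u' with hw'
    have hw'k : (w' : G) = (k' : G) * y * (k' : G)⁻¹ := by
      rw [hw']; simp [hwy, mul_assoc]
    have hw'J : (w' : G) ∈ J := hw'k ▸ mul_mem (mul_mem k'.2 hyJ) (inv_mem k'.2)
    refine ⟨w', hw'J, ?_, ?_⟩
    · rw [hw', M.vec_mul, M.vec_mul, M.vec_inv, Nat.xor_comm (M.vec u'), Nat.xor_assoc, Nat.xor_self, Nat.xor_zero, hw, hLa,
        hCv]
    · have : (⟨(w' : G), hw'J⟩ : ↥J) = k' * ⟨(y : G), hyJ⟩ * k'⁻¹ := Subtype.ext hw'k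
      rw [this, hyk]
      exact mul_mem (mul_mem hk' hk) (inv_mem hk')
  obtain ⟨a, haJ, hav, haK⟩ := hlift 6 (by simp [cVecs])
  obtain ⟨b, hbJ, hbv, hbK⟩ := hlift 7 (by simp [cVecs])
  have h2 := hcls (a * b) (mul_mem haJ hbJ) (mul_mem haK hbK)
  have hq := (M.sq_iff (a * b)).1 h2
  rw [M.vec_mul, hav, hbv, cls_qbit _ (Nat.xor_lt_two_pow (n := 12) (by norm_num) (by norm_num)),
    FiveTab.sq_spec.2.2.1] at hq
  simp at hq

omit Cc hT D in
/-- A lift of the normalising matrix of order four. -/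
theorem exists_norm_four : ∃ n : G, n ^ 4 = 1 ∧ n * (F.c : G) * n⁻¹ = (F.c : G) ^ 2 := by
  obtain ⟨n, hnP, hna, hnc⟩ := F.exists_norm
  refine ⟨n, ?_, by simpa using congrArg Subtype.val hnc⟩
  have h : n * n * (n * n) = 1 := M.sq_one_of_conj (w := FiveTab.wordSq) (j := 14) FiveTab.sq_spec.1 (by norm_num)
    FiveTab.sq_spec.2.1 ((InN.of_cent hnP).mul (InN.of_cent hnP)) (M.acts_mul hna hna)
  have := congrArg Subtype.val h
  simpa [pow_succ, mul_assoc] using this

/-- The subgroup of order twenty and the order of the normaliser. -/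
theorem normalizer_facts :
    (∃ R : Subgroup G, zpowers (F.c : G) ≤ R ∧ R ≤ normalizer (zpowers (F.c : G) : Set G) ∧ Nat.card ↥R = 20 ∧
      R ⊓ F.K = zpowers (F.c : G)) ∧
    Nat.card ↥(normalizer (zpowers (F.c : G) : Set G)) = 2 ^ 8 * 3 * 5 * 7 := by
  classical
  obtain ⟨n, hn4, hnc⟩ := F.exists_norm_four
  set Z := zpowers (F.c : G) with hZ
  have hnN : n ∈ normalizer (Z : Set G) := by
    refine mem_normalizer_fintype fun v hv => ?_
    obtain ⟨i, rfl⟩ := mem_zpowers_iff.1 hv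
    rw [← conj_zpow, hnc]
    exact zpow_mem (pow_mem (mem_zpowers _) 2) i
  set ρ := Z.normalizerMonoidHom with hρ
  have hker : ρ.ker = F.K.subgroupOf (normalizer (Z : Set G)) := by
    rw [hρ, Subgroup.normalizerMonoidHom_ker, hZ, Subgroup.zpowers_eq_closure, Subgroup.centralizer_closure]
  have hKN : F.K ≤ normalizer (Z : Set G) := by
    rw [show F.K = centralizer (Z : Set G) by rw [hZ, Subgroup.zpowers_eq_closure, Subgroup.centralizer_closure]]
    exact centralizer_le_normalizer _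
  have hpow : ∀ i : ℕ, n ^ i * (F.c : G) * (n ^ i)⁻¹ = (F.c : G) ^ (2 ^ i) := by
    intro i
    induction i with
    | zero => simp
    | succ i ih =>
      rw [pow_succ', show n * n ^ i * (F.c : G) * (n * n ^ i)⁻¹ = n * (n ^ i * (F.c : G) * (n ^ i)⁻¹) * n⁻¹ by group,
        ih, ← conj_pow, hnc, ← pow_mul, ← pow_succ']
  have hinj : ∀ i < 4, n ^ i ∈ F.K → i = 0 := by
    intro i hi h
    have h1 : (F.c : G) ^ (2 ^ i) = F.c := by
      rw [← hpow i, mem_centralizer_singleton_iff.1 h, mul_inv_cancel_right]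
    nth_rewrite 2 [← pow_one (F.c : G)] at h1
    rw [pow_inj_mod, F.order'] at h1
    interval_cases i <;> simp_all
  have hno : orderOf n = 4 := by
    rw [show (4 : ℕ) = 2 ^ (1 + 1) from rfl]
    haveI : Fact (Nat.Prime 2) := ⟨Nat.prime_two⟩
    refine orderOf_eq_prime_pow (fun h => ?_) (by simpa using hn4)
    have h2 := hinj 2 (by norm_num) (by rw [show (2 : ℕ) = 2 ^ 1 from rfl, h]; exact one_mem _)
    norm_num at h2
  have hcard : Nat.card ↥(normalizer (Z : Set G)) = 4 * 6720 := by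
    have h := ρ.ker.card_eq_card_quotient_mul_card_subgroup
    rw [Nat.card_congr (QuotientGroup.quotientKerEquivRange ρ).toEquiv, hker,
      Nat.card_congr (subgroupOfEquivOfLe hKN).toEquiv, F.card_K Cc hT D] at h
    have hr : Nat.card ↥ρ.range = 4 := by
      refine le_antisymm ?_ ?_
      · refine le_trans (Subgroup.card_le_card_group _) ?_
        rw [IsCyclic.card_mulAut, Nat.card_zpowers, F.order', Nat.totient_prime (by norm_num)]
      · let f : Fin 4 → ↥ρ.range := fun i => ⟨ρ ⟨n ^ (i : ℕ), pow_mem hnN _⟩, _, rfl⟩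
        have hf : Function.Injective f := by
          intro i j hij
          have h1 : ρ ⟨n ^ (i : ℕ), pow_mem hnN _⟩ = ρ ⟨n ^ (j : ℕ), pow_mem hnN _⟩ := congrArg Subtype.val hij
          rw [MonoidHom.eq_iff, hker, mem_subgroupOf] at h1
          have h2 : n ^ (((i : ℕ) + (4 - j)) % 4) ∈ F.K := by
            rw [← pow_eq_pow_mod _ hn4, pow_add, show n ^ (4 - (j : ℕ)) = (n ^ (j : ℕ))⁻¹ by
              rw [eq_inv_iff_mul_eq_one, ← pow_add, show 4 - (j : ℕ) + j = 4 by omega, hn4]]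
            have hco : n ^ (i : ℕ) * (n ^ (j : ℕ))⁻¹ = (n ^ (j : ℕ))⁻¹ * n ^ (i : ℕ) :=
              ((Commute.pow_pow (Commute.refl n) _ _).inv_right).eq
            rw [hco]
            exact h1
          have := hinj _ (Nat.mod_lt _ (by norm_num)) h2
          exact Fin.ext (by omega)
        simpa using Nat.card_le_card_of_injective f hf
    rw [h, hr]
  refine ⟨⟨Z ⊔ zpowers n, le_sup_left, sup_le le_normalizer (zpowers_le.2 hnN), ?_, ?_⟩, by rw [hcard]; norm_num⟩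
  · let f : Fin 5 × Fin 4 → ↥(Z ⊔ zpowers n) := fun p =>
      ⟨(F.c : G) ^ (p.1 : ℕ) * n ^ (p.2 : ℕ), mul_mem_sup (pow_mem (mem_zpowers _) _) (pow_mem (mem_zpowers _) _)⟩
    have hf : Function.Bijective f := by
      constructor
      · rintro ⟨a, i⟩ ⟨b, j⟩ h
        have h' : (F.c : G) ^ (a : ℕ) * n ^ (i : ℕ) = (F.c : G) ^ (b : ℕ) * n ^ (j : ℕ) := congrArg Subtype.val h
        have hmem : n ^ (((i : ℕ) + (4 - j)) % 4) ∈ F.K := by
          rw [← pow_eq_pow_mod _ hn4, pow_add, show n ^ (i : ℕ) = ((F.c : G) ^ (a : ℕ))⁻¹ * ((F.c : G) ^ (b : ℕ) *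
            n ^ (j : ℕ)) by rw [← h', inv_mul_cancel_left], mul_assoc, mul_assoc, ← pow_add,
            show (j : ℕ) + (4 - j) = 4 by omega, hn4, mul_one]
          exact mul_mem (inv_mem (pow_mem (mem_centralizer_singleton_iff.2 rfl) _))
            (pow_mem (mem_centralizer_singleton_iff.2 rfl) _)
        have := hinj _ (Nat.mod_lt _ (by norm_num)) hmem
        have hij : i = j := Fin.ext (by omega)
        subst hij
        have h3 := mul_right_cancel h'
        rw [pow_inj_mod, F.order', Nat.mod_eq_of_lt a.2, Nat.mod_eq_of_lt b.2] at h3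
        exact Prod.ext (Fin.ext h3) rfl
      · rintro ⟨g, hg⟩
        rw [← SetLike.mem_coe, Subgroup.coe_mul_of_right_le_normalizer_left Z (zpowers n) (zpowers_le.2 hnN)] at hg
        obtain ⟨a, ha, b, hb, rfl⟩ := Set.mem_mul.1 hg
        obtain ⟨k, hk, rfl⟩ := (isOfFinOrder_of_finite (F.c : G)).mem_zpowers_iff_mem_range_orderOf.1 ha |>
          Finset.mem_image.1
        obtain ⟨l, hl, rfl⟩ := (isOfFinOrder_of_finite n).mem_zpowers_iff_mem_range_orderOf.1 hb |>
          Finset.mem_image.1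
        rw [Finset.mem_range, F.order'] at hk
        rw [Finset.mem_range, hno] at hl
        exact ⟨(⟨k, hk⟩, ⟨l, hl⟩), rfl⟩
    rw [← Nat.card_congr (Equiv.ofBijective f hf), Nat.card_prod, Nat.card_fin, Nat.card_fin]
  · refine le_antisymm ?_ (le_inf le_sup_left (zpowers_le.2 (mem_centralizer_singleton_iff.2 rfl)))
    intro g hg
    obtain ⟨hg, hgK⟩ := mem_inf.1 hg
    rw [← SetLike.mem_coe] at hg
    rw [Subgroup.coe_mul_of_right_le_normalizer_left Z (zpowers n) (zpowers_le.2 hnN)] at hg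
    obtain ⟨a, ha, b, hb, rfl⟩ := Set.mem_mul.1 hg
    obtain ⟨l, hl, rfl⟩ := (isOfFinOrder_of_finite n).mem_zpowers_iff_mem_range_orderOf.1 hb |> Finset.mem_image.1
    rw [Finset.mem_range, hno] at hl
    have haK : a ∈ F.K := (zpowers_le.2 (mem_centralizer_singleton_iff.2 rfl)) ha
    have := hinj l hl (by
      have := mul_mem (inv_mem haK) hgK
      rwa [inv_mul_cancel_left] at this)
    rw [this, pow_zero, mul_one]
    exact ha

end Model.Five

namespace Model

variable {G : Type*} [Group G] [Finite G] {z : G} {P : Subgroup G} (M : Model z P)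

/-- The local structure at five for any subgroup of order five of the centraliser of the involution. -/
theorem five_local {B : BigData M} (Cc : BigCoords B)
    (hT : ∀ n < 2048, (Orb.tMask.testBit n = true ↔ n ≠ 0 ∧ ¬ IsConj z (Cc.el n))) (D : BigPack z B.V)
    (Q : Subgroup G) (hQ : Nat.card ↥Q = 5) (hQz : Q ≤ centralizer ({z} : Set G)) :
    ¬ (25 ∣ Nat.card G) ∧
    (∃ J : Subgroup G, Cfsg.IsInternalDirectProduct Q J (centralizer (Q : Set G)) ∧
      ∃ (E : Subgroup ↥J) (_ : E.Normal), Cfsg.IsElementaryAbelian 2 E ∧ Nat.card ↥E = 8 ∧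
        Nonempty (↥J ⧸ E ≃* Matrix.SpecialLinearGroup (Fin 3) (ZMod 2)) ∧ ∀ K : Subgroup ↥J, ¬ E.IsComplement' K) ∧
    (∃ R : Subgroup G, Q ≤ R ∧ R ≤ normalizer (Q : Set G) ∧ Nat.card ↥R = 20 ∧
      R ⊓ centralizer (Q : Set G) = Q) ∧
    Nat.card ↥(normalizer (Q : Set G)) = 2 ^ 8 * 3 * 5 * 7 := by
  haveI : Fact (Nat.Prime 5) := ⟨by norm_num⟩
  obtain ⟨F⟩ := M.exists_five
  obtain ⟨d, hd⟩ := exists_prime_orderOf_dvd_card' (G := ↥Q) 5 (by rw [hQ])
  have hQd : Q = zpowers (d : G) := (Subgroup.eq_of_le_of_card_ge (zpowers_le.2 d.2)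
    (by rw [Nat.card_zpowers, Subgroup.orderOf_coe, hd, hQ])).symm
  set d' : ↥(centralizer ({z} : Set G)) := ⟨d, hQz d.2⟩
  have hd'o : orderOf d' = 5 := by
    rw [← Subgroup.orderOf_coe]
    exact (Subgroup.orderOf_coe d).trans hd
  obtain ⟨y, hy, hy'⟩ := M.exists_conj_five F (d := d') (by rw [← hd'o, pow_orderOf_eq_one])
    (fun h => by rw [h, orderOf_one] at hd'o; norm_num at hd'o)
  set σ : G ≃* G := MulAut.conj (y : G)⁻¹ with hσ
  have hmap : (zpowers (F.c : G)).map σ.toMonoidHom = Q := by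
    rw [hQd, MonoidHom.map_zpowers]
    refine le_antisymm (zpowers_le.2 ?_) (zpowers_le.2 ?_)
    · obtain ⟨i, hi⟩ := mem_zpowers_iff.1 (hy' F.c (mem_zpowers _))
      refine ⟨i, ?_⟩
      have := congrArg Subtype.val hi
      simpa [hσ] using this
    · obtain ⟨i, hi⟩ := mem_zpowers_iff.1 hy
      refine ⟨i, ?_⟩
      have := congrArg Subtype.val hi
      show (σ.toMonoidHom (F.c : G)) ^ i = d
      rw [← map_zpow, ← SubgroupClass.coe_zpow, this]
      simp [hσ, d', mul_assoc]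
  have hcent : F.K.map σ.toMonoidHom = centralizer (Q : Set G) := by
    rw [← hmap, show F.K = centralizer (zpowers (F.c : G) : Set G) by
      rw [Subgroup.zpowers_eq_closure, Subgroup.centralizer_closure]]
    ext g
    simp only [mem_map, mem_centralizer_iff, coe_map, Set.forall_mem_image]
    constructor
    · rintro ⟨a, ha, rfl⟩ b hb
      rw [← map_mul, ha b hb, map_mul]
    · intro h
      refine ⟨σ.symm g, fun b hb => σ.injective ?_, σ.apply_symm_apply g⟩
      rw [map_mul, map_mul, σ.apply_symm_apply]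
      exact h hb
  have hnorm : (normalizer (zpowers (F.c : G) : Set G)).map σ.toMonoidHom = normalizer (Q : Set G) := by
    rw [← hmap, map_equiv_normalizer_eq]
  obtain ⟨J, ⟨h1, h2, h3, h4, h5⟩, -, E, hEn, -, hEe, hEc, ⟨e⟩, hns⟩ := F.exists_J Cc hT D
  obtain ⟨⟨R, r1, r2, r3, r4⟩, hN⟩ := F.normalizer_facts Cc hT D
  refine ⟨F.not_sq_dvd Cc hT D, ⟨J.map σ.toMonoidHom, ⟨(hmap.symm.le.trans ((map_mono h1).trans hcent.le)), (map_mono h2).trans hcent.le, ?_, ?_, ?_⟩, ?_⟩,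
    ⟨R.map σ.toMonoidHom, hmap.symm.le.trans (map_mono r1), (map_mono r2).trans hnorm.le, ?_, ?_⟩, ?_⟩
  · rw [← hmap]
    rintro _ ⟨a, ha, rfl⟩ _ ⟨b, hb, rfl⟩
    rw [← map_mul, h3 a ha b hb, map_mul]
  · rw [← hmap, ← map_inf _ _ _ σ.injective, h4, Subgroup.map_bot]
  · rw [← hmap, ← Subgroup.map_sup, h5, hcent, hmap]
  · set τ := J.equivMapOfInjective σ.toMonoidHom σ.injective
    haveI := hEn
    haveI : (E.map (τ : ↥J →* ↥(J.map σ.toMonoidHom))).Normal := Subgroup.Normal.map hEn _ τ.surjective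
    refine ⟨E.map τ.toMonoidHom, Subgroup.Normal.map hEn _ τ.surjective, ?_, ?_, ?_, fun K hK => ?_⟩
    · refine ⟨⟨⟨?_⟩⟩, ?_⟩
      · rintro ⟨_, a, ha, rfl⟩ ⟨_, b, hb, rfl⟩
        refine Subtype.ext ?_
        show τ a * τ b = τ b * τ a
        rw [← map_mul, ← map_mul]
        exact congrArg τ (congrArg Subtype.val (hEe.1.1.1 ⟨a, ha⟩ ⟨b, hb⟩))
      · rintro _ ⟨a, ha, rfl⟩
        rw [← map_pow, hEe.2 a ha, map_one]
    · rw [card_map_of_injective τ.injective, hEc]
    · exact ⟨(QuotientGroup.congr E _ τ rfl).symm.trans e⟩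
    · refine hns (K.comap τ.toMonoidHom) ?_
      refine Subgroup.isComplement'_of_disjoint_and_mul_eq_univ ?_ ?_
      · rw [Subgroup.disjoint_def]
        intro x hxE hxK
        exact (map_eq_one_iff _ τ.injective).1
          (Subgroup.disjoint_def.1 hK.disjoint (mem_map_of_mem τ.toMonoidHom hxE) hxK)
      · refine Set.eq_univ_of_forall fun x => ?_
        obtain ⟨⟨⟨_, a, ha, rfl⟩, k⟩, hak, -⟩ := hK.existsUnique (τ x)
        refine Set.mem_mul.2 ⟨a, ha, τ.symm k, ?_, τ.injective ?_⟩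
        · show τ (τ.symm k) ∈ K
          rw [τ.apply_symm_apply]; exact k.2
        · rw [map_mul, τ.apply_symm_apply]; exact hak
  · rw [card_map_of_injective σ.injective, r3]
  · rw [← hcent, ← map_inf _ _ _ σ.injective, r4, hmap]
  · rw [← hnorm, card_map_of_injective σ.injective, hN]

end Model

end Cfsg.Agent.JankoFour
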