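import Cfsg.Agent.Lib.Classical.SL
import Mathlib.LinearAlgebra.Matrix.GeneralLinearGroup.Basic
import Mathlib.Algebra.Module.ZMod

/-!
The automorphism group of an elementary abelian group of order eight.
-/

set_option autoImplicit false

namespace Cfsg.Agent.JankoFour

theorem card_sl32 : Nat.card (GL (Fin 3) (ZMod 2)) = 168 ∧
    Nat.card (Matrix.SpecialLinearGroup (Fin 3) (ZMod 2)) = 168 := by
  haveI : Fact (Nat.Prime 2) := ⟨Nat.prime_two⟩
  have h2 : Nat.card (ZMod 2) = 2 := Nat.card_zmod 2
  have hgl : Nat.card (GL (Fin 3) (ZMod 2)) = 168 := by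
    rw [ClassicalSL.card_gl_fin h2 3]; decide
  have h := ClassicalSL.card_sl_mul (ι := Fin 3) (F := ZMod 2)
  rw [h2, hgl] at h
  exact ⟨hgl, by omega⟩

/-- The automorphisms of an elementary abelian group of order eight form the special linear group. -/
theorem aut_eight (E : Type*) [Group E] [Finite E] (h2 : ∀ a : E, a * a = 1) (hc : Nat.card E = 8) :
    Nonempty (MulAut E ≃* Matrix.SpecialLinearGroup (Fin 3) (ZMod 2)) := by
  haveI : Fact (Nat.Prime 2) := ⟨Nat.prime_two⟩
  have hi : ∀ a : E, a⁻¹ = a := fun a => inv_eq_of_mul_eq_one_right (h2 a)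
  letI : CommGroup E := { (inferInstance : Group E) with
    mul_comm := fun a b => by rw [← hi (a * b), mul_inv_rev, hi, hi] }
  have h2' : ∀ a : Additive E, 2 • a = 0 := fun a => by
    rw [two_nsmul]
    exact congrArg Additive.ofMul (h2 a.toMul)
  letI : Module (ZMod 2) (Additive E) := AddCommGroup.zmodModule h2'
  haveI : Finite (Additive E) := Finite.of_equiv E Additive.ofMul
  have hdim : Module.finrank (ZMod 2) (Additive E) = 3 := by
    have h := Module.natCard_eq_pow_finrank (K := ZMod 2) (V := Additive E)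
    rw [show Nat.card (Additive E) = 2 ^ 3 from hc, Nat.card_zmod] at h
    exact (Nat.pow_right_injective le_rfl h).symm
  let e : Additive E ≃ₗ[ZMod 2] (Fin 3 → ZMod 2) := LinearEquiv.ofFinrankEq _ _ (by simp [hdim])
  let a1 : MulAut E ≃* (Additive E ≃ₗ[ZMod 2] Additive E) :=
    { toFun := fun g => (MulEquiv.toAdditive g).toLinearEquiv fun c a => ZMod.map_smul (MulEquiv.toAdditive g).toAddMonoidHom c a
      invFun := fun L => MulEquiv.toAdditive.symm L.toAddEquiv
      left_inv := fun g => MulEquiv.ext fun _ => rfl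
      right_inv := fun L => LinearEquiv.ext fun _ => rfl
      map_mul' := fun g k => LinearEquiv.ext fun _ => rfl }
  let a2 : (Additive E ≃ₗ[ZMod 2] Additive E) ≃* ((Fin 3 → ZMod 2) ≃ₗ[ZMod 2] (Fin 3 → ZMod 2)) :=
    { toFun := fun L => e.symm.trans (L.trans e)
      invFun := fun L => e.trans (L.trans e.symm)
      left_inv := fun L => LinearEquiv.ext fun x => by simp
      right_inv := fun L => LinearEquiv.ext fun x => by simp
      map_mul' := fun L L' => LinearEquiv.ext fun x => by simp }
  let a3 := (a1.trans a2).trans ((LinearMap.GeneralLinearGroup.generalLinearEquiv (ZMod 2) (Fin 3 → ZMod 2)).symm.trans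
    (Matrix.GeneralLinearGroup.toLin (n := Fin 3) (R := ZMod 2)).symm)
  have hbij : Function.Bijective (Matrix.SpecialLinearGroup.toGL (n := Fin 3) (R := ZMod 2)) :=
    (Nat.bijective_iff_injective_and_card _).2
      ⟨Matrix.SpecialLinearGroup.toGL_injective, card_sl32.2.trans card_sl32.1.symm⟩
  exact ⟨a3.trans (MulEquiv.ofBijective _ hbij).symm⟩

theorem card_aut_eight (E : Type*) [Group E] [Finite E] (h2 : ∀ a : E, a * a = 1) (hc : Nat.card E = 8) :
    Nat.card (MulAut E) = 168 := by
  obtain ⟨e⟩ := aut_eight E h2 hc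
  rw [Nat.card_congr e.toEquiv, card_sl32.2]

end Cfsg.Agent.JankoFour
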