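import Cfsg.Agent.Lib.JankoFour.FiveLine
import Cfsg.Agent.Lib.JankoFour.FiveAut

/-!
The centraliser of an element of order five.
-/

set_option autoImplicit false
set_option linter.unusedSectionVars false
set_option maxRecDepth 20000

namespace Cfsg.Agent.JankoFour

open Subgroup
open Cfsg.Agent.LargeFischer (QG)
open Cfsg.Agent.J4Module (app)
open Cfsg.Agent.J4Module.Data
open FiveTab Big Split

namespace Model

variable {G : Type*} [Group G] [Finite G] {z : G} {P : Subgroup G} (M : Model z P)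

/-- A subgroup of order five of the centraliser of the involution is a Sylow subgroup. -/
theorem exists_conj_five (F : M.Five) {d : ↥(centralizer ({z} : Set G))} (hd : d ^ 5 = 1) (hd1 : d ≠ 1) :
    ∃ y : ↥(centralizer ({z} : Set G)), y * d * y⁻¹ ∈ zpowers F.c ∧
      (∀ t ∈ zpowers F.c, y⁻¹ * t * y ∈ zpowers d) := by
  haveI : Fact (Nat.Prime 5) := ⟨by norm_num⟩
  have hfac : (Nat.card ↥(centralizer ({z} : Set G))).factorization 5 = 1 := by
    rw [M.card_cent, show 2 ^ 21 * 10395 = 5 ^ 1 * (2 ^ 21 * 2079) by norm_num,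
      Nat.factorization_mul (by norm_num) (by norm_num), Finsupp.add_apply,
      Nat.Prime.factorization_pow (by norm_num), Nat.factorization_eq_zero_of_not_dvd (by norm_num)]
    simp
  have hc : Nat.card ↥(zpowers F.c) = 5 ^ (Nat.card ↥(centralizer ({z} : Set G))).factorization 5 := by
    rw [hfac, Nat.card_zpowers, F.order, pow_one]
  have hcd : Nat.card ↥(zpowers d) = 5 ^ (Nat.card ↥(centralizer ({z} : Set G))).factorization 5 := by
    rw [hfac, Nat.card_zpowers, orderOf_eq_prime hd hd1, pow_one]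
  let Sc : Sylow 5 ↥(centralizer ({z} : Set G)) := Sylow.ofCard _ hc
  let Sd : Sylow 5 ↥(centralizer ({z} : Set G)) := Sylow.ofCard _ hcd
  obtain ⟨y, hy⟩ := MulAction.exists_smul_eq ↥(centralizer ({z} : Set G)) Sd Sc
  have h : (zpowers d).map (MulAut.conj y).toMonoidHom = zpowers F.c := by
    rw [show zpowers F.c = (Sc : Subgroup _) from rfl, ← hy]
    rfl
  refine ⟨y, h.le ⟨d, mem_zpowers d, rfl⟩, fun t ht => ?_⟩
  obtain ⟨s, hs, rfl⟩ := h.ge ht
  simpa [mul_assoc] using hs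

namespace Five

variable {M} (F : M.Five) {B : BigData M} (Cc : BigCoords B)
  (hT : ∀ n < 2048, (Orb.tMask.testBit n = true ↔ n ≠ 0 ∧ ¬ IsConj z (Cc.el n)))
include F Cc hT

/-- The centraliser is transitive on the non-identity elements of the group of order eight. -/
theorem exists_move {e : G} (he : e ∈ M.eG) (he1 : e ≠ 1) :
    ∃ g ∈ F.K, (∀ a ∈ M.eG, g * a * g⁻¹ ∈ M.eG) ∧ g * e * g⁻¹ = z := by
  obtain ⟨hw, hell, -, -⟩ := FiveTab.word_spec
  have hwK : InK0 (wordC wordEll) := wordC_memK fun k hk => hw k (List.mem_append_left _ hk)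
  obtain ⟨h, hh⟩ := M.exists_elem _ (gen_mono hwK)
  obtain ⟨W', -, hW'⟩ := M.exists_cols h⁻¹
  have hV : ∀ a ∈ M.eG, (h : G)⁻¹ * a * h ∈ B.V := by
    rintro _ ⟨x, rfl, hx⟩
    have : (M.ctx.conjQ h⁻¹ x : G) ∈ B.V := by
      refine (B.inf_Q _).2 ?_
      rw [bigW_iff _ (M.vec_lt _), hW' x]
      rcases List.mem_cons.1 hx with e | e
      · rw [e, J4Module.app_zero]; decide
      · obtain ⟨w, hw', e'⟩ := List.mem_map.1 (hell _ e)
        obtain ⟨u, rfl⟩ := M.vec_surj w (bigW_spec.2.1 w hw')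
        rw [← e', (M.acts_inv hh hW' u).1]
        exact hw'
    simpa [LargeFischer.Ctx.conjQ] using this
  set v0 := (h : G)⁻¹ * e * h with hv0
  have hv0z : IsConj z v0 := by
    have := F.eG_conj Cc hT he he1
    exact this.trans (isConj_iff.2 ⟨(h : G)⁻¹, by rw [hv0, inv_inv]⟩)
  obtain ⟨g0, hg0⟩ := isConj_iff.1 hv0z
  obtain ⟨m, hm, hmz⟩ := B.fusion z B.z_mem g0 (by rw [hg0]; exact hV e he)
  rw [hg0] at hmz
  set r := m⁻¹ * (h : G)⁻¹ with hr
  have hre : r * e * r⁻¹ = z := by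
    rw [hr, show m⁻¹ * (h : G)⁻¹ * e * (m⁻¹ * (h : G)⁻¹)⁻¹ = m⁻¹ * v0 * m by rw [hv0]; group, ← hmz]
    group
  have hrV : ∀ a ∈ M.eG, r * a * r⁻¹ ∈ B.V := fun a ha => by
    rw [hr, show m⁻¹ * (h : G)⁻¹ * a * (m⁻¹ * (h : G)⁻¹)⁻¹ = m⁻¹ * ((h : G)⁻¹ * a * h) * m by group]
    have := (Subgroup.mem_normalizer_iff.1 (inv_mem hm) _).1 (hV a ha)
    simpa using this
  have hcomm : ∀ a ∈ M.eG, (r * F.c * r⁻¹) * (r * a * r⁻¹) = (r * a * r⁻¹) * (r * F.c * r⁻¹) := fun a ha => by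
    have := mem_centralizer_singleton_iff.1 (F.eG_le_K ha)
    calc r * F.c * r⁻¹ * (r * a * r⁻¹) = r * ((F.c : G) * a) * r⁻¹ := by group
      _ = _ := by rw [← this]; group
  have hdz : r * (F.c : G) * r⁻¹ ∈ centralizer ({z} : Set G) := by
    rw [mem_centralizer_singleton_iff]
    have := hcomm e he
    rwa [hre] at this
  set d : ↥(centralizer ({z} : Set G)) := ⟨_, hdz⟩ with hd
  have hd5 : d ^ 5 = 1 := Subtype.ext (by
    rw [SubmonoidClass.coe_pow, hd, conj_pow, ← SubmonoidClass.coe_pow, F.pow_five, OneMemClass.coe_one, mul_one,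
      mul_inv_cancel])
  have hd1 : d ≠ 1 := fun h => by
    have h' : r * (F.c : G) * r⁻¹ = 1 := congrArg Subtype.val h
    rw [conj_eq_one_iff] at h'
    have := F.order
    rw [show F.c = 1 from Subtype.ext h', orderOf_one] at this
    norm_num at this
  obtain ⟨y, hy, hy'⟩ := M.exists_conj_five F hd5 hd1
  set g := (y : G) * r with hg
  have hgE : ∀ a ∈ M.eG, g * a * g⁻¹ ∈ M.eG := by
    intro a ha
    by_cases ha1 : a = 1
    · subst ha1; simp
    rw [hg, show (y : G) * r * a * ((y : G) * r)⁻¹ = (y : G) * (r * a * r⁻¹) * (y : G)⁻¹ by group]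
    refine F.small_mem Cc hT (hrV a ha) ?_ ?_
    · obtain ⟨k, hk⟩ := mem_zpowers_iff.1 (hy' F.c (mem_zpowers _))
      have hck : (F.c : G) = (y : G) * (r * F.c * r⁻¹) ^ k * (y : G)⁻¹ := by
        have := congrArg Subtype.val hk
        rw [SubgroupClass.coe_zpow, hd] at this
        rw [this]
        simp [mul_assoc]
      rw [mem_centralizer_singleton_iff, hck]
      have := ((show Commute (r * (F.c : G) * r⁻¹) (r * a * r⁻¹) from hcomm a ha).zpow_left k).eq
      calc (y : G) * (r * a * r⁻¹) * (y : G)⁻¹ * ((y : G) * (r * F.c * r⁻¹) ^ k * (y : G)⁻¹)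
          = (y : G) * ((r * a * r⁻¹) * (r * F.c * r⁻¹) ^ k) * (y : G)⁻¹ := by group
        _ = _ := by rw [← this]; group
    · exact (F.eG_conj Cc hT ha ha1).trans (isConj_iff.2 ⟨r, rfl⟩)
  obtain ⟨k, hk, hgk⟩ : ∃ k : ℕ, k < 5 ∧ g * (F.c : G) * g⁻¹ = (F.c : G) ^ k := by
    classical
    obtain ⟨k, hk, e⟩ := Finset.mem_image.1 ((isOfFinOrder_of_finite F.c).mem_zpowers_iff_mem_range_orderOf.1 hy)
    rw [Finset.mem_range, F.order] at hk
    refine ⟨k, hk, ?_⟩
    have := congrArg Subtype.val e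
    rw [SubmonoidClass.coe_pow] at this
    rw [this, hg, hd]
    simp [mul_assoc]
  obtain ⟨n, -, hnf, hnc⟩ := F.exists_norm
  have hnpow : ∀ i : ℕ, (n : G) ^ i * (F.c : G) * ((n : G) ^ i)⁻¹ = (F.c : G) ^ (2 ^ i) := by
    intro i
    induction i with
    | zero => simp
    | succ i ih =>
      have h1 := congrArg Subtype.val hnc
      rw [pow_succ', show (n : G) * (n : G) ^ i * (F.c : G) * ((n : G) * (n : G) ^ i)⁻¹ =
        (n : G) * ((n : G) ^ i * (F.c : G) * ((n : G) ^ i)⁻¹) * (n : G)⁻¹ by group, ih, ← conj_pow,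
        show (n : G) * (F.c : G) * (n : G)⁻¹ = (F.c : G) ^ 2 by simpa using h1, ← pow_mul, ← pow_succ']
  have hnE : ∀ i : ℕ, ∀ a ∈ M.eG, (n : G) ^ i * a * ((n : G) ^ i)⁻¹ ∈ M.eG := by
    intro i
    induction i with
    | zero => intro a ha; simpa using ha
    | succ i ih =>
      intro a ha
      rw [pow_succ', show (n : G) * (n : G) ^ i * a * ((n : G) * (n : G) ^ i)⁻¹ =
        (n : G) * ((n : G) ^ i * a * ((n : G) ^ i)⁻¹) * (n : G)⁻¹ by group]
      obtain ⟨x, hx, hv⟩ := ih a ha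
      refine ⟨M.ctx.conjQ n x, by rw [← hx]; rfl, ?_⟩
      rw [hnf x]
      rcases List.mem_cons.1 hv with e | e
      · rw [e, J4Module.app_zero]; simp
      · exact List.mem_cons_of_mem _ (FiveTab.ell_moved.2.2.1 _ e)
  have hk0 : k ≠ 0 := by
    rintro rfl
    rw [pow_zero, conj_eq_one_iff] at hgk
    have := F.order
    rw [show F.c = 1 from Subtype.ext hgk, orderOf_one] at this
    norm_num at this
  obtain ⟨i, hi⟩ : ∃ i : ℕ, (2 ^ i * k) % 5 = 1 := by
    interval_cases k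
    exacts [absurd rfl hk0, ⟨0, rfl⟩, ⟨3, rfl⟩, ⟨1, rfl⟩, ⟨2, rfl⟩]
  refine ⟨(n : G) ^ i * g, mem_centralizer_singleton_iff.2 ?_, fun a ha => ?_, ?_⟩
  · rw [← mul_inv_eq_iff_eq_mul, show (n : G) ^ i * g * (F.c : G) * ((n : G) ^ i * g)⁻¹ =
      (n : G) ^ i * (g * (F.c : G) * g⁻¹) * ((n : G) ^ i)⁻¹ by group, hgk, ← conj_pow, hnpow, ← pow_mul]
    have h5 : (F.c : G) ^ 5 = 1 := by rw [← SubmonoidClass.coe_pow, F.pow_five, OneMemClass.coe_one]
    rw [pow_eq_pow_mod _ h5, hi, pow_one]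
  · rw [show (n : G) ^ i * g * a * ((n : G) ^ i * g)⁻¹ = (n : G) ^ i * (g * a * g⁻¹) * ((n : G) ^ i)⁻¹ by group]
    exact hnE i _ (hgE a ha)
  · rw [show (n : G) ^ i * g * e * ((n : G) ^ i * g)⁻¹ = (n : G) ^ i * (g * e * g⁻¹) * ((n : G) ^ i)⁻¹ by group,
      hg, show (y : G) * r * e * ((y : G) * r)⁻¹ = (y : G) * (r * e * r⁻¹) * (y : G)⁻¹ by group, hre,
      show (y : G) * z = z * y from mem_centralizer_singleton_iff.1 y.2, mul_inv_cancel_right]
    exact mul_inv_eq_iff_eq_mul.2 (mem_centralizer_singleton_iff.1 (pow_mem n.2 i))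

variable (D : BigPack z B.V)
include D

/-- The centraliser of a fixed involution of the second class and of the element lies in the centraliser of the
involution. -/
theorem cent_six {x : ↥(QG M.Q)} (hx : M.vec x = 6) {g : G} (hgK : g ∈ F.K) (hgx : g * x = x * g) :
    g ∈ centralizer ({z} : Set G) := by
  obtain ⟨hw, -, hfix, h6⟩ := FiveTab.word_spec
  have hwK : InK0 (wordC wordSix) := wordC_memK fun k hk => hw k (List.mem_append_right _ hk)
  obtain ⟨h, hh⟩ := M.exists_elem _ (gen_mono hwK)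
  obtain ⟨W', -, hW'⟩ := M.exists_cols h⁻¹
  set t := (h : G)⁻¹ * x * h with ht
  have htV : t ∈ B.V := by
    have : (M.ctx.conjQ h⁻¹ x : G) ∈ B.V := by
      refine (B.inf_Q _).2 ?_
      rw [bigW_iff _ (M.vec_lt _), hW' x]
      obtain ⟨w, hw', e'⟩ := List.mem_map.1 h6
      obtain ⟨u, rfl⟩ := M.vec_surj w (bigW_spec.2.1 w hw')
      rw [hx, ← e', (M.acts_inv hh hW' u).1]
      exact hw'
    simpa [LargeFischer.Ctx.conjQ] using this
  have hnz : ¬ IsConj z (x : G) := F.cVec_not_conj Cc hT x (by rw [hx]; simp [cVecs])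
  have ht1 : t ≠ 1 := fun e => by
    rw [ht] at e
    have : (x : G) = 1 := by simpa [mul_assoc, inv_mul_eq_one] using e
    have h0 := M.vec_eq_zero.2 (Or.inl this)
    omega
  have htz : ¬ IsConj z t := fun e => hnz (e.trans (isConj_iff.2 ⟨h, by rw [ht]; group⟩))
  obtain ⟨d, hd, hdt⟩ := D.cocode.exists_duad htV ht1 htz
  have hgN : (h : G)⁻¹ * g * h ∈ normalizer (B.V : Set G) := by
    refine D.centralizer_duad_le hd (mem_centralizer_singleton_iff.2 ?_)
    rw [show D.eS d = t from hdt, ht]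
    calc (h : G)⁻¹ * g * h * ((h : G)⁻¹ * x * h) = (h : G)⁻¹ * (g * x) * h := by group
      _ = _ := by rw [hgx]; group
  set w := (h : G)⁻¹ * g * h * z * ((h : G)⁻¹ * g * h)⁻¹ with hwd
  have hwV : w ∈ B.V := (Subgroup.mem_normalizer_iff.1 hgN z).1 B.z_mem
  have hzh : z * (h : G) = h * z := (mem_centralizer_singleton_iff.1 h.2).symm
  have hhw : (h : G) * w * (h : G)⁻¹ = g * z * g⁻¹ := by
    rw [hwd, show (h : G) * ((h : G)⁻¹ * g * h * z * ((h : G)⁻¹ * g * h)⁻¹) * (h : G)⁻¹ =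
      g * ((h : G) * z * (h : G)⁻¹) * g⁻¹ by group, ← hzh, mul_inv_cancel_right]
  have hwz : IsConj z w := isConj_iff.2 ⟨(h : G)⁻¹ * g * h, rfl⟩
  have hK : (h : G) * w * (h : G)⁻¹ ∈ F.K := by
    rw [hhw]
    exact mul_mem (mul_mem hgK (F.eG_le_K M.z_mem_eG)) (inv_mem hgK)
  obtain ⟨u, hu, huv⟩ := F.small_mem Cc hT hwV hK hwz
  rcases List.mem_cons.1 huv with e | e
  · rcases M.vec_eq_zero.1 e with f | f
    · exfalso
      rw [f, hhw, eq_comm, conj_eq_one_iff] at hu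
      exact M.ctx.xs.ne_one hu
    · rw [f, hhw] at hu
      exact mem_centralizer_singleton_iff.2 (mul_inv_eq_iff_eq_mul.1 hu.symm)
  · exfalso
    have hwQ : (M.ctx.conjQ h⁻¹ u : G) = w := by
      show ((h⁻¹ : ↥(centralizer ({z} : Set G))) : G) * u * ((h⁻¹ : ↥(centralizer ({z} : Set G))) : G)⁻¹ = w
      rw [hu]
      simp [mul_assoc]
    have hb := (B.inf_Q (M.ctx.conjQ h⁻¹ u)).1 (hwQ ▸ hwV)
    rw [bigW_iff _ (M.vec_lt _), hW' u] at hb
    have hmem : M.vec u ∈ bigW.map (app (wordC wordSix)) :=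
      List.mem_map.2 ⟨_, hb, (M.acts_inv hh hW' u).2⟩
    obtain ⟨-, hc1, hf, -⟩ := FiveTab.fix_classes.2.2.1 _ e
    rcases hfix _ (ell_xor.2.2.2 _ (List.mem_cons_of_mem _ e)).1 hmem with h' | h'
    · rw [h'] at e; exact absurd e (by decide)
    · have := (FiveTab.fix_classes.2.2.1 _ e).2.1
      omega

/-- The centraliser of any fixed involution of the second class. -/
theorem cent_cVec {x : ↥(QG M.Q)} (hx : M.vec x ∈ cVecs) {g : G} (hgK : g ∈ F.K) (hgx : g * x = x * g) :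
    g ∈ centralizer ({z} : Set G) := by
  obtain ⟨C, hC, hC6⟩ := FiveTab.c_orbit.1 _ hx 6 (by simp [cVecs])
  obtain ⟨L, hL, hLa⟩ := F.exists_lift hC
  have hLK : (L : G) ∈ F.K := (F.mem_cent' L.2).2 (F.mem_cent.2 hL)
  have := F.cent_six Cc hT D (x := M.ctx.conjQ L x) (by rw [hLa, hC6]) (g := (L : G) * g * (L : G)⁻¹)
    (mul_mem (mul_mem hLK hgK) (inv_mem hLK)) (by
      show (L : G) * g * (L : G)⁻¹ * ((L : G) * x * (L : G)⁻¹) = (L : G) * x * (L : G)⁻¹ * ((L : G) * g * (L : G)⁻¹)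
      calc (L : G) * g * (L : G)⁻¹ * ((L : G) * x * (L : G)⁻¹) = (L : G) * (g * x) * (L : G)⁻¹ := by group
        _ = _ := by rw [hgx]; group)
  have h2 := mul_mem (mul_mem (inv_mem L.2) this) L.2
  simpa [mul_assoc] using h2

/-- An involution of the centraliser, commuting with the central involution and conjugate to it, lies in the group of
order eight. -/
theorem invol_mem {x : ↥(centralizer ({z} : Set G))} (hx : x ∈ F.cent) (h2 : x * x = 1) (hz : IsConj z (x : G)) :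
    (x : G) ∈ M.eG := by
  have hinQ : ∀ w : ↥(centralizer ({z} : Set G)), w ∈ F.cent → M.Acts w unitC → w * w = 1 → IsConj z (w : G) →
      (w : G) ∈ M.eG := by
    intro w hw ha hw2 hwz
    obtain ⟨u, rfl⟩ := M.toH_surj (M.mem_Q w ha)
    exact F.fixed_mem Cc hT u ((F.comm_iff u).1 (congrArg Subtype.val (F.mem_cent.1 hw)).symm)
      (congrArg Subtype.val hw2) hwz
  have hsq : ∀ (w : ↥(centralizer ({z} : Set G))) (C : List ℕ), InL0 C → M.Acts w C → w * w = 1 →
      mulC C C = unitC := fun w C hC hw hw2 => by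
    refine M.acts_unique (by rw [length_mulC]; exact gen_length hC) (by decide) ?_ M.acts_one
    have := M.acts_mul hw hw
    rwa [hw2] at this
  obtain ⟨C, hC, ha⟩ := M.exists_cols x
  have hL := F.acts_list (F.mem_cent.1 hx) hC ha
  by_cases hu : C = unitC
  · exact hinQ x hx (hu ▸ ha) h2 hz
  exfalso
  obtain ⟨n, hn, hmv⟩ := FiveTab.ell_moved.1 C hL (hsq x C hC ha h2) hu
  obtain ⟨e, he⟩ := M.vec_surj n (FiveTab.fix_classes.2.2.1 _ hn).1
  have heE : (e : G) ∈ M.eG := M.mem_eG.2 (by rw [he]; exact List.mem_cons_of_mem _ hn)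
  have hxe : (x : G) * e * (x : G)⁻¹ ∈ M.eG := F.conj_eG hx heE
  set c0 := (x : G) * e * (x : G)⁻¹ * e with hc0
  have hc0E : c0 ∈ M.eG := mul_mem hxe heE
  have he2 : (e : G) * e = 1 := M.eG_sq _ heE
  have hx2 : (x : G) * x = 1 := congrArg Subtype.val h2
  have hxi : (x : G)⁻¹ = x := inv_eq_of_mul_eq_one_right hx2
  have hne : M.vec (M.ctx.conjQ x e) ≠ M.vec e := by rw [ha e, he]; exact hmv
  have hc01 : c0 ≠ 1 := fun h => hne (by
    have hh : (x : G) * e * (x : G)⁻¹ = e := by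
      rw [hc0, mul_eq_one_iff_eq_inv, inv_eq_of_mul_eq_one_right he2] at h
      exact h
    rw [show M.ctx.conjQ x e = e from Subtype.ext hh])
  have hc0z : c0 ≠ z := fun h => hne (by
    have hh : (M.ctx.conjQ x e : G) = (e * M.zQ : ↥(QG M.Q)) := by
      show (x : G) * e * (x : G)⁻¹ = e * z
      rw [← congrArg ((e : G) * ·) h]
      show _ = (e : G) * c0
      rw [hc0, ← mul_assoc (e : G), M.eG_comm heE hxe, mul_assoc _ (e : G) (e : G), he2, mul_one]
    rw [Subtype.ext hh, M.vec_mul_z])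
  have hxc0 : (x : G) * c0 * (x : G)⁻¹ = c0 := by
    rw [hc0, show (x : G) * ((x : G) * e * (x : G)⁻¹ * e) * (x : G)⁻¹ =
      ((x : G) * x) * e * ((x : G) * x)⁻¹ * ((x : G) * e * (x : G)⁻¹) by group, hx2]
    simpa using M.eG_comm heE hxe
  obtain ⟨m, hmK, hmE, hmc⟩ := F.exists_move Cc hT hc0E hc01
  have hxK : (x : G) ∈ F.K := (F.mem_cent' x.2).2 hx
  have hx'z : m * x * m⁻¹ ∈ centralizer ({z} : Set G) := by
    refine mem_centralizer_singleton_iff.2 ?_
    suffices h : m * x * m⁻¹ * (m * c0 * m⁻¹) = m * c0 * m⁻¹ * (m * x * m⁻¹) by rwa [hmc] at h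
    calc m * x * m⁻¹ * (m * c0 * m⁻¹) = m * ((x : G) * c0 * (x : G)⁻¹) * x * m⁻¹ := by group
      _ = _ := by rw [hxc0]; group
  set x' : ↥(centralizer ({z} : Set G)) := ⟨_, hx'z⟩
  have hx'K : x' ∈ F.cent := (F.mem_cent' hx'z).1 (mul_mem (mul_mem hmK hxK) (inv_mem hmK))
  have hx'2 : x' * x' = 1 := Subtype.ext (by
    show m * x * m⁻¹ * (m * x * m⁻¹) = 1
    rw [show m * x * m⁻¹ * (m * x * m⁻¹) = m * ((x : G) * x) * m⁻¹ by group, hx2]
    group)
  obtain ⟨e', he'1, he'v⟩ := hmE e heE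
  obtain ⟨zz, hzz1, hzzv⟩ := hmE z M.z_mem_eG
  obtain ⟨C', hC', ha'⟩ := M.exists_cols x'
  have hL' := F.acts_list (F.mem_cent.1 hx'K) hC' ha'
  have hce : (m * x * m⁻¹) * e' * (m * x * m⁻¹)⁻¹ = z * e' := by
    rw [he'1, ← congrArg (· * (m * (e : G) * m⁻¹)) hmc]
    show _ = m * c0 * m⁻¹ * (m * e * m⁻¹)
    rw [hc0, show m * x * m⁻¹ * (m * e * m⁻¹) * (m * x * m⁻¹)⁻¹ =
      m * ((x : G) * e * (x : G)⁻¹ * ((e : G) * e)) * m⁻¹ by rw [he2]; group]
    group
  have hfe : app C' (M.vec e') = M.vec e' := by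
    rw [← ha' e', show M.ctx.conjQ x' e' = M.zQ * e' from Subtype.ext hce, M.vec_mul,
      show M.vec M.zQ = 0 from M.vec_z, Nat.zero_xor]
  have hfz : app C' (M.vec zz) = M.vec zz := by
    rw [← ha' zz]
    refine congrArg M.vec (Subtype.ext ?_)
    show m * x * m⁻¹ * zz * (m * x * m⁻¹)⁻¹ = zz
    rw [hzz1, show m * x * m⁻¹ * (m * z * m⁻¹) * (m * x * m⁻¹)⁻¹ = m * ((x : G) * z * (x : G)⁻¹) * m⁻¹ by group,
      mem_centralizer_singleton_iff.1 x.2, mul_inv_cancel_right]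
  have hinj : ∀ a b : G, m * a * m⁻¹ = m * b * m⁻¹ → a = b := fun a b h => mul_left_cancel (mul_right_cancel h)
  have hez : (e : G) ≠ 1 ∧ (e : G) ≠ c0 ∧ (e : G) ≠ z * c0 ∧ (e : G) ≠ z := by
    have hfix : ∀ u : G, (x : G) * u = u * x → (e : G) ≠ u := fun u hu h => hne (by
      rw [show M.ctx.conjQ x e = e from Subtype.ext (show (x : G) * e * (x : G)⁻¹ = e by
        rw [h]; exact mul_inv_eq_iff_eq_mul.2 hu)])
    refine ⟨hfix 1 (by simp), hfix c0 (mul_inv_eq_iff_eq_mul.1 hxc0), hfix _ ?_,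
      hfix z (mem_centralizer_singleton_iff.1 x.2)⟩
    exact (Commute.mul_right (mem_centralizer_singleton_iff.1 x.2 : Commute (x : G) z)
      (mul_inv_eq_iff_eq_mul.1 hxc0 : Commute (x : G) c0)).eq
  have h0 : ∀ {u : ↥(QG M.Q)} {a : G}, (u : G) = m * a * m⁻¹ → M.vec u = 0 → a = 1 ∨ a = c0 := fun {u a} hu hv => by
    rcases M.vec_eq_zero.1 hv with f | f
    · exact Or.inl (by rw [hu, conj_eq_one_iff] at f; exact f)
    · exact Or.inr (hinj _ _ (by rw [← hu, f, hmc]))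
  have hve : M.vec e' ∈ ell := (List.mem_cons.1 he'v).resolve_left fun f => by
    rcases h0 he'1 f with h | h
    · exact hez.1 h
    · exact hez.2.1 h
  have hvz : M.vec zz ∈ ell := (List.mem_cons.1 hzzv).resolve_left fun f => by
    rcases h0 hzz1 f with h | h
    · exact M.ctx.xs.ne_one h
    · exact hc0z h.symm
  have hdiff : M.vec zz ≠ M.vec e' := fun f => by
    rcases M.vec_eq_iff.1 f with g | g
    · rw [he'1, hzz1] at g
      exact hez.2.2.2 (hinj _ _ g)
    · rw [he'1, hzz1] at g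
      refine hez.2.2.1 (hinj _ _ ((g.trans (congrArg (m * z * m⁻¹ * ·) hmc.symm)).trans ?_))
      group
  obtain ⟨a, ha5, haC⟩ := FiveTab.ell_moved.2.1 C' hL' _ hvz _ hve hdiff hfz hfe
  have hK' : C' ∈ listK := (List.mem_append.1 hL').resolve_right fun h =>
    FiveTab.list_spec.2.2.2.2.1 C' h (lin_of_K (haC ▸ powC_K yC_K a))
  have hu' := FiveTab.list_spec.2.2.2.2.2.1 C' hK' (hsq x' C' hC' ha' hx'2)
  have hmem := hinQ x' hx'K (hu' ▸ ha') hx'2 (hz.trans (isConj_iff.2 ⟨m, rfl⟩))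
  have heq : m * x * m⁻¹ * e' * (m * x * m⁻¹)⁻¹ = e' :=
    mul_inv_eq_iff_eq_mul.2 (M.eG_comm hmem (M.mem_eG.2 he'v))
  rw [hce] at heq
  exact M.ctx.xs.ne_one (mul_eq_right.1 heq)

/-- The centraliser normalises the group of order eight. -/
theorem K_le_normalizer {k : G} (hk : k ∈ F.K) {a : G} (ha : a ∈ M.eG) : k * a * k⁻¹ ∈ M.eG := by
  have key : ∀ k ∈ F.K, k * z * k⁻¹ ∈ M.eG := by
    intro k hk
    obtain ⟨x, hxd⟩ : ∃ x, x = k * z * k⁻¹ := ⟨_, rfl⟩
    rw [← hxd]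
    have hzx : IsConj z x := isConj_iff.2 ⟨k, hxd.symm⟩
    have hxK : x ∈ F.K := hxd ▸ mul_mem (mul_mem hk (F.eG_le_K M.z_mem_eG)) (inv_mem hk)
    have hx2 : x * x = 1 := by
      rw [hxd, show k * z * k⁻¹ * (k * z * k⁻¹) = k * (z * z) * k⁻¹ by group, M.z_sq]
      group
    obtain ⟨u, hu⟩ := M.vec_surj 6 (by norm_num)
    have huq : qbit 6 = false := by decide +kernel
    have hu2 : (u : G) * u = 1 := (M.sq_iff u).2 (by rw [hu]; exact huq)
    have h6 : (6 : ℕ) ∈ fixL := (FiveTab.fix_classes.2.2.2.1 6 (by simp [cVecs])).2.2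
    have huK : (u : G) ∈ F.K :=
      mem_centralizer_singleton_iff.2 ((F.comm_iff u).2 (by rw [hu]; exact h6)).symm
    have huz : ¬ IsConj z (u : G) := F.cVec_not_conj Cc hT u (by rw [hu]; simp [cVecs])
    set r := (u : G) * x with hr
    have hui : (u : G)⁻¹ = u := inv_eq_of_mul_eq_one_right hu2
    have hxi : x⁻¹ = x := inv_eq_of_mul_eq_one_right hx2
    have hur : (u : G) * r * (u : G)⁻¹ = r⁻¹ := by
      have h : ((u : G) * x)⁻¹ = x * u := by rw [_root_.mul_inv_rev, hxi, hui]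
      rw [hr, h, hui, ← mul_assoc, hu2, one_mul]
    have hxr : x * r * x⁻¹ = r⁻¹ := by
      have h : ((u : G) * x)⁻¹ = x * u := by rw [_root_.mul_inv_rev, hxi, hui]
      rw [hr, h, hxi, mul_assoc, mul_assoc, hx2, mul_one]
    rcases Nat.even_or_odd (orderOf r) with ⟨j, hj⟩ | ⟨j, hj⟩
    · set w := r ^ j with hw
      have hw2 : w * w = 1 := by rw [hw, ← pow_add, ← hj, pow_orderOf_eq_one]
      have hw1 : w ≠ 1 := fun h => by
        have h1 := orderOf_dvd_of_pow_eq_one h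
        have hpos := orderOf_pos r
        rw [hj] at h1 hpos
        rcases j with _ | j
        · omega
        · have := Nat.le_of_dvd (by omega) h1
          omega
      have hwi : w⁻¹ = w := inv_eq_of_mul_eq_one_right hw2
      have hwu : w * u = u * w := by
        have h : (u : G) * w * (u : G)⁻¹ = w := by rw [hw, ← conj_pow, hur, inv_pow, ← hw, hwi]
        exact (mul_inv_eq_iff_eq_mul.1 h).symm
      have hwx : x * w = w * x := by
        have h : x * w * x⁻¹ = w := by rw [hw, ← conj_pow, hxr, inv_pow, ← hw, hwi]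
        exact mul_inv_eq_iff_eq_mul.1 h
      have hwK : w ∈ F.K := pow_mem (mul_mem huK hxK) _
      have hwH : w ∈ centralizer ({z} : Set G) := F.cent_six Cc hT D hu hwK hwu
      set w' : ↥(centralizer ({z} : Set G)) := ⟨w, hwH⟩
      obtain ⟨C, hC, ha⟩ := M.exists_cols w'
      have hL := F.acts_list (F.mem_cent.1 ((F.mem_cent' hwH).1 hwK)) hC ha
      have hfix : app C 6 = 6 := by
        rw [← hu, ← ha u, show M.ctx.conjQ w' u = u from Subtype.ext (mul_inv_eq_iff_eq_mul.2 hwu)]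
      obtain ⟨a', -, haC⟩ := FiveTab.c_orbit.2 C hL hfix
      have hK' : C ∈ listK := (List.mem_append.1 hL).resolve_right fun h =>
        FiveTab.list_spec.2.2.2.2.1 C h (lin_of_K (haC ▸ powC_K yC_K a'))
      have hCC : mulC C C = unitC := by
        refine M.acts_unique (by rw [length_mulC]; exact gen_length hC) (by decide) ?_ M.acts_one
        have := M.acts_mul ha ha
        rwa [show w' * w' = 1 from Subtype.ext hw2] at this
      obtain ⟨q, hq⟩ := M.toH_surj (M.mem_Q w' ((FiveTab.list_spec.2.2.2.2.2.1 C hK' hCC) ▸ ha))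
      have hqw : (q : G) = w := congrArg Subtype.val hq
      have hqf : M.vec q ∈ fixL := (F.comm_iff q).1 (by rw [hqw]; exact (mem_centralizer_singleton_iff.1 hwK).symm)
      have hqq := (M.sq_iff q).1 (by rw [hqw]; exact hw2)
      rw [cls_qbit _ (M.vec_lt q)] at hqq
      have hle := (FiveTab.fix_classes.2.2.2.2.2.2.1 _ hqf).2.2
      have h3 : cls (M.vec q) ≠ 3 := fun e => by rw [e] at hqq; simp at hqq
      by_cases hc2 : cls (M.vec q) = 2
      · have hxH : x ∈ centralizer ({z} : Set G) :=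
          F.cent_cVec Cc hT D (FiveTab.fix_classes.2.1 _ hqf hc2) hxK (by rw [hqw]; exact hwx)
        exact F.invol_mem Cc hT D (x := ⟨x, hxH⟩) ((F.mem_cent' hxH).1 hxK) (Subtype.ext hx2) hzx
      · have hwE : w ∈ M.eG := by
          rw [← hqw, M.mem_eG]
          rcases (show cls (M.vec q) = 0 ∨ cls (M.vec q) = 1 by omega) with e | e
          · rw [ell_xor.2.1 _ hqf e]; simp
          · exact List.mem_cons_of_mem _ (FiveTab.fix_classes.1 _ hqf e)
        obtain ⟨m, hmK, hmE, hmw⟩ := F.exists_move Cc hT hwE hw1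
        have hxH : m * x * m⁻¹ ∈ centralizer ({z} : Set G) := by
          refine mem_centralizer_singleton_iff.2 ?_
          rw [← hmw]
          calc m * x * m⁻¹ * (m * w * m⁻¹) = m * (x * w) * m⁻¹ := by group
            _ = _ := by rw [hwx]; group
        obtain ⟨u', hu'1, hu'v⟩ := F.invol_mem Cc hT D (x := ⟨_, hxH⟩)
          ((F.mem_cent' hxH).1 (mul_mem (mul_mem hmK hxK) (inv_mem hmK)))
          (Subtype.ext (by
            show m * x * m⁻¹ * (m * x * m⁻¹) = 1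
            rw [show m * x * m⁻¹ * (m * x * m⁻¹) = m * (x * x) * m⁻¹ by group, hx2]
            group))
          (hzx.trans (isConj_iff.2 ⟨m, rfl⟩))
        have hmN : m ∈ normalizer (M.eG : Set G) := mem_normalizer_fintype fun v hv => hmE v hv
        exact (Subgroup.mem_normalizer_iff.1 hmN x).2 ⟨u', hu'1, hu'v⟩
    · exfalso
      apply huz
      refine hzx.trans (isConj_iff.2 ⟨r ^ (j + 1), ?_⟩)
      have hh : x * r ^ (j + 1) * x⁻¹ = (r ^ (j + 1))⁻¹ := by rw [← conj_pow, hxr, inv_pow]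
      have h1 : x * (r ^ (j + 1))⁻¹ = r ^ (j + 1) * x := by
        rw [← hh, ← mul_assoc, ← mul_assoc, hx2, one_mul, hxi]
      calc r ^ (j + 1) * x * (r ^ (j + 1))⁻¹ = r ^ (j + 1) * (r ^ (j + 1) * x) := by rw [mul_assoc, h1]
        _ = r ^ (2 * j + 1) * r * x := by rw [← mul_assoc, ← pow_add, ← pow_succ]; ring_nf
        _ = u := by rw [← hj, pow_orderOf_eq_one, one_mul, hr, mul_assoc, hx2, mul_one]
  by_cases h1 : a = 1
  · subst h1; simp
  obtain ⟨m, hmK, -, hmz⟩ := F.exists_move Cc hT ha h1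
  have := key (k * m⁻¹) (mul_mem hk (inv_mem hmK))
  have e : k * m⁻¹ * (m * a * m⁻¹) * (k * m⁻¹)⁻¹ = k * a * k⁻¹ := by group
  rw [← e]
  exact (congrArg (fun t => k * m⁻¹ * t * (k * m⁻¹)⁻¹) hmz) ▸ this

end Five

end Model

end Cfsg.Agent.JankoFour
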