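import Cfsg.Agent.Lib.JankoFour.Final
import Cfsg.Agent.S1875

/-!
The order formula for two classes of involutions, reduced to counts inside their centralisers.
-/

set_option autoImplicit false
set_option linter.unusedSectionVars false

namespace Cfsg.Agent.JankoFour

open Subgroup
open Cfsg (GolayPt M24)
open scoped Pointwise

variable {G : Type*} [Group G] [Finite G]

/-- Pairs of conjugates of two involutions whose product has the given involution among its powers. -/
noncomputable def pairCount (a b w : G) : ℕ :=
  Nat.card {q : G × G // IsConj a q.1 ∧ IsConj b q.2 ∧ w ∈ zpowers (q.1 * q.2)}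

/-- Conjugates of an element commuting with another. -/
noncomputable def commCount (a w : G) : ℕ :=
  Nat.card {g : G // IsConj a g ∧ g * w = w * g}

theorem commCount_conj {a w w' : G} (h : IsConj w w') : commCount a w' = commCount a w := by
  obtain ⟨k, rfl⟩ := isConj_iff.1 h
  refine (Nat.card_congr (Equiv.subtypeEquiv (MulAut.conj k).toEquiv fun g => and_congr ?_ ?_)).symm
  · exact ⟨fun h => h.trans (isConj_iff.2 ⟨k, rfl⟩),
      fun h => h.trans (isConj_iff.2 ⟨k⁻¹, by simp [mul_assoc]⟩)⟩
  · show _ ↔ k * g * k⁻¹ * (k * w * k⁻¹) = k * w * k⁻¹ * (k * g * k⁻¹)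
    rw [show k * g * k⁻¹ * (k * w * k⁻¹) = k * (g * w) * k⁻¹ by group,
      show k * w * k⁻¹ * (k * g * k⁻¹) = k * (w * g) * k⁻¹ by group, mul_left_inj, mul_right_inj]

/-- Commuting pairs from two classes, counted from either side. -/
theorem commCount_symm (a b : G) :
    commCount a b * Nat.card ↥(centralizer ({a} : Set G)) =
      commCount b a * Nat.card ↥(centralizer ({b} : Set G)) := by
  have key : ∀ x y : G, Nat.card {q : G × G // IsConj x q.1 ∧ IsConj y q.2 ∧ q.1 * q.2 = q.2 * q.1} =
      Nat.card {g : G // IsConj y g} * commCount x y := by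
    intro x y
    classical
    haveI := Fintype.ofFinite G
    have e : {q : G × G // IsConj x q.1 ∧ IsConj y q.2 ∧ q.1 * q.2 = q.2 * q.1} ≃
        Σ w : {g : G // IsConj y g}, {g : G // IsConj x g ∧ g * w.1 = w.1 * g} :=
      { toFun := fun q => ⟨⟨q.1.2, q.2.2.1⟩, q.1.1, q.2.1, q.2.2.2⟩
        invFun := fun s => ⟨(s.2.1, s.1.1), s.2.2.1, s.1.2, s.2.2.2⟩
        left_inv := fun q => rfl
        right_inv := fun s => rfl }
    have hw : ∀ w : {g : G // IsConj y g}, Nat.card {g : G // IsConj x g ∧ g * w.1 = w.1 * g} = commCount x y :=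
      fun w => commCount_conj w.2
    rw [Nat.card_congr e, Nat.card_sigma, Finset.sum_congr rfl fun w _ => hw w, Finset.sum_const, smul_eq_mul,
      Finset.card_univ, ← Nat.card_eq_fintype_card]
  have hswap : Nat.card {q : G × G // IsConj a q.1 ∧ IsConj b q.2 ∧ q.1 * q.2 = q.2 * q.1} =
      Nat.card {q : G × G // IsConj b q.1 ∧ IsConj a q.2 ∧ q.1 * q.2 = q.2 * q.1} :=
    Nat.card_congr (Equiv.subtypeEquiv (Equiv.prodComm G G) fun q =>
      ⟨fun ⟨h1, h2, h3⟩ => ⟨h2, h1, h3.symm⟩, fun ⟨h1, h2, h3⟩ => ⟨h2, h1, h3.symm⟩⟩)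
  rw [key, key] at hswap
  have ha := S1875.card_class_mul a
  have hb := S1875.card_class_mul b
  have hbp : 0 < Nat.card {g : G // IsConj b g} := by
    haveI : Nonempty {g : G // IsConj b g} := ⟨⟨b, IsConj.refl b⟩⟩
    exact Nat.card_pos
  refine Nat.eq_of_mul_eq_mul_left hbp ?_
  calc Nat.card {g : G // IsConj b g} * (commCount a b * Nat.card ↥(centralizer ({a} : Set G)))
      = Nat.card {g : G // IsConj b g} * commCount a b * Nat.card ↥(centralizer ({a} : Set G)) := (mul_assoc _ _ _).symm
    _ = Nat.card {g : G // IsConj a g} * Nat.card ↥(centralizer ({a} : Set G)) * commCount b a := by rw [hswap]; ring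
    _ = _ := by rw [ha, ← hb]; ring

/-- The order formula for two classes of involutions. -/
theorem card_eq_two_classes {a b : G} (ha : orderOf a = 2) (hb : orderOf b = 2) (hab : ¬ IsConj a b)
    (hall : ∀ g : G, orderOf g = 2 → IsConj g a ∨ IsConj g b) :
    Nat.card G = Nat.card ↥(centralizer ({b} : Set G)) * pairCount a b a +
      Nat.card ↥(centralizer ({a} : Set G)) * pairCount a b b := by
  classical
  have hne : a ≠ b := fun e => hab (e ▸ IsConj.refl a)
  have h := S1875.result a b ha hb hab {a, b} (fun w hw => by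
      rcases Finset.mem_insert.1 hw with rfl | hw
      · exact ha
      · rw [Finset.mem_singleton.1 hw]; exact hb)
    (fun g hg => by
      rcases hall g hg with h | h
      · refine ⟨a, Finset.mem_insert_self _ _, h, fun w hw hgw => ?_⟩
        rcases Finset.mem_insert.1 hw with rfl | hw
        · rfl
        · exact absurd (h.symm.trans (Finset.mem_singleton.1 hw ▸ hgw)) hab
      · refine ⟨b, Finset.mem_insert_of_mem (Finset.mem_singleton_self _), h, fun w hw hgw => ?_⟩
        rcases Finset.mem_insert.1 hw with rfl | hw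
        · exact absurd (hgw.symm.trans h) hab
        · exact Finset.mem_singleton.1 hw)
  rw [Finset.sum_pair hne] at h
  have h1 : (Nat.card ↥(centralizer ({a} : Set G)) : ℚ) ≠ 0 := Nat.cast_ne_zero.2 Nat.card_pos.ne'
  have h2 : (Nat.card ↥(centralizer ({b} : Set G)) : ℚ) ≠ 0 := Nat.cast_ne_zero.2 Nat.card_pos.ne'
  have h3 : (Nat.card G : ℚ) = ((Nat.card ↥(centralizer ({b} : Set G)) * pairCount a b a +
      Nat.card ↥(centralizer ({a} : Set G)) * pairCount a b b : ℕ) : ℚ) := by
    rw [h]
    simp only [pairCount]
    push_cast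
    field_simp
  exact_mod_cast h3

/-- What the two local counts must deliver. -/
def TwoCount (z t : G) : Prop := commCount z t = 69883 ∧ pairCount z t t = 1544188503

/-- The count inside the centraliser of the first involution, given the number of commuting conjugates. -/
def OneCount (z t : G) : Prop := commCount t z = 838596 → pairCount z t z = 29236337328

variable {z : G} {P : Subgroup G} {M : Model z P}

/-- The class structure: the second involution is the element of a pair of points. -/
theorem BigPack.two_classes {B : BigData M} (F : B.Facts) [IsSimpleGroup G] (hG : ¬ IsMulCommutative G)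
    (D : BigPack z B.V) {d : Finset GolayPt} (hd : d.card = 2) :
    orderOf (D.eS d) = 2 ∧ ¬ IsConj z (D.eS d) ∧ Nat.card ↥(centralizer ({D.eS d} : Set G)) = 2 ^ 11 * 887040 ∧
      ∀ g : G, orderOf g = 2 → IsConj g z ∨ IsConj g (D.eS d) := by
  have hde : Even d.card := by rw [hd]; decide
  have hne : D.eS d ≠ 1 := by
    intro h
    have := D.cocode.inj d hde (by omega) h
    rw [this] at hd
    simp at hd
  have hnc : ¬ IsConj z (D.eS d) := D.pair_not_conj d hd
  refine ⟨orderOf_eq_prime (by rw [pow_two, D.sq _ (D.eS_mem d)]) hne, hnc, ?_, fun g hg => ?_⟩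
  · set N := normalizer (B.V : Set G)
    have hmap : (centralizer ({D.eS d} : Set G)).subgroupOf N =
        (MulAction.stabilizer ↥M24 d).comap D.phi := by
      ext n
      rw [mem_subgroupOf, mem_centralizer_singleton_iff, mem_comap, MulAction.mem_stabilizer_iff]
      constructor
      · intro h
        exact D.cocode.image_duad (n := n) hd h
      · intro h
        exact D.cocode.commute_of_image (n := n) hde h
    rw [← Nat.card_congr (subgroupOfEquivOfLe (D.centralizer_duad_le hd)).toEquiv, hmap]
    have hker : (D.phi.comp ((MulAction.stabilizer ↥M24 d).comap D.phi).subtype).ker =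
        (B.V.subgroupOf N).subgroupOf ((MulAction.stabilizer ↥M24 d).comap D.phi) := by
      rw [← MonoidHom.comap_ker, D.phi_ker]
      rfl
    have h1 := Subgroup.card_eq_card_quotient_mul_card_subgroup
      (D.phi.comp ((MulAction.stabilizer ↥M24 d).comap D.phi).subtype).ker
    rw [Nat.card_congr (QuotientGroup.quotientKerEquivRange _).toEquiv, MonoidHom.range_comp, range_subtype,
      map_comap_eq_self_of_surjective D.phi_surj, hker,
      Nat.card_congr (subgroupOfEquivOfLe (show B.V.subgroupOf N ≤ _ by
        rw [← D.phi_ker]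
        intro n hn
        rw [mem_comap, MonoidHom.mem_ker.1 hn]
        exact one_mem _)).toEquiv,
      Nat.card_congr (subgroupOfEquivOfLe (show B.V ≤ N from le_normalizer)).toEquiv, D.card] at h1
    rw [h1]
    obtain ⟨e⟩ := TwoCent.duad_stab_equiv hd
    obtain ⟨f⟩ := TwoCent.duad_stab_equiv TwoCent.card_duad0
    rw [Nat.card_congr (e.trans f.symm).toEquiv, TwoCent.card_duad_stab]
    norm_num
  · by_cases hz : IsConj z g
    · exact Or.inl hz.symm
    right
    obtain ⟨hT, hcard⟩ := F.coords.classify (B.exists_fused hG)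
    obtain ⟨k, hk⟩ := F.coords.involution_into hT hG hcard hg
    have hk1 : k * g * k⁻¹ ≠ 1 := by
      intro h
      rw [conj_eq_one_iff] at h
      simp [h] at hg
    obtain ⟨s, hs, hse⟩ := D.cocode.exists_duad hk hk1 (fun h => hz ((isConj_conj_iff k g).1 h))
    obtain ⟨m, hm⟩ := TwoCent.exists_map_finset (s := s) (t := d) (by rw [hs, hd]) (by rw [hs]; norm_num)
    obtain ⟨n, rfl⟩ := D.phi_surj m
    refine isConj_iff.2 ⟨(n : G) * k, ?_⟩
    have h1 := D.smul_eS n (show Even s.card by rw [hs]; decide)
    rw [hm] at h1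
    rw [← h1, show D.eS s = k * g * k⁻¹ from hse]
    group

/-- The order from the two counts. -/
theorem card_of_counts {B : BigData M} (F : B.Facts) [IsSimpleGroup G] (hG : ¬ IsMulCommutative G)
    (D : BigPack z B.V) {d : Finset GolayPt} (hd : d.card = 2) (h2 : TwoCount z (D.eS d))
    (h1 : OneCount z (D.eS d)) : Nat.card G = 86775571046077562880 := by
  obtain ⟨ht, hnc, hc, hall⟩ := D.two_classes F hG hd
  have hs := commCount_symm z (D.eS d)
  rw [h2.1, M.card_cent, hc] at hs
  have hcomm : commCount (D.eS d) z = 838596 := by omega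
  have hz : orderOf z = 2 := M.order_z
  rw [card_eq_two_classes hz ht hnc hall, h1 hcomm, h2.2, hc, M.card_cent]
  norm_num

end Cfsg.Agent.JankoFour
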