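import Cfsg.Agent.Lib.JankoFour.Outer

/-!
Every group of Janko-four type has coordinates on the extraspecial subgroup in which the centraliser of the
involution acts as the concrete group.
-/

set_option autoImplicit false
set_option linter.style.haveILetI false
set_option linter.unusedSectionVars false

namespace Cfsg.Agent.JankoFour

open Subgroup
open Cfsg.Agent.LargeFischer (Ctx QG VQ mkV mkV_surjective mkV_mul)
open Cfsg.Agent.J4Module (app phi phi_xor Rep IsModel gen mask)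
open Cfsg.Agent.J4Module.Data

variable {G : Type*} [Group G] [Finite G] {z : G} {P : Subgroup G}

namespace Shape.Coords

variable {S : Shape z P} (K : S.Coords)

/-- The semilinear involution in the coordinates. -/
noncomputable def sigma : Equiv.Perm (VQ S.Q) :=
  Function.Involutive.toPerm (fun w => phi K.b (app sC (K.surj w).choose)) fun w => by
    have h1 := (K.surj w).choose_spec
    have h2 := (K.surj (phi K.b (app sC (K.surj w).choose))).choose_spec
    have e := K.inj _ h2.1 _ (app_gen_lt (by simp [gensL]) _) h2.2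
    show phi K.b (app sC _) = w
    rw [e, ← app_mulC, gens_cols.1, app_unitC _ h1.1, h1.2]

theorem sigma_phi {n : ℕ} (hn : n < 4096) : K.sigma (phi K.b n) = phi K.b (app sC n) := by
  have h := (K.surj (phi K.b n)).choose_spec
  show phi K.b (app sC _) = _
  rw [K.inj _ h.1 _ hn h.2]

theorem sigma_sq : K.sigma * K.sigma = 1 := Equiv.ext fun w => by
  obtain ⟨n, hn, rfl⟩ := K.surj w
  rw [Equiv.Perm.mul_apply, K.sigma_phi hn, K.sigma_phi (app_gen_lt (by simp [gensL]) _), ← app_mulC,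
    gens_cols.1, app_unitC n hn]
  rfl

theorem sigma_inv : K.sigma⁻¹ = K.sigma := inv_eq_of_mul_eq_one_right K.sigma_sq

theorem sigma_conj {c : ↥(centralizer ({z} : Set G))} {A : List ℕ} (hA : A ∈ gensK)
    (hc : K.Rel c A) {d : ↥(centralizer ({z} : Set G))} {B : List ℕ} (hd : K.Rel d B)
    (e : mulC sC (mulC A sC) = B) : K.sigma * S.rho c * K.sigma⁻¹ = S.rho d := Equiv.ext fun w => by
  obtain ⟨n, hn, rfl⟩ := K.surj w
  rw [K.sigma_inv, Equiv.Perm.mul_apply, Equiv.Perm.mul_apply, K.sigma_phi hn,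
    hc _ (app_gen_lt (by simp [gensL]) _), K.sigma_phi (app_gen_lt (gensK_sub hA) _), hd n hn, ← e,
    app_mulC, app_mulC]

theorem rel_pow {c : ↥(centralizer ({z} : Set G))} {A : List ℕ} (hc : K.Rel c A) (hA : A ∈ gensL) :
    ∀ k : ℕ, InL0 ((fun g => mulC A g)^[k] unitC) ∧ K.Rel (c ^ k) ((fun g => mulC A g)^[k] unitC)
  | 0 => ⟨Gen.one, by simpa using K.rel_one⟩
  | k + 1 => by
    obtain ⟨h1, h2⟩ := rel_pow hc hA k
    rw [Function.iterate_succ_apply', pow_succ']
    exact ⟨Gen.mul hA h1, K.rel_mul hc h2 h1⟩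

theorem exists_sigma_aut : ∃ α, K.Semi K.sigma α := by
  classical
  have hadd : ∀ u v, K.sigma (u + v) = K.sigma u + K.sigma v := fun u v => by
    obtain ⟨m, hm, rfl⟩ := K.surj u
    obtain ⟨n, hn, rfl⟩ := K.surj v
    rw [← phi_xor S.ctx.two, K.sigma_phi (Nat.xor_lt_two_pow (n := 12) hm hn), K.sigma_phi hm, K.sigma_phi hn,
      app_xor, phi_xor S.ctx.two]
  have hsemi : K.sigma * S.rho K.pElem * K.sigma⁻¹ = S.rho K.pElem ^ 2 := by
    rw [← map_pow, pow_two]
    refine K.sigma_conj (A := pC) (by simp [gensK]) (fun n _ => K.hp n)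
      (K.rel_mul' (fun n _ => K.hp n) (fun n _ => K.hp n) fun n _ => app_gen_lt (by simp [gensL]) n) ?_
    rw [gens_cols.2.1]
    exact J4Module.p_cols.1.symm ▸ gens_cols.2.2.2.2.2.1.symm
  -- every lift is carried to a lift
  have key : ∀ m, ∀ c, S.Lift m c → ∃ m' c', S.Lift m' c' ∧ K.sigma * S.rho c * K.sigma⁻¹ = S.rho c' := by
    intro m c hc
    obtain ⟨C, hC, hr⟩ := K.cent_cols m c hc
    clear hc
    induction hC generalizing c with
    | one =>
      refine ⟨1, 1, S.lift_one, ?_⟩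
      have : S.rho c = 1 := Equiv.ext fun w => by
        obtain ⟨n, hn, rfl⟩ := K.surj w
        rw [hr n hn, app_unitC n hn]; rfl
      rw [this, map_one, mul_one, mul_inv_cancel]
    | @mul g C hg hC ih =>
      obtain ⟨d, ⟨m₁, hd⟩, hdr⟩ := K.gen_rel hg
      have hr' : K.Rel (d⁻¹ * c) C := fun n hn => by
        rw [map_mul, map_inv, Equiv.Perm.mul_apply, hr n hn, app_mulC, ← hdr _ (gen_app_lt (gen_mono hC) n),
          Equiv.Perm.inv_def, Equiv.symm_apply_apply]
      obtain ⟨m', c', hc', e'⟩ := ih (d⁻¹ * c) hr'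
      obtain ⟨m₂, d', hd', ed⟩ : ∃ m₂ d', S.Lift m₂ d' ∧ K.sigma * S.rho d * K.sigma⁻¹ = S.rho d' := by
        simp only [gensK, List.mem_cons, List.not_mem_nil, or_false] at hg
        rcases hg with rfl | rfl | rfl | rfl
        · exact ⟨_, K.L.x ^ 10, S.lift_pow K.L.hx 10, K.sigma_conj (A := xC) (by simp [gensK]) hdr
            (K.rel_pow (fun n _ => K.hx n) (by simp [gensL]) 10).2 gens_cols.2.2.2.2.1⟩
        · exact ⟨_, K.L.y, K.L.hy, K.sigma_conj (A := yC) (by simp [gensK]) hdr (fun n _ => K.hy n)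
            gens_cols.2.2.2.1⟩
        · exact ⟨_, K.L.f, K.L.hf, K.sigma_conj (A := fC) (by simp [gensK]) hdr (fun n _ => K.hf n)
            gens_cols.2.2.1⟩
        · refine ⟨_, K.pElem ^ 2, S.lift_pow K.p_lift 2, K.sigma_conj (A := pC) (by simp [gensK]) hdr ?_
            gens_cols.2.1⟩
          have h := K.rel_mul' (c := K.pElem) (d := K.pElem) (fun n _ => K.hp n) (fun n _ => K.hp n)
            fun n _ => app_gen_lt (by simp [gensL]) n
          rwa [← pow_two, gens_cols.2.2.2.2.2.1] at h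
      refine ⟨m₂ * m', d' * c', S.lift_mul hd' hc', ?_⟩
      rw [map_mul S.rho d' c', ← ed, ← e', map_mul, map_inv]
      group
  choose f g hg he using fun m => key m _ (S.exists_lift m).choose_spec
  have hwell : ∀ m c, S.Lift m c → ∃ c', S.Lift (f m) c' ∧ K.sigma * S.rho c * K.sigma⁻¹ = S.rho c' := by
    intro m c hc
    obtain ⟨i, -, hi⟩ := S.rho_lift_one (inv_mul_cancel m ▸ S.lift_mul (S.lift_inv (S.exists_lift m).choose_spec) hc)
    rw [map_mul, map_inv, inv_mul_eq_iff_eq_mul] at hi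
    obtain ⟨j, hj⟩ := K.pi1_lift i
    rw [hj] at hi
    obtain ⟨k, hk⟩ := K.p_pow
    refine ⟨g m * (K.pElem ^ 2) ^ j, by simpa using S.lift_mul (hg m) (S.lift_pow (S.lift_pow K.p_lift 2) j), ?_⟩
    rw [hi, map_mul, map_pow, map_pow, ← he m, ← hsemi, conj_pow]
    group
  have hmul : ∀ a b, f (a * b) = f a * f b := fun a b => by
    obtain ⟨c', hc', e⟩ := hwell _ _ (S.lift_mul (S.exists_lift a).choose_spec (S.exists_lift b).choose_spec)
    refine S.eq_of_rho hc' (S.lift_mul (hg a) (hg b)) ?_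
    rw [← e, map_mul, map_mul, ← he a, ← he b]
    group
  let F : ↥Cfsg.Spor.M22 →* ↥Cfsg.Spor.M22 := MonoidHom.mk' f hmul
  have hinj : Function.Injective F := (injective_iff_map_eq_one F).2 fun a ha => by
    obtain ⟨i, -, hi⟩ := S.rho_lift_one (ha ▸ hg a : S.Lift 1 (g a))
    obtain ⟨j, hj⟩ := K.pi1_lift i
    refine S.eq_of_rho (S.exists_lift a).choose_spec (c' := (K.pElem ^ 2) ^ j)
      (by simpa using S.lift_pow (S.lift_pow K.p_lift 2) j) ?_
    have h := he a
    rw [hi, hj] at h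
    rw [map_pow, map_pow, ← hsemi, conj_pow, ← h]
    simp only [mul_inv_rev, K.sigma_inv]
    rw [show K.sigma * (K.sigma * S.rho (S.exists_lift a).choose * K.sigma) * K.sigma =
      (K.sigma * K.sigma) * S.rho (S.exists_lift a).choose * (K.sigma * K.sigma) by group, K.sigma_sq, one_mul,
      mul_one]
  exact ⟨MulEquiv.ofBijective F (Finite.injective_iff_bijective.1 hinj), hadd, hsemi, hwell⟩

theorem outer_cols {c : ↥(centralizer ({z} : Set G))} (hn : (c : G) ∈ normalizer (P : Set G))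
    (hc : (c : G) ∉ centralizer (P : Set G)) : ∃ C, InK0 C ∧ K.Rel c (mulC sC C) := by
  obtain ⟨αs, hs⟩ := K.exists_sigma_aut
  set n : ↥(normalizer (P : Set G) ⊓ centralizer ({z} : Set G)) := toNH c hn with hndef
  have hαd : S.pi n ∉ Cfsg.Inn ↥Cfsg.Spor.M22 := fun h => hc (S.inner_cent n h)
  have hdconj : ∀ m e, S.Lift m e → ∃ e', S.Lift (S.pi n m) e' ∧ S.rho c * S.rho e * (S.rho c)⁻¹ = S.rho e' := by
    rintro m e ⟨he, hem⟩
    have he' : ((c * e * c⁻¹ : ↥(centralizer ({z} : Set G))) : G) ∈ centralizer (P : Set G) := by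
      refine mem_centralizer_iff.2 fun x hx => ?_
      have hx' : (c : G)⁻¹ * x * c ∈ P := by
        have := LargeExtra.conj_mem (inv_mem hn) hx
        simpa using this
      have := mem_centralizer_iff.1 he _ hx'
      calc x * ((c : G) * e * (c : G)⁻¹) = (c : G) * ((c : G)⁻¹ * x * c * e) * (c : G)⁻¹ := by group
        _ = _ := by rw [this]; push_cast; group
    refine ⟨c * e * c⁻¹, ⟨he', ?_⟩, by rw [map_mul, map_mul, map_inv]⟩
    have h1 : toNH (c * e * c⁻¹) (centralizer_le_normalizer _ he') =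
        n * toNH e (centralizer_le_normalizer _ he) * n⁻¹ := rfl
    rw [h1, map_mul, map_mul, map_inv, hem]
    ext a
    simp [MulAut.conj_apply]
  set τ := K.sigma * S.rho c with hτ
  have hαi : αs * S.pi n ∈ Cfsg.Inn ↥Cfsg.Spor.M22 := by
    rw [mul_mem_iff_of_index_two index_inn]
    exact iff_of_false (K.semi_not_inner hs) hαd
  obtain ⟨m0, hm0⟩ := hαi
  obtain ⟨c0, hc0⟩ := S.exists_lift m0
  set τ' := (S.rho c0)⁻¹ * τ with hτ'
  have hconj : ∀ m e, S.Lift m e → ∃ e', S.Lift m e' ∧ τ' * S.rho e * τ'⁻¹ = S.rho e' := by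
    intro m e he
    obtain ⟨e1, he1, h1⟩ := hdconj m e he
    obtain ⟨e2, he2, h2⟩ := hs.conj _ _ he1
    have h3 : αs (S.pi n m) = m0 * m * m0⁻¹ := by
      show (αs * S.pi n) m = _
      rw [← hm0]; rfl
    refine ⟨c0⁻¹ * e2 * c0, ?_, ?_⟩
    · have := S.lift_mul (S.lift_mul (S.lift_inv hc0) he2) hc0
      simpa [h3, mul_assoc] using this
    · rw [map_mul, map_mul, map_inv, ← h2, ← h1, hτ', hτ]
      group
  have hexact : ∀ {m e} {k : ℕ}, S.Lift m e → k % 3 ≠ 0 → S.rho e ^ k = 1 → Commute τ' (S.rho e) := by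
    intro m e k he hk hek
    obtain ⟨e', he', h⟩ := hconj m e he
    have hk' : S.rho e' ^ k = 1 := by rw [← h, conj_pow, hek]; group
    rw [S.rel_exact he' he hk hk' hek] at h
    exact mul_inv_eq_iff_eq_mul.1 h
  have hadd : ∀ u v, τ' (u + v) = τ' u + τ' v := fun u v => by
    rw [hτ', hτ]
    simp only [Equiv.Perm.mul_apply]
    rw [S.ctx.rhoC_add, hs.add, ← map_inv, S.ctx.rhoC_add]
  have hp : Commute τ' (S.rho K.pElem) := by
    have hcp : (c : G) * (K.pElem : G) * (c : G)⁻¹ = (K.pElem : G) ^ 2 := by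
      have hmem : (c : G) * (K.pElem : G) * (c : G)⁻¹ ∈ P :=
        LargeExtra.conj_mem hn (K.p_zp.le (mem_zpowers _))
      have ho : orderOf (K.pElem : G) = 3 := by
        rw [← Nat.card_zpowers, K.p_zp, ← S.p_gen, Nat.card_zpowers, S.p_order]
      classical
      replace hmem := (K.p_zp.ge hmem : (c : G) * (K.pElem : G) * (c : G)⁻¹ ∈ zpowers (K.pElem : G))
      rw [mem_zpowers_iff_mem_range_orderOf, ho] at hmem
      obtain ⟨i, hi, e⟩ := Finset.mem_image.1 hmem
      rw [Finset.mem_range] at hi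
      interval_cases i
      · exfalso
        rw [pow_zero, eq_comm, mul_inv_eq_one, mul_eq_left] at e
        rw [e, orderOf_one] at ho
        omega
      · exfalso
        rw [pow_one] at e
        refine hc (mem_centralizer_iff.2 fun x hx => ?_)
        replace hx := (K.p_zp.ge hx : x ∈ zpowers (K.pElem : G))
        obtain ⟨k, rfl⟩ := hx
        exact ((show Commute (c : G) (K.pElem : G) from mul_inv_eq_iff_eq_mul.1 e.symm).zpow_right k).symm.eq
      · exact e.symm
    have h1 : S.rho c * S.rho K.pElem * (S.rho c)⁻¹ = S.rho K.pElem ^ 2 := by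
      rw [← map_inv, ← map_mul, ← map_mul, ← map_pow,
        show c * K.pElem * c⁻¹ = K.pElem ^ 2 from Subtype.ext hcp]
    have h2 : τ * S.rho K.pElem * τ⁻¹ = S.rho K.pElem := by
      rw [hτ, show K.sigma * S.rho c * S.rho K.pElem * (K.sigma * S.rho c)⁻¹ =
        K.sigma * (S.rho c * S.rho K.pElem * (S.rho c)⁻¹) * K.sigma⁻¹ by group, h1, ← conj_pow, hs.semi,
        ← pow_mul]
      obtain ⟨k, hk⟩ := K.p_pow
      rw [show 2 * 2 = 3 + 1 by rfl, pow_add, pow_one, hk, ← pow_mul, mul_comm k 3, pow_mul, S.pi1_cube, one_pow,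
        one_mul]
    have hc0p : Commute (S.rho c0) (S.rho K.pElem) := by
      obtain ⟨k, hk⟩ := K.p_pow
      rw [hk]
      exact (S.rho_pi1_comm hc0).pow_right k
    exact (Commute.inv_left hc0p).mul_left (mul_inv_eq_iff_eq_mul.1 h2)
  obtain ⟨i, hi⟩ := K.scalar_of_comm hadd (hexact K.L.hx (by norm_num) K.L.x11)
    (hexact K.L.hy (by norm_num) K.L.y5) (hexact K.L.hf (by norm_num) K.L.f4) hp
  obtain ⟨C, hC, hr⟩ := K.cent_cols _ (c0 * K.pElem ^ i) (by simpa using S.lift_mul hc0 (S.lift_pow K.p_lift i))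
  refine ⟨C, hC, fun k hk => ?_⟩
  have e : S.rho c = K.sigma * (S.rho c0 * S.rho K.pElem ^ i) := by
    rw [← hi, hτ', hτ, mul_inv_cancel_left, ← mul_assoc, K.sigma_sq, one_mul]
  rw [e, ← map_pow, ← map_mul, Equiv.Perm.mul_apply, hr k hk, K.sigma_phi (gen_app_lt (gen_mono hC) k), app_mulC]

include K in
/-- An element centralising P induces an inner automorphism. -/
theorem cent_inner {n : ↥(normalizer (P : Set G) ⊓ centralizer ({z} : Set G))}
    (hn : (n : G) ∈ centralizer (P : Set G)) : S.pi n ∈ Cfsg.Inn ↥Cfsg.Spor.M22 := by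
  by_contra hαd
  obtain ⟨αs, hs⟩ := K.exists_sigma_aut
  set c : ↥(centralizer ({z} : Set G)) := ⟨n, n.2.2⟩ with hc
  have hcp : Commute (S.rho c) (S.rho K.pElem) := by
    obtain ⟨k, hk⟩ := K.p_pow
    rw [hk]
    exact (((S.comm_p (c := c) hn).map S.rho)).pow_right k
  have hsemi : K.Semi (K.sigma * S.rho c) (αs * S.pi n) := by
    refine ⟨fun u v => ?_, ?_, fun m e he => ?_⟩
    · simp only [Equiv.Perm.mul_apply]
      rw [S.ctx.rhoC_add, hs.add]
    · rw [show K.sigma * S.rho c * S.rho K.pElem * (K.sigma * S.rho c)⁻¹ =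
        K.sigma * (S.rho c * S.rho K.pElem * (S.rho c)⁻¹) * K.sigma⁻¹ by group,
        hcp.eq, mul_inv_cancel_right, hs.semi]
    · obtain ⟨he1, hem⟩ := he
      have he' : ((c * e * c⁻¹ : ↥(centralizer ({z} : Set G))) : G) ∈ centralizer (P : Set G) :=
        mul_mem (mul_mem hn he1) (inv_mem hn)
      have hlift : S.Lift (S.pi n m) (c * e * c⁻¹) := by
        refine ⟨he', ?_⟩
        have h1 : toNH (c * e * c⁻¹) (centralizer_le_normalizer _ he') =
            n * toNH e (centralizer_le_normalizer _ he1) * n⁻¹ := rfl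
        rw [h1, map_mul, map_mul, map_inv, hem]
        ext a
        simp [MulAut.conj_apply]
      obtain ⟨e2, he2, h2⟩ := hs.conj _ _ hlift
      refine ⟨e2, he2, ?_⟩
      rw [← h2, map_mul, map_mul, map_inv]
      group
  refine K.semi_not_inner hsemi ?_
  rw [mul_mem_iff_of_index_two index_inn]
  exact iff_of_false (K.semi_not_inner hs) hαd

theorem all_cols (c : ↥(centralizer ({z} : Set G))) : ∃ C, InL0 C ∧ K.Rel c C := by
  obtain ⟨q, hq, n, hn, e⟩ := S.decomp c c.2
  obtain ⟨q', hq', rfl⟩ := hq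
  have e' : c = q' * ⟨n, hn.2⟩ := Subtype.ext e
  have h1 : S.rho c = S.rho ⟨n, hn.2⟩ := by
    rw [e', map_mul, MonoidHom.mem_ker.1 (S.ctx.rhoC_Q hq'), one_mul]
  suffices h : ∃ C, InL0 C ∧ K.Rel ⟨n, hn.2⟩ C by
    obtain ⟨C, hC, hr⟩ := h
    exact ⟨C, hC, fun k hk => by rw [h1]; exact hr k hk⟩
  by_cases hc : n ∈ centralizer (P : Set G)
  · obtain ⟨m, hm⟩ := K.cent_inner (n := toNH ⟨n, hn.2⟩ (centralizer_le_normalizer _ hc)) hc
    obtain ⟨C, hC, hr⟩ := K.cent_cols m _ ⟨hc, hm.symm⟩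
    exact ⟨C, gen_mono hC, hr⟩
  · obtain ⟨C, hC, hr⟩ := K.outer_cols (c := ⟨n, hn.2⟩) hn.1 hc
    exact ⟨_, Gen.mul (by simp [gensL]) (gen_mono hC), hr⟩

theorem all_elem {C : List ℕ} (h : InL0 C) : ∃ c, K.Rel c C := by
  obtain ⟨cs, hcs⟩ : ∃ c, K.Rel c sC := by
    obtain ⟨α, hα⟩ := K.exists_sigma_aut
    obtain ⟨n, hn⟩ := S.pi_surj α
    have hne : (n : G) ∉ centralizer (P : Set G) := fun h =>
      K.semi_not_inner hα (hn ▸ K.cent_inner h)
    obtain ⟨D, hD, hr⟩ := K.outer_cols (c := ⟨n, n.2.2⟩) n.2.1 hne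
    obtain ⟨d, -, hd⟩ := K.exists_cent hD
    refine ⟨⟨n, n.2.2⟩ * d⁻¹, fun k hk => ?_⟩
    obtain ⟨k', hk', e⟩ := K.surj ((S.rho d)⁻¹ (phi K.b k))
    have e2 : app D k' = k := K.inj _ (gen_app_lt (gen_mono hD) k') k hk (by
      rw [← hd k' hk', e, Equiv.Perm.inv_def, Equiv.apply_symm_apply])
    rw [map_mul, map_inv, Equiv.Perm.mul_apply, ← e, hr k' hk', app_mulC, e2]
  induction h with
  | one => exact ⟨1, K.rel_one⟩
  | @mul g C hg hC ih =>
    obtain ⟨c, hc⟩ := ih
    simp only [gensL, List.mem_cons, List.not_mem_nil, or_false] at hg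
    rcases hg with rfl | rfl | rfl | rfl | rfl
    · exact ⟨K.L.x * c, K.rel_mul (fun n _ => K.hx n) hc hC⟩
    · exact ⟨K.L.y * c, K.rel_mul (fun n _ => K.hy n) hc hC⟩
    · exact ⟨K.L.f * c, K.rel_mul (fun n _ => K.hf n) hc hC⟩
    · exact ⟨K.pElem * c, K.rel_mul (fun n _ => K.hp n) hc hC⟩
    · exact ⟨cs * c, K.rel_mul hcs hc hC⟩

open Classical in
/-- The form in coordinates. -/
noncomputable def gv (n : ℕ) : Bool := decide (Ctx.qV (Q := S.Q) (phi K.b n) = 1)

theorem qV_eq_qbit {n : ℕ} (hn : n < 4096) : K.gv n = qbit n := by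
  classical
  have hinv : ∀ (C : List ℕ) (c : ↥(centralizer ({z} : Set G))),
      (∀ q, S.rho c (phi K.b q) = phi K.b (app C q)) → ∀ q, K.gv (app C q) = K.gv q := fun C c hC q => by
    unfold gv
    rw [← hC, S.ctx.qV_rhoC]
  have hconst : ∀ k : Fin 3, ∀ n < 4096, (mask k).testBit n = true → K.gv n = K.gv (J4Module.rep k) := by
    intro k n _ hk
    refine J4Module.grow_spec (S := {q | K.gv q = K.gv (J4Module.rep k)}) (fun g q hq => ?_) (J4Module.tree k) _ _
      (J4Module.grow_ok k) (fun q hq => ?_) n hk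
    · show K.gv _ = _
      rw [J4Module.genMap]
      split_ifs
      · rw [hinv xC _ K.hx]; exact hq
      · rw [hinv yC _ K.hy]; exact hq
      · rw [hinv fC _ K.hf]; exact hq
    · rw [Nat.one_shiftLeft, Nat.testBit_two_pow, decide_eq_true_eq] at hq
      rw [← hq]
      rfl
  have hqV0 : Ctx.qV (Q := S.Q) 0 = 0 := by
    have h := S.ctx.b_add 0 0 0
    simp only [add_zero] at h
    revert h
    generalize Ctx.qV (Q := S.Q) 0 = a
    revert a
    decide
  have hg0 : K.gv 0 = false := by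
    unfold gv
    rw [J4Module.phi_zero, hqV0]
    decide
  set a := K.gv (J4Module.rep 0)
  set b := K.gv (J4Module.rep 1)
  set c := K.gv (J4Module.rep 2)
  have hval : ∀ n < 4096, K.gv n = val a b c n := fun n hn => by
    by_cases h0 : n = 0
    · rw [h0, hg0, val, cls_zero]; rfl
    · obtain ⟨k, hk, -⟩ := (J4Module.mask_cover n hn).2 h0
      rw [hconst k n hn hk, val, cls_spec n hn k hk]
      fin_cases k <;> rfl
  have hdef : ∀ t ∈ witnesses, defect (val a b c) t = false := by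
    intro t ht
    obtain ⟨h1, h2, h3⟩ := witnesses_lt t ht
    have hx := @Nat.xor_lt_two_pow
    have key : ∀ u v w, u < 4096 → v < 4096 → w < 4096 →
        (K.gv (u ^^^ v ^^^ w) ^^ K.gv (u ^^^ v) ^^ K.gv (u ^^^ w) ^^ K.gv (v ^^^ w) ^^ K.gv u ^^ K.gv v ^^
          K.gv w) = false := by
      intro u v w _ _ _
      unfold gv
      simp only [phi_xor S.ctx.two]
      have h := S.ctx.b_add (phi K.b u) (phi K.b v) (phi K.b w)
      revert h
      generalize Ctx.qV (Q := S.Q) (phi K.b u + phi K.b v + phi K.b w) = a1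
      generalize Ctx.qV (Q := S.Q) (phi K.b u + phi K.b v) = a2
      generalize Ctx.qV (Q := S.Q) (phi K.b u + phi K.b w) = a3
      generalize Ctx.qV (Q := S.Q) (phi K.b v + phi K.b w) = a4
      generalize Ctx.qV (Q := S.Q) (phi K.b u) = a5
      generalize Ctx.qV (Q := S.Q) (phi K.b v) = a6
      generalize Ctx.qV (Q := S.Q) (phi K.b w) = a7
      revert a1 a2 a3 a4 a5 a6 a7
      decide
    unfold defect
    rw [← hval _ (hx (n := 12) (hx (n := 12) h1 h2) h3), ← hval _ (hx (n := 12) h1 h2),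
      ← hval _ (hx (n := 12) h1 h3), ← hval _ (hx (n := 12) h2 h3), ← hval _ h1, ← hval _ h2, ← hval _ h3]
    exact key _ _ _ h1 h2 h3
  rcases val_spec a b c hdef with ⟨ha, hb, hc⟩ | ⟨ha, hb, hc⟩
  · exfalso
    have hall : ∀ w : VQ S.Q, Ctx.qV w = 0 := fun w => by
      obtain ⟨m, hm, rfl⟩ := K.surj w
      have h := hval m hm
      rw [ha, hb, hc, show val false false false m = false by unfold val; split <;> rfl] at h
      unfold gv at h
      rw [decide_eq_false_iff_not] at h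
      revert h
      generalize Ctx.qV (Q := S.Q) (phi K.b m) = a1
      revert a1
      decide
    have := S.ctx.nondeg (phi K.b 1) fun v => by rw [hall, hall, hall, add_zero]
    have h1 := K.inj 1 (by norm_num) 0 (by norm_num) (this.trans (J4Module.phi_zero _).symm)
    omega
  · rw [hval n hn, ha, hb, hc, cls_qbit n hn]
    unfold val
    split <;> simp_all

end Shape.Coords

theorem exists_model {z : G} {P : Subgroup G} (hJ : Cfsg.IsOfJankoFourTypeWith z P) : Nonempty (Model z P) := by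
  classical
  obtain ⟨S⟩ := exists_shape hJ
  obtain ⟨K⟩ := S.exists_coords
  let vec : ↥(QG S.Q) → ℕ := fun x => (K.surj (mkV x)).choose
  have hlt : ∀ x, vec x < 4096 := fun x => (K.surj (mkV x)).choose_spec.1
  have hphi : ∀ x, phi K.b (vec x) = mkV x := fun x => (K.surj (mkV x)).choose_spec.2
  have hacts : ∀ {c C}, InL0 C → K.Rel c C → ActsOn vec S.ctx c C := fun {c C} hC hr x => by
    refine K.inj _ (hlt _) _ (gen_app_lt hC _) ?_
    rw [hphi, ← hr _ (hlt x), hphi]
    rfl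
  refine ⟨{
    Q := S.Q, normal := S.normal, qg := S.qg, ctx := S.ctx, vec := vec, vec_lt := hlt
    vec_surj := fun n hn => ?_
    vec_eq_iff := fun {x y} => ?_
    vec_mul := fun x y => ?_
    sq_iff := fun x => ?_
    exists_cols := fun c => ?_
    exists_elem := fun C hC => ?_
    mem_Q := fun c hc => ?_
    card_quot := S.card_quot
    pElem := K.pElem
    p_gen := K.p_zp
    p_acts := fun x => ?_
    card_P := by rw [← S.p_gen, Nat.card_zpowers, S.p_order]
    inf_cent := S.inf_cent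
    decomp := fun c => S.decomp c c.2
    cent_cols := fun c hc => ?_
    cent_elem := fun C hC => ?_ }⟩
  · obtain ⟨x, hx⟩ := mkV_surjective (phi K.b n)
    exact ⟨x, K.inj _ (hlt x) n hn ((hphi x).trans hx)⟩
  · rw [← S.ctx.mkV_eq_iff, ← hphi x, ← hphi y]
    exact ⟨fun e => by rw [e], fun e => K.inj _ (hlt x) _ (hlt y) e⟩
  · refine K.inj _ (hlt _) _ (Nat.xor_lt_two_pow (n := 12) (hlt x) (hlt y)) ?_
    rw [hphi, phi_xor S.ctx.two, hphi, hphi, mkV_mul]
  · rw [← K.qV_eq_qbit (hlt x)]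
    unfold Shape.Coords.gv
    rw [hphi, S.ctx.qV_mk, Ctx.sq2]
    by_cases h : (x : G) * x = 1 <;> simp [h]
  · obtain ⟨C, hC, hr⟩ := K.all_cols c
    exact ⟨C, hC, hacts hC hr⟩
  · obtain ⟨c, hc⟩ := K.all_elem hC
    exact ⟨c, hacts hC hc⟩
  · have hr : S.ctx.rhoC c = 1 := by
      refine Equiv.ext fun w => ?_
      obtain ⟨x, rfl⟩ := mkV_surjective w
      show mkV (S.ctx.conjQ c x) = mkV x
      rw [← hphi, ← hphi, hc x, app_unitC _ (hlt x)]
    have := MonoidHom.mem_ker.2 hr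
    rwa [S.ctx.rhoC_ker] at this
  · exact hacts (gen_mono (Gen.mul (g := pC) (C := unitC) (by simp [gensK]) Gen.one)) (fun n hn => by
      rw [app_mulC, app_unitC n hn]; exact K.hp n) x |>.trans
      (by rw [gens_cols.2.2.2.2.2.2.2])
  · obtain ⟨m, hm⟩ := K.cent_inner (n := Shape.toNH c (centralizer_le_normalizer _ hc)) hc
    obtain ⟨C, hC, hr⟩ := K.cent_cols m c ⟨hc, hm.symm⟩
    exact ⟨C, hC, hacts (gen_mono hC) hr⟩
  · obtain ⟨c, ⟨m, hm, -⟩, hr⟩ := K.exists_cent hC
    exact ⟨c, hm, hacts (gen_mono hC) hr⟩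

end Cfsg.Agent.JankoFour
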