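import Cfsg.Agent.Lib.JankoFour.ThreeCent

/-!
The central involution lies in the derived group of the centraliser of P in the centraliser of z.
-/

set_option autoImplicit false

namespace Cfsg.Agent.JankoFour

open Subgroup
open scoped symmDiff

universe u

variable {G : Type u} [Group G] [Finite G] {z : G} {P : Subgroup G}

theorem z_mem_derived (hJ : Cfsg.IsOfJankoFourTypeWith z P) {M : Model z P} (D : BigData M) (B : BigPack z D.V) :
    z ∈ ⁅centralizer ({z} : Set G) ⊓ centralizer (P : Set G), centralizer ({z} : Set G) ⊓ centralizer (P : Set G)⁆ := by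
  classical
  by_contra hzK
  obtain ⟨S⟩ := exists_shape hJ
  have hPC' := hJ.2.2.2.2.2.2.2.2
  haveI hs := Golay.isSimpleGroup_sporM22
  set C := centralizer ({z} : Set G) ⊓ centralizer (P : Set G) with hC
  obtain ⟨φ, hφ, hker⟩ : ∃ φ : ↥C →* ↥Cfsg.Spor.M22, Function.Surjective φ ∧
      ∀ c, φ c = 1 ↔ ∃ a ∈ P, ∃ s ∈ zpowers z, (c : G) = a * s := exists_onto S
  set K := ⁅C, C⁆ with hK
  have hz2 : z * z = 1 := M.ctx.xs.sq
  have hperf22 : commutator ↥Cfsg.Spor.M22 = ⊤ := by
    refine (inferInstance : (commutator ↥Cfsg.Spor.M22).Normal).eq_bot_or_eq_top.resolve_left fun h => ?_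
    rw [_root_.commutator_def, commutator_eq_bot_iff_le_centralizer] at h
    let _ : CommGroup ↥Cfsg.Spor.M22 := { mul_comm := fun a b => (mem_centralizer_iff.1 (h (mem_top b)) a (mem_top a)) }
    have hp' := IsSimpleGroup.prime_card (α := ↥Cfsg.Spor.M22)
    rw [Golay.card_sporM22] at hp'
    norm_num at hp'
  have hor : ∀ c ∈ C, c ∈ K ∨ c * z ∈ K := by
    intro c hc
    have h : φ ⟨c, hc⟩ ∈ (commutator ↥C).map φ := by
      rw [_root_.commutator_def, map_commutator, map_top_of_surjective φ hφ, ← _root_.commutator_def, hperf22]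
      exact mem_top _
    obtain ⟨d, hd, e⟩ := h
    have hd' : (d : G) ∈ K := by
      have : (d : G) ∈ (commutator ↥C).map C.subtype := ⟨d, hd, rfl⟩
      rwa [_root_.commutator_def, map_commutator, ← MonoidHom.range_eq_map, range_subtype] at this
    obtain ⟨a, ha, s, ⟨i, rfl⟩, es⟩ := (hker (d⁻¹ * ⟨c, hc⟩)).1 (by rw [map_mul, map_inv, e, inv_mul_cancel])
    have hc' : c = (d : G) * (a * z ^ i) := by rw [← es]; simp
    rcases Int.even_or_odd i with ⟨j, rfl⟩ | ⟨j, rfl⟩
    · left
      rw [hc', zpow_add, ← Commute.mul_zpow (Commute.refl z), hz2, one_zpow, mul_one]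
      exact mul_mem hd' (hPC' ha)
    · right
      rw [hc', zpow_add, zpow_mul, zpow_two, hz2, one_zpow, one_mul, zpow_one, mul_assoc, mul_assoc a, hz2, mul_one]
      exact mul_mem hd' (hPC' ha)
  have hconj : ∀ c ∈ C, ∀ k ∈ K, c * k * c⁻¹ ∈ K := by
    intro c hc k hk
    induction hk using closure_induction with
    | mem y hy =>
      obtain ⟨a, ha, b, hb, rfl⟩ := hy
      refine subset_closure ⟨c * a * c⁻¹, mul_mem (mul_mem hc ha) (inv_mem hc), c * b * c⁻¹,
        mul_mem (mul_mem hc hb) (inv_mem hc), ?_⟩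
      simp only [commutatorElement_def]; group
    | one => rw [mul_one, mul_inv_cancel]; exact one_mem _
    | mul x y _ _ h1 h2 => rw [show c * (x * y) * c⁻¹ = c * x * c⁻¹ * (c * y * c⁻¹) by group]; exact mul_mem h1 h2
    | inv x _ h1 => rw [show c * x⁻¹ * c⁻¹ = (c * x * c⁻¹)⁻¹ by group]; exact inv_mem h1
  have hF : ∀ {d : Finset Cfsg.GolayPt}, d.card = 2 → d ⊆ D.points B → B.eS d ∈ C := fun hd hdF => by
    have h := (D.duad_mem_iff B hd).2 hdF
    exact ⟨D.le_cent h.1, h.2⟩
  obtain ⟨t, htF, ht⟩ := Finset.exists_subset_card_eq (s := D.points B) (n := 3) (by rw [D.points_card B]; norm_num)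
  obtain ⟨p, q, r, hpq, hpr, hqr, rfl⟩ := Finset.card_eq_three.1 ht
  simp only [Finset.insert_subset_iff, Finset.singleton_subset_iff] at htF
  have h1 : ({p, q} : Finset Cfsg.GolayPt) ⊆ D.points B := by simp [Finset.insert_subset_iff, htF]
  have h2 : ({q, r} : Finset Cfsg.GolayPt) ⊆ D.points B := by simp [Finset.insert_subset_iff, htF]
  have h3 : ({p, r} : Finset Cfsg.GolayPt) ⊆ D.points B := by simp [Finset.insert_subset_iff, htF]
  have hsd : ({p, q} : Finset Cfsg.GolayPt) ∆ {q, r} = {p, r} := by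
    ext x
    simp only [Finset.mem_symmDiff, Finset.mem_insert, Finset.mem_singleton]
    grind
  have e3 : B.eS {p, r} = B.eS {p, q} * B.eS {q, r} := by
    rw [← hsd, B.eS_symmDiff _ _ (by rw [Finset.card_pair hpq]; decide) (by rw [Finset.card_pair hqr]; decide)]
  have key : ∀ {d d' : Finset Cfsg.GolayPt}, d.card = 2 → d'.card = 2 → d ⊆ D.points B → d' ⊆ D.points B →
      B.eS d ∈ K → B.eS d' ∈ K := by
    intro d d' hd hd' hdF hdF' h
    obtain ⟨c, hc, hce⟩ := D.duad_trans B hd hd' hdF hdF'
    exact hce ▸ hconj c hc _ h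
  have keyz : ∀ {d d' : Finset Cfsg.GolayPt}, d.card = 2 → d'.card = 2 → d ⊆ D.points B → d' ⊆ D.points B →
      B.eS d * z ∈ K → B.eS d' * z ∈ K := by
    intro d d' hd hd' hdF hdF' h
    obtain ⟨c, hc, hce⟩ := D.duad_trans B hd hd' hdF hdF'
    have := hconj c hc _ h
    rwa [show c * (B.eS d * z) * c⁻¹ = c * B.eS d * c⁻¹ * (c * z * c⁻¹) by group, hce,
      mem_centralizer_singleton_iff.1 hc.1, mul_inv_cancel_right] at this
  rcases hor _ (hF (Finset.card_pair hpq) h1) with h | h
  · -- all duads of the six points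
    obtain ⟨d, hdF, hd⟩ := Finset.exists_subset_card_eq (s := D.points B) (n := 2) (by rw [D.points_card B]; norm_num)
    have hrest : (D.points B \ d).card = 4 := by rw [Finset.card_sdiff_of_subset hdF, D.points_card B, hd]
    obtain ⟨d2, hd2F, hd2⟩ := Finset.exists_subset_card_eq (s := D.points B \ d) (n := 2) (by omega)
    set d3 := (D.points B \ d) \ d2 with hd3'
    have hd3 : d3.card = 2 := by rw [hd3', Finset.card_sdiff_of_subset hd2F, hrest, hd2]
    have hall : (d ∆ d2) ∆ d3 = D.points B := by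
      ext x
      have h1 := @hdF x
      have h2 := @hd2F x
      simp only [hd3', Finset.mem_symmDiff, Finset.mem_sdiff] at h2 ⊢
      tauto
    have hz : z = B.eS d * B.eS d2 * B.eS d3 := by
      have he : Even (d ∆ d2).card := by
        rw [show d ∆ d2 = d ∪ d2 by
          ext x
          have h2 := @hd2F x
          simp only [Finset.mem_symmDiff, Finset.mem_union, Finset.mem_sdiff] at h2 ⊢
          tauto, Finset.card_union_of_disjoint (Finset.disjoint_right.2 fun x hx => (Finset.mem_sdiff.1 (hd2F hx)).2),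
          hd, hd2]
        decide
      refine (D.z_eq B).symm.trans ?_
      rw [← hall, B.eS_symmDiff _ _ he (by rw [hd3]; decide),
        B.eS_symmDiff _ _ (by rw [hd]; decide) (by rw [hd2]; decide)]
    refine hzK (Eq.subst (motive := fun x => x ∈ K) hz.symm ?_)
    exact mul_mem (mul_mem (key (Finset.card_pair hpq) hd h1 hdF h)
      (key (Finset.card_pair hpq) hd2 h1 (hd2F.trans Finset.sdiff_subset) h))
      (key (Finset.card_pair hpq) hd3 h1 (Finset.sdiff_subset.trans Finset.sdiff_subset) h)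
  · -- all of them times z
    refine hzK ?_
    have a1 := keyz (Finset.card_pair hpq) (Finset.card_pair hqr) h1 h2 h
    have a3 := keyz (Finset.card_pair hpq) (Finset.card_pair hpr) h1 h3 h
    have hcz : z * B.eS {q, r} = B.eS {q, r} * z := (mem_centralizer_singleton_iff.1 (hF (Finset.card_pair hqr) h2).1).symm
    have h4 : B.eS {p, q} * z * (B.eS {q, r} * z) = B.eS {p, r} := by
      rw [e3]
      calc B.eS {p, q} * z * (B.eS {q, r} * z) = B.eS {p, q} * (z * B.eS {q, r}) * z := by group
        _ = B.eS {p, q} * B.eS {q, r} * (z * z) := by rw [hcz]; group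
        _ = _ := by rw [hz2, mul_one]
    have := mul_mem (inv_mem (h4 ▸ mul_mem h a1 : B.eS {p, r} ∈ K)) a3
    rwa [inv_mul_cancel_left] at this

end Cfsg.Agent.JankoFour
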