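import Cfsg.Agent.Lib.JankoFour.ThreeClass
import Cfsg.Agent.Lib.JankoFour.ThreeDerived
import Cfsg.Agent.Lib.JankoFour.Exists
import Cfsg.Agent.Lib.JankoFour.BigBuild
import Cfsg.Agent.Lib.JankoFour.Assemble
import Cfsg.Agent.Lib.JankoFour.CentPair
import Cfsg.Agent.Lib.JankoFour.CoordMain

/-!
The three-local statements for a group of Janko-four type, from a pack at the given involution.
-/

set_option autoImplicit false

namespace Cfsg.Agent.JankoFour

open Subgroup

universe u

variable {G : Type u} [Group G] [Finite G] {z : G} {P : Subgroup G}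

theorem exists_big_pack [IsSimpleGroup G] (hG : ¬ IsMulCommutative G) (hJ : Cfsg.IsOfJankoFourTypeWith z P) :
    ∃ (M : Model z P) (D : BigData M), Nonempty (BigPack z D.V) := by
  obtain ⟨M⟩ := exists_model hJ
  obtain ⟨D⟩ := M.exists_bigData
  obtain ⟨C⟩ := D.exists_bigCoords
  exact ⟨M, D, BigData.Facts.exists_pack ⟨C, fun _ h1 h2 h3 h4 => D.cent_pair_le h1 h2 h3 h4⟩ hG⟩

theorem order_three_of_pack (hJ : Cfsg.IsOfJankoFourTypeWith z P) {M : Model z P} (D : BigData M) (B : BigPack z D.V) :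
    ⁅(centralizer ({z} : Set G) ⊓ centralizer (P : Set G)), (centralizer ({z} : Set G) ⊓ centralizer (P : Set G))⁆ = (centralizer ({z} : Set G) ⊓ centralizer (P : Set G)) ∧
    IsCyclic ↥(center ↥(centralizer ({z} : Set G) ⊓ centralizer (P : Set G))) ∧
    Nat.card ↥(center ↥(centralizer ({z} : Set G) ⊓ centralizer (P : Set G))) = 6 ∧
    Cfsg.Spor.IsoM22 (↥(centralizer ({z} : Set G) ⊓ centralizer (P : Set G)) ⧸ center ↥(centralizer ({z} : Set G) ⊓ centralizer (P : Set G))) ∧
    normalizer (P : Set G) ≤ centralizer ({z} : Set G) :=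
  order_three_centralizer hJ D B (z_mem_derived hJ D B)

theorem one_class_of_pack (hJ : Cfsg.IsOfJankoFourTypeWith z P) {M : Model z P} (D : BigData M) (B : BigPack z D.V) :
    ∀ x y : G, orderOf x = 3 → orderOf y = 3 → IsConj x y := by
  obtain ⟨R, F⟩ := exists_three_facts hJ D B (z_mem_derived hJ D B)
  exact conj_of_order_three D B F (order_three_of_pack hJ D B).2.2.2.2

theorem sylow_three_of_pack (hJ : Cfsg.IsOfJankoFourTypeWith z P) {M : Model z P} (D : BigData M) (B : BigPack z D.V)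
    (R : Sylow 3 G) (hR : (R : Subgroup G) ≤ centralizer ({z} : Set G)) :
    Cfsg.IsExtraspecial 3 ↥(R : Subgroup G) ∧ Nat.card ↥(R : Subgroup G) = 27 ∧ Monoid.exponent ↥(R : Subgroup G) = 3 ∧
    normalizer ((R : Subgroup G) : Set G) ≤ centralizer ({z} : Set G) ∧
    Nat.card ↥(normalizer ((R : Subgroup G) : Set G)) = 864 := by
  obtain ⟨R₀, F⟩ := exists_three_facts hJ D B (z_mem_derived hJ D B)
  exact F.sylow_structure R hR

end Cfsg.Agent.JankoFour
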