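import Cfsg.Agent.Lib.JankoFour.ElevenStruct
import Cfsg.Agent.Lib.JankoFour.FiveMain
import Cfsg.Agent.Lib.JankoFour.FiveLocal
import Cfsg.Agent.Lib.JankoFour.OrderBase
import Cfsg.Agent.Lib.JankoFour.Final
import Cfsg.Agent.Lib.JankoFour.ThreeMain
import Cfsg.Agent.Lib.JankoFour.ElevenBound

/-!
The data at the prime eleven in a simple group of Janko-four type of the given order.
-/

set_option autoImplicit false

namespace Cfsg.Agent.JankoFour

open Subgroup

variable {G : Type*} [Group G] [Finite G]

/-- Conjugate elements have centralisers of equal order. -/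
theorem card_cent_of_isConj {a b : G} (h : IsConj a b) :
    Nat.card ↥(centralizer ({a} : Set G)) = Nat.card ↥(centralizer ({b} : Set G)) := by
  obtain ⟨g, rfl⟩ := isConj_iff.1 h
  refine Nat.card_congr ((MulAut.conj g).toEquiv.subtypeEquiv fun x => ?_)
  simp only [mem_centralizer_singleton_iff, MulEquiv.toEquiv_eq_coe, MulEquiv.coe_toEquiv]
  rw [← show (MulAut.conj g) a = g * a * g⁻¹ from rfl, ← map_mul, ← map_mul, EmbeddingLike.apply_eq_iff_eq]

namespace Model

variable {z : G} {P : Subgroup G} {M : Model z P}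

/-- All that is needed at eleven. -/
structure ElevenSetup (M : Model z P) where
  F : M.Eleven
  K : F.Core
  card_O : Nat.card ↥K.O = 11 ^ 3
  card_X : Nat.card ↥(centralizer ({(F.c : G)} : Set G)) = 31944
  other : SmallOther z
  cent_three : centralizer (P : Set G) ≤ centralizer ({z} : Set G)
  cent_five : ∀ f : G, orderOf f = 5 → Nat.card ↥(centralizer ({f} : Set G)) = 6720
  invol : ∀ f : G, orderOf f = 2 → Nat.card ↥(centralizer ({f} : Set G)) = 2 ^ 21 * 10395 ∨
    Nat.card ↥(centralizer ({f} : Set G)) = 2 ^ 11 * 887040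

end Model

theorem BigData.Facts.nonempty_eleven_setup [IsSimpleGroup G] (hG : ¬ IsMulCommutative G) {z : G} {P : Subgroup G}
    (hJ : Cfsg.IsOfJankoFourTypeWith z P) {M : Model z P} {B : BigData M} (F : B.Facts)
    (hord : Nat.card G = 86775571046077562880) : Nonempty M.ElevenSetup := by
  obtain ⟨D⟩ := F.exists_pack hG
  obtain ⟨hT, -⟩ := F.coords.classify (B.exists_fused hG)
  obtain ⟨Fv⟩ := M.exists_five
  obtain ⟨E⟩ := M.exists_eleven
  obtain ⟨K⟩ := E.exists_core
  set d : Finset GolayPt := TwoCent.duad0
  obtain ⟨ht, hnc, hct, hall⟩ := D.two_classes F hG TwoCent.card_duad0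
  have hfive : ∀ f : G, orderOf f = 5 → Nat.card ↥(centralizer ({f} : Set G)) = 6720 := by
    intro f hf
    haveI : Fact (Nat.Prime 5) := ⟨by norm_num⟩
    have hfac : (Nat.card G).factorization 5 = 1 := by
      rw [hord, show (86775571046077562880 : ℕ) = 5 ^ 1 * 17355114209215512576 by norm_num,
        Nat.factorization_mul (by norm_num) (by norm_num), Finsupp.add_apply,
        Nat.Prime.factorization_pow (by norm_num), Finsupp.single_eq_same,
        Nat.factorization_eq_zero_of_not_dvd (by norm_num)]
    let S : Sylow 5 G := Sylow.ofCard (zpowers f) (by rw [hfac, Nat.card_zpowers, hf, pow_one])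
    let T : Sylow 5 G := Sylow.ofCard (zpowers (Fv.c : G)) (by rw [hfac, Nat.card_zpowers, Fv.order', pow_one])
    obtain ⟨g, hg⟩ := MulAction.exists_smul_eq G T S
    have hmap : (zpowers (Fv.c : G)).map (MulAut.conj g).toMonoidHom = zpowers f := by
      rw [show zpowers f = (S : Subgroup G) from rfl, ← hg]
      rfl
    have hK : Fv.K.map (MulAut.conj g).toMonoidHom = centralizer ({f} : Set G) := by
      have h1 : centralizer ({f} : Set G) = centralizer (zpowers f : Set G) := by
        rw [Subgroup.zpowers_eq_closure, Subgroup.centralizer_closure]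
      have h2 : Fv.K = centralizer (zpowers (Fv.c : G) : Set G) := by
        rw [Subgroup.zpowers_eq_closure, Subgroup.centralizer_closure]

      rw [h1, h2, ← hmap]
      ext x
      simp only [mem_map, mem_centralizer_iff, coe_map, Set.forall_mem_image]
      constructor
      · rintro ⟨a, ha, rfl⟩ b hb
        rw [← map_mul, ha b hb, map_mul]
      · intro h
        refine ⟨(MulAut.conj g).symm x, fun b hb => (MulAut.conj g).injective ?_, (MulAut.conj g).apply_symm_apply x⟩
        rw [map_mul, map_mul, (MulAut.conj g).apply_symm_apply]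
        exact h hb
    rw [← hK, card_map_of_injective (MulAut.conj g).injective, Fv.card_K F.coords hT D]
  have hinv : ∀ f : G, orderOf f = 2 → Nat.card ↥(centralizer ({f} : Set G)) = 2 ^ 21 * 10395 ∨
      Nat.card ↥(centralizer ({f} : Set G)) = 2 ^ 11 * 887040 := by
    intro f hf
    rcases hall f hf with h | h
    · exact Or.inl (by rw [card_cent_of_isConj h, M.card_cent])
    · exact Or.inr (by rw [card_cent_of_isConj h, hct])
  have h121 : ∀ f : G, orderOf f = 2 ∨ orderOf f = 5 → ¬ 121 ∣ Nat.card ↥(centralizer ({f} : Set G)) := by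
    rintro f (hf | hf)
    · rcases hinv f hf with h | h <;> rw [h] <;> norm_num
    · rw [hfive f hf]; norm_num
  obtain ⟨y, hy⟩ := exists_prime_orderOf_dvd_card' (G := ↥(centralizer ({D.eS d} : Set G))) 11
    (by rw [hct]; norm_num) (hp := ⟨by norm_num⟩)
  have hy' : orderOf (y : G) = 11 := by rw [Subgroup.orderOf_coe, hy]
  have hty : D.eS d * (y : G) = y * D.eS d := (mem_centralizer_singleton_iff.1 y.2).symm
  exact ⟨{
    F := E, K := K, card_O := K.card_O B D hord, card_X := K.card_cent_full B D hord
    other := ⟨y, hy', D.not_cube_dvd hord h121 TwoCent.card_duad0 hy' hty, D.eS d, ht, hnc, hty⟩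
    cent_three := (centralizer_le_normalizer _).trans (order_three_of_pack hJ B D).2.2.2.2
    cent_five := hfive, invol := hinv }⟩

theorem exists_eleven_setup [IsSimpleGroup G] (hG : ¬ IsMulCommutative G) {z : G} {P : Subgroup G}
    (hJ : Cfsg.IsOfJankoFourTypeWith z P) (hord : Nat.card G = 86775571046077562880) :
    ∃ M : Model z P, Nonempty M.ElevenSetup := by
  obtain ⟨M, B, ⟨F⟩⟩ := exists_facts hJ
  exact ⟨M, F.nonempty_eleven_setup hG hJ hord⟩

end Cfsg.Agent.JankoFour
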