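import Cfsg.Agent.Lib.JankoFour.ClassElevenBound
import Cfsg.Agent.Lib.JankoFour.ElevenMain
import Cfsg.Agent.Lib.JankoFour.ElevenClasses
import Cfsg.Agent.Lib.JankoFour.ClassFiveReps

/-!
Classes of elements whose order is divisible by eleven.
-/

set_option autoImplicit false
set_option linter.unusedSectionVars false
set_option linter.style.haveILetI false
set_option maxRecDepth 100000

namespace Cfsg.Agent.JankoFour

open Subgroup
open scoped Pointwise
open Cfsg.Agent.LargeFischer (Ctx QG)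
open Cfsg.Agent.J4Module (app)
open Cfsg.Agent.J4Module.Data
open KCount

variable {G : Type*} [Group G] [Finite G]

namespace KCount

/-- Two classes lie over an element whose centraliser has Sylow 2-subgroups of order two. -/
theorem section_two {y t : G} (hy : Odd (orderOf y)) (ht : orderOf t = 2) (hty : t * y = y * t)
    (h4 : ¬ 4 ∣ Nat.card ↥(centralizer ({y} : Set G))) : sectionCard y = 2 := by
  set X := centralizer ({y} : Set G)
  have htX : t ∈ X := mem_centralizer_singleton_iff.2 hty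
  have hd : 2 ∣ Nat.card ↥X := by rw [← ht]; exact Subgroup.orderOf_dvd_natCard X htX
  obtain ⟨m, hm⟩ := hd
  have hm2 : ¬ 2 ∣ m := fun h => h4 (hm ▸ mul_dvd_mul_left 2 h)
  have hfac : (Nat.card ↥X).factorization 2 = 1 := by
    rw [hm, Nat.factorization_mul (by norm_num) (fun h => hm2 (by rw [h]; exact dvd_zero 2)), Finsupp.add_apply,
      Nat.prime_two.factorization_self, Nat.factorization_eq_zero_of_not_dvd hm2]
  have ht1 : t ≠ 1 := fun h => by rw [h, orderOf_one] at ht; norm_num at ht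
  refine sectionCard_eq hy ![1, t] (fun i => ?_) ?_ ?_
  · fin_cases i
    · exact ⟨⟨0, one_pow _⟩, by simp⟩
    · exact ⟨⟨1, by
        have h := pow_orderOf_eq_one t
        rw [ht] at h
        rw [pow_one]; exact h⟩, hty⟩
  · intro u hu hc
    have huX : u ∈ X := mem_centralizer_singleton_iff.2 hc
    obtain ⟨k, hk⟩ := hu
    obtain ⟨j, -, hj⟩ := (Nat.dvd_prime_pow Nat.prime_two).1 (orderOf_dvd_of_pow_eq_one hk)
    have hjd : 2 ^ j ∣ 2 := by
      have h := hj ▸ Subgroup.orderOf_dvd_natCard X huX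
      rw [hm] at h
      exact (Nat.Coprime.pow_left j (Nat.prime_two.coprime_iff_not_dvd.2 hm2)).dvd_of_dvd_mul_right h
    by_cases hu1 : u = 1
    · exact ⟨0, 1, by simp, by simp [hu1]⟩
    have huo : orderOf u = 2 := by
      rcases (Nat.dvd_prime Nat.prime_two).1 hjd with e | e
      · exact absurd (orderOf_eq_one_iff.1 (hj.trans e)) hu1
      · exact hj.trans e
    obtain ⟨g, hg⟩ := conj_into_zpowers Nat.prime_two hfac (w := (⟨t, htX⟩ : ↥X)) (x := ⟨u, huX⟩)
      (by rw [← Subgroup.orderOf_coe]; exact ht) (by rw [← Subgroup.orderOf_coe]; exact huo)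
    obtain ⟨i, hi⟩ := mem_powers_iff_mem_zpowers.2 hg
    have hi' : t ^ i = (g : G) * u * (g : G)⁻¹ := congrArg Subtype.val hi
    rw [← pow_mod_orderOf, ht] at hi'
    rcases Nat.mod_two_eq_zero_or_one i with e | e <;> rw [e] at hi'
    · rw [pow_zero, eq_comm, conj_eq_one_iff] at hi'
      exact absurd hi' hu1
    · rw [pow_one] at hi'
      exact ⟨1, g, mem_centralizer_singleton_iff.1 g.2, hi'.symm⟩
  · intro i j k _ e
    fin_cases i <;> fin_cases j <;> first | rfl | skip
    all_goals exfalso; simp at e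
    · exact ht1 e.symm
    · exact ht1 e

end KCount

namespace Model.Eleven

open ElevenTab Split

variable {z : G} {P : Subgroup G} {M : Model z P} (F : M.Eleven)
include F

omit F in
theorem eight_tables : (∀ n < 4, n = 0 ∨ n = 1 ∨ app pC n = 1 ∨ app pC (app pC n) = 1) ∧ bbit 1 2 = true ∧
    qbit 1 = true ∧ (∀ C ∈ listX, mulC C pC ≠ mulC (powC pC 2) C) ∧
    ∀ C ∈ listX, powC C 64 = unitC → C = unitC := by decide +kernel

theorem p_mem' : (M.pElem : G) ∈ centralizer ({(F.c : G)} : Set G) := mem_centralizer_singleton_iff.2 F.p_comm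

theorem p_order' : orderOf (M.pElem : G) = 3 := by rw [← Nat.card_zpowers, M.p_gen, M.card_P]

theorem prod_order {b : ℕ} (hb : b % 3 ≠ 0) : orderOf ((F.c : G) * (M.pElem : G) ^ b) = 33 := by
  have hpb : orderOf ((M.pElem : G) ^ b) = 3 := by
    rw [Nat.Coprime.orderOf_pow (by rw [F.p_order']; exact Nat.prime_three.coprime_iff_not_dvd.2 (fun h => hb (Nat.mod_eq_zero_of_dvd h))),
      F.p_order']
  rw [((show Commute (F.c : G) (M.pElem : G) from F.p_comm.symm).pow_right b).orderOf_mul_eq_mul_orderOf_of_coprime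
    (by rw [F.order', hpb]; norm_num), F.order', hpb]

theorem prod_pow' (b : ℕ) : ((F.c : G) * (M.pElem : G) ^ b) ^ 12 = F.c ∧
    ((F.c : G) * (M.pElem : G) ^ b) ^ 22 = (M.pElem : G) ^ b := by
  have hc := (show Commute (F.c : G) (M.pElem : G) from F.p_comm.symm).pow_right b
  constructor <;> rw [hc.mul_pow, ← pow_mul, ← pow_mod_orderOf (F.c : G), F.order',
    ← pow_mod_orderOf (M.pElem : G), F.p_order']
  · rw [show 12 % 11 = 1 from rfl, show b * 12 % 3 = 0 by omega, pow_one, pow_zero, mul_one]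
  · rw [show 22 % 11 = 0 from rfl, show b * 22 % 3 = b % 3 by omega, pow_zero, one_mul, ← F.p_order',
      pow_mod_orderOf]

/-- Two classes lie over each element of order thirty-three. -/
theorem section_thirty_three (hC3 : centralizer (P : Set G) ≤ centralizer ({z} : Set G)) {b : ℕ}
    (hb : b % 3 ≠ 0) : sectionCard ((F.c : G) * (M.pElem : G) ^ b) = 2 := by
  obtain ⟨h12, h22⟩ := F.prod_pow' b
  have hz : ∀ g : G, g = 1 ∨ g = z →
      g * ((F.c : G) * (M.pElem : G) ^ b) = (F.c : G) * (M.pElem : G) ^ b * g := by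
    rintro g (rfl | rfl)
    · rw [one_mul, mul_one]
    · exact (mem_centralizer_singleton_iff.1 (mul_mem F.c.2 (pow_mem M.pElem.2 b))).symm
  refine sectionCard_eq (by rw [F.prod_order hb]; decide) ![1, z] (fun i => ?_) ?_ ?_
  · fin_cases i
    · exact ⟨⟨0, one_pow _⟩, hz _ (Or.inl rfl)⟩
    · exact ⟨⟨1, by rw [pow_one, pow_two]; exact M.z_sq⟩, hz _ (Or.inr rfl)⟩
  · intro u hu hc
    have hc1 : u * (F.c : G) = F.c * u := h12 ▸ (show Commute u _ from hc).pow_right 12
    have hc2 : u * (M.pElem : G) ^ b = (M.pElem : G) ^ b * u := h22 ▸ (show Commute u _ from hc).pow_right 22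
    have hgen : zpowers ((M.pElem : G) ^ b) = zpowers (M.pElem : G) :=
      Subgroup.eq_of_le_of_card_ge (zpowers_le.2 (pow_mem (mem_zpowers _) b))
        (by rw [Nat.card_zpowers, Nat.card_zpowers, Nat.Coprime.orderOf_pow (by
          rw [F.p_order']; exact Nat.prime_three.coprime_iff_not_dvd.2 (fun h => hb (Nat.mod_eq_zero_of_dvd h)))])
    have huP : u ∈ centralizer (P : Set G) := by
      rw [mem_centralizer_iff]
      intro g hg
      rw [SetLike.mem_coe, ← M.p_gen, ← hgen] at hg
      obtain ⟨i, rfl⟩ := hg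
      exact ((show Commute u ((M.pElem : G) ^ b) from hc2).zpow_right i).eq.symm
    set x : ↥(centralizer ({z} : Set G)) := ⟨u, hC3 huP⟩
    have hxc : x * F.c = F.c * x := Subtype.ext hc1
    obtain ⟨C, hC, ha⟩ := M.exists_cols x
    have hL := F.acts_list hxc hC ha
    have h64 : x ^ 64 = 1 := by
      obtain ⟨k, hk⟩ := hu
      obtain ⟨j, -, hj⟩ := (Nat.dvd_prime_pow Nat.prime_two).1 (orderOf_dvd_of_pow_eq_one hk)
      have h3 : orderOf x ∣ Nat.card ↥F.cent := Subgroup.orderOf_dvd_natCard _ (F.mem_cent.2 hxc)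
      rw [← Subgroup.orderOf_coe, F.card_cent, show 264 = 8 * 33 from rfl,
        show ((x : G)) = u from rfl, hj] at h3
      refine orderOf_dvd_iff_pow_eq_one.1 ?_
      rw [← Subgroup.orderOf_coe, show ((x : G)) = u from rfl, hj]
      exact ((Nat.Coprime.pow_left j (by norm_num : Nat.Coprime 2 33)).dvd_of_dvd_mul_right h3).trans (by norm_num)
    have hCu : C = unitC := Model.Eleven.eight_tables.2.2.2.2 C hL (M.acts_unique
      (by
        have : ∀ C ∈ listX, (powC C 64).length = 12 := by decide +kernel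
        exact this C hL) (by decide) (M.acts_pow ha 64) (h64 ▸ M.acts_one))
    rcases M.cent_Q (M.mem_Q x (hCu ▸ ha)) huP with e | e
    · exact ⟨0, 1, by rw [one_mul, mul_one], by rw [show u = 1 from congrArg Subtype.val e]; simp⟩
    · exact ⟨1, 1, by rw [one_mul, mul_one], by rw [show u = z from congrArg Subtype.val e]; simp⟩
  · intro i j k _ e
    fin_cases i <;> fin_cases j <;> first | rfl | skip
    all_goals exfalso; simp at e
    · exact M.ctx.xs.ne_one e.symm
    · exact M.ctx.xs.ne_one e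

/-- The two products are not conjugate. -/
theorem prod_apart (hN3 : normalizer (P : Set G) ≤ centralizer ({z} : Set G)) :
    ¬ IsConj ((F.c : G) * (M.pElem : G) ^ 1) ((F.c : G) * (M.pElem : G) ^ 2) := by
  intro h
  obtain ⟨k, hk⟩ := isConj_iff.1 h
  have hc : k * (F.c : G) * k⁻¹ = F.c := by
    have := congrArg (· ^ 12) hk
    simp only [conj_pow, (F.prod_pow' 1).1, (F.prod_pow' 2).1] at this
    exact this
  have hp : k * (M.pElem : G) * k⁻¹ = (M.pElem : G) ^ 2 := by
    have := congrArg (· ^ 22) hk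
    simp only [conj_pow, (F.prod_pow' 1).2, (F.prod_pow' 2).2] at this
    rwa [pow_one] at this
  have hkN : k ∈ normalizer (P : Set G) := by
    refine mem_normalizer_fintype fun g hg => ?_
    rw [← M.p_gen] at hg ⊢
    obtain ⟨i, rfl⟩ := hg
    show k * (M.pElem : G) ^ i * k⁻¹ ∈ _
    rw [← conj_zpow, hp]
    exact zpow_mem (pow_mem (mem_zpowers _) 2) i
  set x : ↥(centralizer ({z} : Set G)) := ⟨k, hN3 hkN⟩
  obtain ⟨C, hC, ha⟩ := M.exists_cols x
  have hL := F.acts_list (Subtype.ext (mul_inv_eq_iff_eq_mul.1 hc)) hC ha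
  have hp' : x * M.pElem = M.pElem ^ 2 * x :=
    Subtype.ext (by rw [Subgroup.coe_mul, Subgroup.coe_mul, SubmonoidClass.coe_pow]; exact mul_inv_eq_iff_eq_mul.1 hp)
  refine Model.Eleven.eight_tables.2.2.2.1 C hL (M.acts_unique ?_ ?_ (M.acts_mul ha M.p_acts)
    (hp' ▸ M.acts_mul (M.acts_pow M.p_acts 2) ha))
  · rw [length_mulC]; decide
  · rw [length_mulC]; exact gen_length hC

end Model.Eleven

namespace Model.ElevenSetup

open ElevenTab Split

variable {z : G} {P : Subgroup G} {M : Model z P} (S : M.ElevenSetup) (hord : Nat.card G = 86775571046077562880)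
include S hord

/-- Three classes lie over the central element of order eleven. -/
theorem section_center : sectionCard (S.F.c : G) = 3 := by
  haveI : Fact (Nat.Prime 2) := ⟨Nat.prime_two⟩
  set F := S.F
  set X := centralizer ({(F.c : G)} : Set G) with hX
  obtain ⟨ht0, hb12, hq1, -⟩ := Model.Eleven.eight_tables
  obtain ⟨r1, h1⟩ := M.vec_surj 1 (by norm_num)
  obtain ⟨r2, h2⟩ := M.vec_surj 2 (by norm_num)
  have hr1X : (r1 : G) ∈ X := mem_centralizer_singleton_iff.2 ((F.comm_iff r1).2 (by omega)).symm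
  have hr2X : (r2 : G) ∈ X := mem_centralizer_singleton_iff.2 ((F.comm_iff r2).2 (by omega)).symm
  have hzX : z ∈ X := (F.eight_le F.z_mem_eight).1
  have hsq : (r1 : G) * r1 = z := by
    have h0 : M.vec (r1 * r1) = 0 := by rw [M.vec_mul, Nat.xor_self]
    exact (M.vec_eq_zero.1 h0).resolve_left fun f => by
      have := (M.sq_iff r1).1 f
      rw [h1, hq1] at this
      exact Bool.noConfusion this
  refine sectionCard_eq (by rw [F.order']; decide) ![1, z, (r1 : G)] (fun i => ?_) ?_ ?_
  · fin_cases i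
    · exact ⟨⟨0, one_pow _⟩, by simp⟩
    · exact ⟨⟨1, by rw [pow_one, pow_two]; exact M.z_sq⟩, mem_centralizer_singleton_iff.1 hzX⟩
    · exact ⟨⟨2, by
        show (r1 : G) ^ 2 ^ 2 = 1
        rw [show (2 : ℕ) ^ 2 = 2 * 2 from rfl, pow_mul, pow_two (r1 : G), hsq, pow_two]; exact M.z_sq⟩,
        mem_centralizer_singleton_iff.1 hr1X⟩
  · intro u hu hc
    have hfac : (Nat.card ↥X).factorization 2 = 3 := by
      rw [S.card_X, show (31944 : ℕ) = 2 ^ 3 * 3993 by norm_num, Nat.factorization_mul (by norm_num) (by norm_num),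
        Finsupp.add_apply, Nat.Prime.factorization_pow (by norm_num), Finsupp.single_eq_same,
        Nat.factorization_eq_zero_of_not_dvd (by norm_num)]
    let T : Sylow 2 ↥X := Sylow.ofCard (F.eight.subgroupOf X) (by
      rw [Nat.card_congr (subgroupOfEquivOfLe (F.eight_le.trans inf_le_left)).toEquiv, F.card_eight, hfac]
      norm_num)
    have huX : u ∈ X := mem_centralizer_singleton_iff.2 hc
    obtain ⟨k, hk⟩ := hu
    obtain ⟨j, -, hj⟩ := (Nat.dvd_prime_pow Nat.prime_two).1 (orderOf_dvd_of_pow_eq_one hk)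
    obtain ⟨U, hU⟩ := IsPGroup.exists_le_sylow (P := zpowers (⟨u, huX⟩ : ↥X))
      (IsPGroup.of_card (n := j) (by rw [Nat.card_zpowers, ← Subgroup.orderOf_coe]; exact hj))
    obtain ⟨g, hg⟩ := MulAction.exists_smul_eq ↥X U T
    have hmem : g * ⟨u, huX⟩ * g⁻¹ ∈ F.eight.subgroupOf X := by
      rw [show F.eight.subgroupOf X = (T : Subgroup ↥X) from rfl, ← hg]
      exact ⟨_, hU (mem_zpowers _), rfl⟩
    rw [mem_subgroupOf] at hmem
    obtain ⟨h, hh, hhu⟩ := hmem
    obtain ⟨r, hr⟩ := M.toH_surj hh.2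
    have hr' : (r : G) = (g : G) * u * (g : G)⁻¹ := (congrArg Subtype.val hr).trans hhu
    have hrv : M.vec r < 4 := (F.comm_iff r).1 (by
      rw [show (r : G) = (h : G) from congrArg Subtype.val hr]
      exact (congrArg Subtype.val (F.mem_cent.1 hh.1)).symm)
    have fin : ∀ a : G, a ∈ X → ∀ i, a * (r : G) * a⁻¹ = (![1, z, (r1 : G)] : Fin 3 → G) i →
        ∃ i, ∃ k, k * (F.c : G) = F.c * k ∧ k * u * k⁻¹ = (![1, z, (r1 : G)] : Fin 3 → G) i := fun a ha i e =>
      ⟨i, a * g, mem_centralizer_singleton_iff.1 (mul_mem ha g.2), by rw [← e, hr']; group⟩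
    have hone : ∀ s : ↥(QG M.Q), M.vec s = 1 → ∃ a ∈ X, a * (s : G) * a⁻¹ = r1 := by
      intro s hs
      rcases M.vec_eq_iff.1 (hs.trans h1.symm) with e | e
      · exact ⟨1, one_mem _, by rw [e]; group⟩
      · refine ⟨r2, hr2X, ?_⟩
        have hne : (r2 : G) * s * (r2 : G)⁻¹ ≠ s := fun hh => by
          have := mul_inv_eq_iff_eq_mul.1 hh
          rw [M.comm_iff, h2, hs, bbit_comm, hb12] at this
          exact Bool.noConfusion this
        have hv : M.vec s = M.vec (r2 * s * r2⁻¹) := by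
          rw [M.vec_mul, M.vec_mul, M.vec_inv, Nat.xor_comm (M.vec r2), Nat.xor_assoc, Nat.xor_self, Nat.xor_zero]
        rcases M.vec_eq_iff.1 hv with f | f
        · exact absurd f hne
        · rw [show (r2 : G) * s * (r2 : G)⁻¹ = s * z from f, e]
    rcases ht0 _ hrv with e | e | e | e
    · rcases M.vec_eq_zero.1 e with f | f
      · exact fin 1 (one_mem _) 0 (by rw [f]; simp)
      · exact fin 1 (one_mem _) 1 (by rw [f]; simp)
    · obtain ⟨a, ha, he⟩ := hone r e
      exact fin a ha 2 he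
    · obtain ⟨a, ha, he⟩ := hone (M.ctx.conjQ M.pElem r) (by rw [M.p_acts r, e])
      refine fin (a * M.pElem) (mul_mem ha F.p_mem') 2 ?_
      rw [show (![1, z, (r1 : G)] : Fin 3 → G) 2 = r1 from rfl, ← he]
      show _ = a * ((M.pElem : G) * r * (M.pElem : G)⁻¹) * a⁻¹
      group
    · obtain ⟨a, ha, he⟩ := hone (M.ctx.conjQ M.pElem (M.ctx.conjQ M.pElem r)) (by
        rw [M.p_acts, M.p_acts r, e])
      refine fin (a * M.pElem * M.pElem) (mul_mem (mul_mem ha F.p_mem') F.p_mem') 2 ?_
      rw [show (![1, z, (r1 : G)] : Fin 3 → G) 2 = r1 from rfl, ← he]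
      show _ = a * ((M.pElem : G) * ((M.pElem : G) * r * (M.pElem : G)⁻¹) * (M.pElem : G)⁻¹) * a⁻¹
      group
  · intro i j k _ e
    have hz1 : z ≠ 1 := M.ctx.xs.ne_one
    have hr1 : (r1 : G) ≠ 1 := fun f => hz1 (by rw [← hsq, f, one_mul])
    have e2 : k * ((![1, z, (r1 : G)] : Fin 3 → G) i * (![1, z, (r1 : G)] : Fin 3 → G) i) * k⁻¹ =
        (![1, z, (r1 : G)] : Fin 3 → G) j * (![1, z, (r1 : G)] : Fin 3 → G) j := by rw [← e]; group
    fin_cases i <;> fin_cases j <;> first | rfl | skip
    all_goals exfalso; simp [hsq, M.z_sq] at e e2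
    all_goals first
      | exact hz1 e
      | exact hz1 e.symm
      | exact hr1 e
      | exact hr1 e.symm
      | exact hz1 e2
      | exact hz1 e2.symm

theorem cent_noncentral {y : G} (hy : orderOf y = 11) (hne : ¬ IsConj (S.F.c : G) y) :
    ¬ 11 ^ 3 ∣ Nat.card ↥(centralizer ({y} : Set G)) := by
  obtain ⟨x', y', -, -, -, hall⟩ := S.two_classes hord
  obtain ⟨y0, hy0, hsmall, -⟩ := S.other
  have h0 : ¬ IsConj (S.F.c : G) y0 := fun h => hsmall (by rw [← card_cent_of_isConj h, S.card_X]; norm_num)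
  rcases hall _ S.F.order' with hc | hc <;> rcases hall _ hy with h | h <;> rcases hall _ hy0 with h' | h'
  all_goals first
    | exact absurd (hc.trans h.symm) hne
    | exact absurd (hc.trans h'.symm) h0
    | (rw [card_cent_of_isConj (h.trans h'.symm)]; exact hsmall)

/-- Two classes of elements of order eleven. -/
theorem reps_eleven {y : G} (hy : orderOf y = 11) (hne : ¬ IsConj (S.F.c : G) y) :
    OrderReps 11 [(S.F.c : G), y] := by
  refine ⟨fun w hw => ?_, fun x hx => ?_, by simpa using hne⟩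
  · simp only [List.mem_cons, List.not_mem_nil, or_false] at hw
    rcases hw with rfl | rfl
    exacts [S.F.order', hy]
  · obtain ⟨x', y', -, -, -, hall⟩ := S.two_classes hord
    rcases hall _ S.F.order' with hc | hc <;> rcases hall _ hy with h | h <;> rcases hall _ hx with h' | h'
    all_goals first
      | exact absurd (hc.trans h.symm) hne
      | exact ⟨_, List.mem_cons_self .., h'.trans hc.symm⟩
      | exact ⟨_, List.mem_cons_of_mem _ (List.mem_singleton.2 rfl), h'.trans h.symm⟩

/-- An element of order eleven commuting with one of order three is of the first class. -/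
theorem central_of_three (h3 : ∀ g : G, orderOf g = 3 → IsConj g (M.pElem : G)) {g y : G} (hg : orderOf g = 3)
    (hy : orderOf y = 11) (hgy : g * y = y * g) : IsConj (S.F.c : G) y := by
  haveI : Fact (Nat.Prime 11) := ⟨by norm_num⟩
  obtain ⟨k, hk⟩ := isConj_iff.1 (h3 g hg)
  set y' := k * y * k⁻¹ with hy'
  have hy'o : orderOf y' = 11 := by rw [hy', ← MulAut.conj_apply, MulEquiv.orderOf_eq, hy]
  have hy'z : y' ∈ centralizer ({z} : Set G) := by
    refine S.cent_three ?_
    have e : centralizer ((zpowers (M.pElem : G) : Subgroup G) : Set G) = centralizer (P : Set G) :=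
      congrArg (fun K : Subgroup G => centralizer (K : Set G)) M.p_gen
    rw [Subgroup.zpowers_eq_closure, Subgroup.centralizer_closure] at e
    rw [← e]
    refine mem_centralizer_singleton_iff.2 ?_
    rw [hy', ← hk]
    calc k * y * k⁻¹ * (k * g * k⁻¹) = k * (y * g) * k⁻¹ := by group
      _ = k * (g * y) * k⁻¹ := by rw [hgy]
      _ = _ := by group
  have hfac : (Nat.card ↥(centralizer ({z} : Set G))).factorization 11 = 1 := by
    rw [M.card_cent, show 2 ^ 21 * 10395 = 11 * (2 ^ 21 * 945) by norm_num,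
      Nat.factorization_mul (by norm_num) (by norm_num), Finsupp.add_apply,
      (by norm_num : Nat.Prime 11).factorization_self, Nat.factorization_eq_zero_of_not_dvd (by norm_num)]
  obtain ⟨h, hh⟩ := conj_into_zpowers (by norm_num : Nat.Prime 11) hfac (w := S.F.c) (x := ⟨y', hy'z⟩) S.F.order
    (by rw [← Subgroup.orderOf_coe]; exact hy'o)
  obtain ⟨i, hi⟩ := mem_powers_iff_mem_zpowers.2 hh
  have hi' : (S.F.c : G) ^ i = (h : G) * y' * (h : G)⁻¹ := by simpa using congrArg Subtype.val hi
  refine (S.conj_central hord ⟨i, by simpa using hi'⟩ ?_).trans (isConj_iff.2 ⟨(h : G) * k, ?_⟩).symm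
  · intro e
    rw [conj_eq_one_iff] at e
    rw [e, orderOf_one] at hy'o
    norm_num at hy'o
  · rw [hy']; group

/-- Two classes of elements of order thirty-three. -/
theorem reps_thirty_three (h3 : ∀ g : G, orderOf g = 3 → IsConj g (M.pElem : G))
    (hN3 : normalizer (P : Set G) ≤ centralizer ({z} : Set G)) :
    OrderReps 33 [(S.F.c : G) * (M.pElem : G) ^ 1, (S.F.c : G) * (M.pElem : G) ^ 2] := by
  refine ⟨fun w hw => ?_, fun x hx => ?_, by simpa using S.F.prod_apart hN3⟩
  · simp only [List.mem_cons, List.not_mem_nil, or_false] at hw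
    rcases hw with rfl | rfl <;> exact S.F.prod_order (by norm_num)
  have ho : ∀ n : ℕ, orderOf (x ^ n) = 33 / Nat.gcd 33 n := fun n => by rw [orderOf_pow, hx]
  obtain ⟨k, hk⟩ := isConj_iff.1 (S.central_of_three hord h3 (g := x ^ 22) (y := x ^ 12) (ho 22) (ho 12)
    ((Commute.refl x).pow_pow 22 12).eq).symm
  set y := k * x * k⁻¹ with hy
  have hyo : orderOf y = 33 := by rw [hy, ← MulAut.conj_apply, MulEquiv.orderOf_eq, hx]
  have hy12 : y ^ 12 = S.F.c := by rw [hy, conj_pow, hk]
  set X := centralizer ({(S.F.c : G)} : Set G)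
  have hyX : y ∈ X := mem_centralizer_singleton_iff.2 (by rw [← hy12]; exact (Commute.self_pow y 12).eq)
  have hfac3 : (Nat.card ↥X).factorization 3 = 1 := by
    rw [S.card_X, show 31944 = 3 * 10648 by norm_num,
      Nat.factorization_mul (by norm_num) (by norm_num), Finsupp.add_apply,
      (by norm_num : Nat.Prime 3).factorization_self, Nat.factorization_eq_zero_of_not_dvd (by norm_num)]
  obtain ⟨g, hg⟩ := conj_into_zpowers Nat.prime_three hfac3 (w := (⟨_, S.F.p_mem'⟩ : ↥X))
    (x := ⟨y ^ 22, pow_mem hyX _⟩) (by rw [← Subgroup.orderOf_coe]; exact S.F.p_order')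
    (by rw [← Subgroup.orderOf_coe]; show orderOf (y ^ 22) = 3; rw [orderOf_pow, hyo]; rfl)
  obtain ⟨i, hi⟩ := mem_powers_iff_mem_zpowers.2 hg
  have hi' : (M.pElem : G) ^ i = (g : G) * y ^ 22 * (g : G)⁻¹ := congrArg Subtype.val hi
  rw [← pow_mod_orderOf, S.F.p_order'] at hi'
  have hyy : y = y ^ 12 * y ^ 22 := by rw [← pow_add, ← pow_mod_orderOf, hyo, pow_one]
  have hgc : (g : G) * (S.F.c : G) * (g : G)⁻¹ = S.F.c :=
    mul_inv_eq_iff_eq_mul.2 (mem_centralizer_singleton_iff.1 g.2)
  have key : IsConj x ((S.F.c : G) * (M.pElem : G) ^ (i % 3)) := isConj_iff.2 ⟨g * k, by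
    calc (g : G) * k * x * ((g : G) * k)⁻¹ = (g : G) * y * (g : G)⁻¹ := by rw [hy]; group
      _ = ((g : G) * y ^ 12 * (g : G)⁻¹) * ((g : G) * y ^ 22 * (g : G)⁻¹) := by
        conv_lhs => rw [hyy]
        group
      _ = _ := by rw [hy12, hgc, ← hi']⟩
  rcases (show i % 3 = 0 ∨ i % 3 = 1 ∨ i % 3 = 2 by omega) with e | e | e <;> rw [e] at key hi'
  · exfalso
    rw [pow_zero, eq_comm, conj_eq_one_iff] at hi'
    have := orderOf_dvd_of_pow_eq_one hi'
    rw [hyo] at this
    norm_num at this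
  · exact ⟨_, List.mem_cons_self .., key⟩
  · exact ⟨_, List.mem_cons_of_mem _ (List.mem_singleton.2 rfl), key⟩

end Model.ElevenSetup

end Cfsg.Agent.JankoFour
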