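import Cfsg.Agent.Lib.JankoFour.ElevenBound

/-!
An element of order eleven centralising an involution of the second class has centraliser of order not divisible
by four.
-/

set_option autoImplicit false
set_option linter.unusedSectionVars false
set_option linter.style.haveILetI false

namespace Cfsg.Agent.JankoFour

open Subgroup
open Cfsg (GolayPt M24)

variable {G : Type*} [Group G] [Finite G]

namespace BigPack

variable {z : G} {V : Subgroup G} (D : BigPack z V)
include D

/-- The Sylow 2-subgroup of such a centraliser has order two. -/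
theorem not_four_dvd {d : Finset GolayPt} (hd : d.card = 2) {y : G} (hy : orderOf y = 11)
    (hty : D.eS d * y = y * D.eS d) : ¬ 4 ∣ Nat.card ↥(centralizer ({y} : Set G)) := by
  classical
  haveI : Fact (Nat.Prime 11) := ⟨by norm_num⟩
  haveI : Fact (Nat.Prime 2) := ⟨Nat.prime_two⟩
  set t := D.eS d
  have htV : t ∈ V := D.eS_mem d
  have ht1 : t ≠ 1 := by
    intro h
    have := D.cocode.inj d (by rw [hd]; decide) (by omega) h
    rw [this] at hd
    simp at hd
  have ht2 : orderOf t = 2 := orderOf_eq_prime (by rw [pow_two, D.sq t htV]) ht1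
  set N := normalizer (V : Set G) with hN
  have hCt : centralizer ({t} : Set G) ≤ N := D.centralizer_duad_le hd
  have hyN : y ∈ N := hCt (mem_centralizer_singleton_iff.2 hty.symm)
  set X := centralizer ({y} : Set G) with hX
  have htX : t ∈ X := mem_centralizer_singleton_iff.2 hty
  show ¬ 4 ∣ Nat.card ↥X
  intro h
  obtain ⟨K, hK, hle⟩ := Sylow.exists_subgroup_card_pow_prime_le 2 (n := 1) (m := 2)
    (by norm_num; exact h) (zpowers (⟨t, htX⟩ : ↥X)) (by rw [Nat.card_zpowers, Subgroup.orderOf_mk, ht2, pow_one])
    (by norm_num)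
  have hle' : (K.map X.subtype) ≤ zpowers t := by
    rintro _ ⟨n, hn, rfl⟩
    have hc := IsPGroup.commutative_of_card_eq_prime_sq hK ⟨n, hn⟩ ⟨_, hle (mem_zpowers _)⟩
    have hnt : (n : G) * t = t * n := congrArg (fun q : ↥K => ((q : ↥X) : G)) hc
    have hnN : (n : G) ∈ N := hCt (mem_centralizer_singleton_iff.2 hnt)
    by_cases hn1 : (n : G) = 1
    · rw [show X.subtype n = (n : G) from rfl, hn1]; exact one_mem _
    have h4' : orderOf (n : G) ∣ 4 := by
      rw [Subgroup.orderOf_coe]
      exact (Subgroup.orderOf_dvd_natCard K hn).trans (by rw [hK]; norm_num)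
    have hny : (n : G) * y = y * n := mem_centralizer_singleton_iff.1 n.2
    obtain ⟨i, e | e⟩ := D.cent_eleven_cases hy hyN htV ht1 hty hnN hny
    · exfalso
      refine hn1 (orderOf_eq_one_iff.1 (Nat.eq_one_of_dvd_coprimes (show Nat.Coprime 4 11 by norm_num) h4' ?_))
      rw [e]; exact hy ▸ orderOf_pow_dvd i
    · have hc' : Commute t (y ^ i) := (show Commute t y from hty).pow_right i
      have h44 : (n : G) ^ 4 = 1 := orderOf_dvd_iff_pow_eq_one.1 h4'
      rw [e, hc'.mul_pow, show (4 : ℕ) = 2 * 2 from rfl, pow_mul, pow_two t, D.sq t htV, one_pow, one_mul,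
        ← pow_mul] at h44
      have hd' := orderOf_dvd_of_pow_eq_one h44
      rw [hy] at hd'
      rcases (by norm_num : Nat.Prime 11).dvd_mul.1 hd' with hd' | hd'
      · obtain ⟨j, rfl⟩ := hd'
        rw [show X.subtype n = (n : G) from rfl, e, pow_mul, ← hy, pow_orderOf_eq_one, one_pow, mul_one]
        exact mem_zpowers t
      · norm_num at hd'
  have h := Subgroup.card_le_of_le hle'
  rw [card_map_of_injective X.subtype_injective, hK, Nat.card_zpowers, ht2] at h
  norm_num at h

end BigPack

end Cfsg.Agent.JankoFour
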