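import Cfsg.Agent.Lib.JankoFour.ClassFiveChecks
import Cfsg.Agent.Lib.JankoFour.FiveLocal
import Cfsg.Agent.Lib.JankoFour.ClassCount

/-!
The classes of 2-elements centralising an element of order five.
-/

set_option autoImplicit false
set_option linter.unusedSectionVars false
set_option maxRecDepth 100000

namespace Cfsg.Agent.JankoFour.Model.Five

open Subgroup
open Cfsg.Agent.LargeFischer (Ctx QG)
open Cfsg.Agent.J4Module (app)
open Cfsg.Agent.J4Module.Data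
open FiveTab Big Split KCount

variable {G : Type*} [Group G] [Finite G] {z : G} {P : Subgroup G} {M : Model z P} (F : M.Five)

include F

/-- A fixed vector gives an element of the centraliser. -/
theorem q_mem {r : ↥(QG M.Q)} (hr : M.vec r ∈ fixL) : (r : G) ∈ F.K :=
  mem_centralizer_singleton_iff.2 ((F.comm_iff r).2 hr).symm

theorem q_fix {r : ↥(QG M.Q)} (hr : (r : G) ∈ F.K) : M.vec r ∈ fixL :=
  (F.comm_iff r).1 (mem_centralizer_singleton_iff.1 hr).symm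

/-- The matrices of 2-elements. -/
theorem two_cols {x : ↥(centralizer ({z} : Set G))} (hx : (x : G) ∈ F.K) (h2 : TwoEl (x : G)) :
    ∃ C ∈ listL, M.Acts x C ∧ (C = unitC ∨ C ∈ outs) := by
  obtain ⟨C, hC, ha⟩ := M.exists_cols x
  have hxc := (F.mem_cent' x.2).1 hx
  have hL := F.acts_list (F.mem_cent.1 hxc) hC ha
  refine ⟨C, hL, ha, two_part.2 C hL ?_⟩
  have h64 : x ^ 64 = 1 := by
    obtain ⟨k, hk⟩ := h2
    refine Subtype.ext ?_
    rw [SubmonoidClass.coe_pow, OneMemClass.coe_one]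
    refine orderOf_dvd_iff_pow_eq_one.1 ?_
    have h1 := orderOf_dvd_of_pow_eq_one hk
    obtain ⟨j, -, hj⟩ := (Nat.dvd_prime_pow Nat.prime_two).1 h1
    have h3 : orderOf x ∣ Nat.card ↥F.cent := Subgroup.orderOf_dvd_natCard _ hxc
    rw [← Subgroup.orderOf_coe, F.card_cent, hj, show 960 = 64 * 15 from rfl] at h3
    rw [hj]
    exact (Nat.Coprime.pow_left j (by norm_num : Nat.Coprime 2 15)).dvd_of_dvd_mul_right h3
  refine M.acts_unique ?_ (by decide) (M.acts_pow ha 64) (h64 ▸ M.acts_one)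
  show (powC C 64).length = 12
  clear h64
  have : ∀ C ∈ listL, (powC C 64).length = 12 := by decide +kernel
  exact this C hL

/-- Elements acting trivially. -/
theorem of_unit {x : ↥(centralizer ({z} : Set G))} (hx : (x : G) ∈ F.K) (ha : M.Acts x unitC) :
    ∃ r : ↥(QG M.Q), (r : G) = x ∧ M.vec r ∈ fixL := by
  obtain ⟨r, rfl⟩ := M.toH_surj (M.mem_Q x ha)
  exact ⟨r, rfl, F.q_fix hx⟩

/-- The square of a 2-element. -/
theorem sq_fix {x : ↥(centralizer ({z} : Set G))} (hx : (x : G) ∈ F.K) {C : List ℕ} (ha : M.Acts x C)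
    (hC : C = unitC ∨ C ∈ outs) :
    ∃ r : ↥(QG M.Q), (r : G) = (x : G) * x ∧ M.vec r ∈ fixL ∧ app C (M.vec r) = M.vec r := by
  have hCC : mulC C C = unitC := by
    have : ∀ D ∈ unitC :: outs, mulC D D = unitC := by decide +kernel
    exact this C (List.mem_cons.2 hC)
  obtain ⟨r, hr, hf⟩ := F.of_unit (x := x * x) (mul_mem hx hx) (hCC ▸ M.acts_mul ha ha)
  refine ⟨r, hr, hf, ?_⟩
  rw [← ha r]
  refine congrArg M.vec (Subtype.ext ?_)
  show (x : G) * r * (x : G)⁻¹ = r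
  rw [hr]
  show (x : G) * ((x : G) * x) * (x : G)⁻¹ = (x : G) * x
  group

theorem toG_vec {r : ↥(QG M.Q)} {n : ℕ} (h : M.vec r = n) (x : ↥(centralizer ({z} : Set G))) {C : List ℕ}
    (ha : M.Acts x C) : ∃ r' : ↥(QG M.Q), (r' : G) = (x : G) * r * (x : G)⁻¹ ∧ M.vec r' = app C n :=
  ⟨M.ctx.conjQ x r, rfl, by rw [ha r, h]⟩

/-- Two elements with one vector are conjugate when the vector is not in the radical. -/
theorem conj_same {r r' : ↥(QG M.Q)} (h : M.vec r = M.vec r') (hb : ∃ y ∈ fixL, bbit (M.vec r) y = true) :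
    ∃ k ∈ F.K, k * (r : G) * k⁻¹ = r' := by
  rcases M.vec_eq_iff.1 h with e | e
  · exact ⟨1, one_mem _, by rw [e]; group⟩
  obtain ⟨n, hn, hb⟩ := hb
  obtain ⟨y, hy⟩ := M.vec_surj n ((FiveTab.fix_classes.2.2.2.2.2.2.1 n hn).1)
  refine ⟨y, F.q_mem (hy ▸ hn), ?_⟩
  have hne : (r : G) * y ≠ y * r := fun hc => by
    rw [M.comm_iff, hy, hb] at hc; exact Bool.noConfusion hc
  have hv : M.vec r = M.vec (y * r * y⁻¹) := by
    rw [M.vec_mul, M.vec_mul, M.vec_inv, Nat.xor_comm (M.vec y), Nat.xor_assoc, Nat.xor_self, Nat.xor_zero]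
  rcases M.vec_eq_iff.1 hv with f | f
  · exact absurd (mul_inv_eq_iff_eq_mul.1 (show (y : G) * r * (y : G)⁻¹ = r from f)).symm hne
  · rw [show (y : G) * r * (y : G)⁻¹ = r * z from f, e]

variable {B : BigData M} (Cc : BigCoords B)
  (hT : ∀ n < 2048, (Orb.tMask.testBit n = true ↔ n ≠ 0 ∧ ¬ IsConj z (Cc.el n))) (D : BigPack z B.V)
include Cc hT D

/-- A 2-element fixes a non-trivial element of the group of order eight. -/
theorem to_cent {u : G} (hu : u ∈ F.K) (h2 : TwoEl u) :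
    ∃ k ∈ F.K, k * u * k⁻¹ ∈ centralizer ({z} : Set G) := by
  obtain ⟨j, hj⟩ := h2
  have key : ∀ i ≤ j, ∃ e ∈ M.eG, e ≠ 1 ∧ u ^ 2 ^ (j - i) * e = e * u ^ 2 ^ (j - i) := by
    intro i
    induction i with
    | zero => exact fun _ => ⟨z, M.z_mem_eG, M.ctx.xs.ne_one, by rw [Nat.sub_zero, hj, one_mul, mul_one]⟩
    | succ i ih =>
      intro hi
      obtain ⟨e, he, he1, hc⟩ := ih (by omega)
      set v := u ^ 2 ^ (j - (i + 1)) with hv
      have hvv : u ^ 2 ^ (j - i) = v * v := by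
        rw [hv, ← pow_add, ← two_mul, ← pow_succ']; congr 2; omega
      rw [hvv] at hc
      have hve : v * e * v⁻¹ ∈ M.eG := F.K_le_normalizer Cc hT D (pow_mem hu _) he
      by_cases h1 : v * e * v⁻¹ = e
      · exact ⟨e, he, he1, mul_inv_eq_iff_eq_mul.1 h1⟩
      · refine ⟨v * e * v⁻¹ * e, mul_mem hve he, fun h => h1 ?_, ?_⟩
        · rw [eq_inv_of_mul_eq_one_left h, inv_eq_of_mul_eq_one_right (M.eG_sq _ he)]
        · have hcomm := M.eG_comm hve he
          have : v * (v * e * v⁻¹ * e) * v⁻¹ = v * e * v⁻¹ * e := by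
            calc v * (v * e * v⁻¹ * e) * v⁻¹ = (v * v * e * (v * v)⁻¹) * (v * e * v⁻¹) := by group
              _ = e * (v * e * v⁻¹) := by rw [hc, mul_inv_cancel_right]
              _ = _ := hcomm.symm
          exact mul_inv_eq_iff_eq_mul.1 this
  obtain ⟨e, he, he1, hc⟩ := key j le_rfl
  rw [Nat.sub_self, pow_zero, pow_one] at hc
  obtain ⟨m, hm, -, hmz⟩ := F.exists_move Cc hT he he1
  refine ⟨m, hm, mem_centralizer_singleton_iff.2 ?_⟩
  suffices h : m * u * m⁻¹ * (m * e * m⁻¹) = m * e * m⁻¹ * (m * u * m⁻¹) by rwa [hmz] at h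
  rw [show m * u * m⁻¹ * (m * e * m⁻¹) = m * (u * e) * m⁻¹ by group, hc]
  group

/-- Elements of order at most four are conjugate into the extraspecial subgroup. -/
theorem to_Q {x : ↥(centralizer ({z} : Set G))} (hx : (x : G) ∈ F.K) (h2 : TwoEl (x : G))
    (h4 : (x : G) * x * ((x : G) * x) = 1) :
    ∃ k ∈ F.K, ∃ r : ↥(QG M.Q), (r : G) = k * x * k⁻¹ ∧ M.vec r ∈ fixL := by
  obtain ⟨C, hL, ha, hC⟩ := F.two_cols hx h2
  rcases hC with rfl | hC
  · obtain ⟨r, hr, hf⟩ := F.of_unit hx ha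
    exact ⟨1, one_mem _, r, by rw [hr]; group, hf⟩
  obtain ⟨hmc, ⟨n0, hn0, hmove⟩, hone, hpair⟩ := out_moves C hC
  obtain ⟨s, hs, hsf, hsC⟩ := F.sq_fix hx ha (Or.inr hC)
  have hsE : (s : G) ∈ M.eG := by
    rw [M.mem_eG]
    rcases fix_closed.2.2.2.2 _ hsf ((M.sq_iff s).1 (by rw [hs]; exact h4)) with e | e | e
    · rw [e]; simp
    · exact List.mem_cons_of_mem _ e
    · exact absurd hsC (hmc _ e)
  obtain ⟨a0, ha0⟩ := M.vec_surj n0 (FiveTab.fix_classes.2.2.1 _ hn0).1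
  have ha0E : (a0 : G) ∈ M.eG := M.mem_eG.2 (by rw [ha0]; exact List.mem_cons_of_mem _ hn0)
  set f : G → G := fun a => (x : G) * a * (x : G)⁻¹ * a with hf
  have hxE : ∀ a ∈ M.eG, (x : G) * a * (x : G)⁻¹ ∈ M.eG := fun a h => F.conj_eG ((F.mem_cent' x.2).1 hx) h
  have hcen : ∀ a ∈ M.eG, (x : G) * ((x : G) * a * (x : G)⁻¹) * (x : G)⁻¹ = a := fun a h => by
    rw [show (x : G) * ((x : G) * a * (x : G)⁻¹) * (x : G)⁻¹ = (x : G) * x * a * ((x : G) * x)⁻¹ by group,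
      ← hs, M.eG_comm hsE h, mul_inv_cancel_right]
  set d := f a0 with hd
  have hdE : d ∈ M.eG := mul_mem (hxE _ ha0E) ha0E
  have hdx : (x : G) * d * (x : G)⁻¹ = d := by
    rw [hd, hf]
    simp only
    rw [show (x : G) * ((x : G) * a0 * (x : G)⁻¹ * a0) * (x : G)⁻¹ =
      (x : G) * ((x : G) * a0 * (x : G)⁻¹) * (x : G)⁻¹ * ((x : G) * a0 * (x : G)⁻¹) by group, hcen _ ha0E]
    exact M.eG_comm ha0E (hxE _ ha0E)
  obtain ⟨dq, hdq⟩ : ∃ dq : ↥(QG M.Q), (dq : G) = d := ⟨M.ctx.conjQ x a0 * a0, rfl⟩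
  have hdv : M.vec dq = app C n0 ^^^ n0 := by
    rw [show dq = M.ctx.conjQ x a0 * a0 from Subtype.ext hdq, M.vec_mul, ha a0, ha0]
  have hdv0 : M.vec dq ≠ 0 := by rw [hdv]; exact fun h => hmove (Nat.xor_eq_zero_iff.1 h)
  have hd1 : d ≠ 1 := fun h => hdv0 (M.vec_eq_zero.2 (Or.inl (hdq.trans h)))
  have hfix : ∀ a : ↥(QG M.Q), (a : G) ∈ M.eG → app C (M.vec a) = M.vec a → (x : G) * a * (x : G)⁻¹ = a := by
    intro a haE hfa
    have hd' : app C (M.vec dq) = M.vec dq := by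
      rw [← ha dq]
      exact congrArg M.vec (Subtype.ext (by
        show (x : G) * dq * (x : G)⁻¹ = dq
        rw [hdq, hdx]))
    have hmem : ∀ b : ↥(QG M.Q), (b : G) ∈ M.eG → M.vec b ∈ 0 :: ell := fun b hb => M.mem_eG.1 hb
    rcases List.mem_cons.1 (hmem a haE) with e | e
    · rcases M.vec_eq_zero.1 e with h | h <;> rw [h]
      · group
      · rw [mem_centralizer_singleton_iff.1 x.2, mul_inv_cancel_right]
    · have := hone _ e _ ((List.mem_cons.1 (hmem dq (hdq ▸ hdE))).resolve_left hdv0) hfa hd'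
      rcases M.vec_eq_iff.1 this with h | h
      · rw [← h, hdq, hdx]
      · have h' : (a : G) = d * z := by
          rw [← hdq, h, mul_assoc, M.z_sq, mul_one]
        rw [h', show (x : G) * (d * z) * (x : G)⁻¹ = (x : G) * d * (x : G)⁻¹ * ((x : G) * z * (x : G)⁻¹) by group, hdx,
          mem_centralizer_singleton_iff.1 x.2, mul_inv_cancel_right]
  have hf1 : ∀ a : ↥(QG M.Q), (a : G) ∈ M.eG → f a = 1 ∨ f a = d := by
    intro a haE
    by_cases hfa : app C (M.vec a) = M.vec a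
    · left
      show (x : G) * a * (x : G)⁻¹ * a = 1
      rw [hfix a haE hfa, M.eG_sq _ haE]
    · right
      have hael : M.vec a ∈ ell := (List.mem_cons.1 (M.mem_eG.1 haE)).resolve_left fun e => hfa (by
        rw [e, J4Module.app_zero])
      have hprod : (x : G) * ((a : G) * a0) * (x : G)⁻¹ = (a : G) * a0 := hfix (a * a0) (mul_mem haE ha0E) (by
        rw [M.vec_mul, ha0]; exact hpair _ hael _ hn0 hfa hmove)
      have e1 : (x : G) * a * (x : G)⁻¹ = (a : G) * a0 * ((x : G) * a0 * (x : G)⁻¹)⁻¹ := by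
        rw [eq_mul_inv_iff_mul_eq, ← hprod]
        show _ = (x : G) * ((a : G) * a0) * (x : G)⁻¹
        group
      show (x : G) * a * (x : G)⁻¹ * a = d
      rw [e1, hd, hf]
      simp only
      rw [inv_eq_of_mul_eq_one_right (M.eG_sq _ (hxE _ ha0E)), mul_assoc (a : G) (a0 : G) _,
        M.eG_comm ha0E (hxE _ ha0E), M.eG_comm haE (mul_mem (hxE _ ha0E) ha0E), mul_assoc _ (a : G) (a : G),
        M.eG_sq _ haE, mul_one]
  obtain ⟨m, hm, -, hmz⟩ := F.exists_move Cc hT hdE hd1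
  have hxz : m * x * m⁻¹ ∈ centralizer ({z} : Set G) := mem_centralizer_singleton_iff.2 (by
    suffices h : m * (x : G) * m⁻¹ * (m * d * m⁻¹) = m * d * m⁻¹ * (m * (x : G) * m⁻¹) by rwa [hmz] at h
    rw [show m * (x : G) * m⁻¹ * (m * d * m⁻¹) = m * ((x : G) * d * (x : G)⁻¹) * x * m⁻¹ by group, hdx]
    group)
  have hxK : m * x * m⁻¹ ∈ F.K := mul_mem (mul_mem hm hx) (inv_mem hm)
  obtain ⟨C', hL', ha', hC'⟩ := F.two_cols (x := ⟨_, hxz⟩) hxK (h2.conj m)
  rcases hC' with rfl | hC'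
  · obtain ⟨r, hr, hrf⟩ := F.of_unit (x := ⟨_, hxz⟩) hxK ha'
    exact ⟨m, hm, r, hr, hrf⟩
  exfalso
  obtain ⟨-, ⟨n, hn, hmv⟩, -, -⟩ := out_moves C' hC'
  obtain ⟨b, hb⟩ := M.vec_surj n (FiveTab.fix_classes.2.2.1 _ hn).1
  have hbE : (b : G) ∈ M.eG := M.mem_eG.2 (by rw [hb]; exact List.mem_cons_of_mem _ hn)
  obtain ⟨a, hae, haV⟩ : m⁻¹ * (b : G) * m⁻¹⁻¹ ∈ M.eG := F.K_le_normalizer Cc hT D (inv_mem hm) hbE
  refine hmv ?_
  rw [← hb, ← ha' b]
  refine M.vec_eq_iff.2 ?_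
  show (b : G) = m * x * m⁻¹ * b * (m * x * m⁻¹)⁻¹ ∨ (b : G) = m * x * m⁻¹ * b * (m * x * m⁻¹)⁻¹ * z
  have he : m * x * m⁻¹ * b * (m * x * m⁻¹)⁻¹ = m * f a * m⁻¹ * b := by
    show _ = m * ((x : G) * a * (x : G)⁻¹ * a) * m⁻¹ * b
    rw [hae, inv_inv, show m * ((x : G) * (m⁻¹ * (b : G) * m) * (x : G)⁻¹ * (m⁻¹ * (b : G) * m)) * m⁻¹ * b =
      m * x * m⁻¹ * b * (m * x * m⁻¹)⁻¹ * ((b : G) * b) by group, M.eG_sq _ hbE, mul_one]
  rw [he]
  rcases hf1 a ⟨a, rfl, haV⟩ with h | h <;> rw [h]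
  · left; group
  · right
    rw [hmz, M.eG_comm M.z_mem_eG hbE, mul_assoc, M.z_sq, mul_one]

end Cfsg.Agent.JankoFour.Model.Five
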