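import Cfsg.Agent.Lib.JankoFour.FiveChecks

/-!
Kernel checks for the classes of 2-elements centralising the element of order five.
-/

set_option autoImplicit false
set_option maxRecDepth 100000

namespace Cfsg.Agent.JankoFour.FiveTab

open Cfsg.Agent.J4Module (app gbL of_chunks)
open Cfsg.Agent.J4Module.Data
open Big Split

/-- The three involutions among the matrices. -/
def outs : List (List ℕ) := [sC, mulC sC pC, mulC sC p2C]

/-- The fixed vectors with squares the central involution. -/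
def qVecs : List ℕ := [1, 2, 3, 4, 2280, 2284]

theorem two_part : sC ∈ listL ∧ ∀ C ∈ listL, powC C 64 = unitC → C = unitC ∨ C ∈ outs := by decide +kernel

theorem out_moves : ∀ C ∈ outs, (∀ v ∈ cVecs, app C v ≠ v) ∧ (∃ n ∈ ell, app C n ≠ n) ∧
    (∀ m ∈ ell, ∀ n ∈ ell, app C m = m → app C n = n → m = n) ∧
    ∀ m ∈ ell, ∀ n ∈ ell, app C m ≠ m → app C n ≠ n → app C (m ^^^ n) = m ^^^ n := by decide +kernel

theorem out_fix : (∀ C ∈ outs, ∀ w ∈ [1, 4], app C w = w → C = sC) ∧ (∀ w ∈ [1, 4], app sC w = w) ∧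
    (∀ v ∈ fixL, app sC v = v → ∃ x ∈ fixL, x ^^^ app sC x = v) ∧ app sC 5 = 5 ∧ app sC 2282 = 2282 ^^^ 5 ∧
    ∀ w ∈ [1, 4], bbit w 2282 = true := by decide +kernel

theorem q_vecs : (∀ v ∈ fixL, qbit v = true → v ∈ qVecs) ∧ (∀ v ∈ qVecs, qbit v = true ∧ v ∈ fixL) ∧
    (∀ v ∈ qVecs, (∃ C ∈ listL, app C v = 1) ∨ ∃ C ∈ listL, app C v = 4) ∧ (∀ C ∈ listL, app C 1 ≠ 4) ∧
    (∀ w ∈ [1, 4, 6], ∃ x ∈ fixL, bbit w x = true) := by decide +kernel

theorem fix_closed : (∀ m ∈ fixL, ∀ n ∈ fixL, m ^^^ n ∈ fixL) ∧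
    (∀ C ∈ listL, ∀ n ∈ fixL, app C n ∈ fixL) ∧ (∀ n ∈ ell, n ∈ fixL ∧ qbit n = false) ∧
    (∀ n ∈ cVecs, qbit n = false) ∧
    ∀ v ∈ fixL, qbit v = false → v = 0 ∨ v ∈ ell ∨ v ∈ cVecs := by decide +kernel

end Cfsg.Agent.JankoFour.FiveTab
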