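import Cfsg.Agent.Lib.JankoFour.ClassCount
import Cfsg.Agent.S1875

/-!
Classes of elements of a prime order with Sylow subgroups of that order, and lists of class representatives.
-/

set_option autoImplicit false

namespace Cfsg.Agent.JankoFour.KCount

open Subgroup
open scoped Pointwise

variable {G : Type*} [Group G] [Finite G]

/-- Representatives of the classes of elements of one order. -/
structure OrderReps (o : ℕ) (l : List G) : Prop where
  order : ∀ w ∈ l, orderOf w = o
  cover : ∀ x : G, orderOf x = o → ∃ w ∈ l, IsConj x w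
  apart : l.Pairwise fun a b => ¬ IsConj a b

theorem orderOf_eq_of_isConj {a b : G} (h : IsConj a b) : orderOf a = orderOf b := by
  obtain ⟨k, rfl⟩ := isConj_iff.1 h
  exact ((MulAut.conj k).orderOf_eq a).symm

/-- Counting by a list of representatives of the elements of odd order, sorted by their orders. -/
theorem card_classes_list (os : List ℕ) (hos : os.Nodup) (hodd : ∀ o ∈ os, Odd o) (L : ℕ → List G)
    (hL : ∀ o ∈ os, OrderReps o (L o)) (hcov : ∀ x : G, Odd (orderOf x) → orderOf x ∈ os) :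
    Nat.card (ConjClasses G) = (os.map fun o => ((L o).map sectionCard).sum).sum := by
  set l := os.flatMap L with hl
  have hp : l.Pairwise fun a b => ¬ IsConj a b := by
    rw [hl, List.pairwise_flatMap]
    refine ⟨fun o ho => (hL o ho).apart, hos.pairwise_of_forall_ne fun a ha b hb hab x hx y hy h => hab ?_⟩
    rw [← (hL a ha).order x hx, orderOf_eq_of_isConj h, (hL b hb).order y hy]
  have h := card_classes (fun i => l.get i) (fun i => ?_) (fun x hx => ?_) fun i j hij => ?_
  · rw [h, Fin.sum_univ_def, show (fun i => sectionCard (l.get i)) = sectionCard ∘ l.get from rfl,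
      ← List.map_map, List.map_get_finRange, hl, List.map_flatMap,
      List.flatMap_def, List.sum_flatten, List.map_map]
    rfl
  · obtain ⟨o, ho, hi⟩ := List.mem_flatMap.1 (List.get_mem l i)
    rw [(hL o ho).order _ hi]
    exact hodd o ho
  · obtain ⟨w, hw, hc⟩ := (hL _ (hcov x hx)).cover x rfl
    obtain ⟨i, hi⟩ := List.mem_iff_get.1 (List.mem_flatMap.2 ⟨_, hcov x hx, hw⟩ : w ∈ l)
    exact ⟨i, hi ▸ hc⟩
  · rcases lt_trichotomy i j with hlt | e | hlt
    · exact absurd hij (List.pairwise_iff_get.1 hp i j hlt)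
    · exact e
    · exact absurd hij.symm (List.pairwise_iff_get.1 hp j i hlt)

/-- The roots of unity of an exponent modulo a number. -/
def roots (p k : ℕ) : Finset ℕ := (Finset.range p).filter fun t => t ^ k % p = 1

/-- Powers of an element of prime order are conjugate exactly when the exponents agree up to the automorphisms
induced by the normaliser. -/
theorem conj_pow_iff {p k c : ℕ} (hp : p.Prime) {w : G} (hw : orderOf w = p)
    (hC : Nat.card ↥(centralizer ({w} : Set G)) = c) (hN : Nat.card ↥(normalizer (zpowers w : Set G)) = c * k)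
    (hk : (roots p k).card = k) {a b : ℕ} (ha : ¬ p ∣ a) :
    IsConj (w ^ a) (w ^ b) ↔ a ^ k % p = b ^ k % p := by
  classical
  set N := normalizer (zpowers w : Set G)
  set C := centralizer ({w} : Set G)
  have hcpos : 0 < c := hC ▸ Nat.card_pos
  have hCN : C ≤ N := fun g hg => by
    rw [mem_normalizer_iff]
    intro x
    have hgc : g * w * g⁻¹ = w := by rw [mem_centralizer_singleton_iff.1 hg, mul_inv_cancel_right]
    constructor
    · rintro ⟨i, rfl⟩
      exact ⟨i, by rw [← conj_zpow, hgc]⟩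
    · rintro ⟨i, hi⟩
      refine ⟨i, ?_⟩
      show w ^ i = x
      simp only at hi
      rw [← hgc, conj_zpow, mul_left_inj, mul_right_inj] at hi
      exact hi
  have hexp : ∀ n ∈ N, ∃ t : ℕ, t < p ∧ n * w * n⁻¹ = w ^ t := by
    intro n hn
    obtain ⟨t, ht⟩ := mem_powers_iff_mem_zpowers.2 ((mem_normalizer_iff.1 hn w).1 (mem_zpowers w))
    exact ⟨t % p, Nat.mod_lt _ hp.pos, by rw [← ht, ← hw, pow_mod_orderOf]⟩
  have hCnormal : (C.subgroupOf N).Normal := ⟨fun x hx g => by
    rw [mem_subgroupOf, mem_centralizer_singleton_iff] at hx ⊢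
    obtain ⟨t, -, ht⟩ := hexp ((g : G))⁻¹ (inv_mem g.2)
    rw [inv_inv] at ht
    have hx' : (x : G) * ((g : G)⁻¹ * w * g) = ((g : G)⁻¹ * w * g) * x := by
      rw [ht]; exact (show Commute (x : G) w from hx).pow_right t
    show (g : G) * x * (g : G)⁻¹ * w = w * ((g : G) * x * (g : G)⁻¹)
    calc (g : G) * x * (g : G)⁻¹ * w = (g : G) * (x * ((g : G)⁻¹ * w * g)) * (g : G)⁻¹ := by group
      _ = _ := by rw [hx']; group⟩
  have hidx : (C.subgroupOf N).index = k := by
    have h := (C.subgroupOf N).card_mul_index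
    rw [Nat.card_congr (subgroupOfEquivOfLe hCN).toEquiv, hC, hN] at h
    exact Nat.eq_of_mul_eq_mul_left hcpos h
  have hiter : ∀ (n : G) (t : ℕ), n * w * n⁻¹ = w ^ t → ∀ j : ℕ, n ^ j * w * (n ^ j)⁻¹ = w ^ t ^ j := by
    intro n t ht j
    induction j with
    | zero => simp
    | succ j ih =>
      rw [pow_succ' n, show n * n ^ j * w * (n * n ^ j)⁻¹ = n * (n ^ j * w * (n ^ j)⁻¹) * n⁻¹ by group, ih,
        ← conj_pow, ht, ← pow_mul, ← pow_succ']
  have hroot : ∀ n ∈ N, ∀ t < p, n * w * n⁻¹ = w ^ t → t ∈ roots p k := by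
    intro n hn t htp ht
    have h1 : (⟨n, hn⟩ : ↥N) ^ k ∈ C.subgroupOf N := by
      rw [← hidx, Subgroup.index_eq_card, ← QuotientGroup.eq_one_iff, QuotientGroup.mk_pow, pow_card_eq_one']
    rw [mem_subgroupOf, SubmonoidClass.coe_pow, mem_centralizer_singleton_iff] at h1
    have h2 := hiter n t ht k
    rw [h1, mul_inv_cancel_right] at h2
    refine Finset.mem_filter.2 ⟨Finset.mem_range.2 htp, ?_⟩
    have h3 := pow_eq_pow_iff_modEq.1 (show w ^ 1 = w ^ t ^ k by rw [pow_one]; exact h2)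
    rw [hw] at h3
    rw [← h3, Nat.mod_eq_of_lt hp.one_lt]
  set O := (Finset.range p).filter fun t => ∃ n ∈ N, n * w * n⁻¹ = w ^ t with hO
  have hsub : O ⊆ roots p k := fun t ht => by
    obtain ⟨htp, n, hn, hnt⟩ := Finset.mem_filter.1 ht
    exact hroot n hn t (Finset.mem_range.1 htp) hnt
  have hOk : O.card = k := by
    have hwN : w ∈ N := hCN (mem_centralizer_singleton_iff.2 rfl)
    have h := S1875.card_class_mul (⟨w, hwN⟩ : ↥N)
    have hc' : Nat.card ↥(centralizer ({(⟨w, hwN⟩ : ↥N)} : Set ↥N)) = c := by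
      rw [← hC]
      refine Nat.card_congr
        { toFun := fun g => ⟨(g.1 : G), mem_centralizer_singleton_iff.2
            (congrArg Subtype.val (mem_centralizer_singleton_iff.1 g.2))⟩
          invFun := fun g => ⟨⟨g.1, hCN g.2⟩, mem_centralizer_singleton_iff.2
            (Subtype.ext (mem_centralizer_singleton_iff.1 g.2))⟩
          left_inv := fun g => rfl
          right_inv := fun g => rfl }
    rw [hc', hN, mul_comm c k] at h
    rw [← Nat.eq_of_mul_eq_mul_right hcpos h, ← Nat.card_eq_finsetCard]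
    refine Nat.card_eq_of_bijective (fun t => (⟨⟨w ^ t.1, pow_mem hwN _⟩, ?_⟩ : {g : ↥N // IsConj ⟨w, hwN⟩ g})) ?_
    · obtain ⟨-, n, hn, hnt⟩ := Finset.mem_filter.1 t.2
      exact isConj_iff.2 ⟨⟨n, hn⟩, Subtype.ext hnt⟩
    · constructor
      · intro s t e
        have := pow_eq_pow_iff_modEq.1 (congrArg (fun x : {g : ↥N // IsConj ⟨w, hwN⟩ g} => (x.1 : G)) e)
        rw [hw, Nat.ModEq, Nat.mod_eq_of_lt (Finset.mem_range.1 (Finset.mem_filter.1 s.2).1),
          Nat.mod_eq_of_lt (Finset.mem_range.1 (Finset.mem_filter.1 t.2).1)] at this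
        exact Subtype.ext this
      · rintro ⟨g, hg⟩
        obtain ⟨n, rfl⟩ := isConj_iff.1 hg
        obtain ⟨t, ht, hnt⟩ := hexp n n.2
        exact ⟨⟨t, Finset.mem_filter.2 ⟨Finset.mem_range.2 ht, n, n.2, hnt⟩⟩, Subtype.ext (Subtype.ext hnt.symm)⟩
  have heq : O = roots p k := Finset.eq_of_subset_of_card_le hsub (by rw [hk, hOk])
  haveI : Fact p.Prime := ⟨hp⟩
  have ha' : (a : ZMod p) ≠ 0 := fun h => ha ((ZMod.natCast_eq_zero_iff a p).1 h)
  constructor
  · intro h
    obtain ⟨n, hn⟩ := isConj_iff.1 h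
    have hgen : zpowers (w ^ a) = zpowers w := Subgroup.eq_of_le_of_card_ge
      (zpowers_le.2 (pow_mem (mem_zpowers w) a))
      (by rw [Nat.card_zpowers, Nat.card_zpowers, Nat.Coprime.orderOf_pow
        (by rw [hw]; exact hp.coprime_iff_not_dvd.2 ha)])
    have hnN : n ∈ N := by
      refine mem_normalizer_fintype fun x hx => ?_
      rw [← hgen] at hx
      obtain ⟨i, rfl⟩ := hx
      refine ⟨(b : ℤ) * i, ?_⟩
      show _ = n * (w ^ a) ^ i * n⁻¹
      simp only
      rw [← conj_zpow, hn, zpow_mul, zpow_natCast]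
    obtain ⟨t, htp, ht⟩ := hexp n hnN
    obtain ⟨-, hr⟩ := Finset.mem_filter.1 (hroot n hnN t htp ht)
    rw [← conj_pow, ht, ← pow_mul, pow_eq_pow_iff_modEq, hw] at hn
    have h2 := Nat.ModEq.pow k hn
    rw [mul_pow] at h2
    have h3 : t ^ k * a ^ k ≡ 1 * a ^ k [MOD p] := Nat.ModEq.mul_right _ (by
      rw [Nat.ModEq, hr, Nat.mod_eq_of_lt hp.one_lt])
    rw [one_mul] at h3
    exact h3.symm.trans h2
  · intro h
    set t := ((b : ZMod p) * (a : ZMod p)⁻¹).val
    have ht : t ∈ roots p k := by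
      refine Finset.mem_filter.2 ⟨Finset.mem_range.2 (ZMod.val_lt _), ?_⟩
      have h' : (b : ZMod p) ^ k = (a : ZMod p) ^ k := by
        rw [← Nat.cast_pow, ← Nat.cast_pow, ZMod.natCast_eq_natCast_iff']
        exact h.symm
      have h1 : ((t ^ k : ℕ) : ZMod p) = ((1 : ℕ) : ZMod p) := by
        rw [Nat.cast_pow, ZMod.natCast_zmod_val, mul_pow, h', inv_pow, mul_inv_cancel₀ (pow_ne_zero _ ha'),
          Nat.cast_one]
      rw [ZMod.natCast_eq_natCast_iff', Nat.mod_eq_of_lt hp.one_lt] at h1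
      exact h1
    rw [← heq, hO] at ht
    obtain ⟨-, n, -, hn⟩ := Finset.mem_filter.1 ht
    refine isConj_iff.2 ⟨n, ?_⟩
    rw [← conj_pow, hn, ← pow_mul, pow_eq_pow_iff_modEq, hw, ← ZMod.natCast_eq_natCast_iff, Nat.cast_mul,
      ZMod.natCast_zmod_val, mul_assoc, inv_mul_cancel₀ ha', mul_one]

/-- The representatives of the classes of elements of a prime order dividing the group order once. -/
theorem prime_reps {p k c : ℕ} (hp : p.Prime) (hfac : (Nat.card G).factorization p = 1) {w : G}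
    (hw : orderOf w = p) (hC : Nat.card ↥(centralizer ({w} : Set G)) = c)
    (hN : Nat.card ↥(normalizer (zpowers w : Set G)) = c * k) (hk : (roots p k).card = k) {es : List ℕ}
    (hes : (∀ a ∈ es, ¬ p ∣ a) ∧ (es.Pairwise fun a b => a ^ k % p ≠ b ^ k % p) ∧
      ∀ b < p, b ≠ 0 → ∃ a ∈ es, a ^ k % p = b ^ k % p) : OrderReps p (es.map (w ^ ·)) := by
  haveI : Fact p.Prime := ⟨hp⟩
  obtain ⟨h1, h2, h3⟩ := hes
  refine ⟨fun x hx => ?_, fun x hx => ?_, ?_⟩
  · obtain ⟨a, ha, rfl⟩ := List.mem_map.1 hx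
    rw [Nat.Coprime.orderOf_pow (by rw [hw]; exact hp.coprime_iff_not_dvd.2 (h1 a ha)), hw]
  · let S : Sylow p G := Sylow.ofCard (zpowers w) (by rw [hfac, Nat.card_zpowers, hw, pow_one])
    let T : Sylow p G := Sylow.ofCard (zpowers x) (by rw [hfac, Nat.card_zpowers, hx, pow_one])
    obtain ⟨g, hg⟩ := MulAction.exists_smul_eq G T S
    have hmem : g * x * g⁻¹ ∈ zpowers w := by
      rw [show zpowers w = (S : Subgroup G) from rfl, ← hg]
      exact ⟨x, mem_zpowers x, rfl⟩
    obtain ⟨b, hb⟩ := mem_powers_iff_mem_zpowers.2 hmem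
    have hb' : b % p ≠ 0 := by
      intro h
      have h1 : g * x * g⁻¹ = 1 := by rw [← hb]; show w ^ b = 1; rw [← pow_mod_orderOf, hw, h, pow_zero]
      rw [conj_eq_one_iff.1 h1, orderOf_one] at hx
      exact hp.one_lt.ne hx
    obtain ⟨a, ha, hab⟩ := h3 _ (Nat.mod_lt _ hp.pos) hb'
    refine ⟨_, List.mem_map.2 ⟨a, ha, rfl⟩, ?_⟩
    have := (conj_pow_iff hp hw hC hN hk (b := b % p) (h1 a ha)).2 hab
    rw [← hw, pow_mod_orderOf] at this
    exact (isConj_iff.2 ⟨g, hb.symm⟩).trans this.symm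
  · rw [List.pairwise_map]
    refine List.Pairwise.imp_of_mem (fun ha _ hab h => hab ((conj_pow_iff hp hw hC hN hk (h1 _ ha)).1 h)) h2

end Cfsg.Agent.JankoFour.KCount
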