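import Cfsg.Agent.Lib.JankoFour.ClassFive
import Cfsg.Agent.Lib.JankoFour.ClassPrimes

/-!
The seven classes of 2-elements centralising an element of order five.
-/

set_option autoImplicit false
set_option linter.unusedSectionVars false
set_option maxRecDepth 100000

namespace Cfsg.Agent.JankoFour.Model.Five

open Subgroup
open Cfsg.Agent.LargeFischer (Ctx QG)
open Cfsg.Agent.J4Module (app)
open Cfsg.Agent.J4Module.Data
open FiveTab Big Split KCount

variable {G : Type*} [Group G] [Finite G] {z : G} {P : Subgroup G} {M : Model z P} (F : M.Five)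

include F

/-- An element outside the extraspecial subgroup is conjugate to its product with the central involution. -/
theorem flip_eight {x : ↥(centralizer ({z} : Set G))} (hx : (x : G) ∈ F.K) (ha : M.Acts x sC) {r : ↥(QG M.Q)}
    (hr : (r : G) = (x : G) * x) {w : ℕ} (hw : w ∈ [1, 4]) (hv : M.vec r = w) :
    ∃ k ∈ F.K, k * (x : G) * k⁻¹ = x * z := by
  obtain ⟨-, -, -, h5, h2282, hb⟩ := out_fix
  obtain ⟨d, hd⟩ := M.vec_surj 5 (by norm_num)
  obtain ⟨a, hav⟩ := M.vec_surj 2282 (by norm_num)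
  have hdK : (d : G) ∈ F.K := F.q_mem (by rw [hd]; decide)
  refine ⟨d, hdK, ?_⟩
  have hne : (x : G) * d * (x : G)⁻¹ ≠ d := fun hc => by
    have hv1 : M.vec (a * d) = M.vec (M.ctx.conjQ x a) := by
      rw [M.vec_mul, ha a, hav, hd, h2282]
    obtain ⟨e, he, hea⟩ : ∃ e : G, (e = 1 ∨ e = z) ∧ (x : G) * a * (x : G)⁻¹ = a * d * e := by
      rcases M.vec_eq_iff.1 hv1 with h | h
      · exact ⟨1, Or.inl rfl, by rw [mul_one]; exact h⟩
      · exact ⟨z, Or.inr rfl, h⟩
    have hxe : (x : G) * e * (x : G)⁻¹ = e := by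
      rcases he with rfl | rfl
      · group
      · rw [mem_centralizer_singleton_iff.1 x.2, mul_inv_cancel_right]
    have hee : e * (d : G) * e = d := by
      rcases he with rfl | rfl
      · group
      · rw [(mem_centralizer_singleton_iff.1 (M.mem_H d.2)).symm, mul_assoc, M.z_sq, mul_one]
    have hdd : (d : G) * d = 1 := (M.sq_iff d).2 (by rw [hd]; decide +kernel)
    have h2 : (r : G) * a = a * r := by
      rw [← mul_inv_eq_iff_eq_mul, hr]
      calc (x : G) * x * a * ((x : G) * x)⁻¹ = (x : G) * ((x : G) * a * (x : G)⁻¹) * (x : G)⁻¹ := by group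
        _ = (x : G) * ((a : G) * d * e) * (x : G)⁻¹ := by rw [hea]
        _ = ((x : G) * a * (x : G)⁻¹) * ((x : G) * d * (x : G)⁻¹) * ((x : G) * e * (x : G)⁻¹) := by group
        _ = (a : G) * d * e * d * e := by rw [hea, hc, hxe]
        _ = (a : G) * ((d : G) * (e * d * e)) := by group
        _ = a := by rw [hee, hdd, mul_one]
    rw [M.comm_iff, hv, hav, hb w hw] at h2
    exact Bool.noConfusion h2
  have hvd : M.vec d = M.vec (M.ctx.conjQ x d) := by rw [ha d, hd, h5]
  rcases M.vec_eq_iff.1 hvd with h | h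
  · exact absurd h hne
  · have h' : (x : G) * d * (x : G)⁻¹ = d * z := h
    have hxd : (x : G) * d = d * z * x := mul_inv_eq_iff_eq_mul.1 h'
    have hdd : (d : G) * d = 1 := (M.sq_iff d).2 (by rw [hd]; decide +kernel)
    rw [inv_eq_of_mul_eq_one_right hdd, mul_assoc, hxd, ← mul_assoc, ← mul_assoc, hdd, one_mul,
      mem_centralizer_singleton_iff.1 x.2]

/-- Elements of order eight with the same square are conjugate. -/
theorem conj_eight {x x' : ↥(centralizer ({z} : Set G))} (hx : (x : G) ∈ F.K) (hx' : (x' : G) ∈ F.K)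
    (ha : M.Acts x sC) (ha' : M.Acts x' sC) {r r' : ↥(QG M.Q)} (hr : (r : G) = (x : G) * x)
    (hr' : (r' : G) = (x' : G) * x') {w : ℕ} (hw : w ∈ [1, 4]) (hv : M.vec r = w) (hv' : M.vec r' = w) :
    ∃ k ∈ F.K, k * (x : G) * k⁻¹ = x' := by
  have hu : M.Acts (x' * x⁻¹) unitC := by
    obtain ⟨C', hC', hi⟩ := M.exists_cols x⁻¹
    intro v
    rw [M.acts_mul ha' hi, app_mulC, (M.acts_inv ha hi v).2, app_unitC _ (M.vec_lt v)]
  obtain ⟨q, hq, hqf⟩ := F.of_unit (x := x' * x⁻¹) (mul_mem hx' (inv_mem hx)) hu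
  have hq' : (q : G) = (x' : G) * (x : G)⁻¹ := hq
  have e : r' = q * M.ctx.conjQ x q * r := Subtype.ext (by
    show (r' : G) = (q : G) * ((x : G) * q * (x : G)⁻¹) * r
    rw [hr', hr, hq']
    group)
  have hfix : app sC (M.vec q) = M.vec q := by
    rw [e, M.vec_mul, M.vec_mul, ha q, hv] at hv'
    exact (Nat.xor_eq_zero_iff.1 (Nat.xor_left_injective (hv'.trans (Nat.zero_xor w).symm))).symm
  obtain ⟨n, hn, hnq⟩ := out_fix.2.2.1 _ hqf hfix
  obtain ⟨y, hy⟩ := M.vec_surj n (FiveTab.fix_classes.2.2.2.2.2.2.1 n hn).1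
  set y' : ↥(QG M.Q) := y * M.ctx.conjQ x y⁻¹ with hy'
  have hv2 : M.vec q = M.vec y' := by rw [hy', M.vec_mul, ha y⁻¹, M.vec_inv, hy, hnq]
  have hyy : (y : G) * x * (y : G)⁻¹ = (y' : G) * x := by
    show _ = (y : G) * ((x : G) * (y : G)⁻¹ * (x : G)⁻¹) * x
    group
  have hx'q : (x' : G) = (q : G) * x := by rw [hq']; group
  have hyK : (y : G) ∈ F.K := F.q_mem (hy ▸ hn)
  rcases M.vec_eq_iff.1 hv2 with h | h
  · exact ⟨y, hyK, by rw [hyy, h, hx'q]⟩
  · obtain ⟨k, hk, he⟩ := F.flip_eight hx ha hr hw hv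
    refine ⟨y * k, mul_mem hyK hk, ?_⟩
    rw [show (y : G) * k * x * ((y : G) * k)⁻¹ = (y : G) * (k * x * k⁻¹) * (y : G)⁻¹ by group, he,
      show (y : G) * ((x : G) * z) * (y : G)⁻¹ = ((y : G) * x * (y : G)⁻¹) * ((y : G) * z * (y : G)⁻¹) by group,
      hyy, h, mem_centralizer_singleton_iff.1 (M.mem_H y.2), mul_inv_cancel_right, hx'q,
      mul_assoc _ (x : G) z, mem_centralizer_singleton_iff.1 x.2, mul_assoc (q : G) z, ← mul_assoc z z, M.z_sq,
      one_mul]

/-- An element of order eight over each of the two classes of squares. -/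
theorem exists_eight {w : ℕ} (hw : w ∈ [1, 4]) : ∃ (x : ↥(centralizer ({z} : Set G))) (r : ↥(QG M.Q)),
    (x : G) ∈ F.K ∧ M.Acts x sC ∧ (r : G) = (x : G) * x ∧ M.vec r = w ∧ TwoEl (x : G) := by
  obtain ⟨h, hh, ha⟩ := F.exists_lift two_part.1
  have hhK : (h : G) ∈ F.K := (F.mem_cent' h.2).2 (F.mem_cent.2 hh)
  obtain ⟨s, hs, hsf, hsC⟩ := F.sq_fix hhK ha (Or.inr (by simp [outs]))
  obtain ⟨hfc, -⟩ := fix_closed
  have hwf : w ∈ fixL := (q_vecs.2.1 w (by fin_cases hw <;> decide)).2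
  obtain ⟨n, hn, hnq⟩ := out_fix.2.2.1 (w ^^^ M.vec s) (hfc _ hwf _ hsf)
    (by rw [J4Module.app_xor, out_fix.2.1 w hw, hsC])
  obtain ⟨y, hy⟩ := M.vec_surj n (FiveTab.fix_classes.2.2.2.2.2.2.1 n hn).1
  set x : ↥(centralizer ({z} : Set G)) := M.toH y * h with hx
  set r : ↥(QG M.Q) := y * M.ctx.conjQ h y * s with hrdef
  have hr : (r : G) = (x : G) * x := by
    show (y : G) * ((h : G) * y * (h : G)⁻¹) * s = (y : G) * h * ((y : G) * h)
    rw [hs]
    group
  have hv : M.vec r = w := by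
    rw [hrdef, M.vec_mul, M.vec_mul, ha y, hy, hnq, Nat.xor_assoc, Nat.xor_self, Nat.xor_zero]
  have hax : M.Acts x sC := fun v => by
    rw [hx, M.ctx.conjQ_mul]
    have hc : M.vec (M.ctx.conjQ (M.toH y) (M.ctx.conjQ h v)) = M.vec (M.ctx.conjQ h v) := by
      show M.vec (y * M.ctx.conjQ h v * y⁻¹) = _
      rw [M.vec_mul, M.vec_mul, M.vec_inv, Nat.xor_comm (M.vec y), Nat.xor_assoc, Nat.xor_self, Nat.xor_zero]
    rw [hc, ha v]
  refine ⟨x, r, mul_mem (F.q_mem (hy ▸ hn)) hhK, hax, hr, hv, ⟨3, ?_⟩⟩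
  have h0 : M.vec (r * r) = 0 := by rw [M.vec_mul, Nat.xor_self]
  have h2 : ((r : G) * r) * ((r : G) * r) = 1 := by
    rcases M.vec_eq_zero.1 h0 with e | e
    · rw [show (r : G) * r = 1 from e, one_mul]
    · rw [show (r : G) * r = z from e, M.z_sq]
  rw [← h2, hr]
  simp only [show (2 : ℕ) ^ 3 = 8 from rfl, pow_succ, pow_zero, one_mul, mul_assoc]

variable {B : BigData M} (Cc : BigCoords B)
  (hT : ∀ n < 2048, (Orb.tMask.testBit n = true ↔ n ≠ 0 ∧ ¬ IsConj z (Cc.el n))) (D : BigPack z B.V)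
include Cc hT D

/-- Seven classes lie over the element of order five. -/
theorem section_five : sectionCard (F.c : G) = 7 := by
  obtain ⟨r6, h6⟩ := M.vec_surj 6 (by norm_num)
  obtain ⟨r1, h1⟩ := M.vec_surj 1 (by norm_num)
  obtain ⟨r4, h4⟩ := M.vec_surj 4 (by norm_num)
  obtain ⟨x1, s1, hx1, ha1, hs1, hv1, hT1⟩ := F.exists_eight (w := 1) (by simp)
  obtain ⟨x4, s4, hx4, ha4, hs4, hv4, hT4⟩ := F.exists_eight (w := 4) (by simp)
  let R : Fin 7 → G := ![1, z, r6, r1, r4, x1, x4]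
  have hzK : z ∈ F.K := F.eG_le_K M.z_mem_eG
  have hqT : ∀ r : ↥(QG M.Q), TwoEl (r : G) := fun r => by
    refine ⟨2, ?_⟩
    have h0 : M.vec (r * r) = 0 := by rw [M.vec_mul, Nat.xor_self]
    rw [show (2 : ℕ) ^ 2 = 2 + 2 from rfl, pow_add, pow_two]
    rcases M.vec_eq_zero.1 h0 with e | e
    · rw [show (r : G) * r = 1 from e, one_mul]
    · rw [show (r : G) * r = z from e, M.z_sq]
  have hRK : ∀ i, R i ∈ F.K := by
    intro i
    fin_cases i <;> simp only [R]
    · exact one_mem _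
    · exact hzK
    · exact F.q_mem (by rw [h6]; decide)
    · exact F.q_mem (by rw [h1]; decide)
    · exact F.q_mem (by rw [h4]; decide)
    · exact hx1
    · exact hx4
  refine sectionCard_eq (by rw [F.order']; decide) R (fun i => ⟨?_, mem_centralizer_singleton_iff.1 (hRK i)⟩) ?_ ?_
  · fin_cases i <;> simp only [R]
    · exact ⟨0, one_pow _⟩
    · exact ⟨1, by rw [pow_one, pow_two]; exact M.z_sq⟩
    · exact hqT r6
    · exact hqT r1
    · exact hqT r4
    · exact hT1
    · exact hT4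
  · intro u hu hc
    have fin : ∀ v : G, (∃ k ∈ F.K, k * u * k⁻¹ = v) → ∀ i, (∃ k ∈ F.K, k * v * k⁻¹ = R i) →
        ∃ i, ∃ k, k * (F.c : G) = F.c * k ∧ k * u * k⁻¹ = R i := by
      rintro v ⟨a, ha, rfl⟩ i ⟨b, hb, e⟩
      exact ⟨i, b * a, mem_centralizer_singleton_iff.1 (mul_mem hb ha), by rw [← e]; group⟩
    obtain ⟨k, hk, hkz⟩ := F.to_cent Cc hT D (mem_centralizer_singleton_iff.2 hc) hu
    set x : ↥(centralizer ({z} : Set G)) := ⟨_, hkz⟩ with hxd
    have hx : (x : G) ∈ F.K := mul_mem (mul_mem hk (mem_centralizer_singleton_iff.2 hc)) (inv_mem hk)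
    by_cases h4' : (x : G) * x * ((x : G) * x) = 1
    · obtain ⟨m, hm, r, hr, hrf⟩ := F.to_Q Cc hT D hx (hu.conj k) h4'
      have huv : ∃ a ∈ F.K, a * u * a⁻¹ = r := ⟨m * k, mul_mem hm hk, by
        rw [hr]; show _ = m * (k * u * k⁻¹) * m⁻¹; group⟩
      have move : ∀ C ∈ listL, ∀ n, app C (M.vec r) = n → ∀ r' : ↥(QG M.Q), M.vec r' = n → n ∈ [1, 4, 6] →
          ∃ a ∈ F.K, a * (r : G) * a⁻¹ = r' := by
        intro C hC n hn r' hr' hn'
        obtain ⟨h, hh, ha⟩ := F.exists_lift hC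
        obtain ⟨b, hb, e⟩ := F.conj_same (r := M.ctx.conjQ h r) (r' := r') (by rw [ha r, hn, hr'])
          (by rw [ha r, hn]; exact q_vecs.2.2.2.2 n hn')
        refine ⟨b * h, mul_mem hb ((F.mem_cent' h.2).2 (F.mem_cent.2 hh)), ?_⟩
        rw [← e]
        show _ = b * ((h : G) * r * (h : G)⁻¹) * b⁻¹
        group
      cases hq : qbit (M.vec r)
      · rcases fix_closed.2.2.2.2 _ hrf hq with e | e | e
        · rcases M.vec_eq_zero.1 e with f | f
          · exact fin _ huv 0 ⟨1, one_mem _, by rw [f]; simp [R]⟩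
          · exact fin _ huv 1 ⟨1, one_mem _, by rw [f]; simp [R]⟩
        · have hrE : (r : G) ∈ M.eG := M.mem_eG.2 (List.mem_cons_of_mem _ e)
          obtain ⟨g, hg, -, hgz⟩ := F.exists_move Cc hT hrE (fun f => by
            rw [M.vec_eq_zero.2 (Or.inl f)] at e; exact absurd e (by decide))
          exact fin _ huv 1 ⟨g, hg, hgz⟩
        · obtain ⟨C, hC, hCv⟩ := FiveTab.c_orbit.1 _ e 6 (by simp [cVecs])
          exact fin _ huv 2 (move C hC 6 hCv r6 h6 (by simp))
      · rcases q_vecs.2.2.1 _ (q_vecs.1 _ hrf hq) with ⟨C, hC, hCv⟩ | ⟨C, hC, hCv⟩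
        · exact fin _ huv 3 (move C hC 1 hCv r1 h1 (by simp))
        · exact fin _ huv 4 (move C hC 4 hCv r4 h4 (by simp))
    · obtain ⟨C, hL, ha, hC⟩ := F.two_cols hx (hu.conj k)
      obtain ⟨s, hs, hsf, hsC⟩ := F.sq_fix hx ha hC
      have hq : qbit (M.vec s) = true := by
        by_contra hq
        exact h4' (by rw [← hs]; exact (M.sq_iff s).2 (by simpa using hq))
      obtain ⟨w, hw, C2, hC2, hCw⟩ : ∃ w ∈ [1, 4], ∃ C2 ∈ listL, app C2 (M.vec s) = w := by
        rcases q_vecs.2.2.1 _ (q_vecs.1 _ hsf hq) with ⟨C2, h, h'⟩ | ⟨C2, h, h'⟩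
        · exact ⟨1, by simp, C2, h, h'⟩
        · exact ⟨4, by simp, C2, h, h'⟩
      obtain ⟨h, hh, hha⟩ := F.exists_lift hC2
      have hhK : (h : G) ∈ F.K := (F.mem_cent' h.2).2 (F.mem_cent.2 hh)
      set y : ↥(centralizer ({z} : Set G)) := h * x * h⁻¹ with hyd
      have hy : (y : G) ∈ F.K := mul_mem (mul_mem hhK hx) (inv_mem hhK)
      have hyT : TwoEl (y : G) := (hu.conj k).conj (h : G)
      obtain ⟨D', hD'L, haD, hD'⟩ := F.two_cols hy hyT
      obtain ⟨s', hs', hs'f, hs'D⟩ := F.sq_fix hy haD hD'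
      have hs'w : M.vec s' = w := by
        rw [show s' = M.ctx.conjQ h s from Subtype.ext (by
          show (s' : G) = (h : G) * s * (h : G)⁻¹
          rw [hs', hs]
          show (h : G) * x * (h : G)⁻¹ * ((h : G) * x * (h : G)⁻¹) = _
          group), hha s, hCw]
      have hD'o : D' = sC := by
        rcases hD' with rfl | hD'
        · exfalso
          obtain ⟨t, ht, -⟩ := F.of_unit hy haD
          have h1 : ((y : G) * y) * ((y : G) * y) = 1 := by
            have h0 : M.vec (t * t) = 0 := by rw [M.vec_mul, Nat.xor_self]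
            rw [← ht]
            rcases M.vec_eq_zero.1 h0 with e | e
            · rw [show (t : G) * t = 1 from e, one_mul]
            · rw [show (t : G) * t = z from e, M.z_sq]
          refine h4' (mul_left_cancel (a := (h : G)) (mul_right_cancel (b := (h : G)⁻¹) ?_))
          rw [mul_one, mul_inv_cancel]
          refine Eq.trans ?_ h1
          show _ = (h : G) * x * (h : G)⁻¹ * ((h : G) * x * (h : G)⁻¹) * ((h : G) * x * (h : G)⁻¹ * ((h : G) * x * (h : G)⁻¹))
          group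
        · exact out_fix.1 _ hD' w hw (by rw [← hs'w]; exact hs'D)
      subst hD'o
      have huv : ∃ a ∈ F.K, a * u * a⁻¹ = (y : G) := ⟨h * k, mul_mem hhK hk, by
        show _ = (h : G) * (k * u * k⁻¹) * (h : G)⁻¹
        group⟩
      simp only [List.mem_cons, List.not_mem_nil, or_false] at hw
      rcases hw with rfl | rfl
      · exact fin _ huv 5 (F.conj_eight hy hx1 haD ha1 hs' hs1 (by simp) hs'w hv1)
      · exact fin _ huv 6 (F.conj_eight hy hx4 haD ha4 hs' hs4 (by simp) hs'w hv4)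
  · intro i j k hk e
    have hkK : k ∈ F.K := mem_centralizer_singleton_iff.2 hk
    have hz0 : z ≠ 1 := M.ctx.xs.ne_one
    have hr6z : ¬ IsConj z (r6 : G) := F.cVec_not_conj Cc hT r6 (by rw [h6]; simp [cVecs])
    have hsqz : ∀ r : ↥(QG M.Q), qbit (M.vec r) = true → (r : G) * r = z := fun r hr => by
      have h0 : M.vec (r * r) = 0 := by rw [M.vec_mul, Nat.xor_self]
      exact (M.vec_eq_zero.1 h0).resolve_left fun f => by
        have := (M.sq_iff r).1 f
        rw [hr] at this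
        exact Bool.noConfusion this
    have hq1 : qbit 1 = true := (q_vecs.2.1 1 (by decide)).1
    have hq4 : qbit 4 = true := (q_vecs.2.1 4 (by decide)).1
    -- conjugation between elements with squares in the two classes
    have key : ∀ a b : ↥(QG M.Q), M.vec a = 1 → M.vec b = 4 → k * (a : G) * k⁻¹ = b → False := by
      intro a b ha hb eab
      have hkz : k ∈ centralizer ({z} : Set G) := by
        refine mem_centralizer_singleton_iff.2 (mul_inv_eq_iff_eq_mul.1 ?_)
        calc k * z * k⁻¹ = k * ((a : G) * a) * k⁻¹ := by rw [hsqz a (by rw [ha]; exact hq1)]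
          _ = (k * a * k⁻¹) * (k * a * k⁻¹) := by group
          _ = z := by rw [eab, hsqz b (by rw [hb]; exact hq4)]
      obtain ⟨C, hC, hac⟩ := M.exists_cols ⟨k, hkz⟩
      have hL := F.acts_list (F.mem_cent.1 ((F.mem_cent' hkz).1 hkK)) hC hac
      refine q_vecs.2.2.2.1 C hL ?_
      rw [← ha, ← hac a, show M.ctx.conjQ ⟨k, hkz⟩ a = b from Subtype.ext eab, hb]
    have key' : ∀ a b : ↥(QG M.Q), M.vec a = 4 → M.vec b = 1 → k * (a : G) * k⁻¹ = b → False := by
      intro a b ha hb eab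
      have hkz : k ∈ centralizer ({z} : Set G) := by
        refine mem_centralizer_singleton_iff.2 (mul_inv_eq_iff_eq_mul.1 ?_)
        calc k * z * k⁻¹ = k * ((a : G) * a) * k⁻¹ := by rw [hsqz a (by rw [ha]; exact hq4)]
          _ = (k * a * k⁻¹) * (k * a * k⁻¹) := by group
          _ = z := by rw [eab, hsqz b (by rw [hb]; exact hq1)]
      obtain ⟨C, hC, hac⟩ := M.exists_cols ⟨k, hkz⟩
      have hL := F.acts_list (F.mem_cent.1 ((F.mem_cent' hkz).1 hkK)) hC hac
      obtain ⟨C', hC', hi⟩ := M.exists_cols (⟨k, hkz⟩ : ↥(centralizer ({z} : Set G)))⁻¹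
      have hL' := F.acts_list (F.mem_cent.1 (inv_mem ((F.mem_cent' hkz).1 hkK))) hC' hi
      refine q_vecs.2.2.2.1 C' hL' ?_
      have := (M.acts_inv hac hi a).1
      rw [← hac a, show M.ctx.conjQ ⟨k, hkz⟩ a = b from Subtype.ext eab, hb, ha] at this
      exact this
    have hpow : ∀ n : ℕ, k * R i ^ n * k⁻¹ = R j ^ n := fun n => by rw [← conj_pow, e]
    -- the squares
    have hR2 : ∀ i : Fin 7, R i ^ 2 = ![1, 1, 1, z, z, (s1 : G), (s4 : G)] i := by
      intro i
      rw [pow_two]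
      fin_cases i <;> simp only [R]
      · exact one_mul _
      · exact M.z_sq
      · exact (M.sq_iff r6).2 (by rw [h6]; exact fix_closed.2.2.2.1 6 (by simp [cVecs]))
      · exact hsqz r1 (by rw [h1]; exact hq1)
      · exact hsqz r4 (by rw [h4]; exact hq4)
      · exact hs1.symm
      · exact hs4.symm
    have hR4 : ∀ i : Fin 7, R i ^ 4 = ![1, 1, 1, 1, 1, z, z] i := by
      intro i
      rw [show (4 : ℕ) = 2 * 2 from rfl, pow_mul, hR2 i, pow_two]
      fin_cases i
      · exact one_mul _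
      · exact one_mul _
      · exact one_mul _
      · exact M.z_sq
      · exact M.z_sq
      · exact hsqz s1 (by rw [hv1]; exact hq1)
      · exact hsqz s4 (by rw [hv4]; exact hq4)
    have e2 := hpow 2
    have e4 := hpow 4
    rw [hR2, hR2] at e2
    rw [hR4, hR4] at e4
    fin_cases i <;> fin_cases j <;> simp only [R] at e <;> first
      | rfl
      | exfalso
    all_goals first
      | exact hz0 (by simpa [eq_comm] using e2)
      | exact hz0 (by simpa [eq_comm] using e4)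
      | exact hz0 (by simpa [eq_comm] using e)
      | exact hr6z (isConj_iff.2 ⟨k, by simpa using e⟩)
      | exact hr6z (IsConj.symm (isConj_iff.2 ⟨k, by simpa using e⟩))
      | exact key _ _ h1 h4 e
      | exact key' _ _ h4 h1 e
      | exact key _ _ hv1 hv4 (by simpa using e2)
      | exact key' _ _ hv4 hv1 (by simpa using e2)
      | (have hr1 : (r6 : G) = 1 := (by simpa [eq_comm] using e)
         rw [M.vec_eq_zero.2 (Or.inl hr1)] at h6; omega)

end Cfsg.Agent.JankoFour.Model.Five
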