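import Cfsg.Agent.Lib.JankoFour.FiveChecks
import Cfsg.Agent.Lib.JankoFour.Assemble

/-!
The centraliser of an element of order five inside the centraliser of the involution.
-/

set_option autoImplicit false
set_option linter.unusedSectionVars false
set_option maxRecDepth 20000

namespace Cfsg.Agent.JankoFour

open Subgroup
open Cfsg.Agent.LargeFischer (QG)
open Cfsg.Agent.J4Module (app gbL imFix)
open Cfsg.Agent.J4Module.Data
open FiveTab Big Split

theorem gen_single {g : List ℕ} (hg : g ∈ gensK) (hl : g.length = 12) : InK0 g :=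
  mulC_unitC hl ▸ Gen.mul hg Gen.one

theorem yC_K : InK0 yC := gen_single (by simp [gensK]) (by decide)

theorem fC_K : InK0 fC := gen_single (by simp [gensK]) (by decide)

theorem pC_K : InK0 pC := gen_single (by simp [gensK]) (by decide)

theorem sC_L : InL0 sC := mulC_unitC (show sC.length = 12 by decide) ▸ Gen.mul (by simp [gensL]) Gen.one

theorem powC_K {C : List ℕ} (h : InK0 C) : ∀ k, InK0 (powC C k)
  | 0 => Gen.one
  | k + 1 => gen_mul (fun _ hg => gensK_sub hg) (powC_K h k) h

/-- The linear part commutes with the scalar. -/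
theorem lin_of_K {C : List ℕ} (h : InK0 C) : mulC C pC = mulC pC C := by
  induction h with
  | one => decide +kernel
  | @mul g D hg hD ih =>
    obtain ⟨h1, h2, h3, -⟩ := FiveTab.gens_p
    have hgp : mulC g pC = mulC pC g := by
      simp only [gensK, List.mem_cons, List.not_mem_nil, or_false] at hg
      rcases hg with rfl | rfl | rfl | rfl <;> first | assumption | rfl
    rw [mulC_assoc, ih, ← mulC_assoc, hgp, mulC_assoc]

/-- The group is the linear part and its outer coset. -/
theorem K_or_outer {C : List ℕ} (h : InL0 C) : InK0 C ∨ ∃ D, InK0 D ∧ C = mulC sC D := by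
  have hsK : ∀ g ∈ gensK, ∃ g', InK0 g' ∧ mulC g sC = mulC sC g' := by
    intro g hg
    have hss : mulC sC sC = unitC := gens_cols.1
    obtain ⟨-, hp, hf, hy, hx, hpp, -⟩ := gens_cols
    have key : ∀ g', mulC sC (mulC g sC) = g' → g.length = 12 → mulC g sC = mulC sC g' := fun g' e hl => by
      rw [← e, ← mulC_assoc, hss, unitC_mulC (gens := gensL) (Gen.mul (gensK_sub hg)
        (mulC_unitC (show sC.length = 12 by decide) ▸ Gen.mul (by simp [gensL]) Gen.one)) (fun _ h => h)]
    simp only [gensK, List.mem_cons, List.not_mem_nil, or_false] at hg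
    rcases hg with rfl | rfl | rfl | rfl
    · refine ⟨_, ?_, key _ hx (by decide)⟩
      have hk : ∀ k : ℕ, InK0 ((fun g => mulC xC g)^[k] unitC) := fun k => by
        induction k with
        | zero => exact Gen.one
        | succ k ih => rw [Function.iterate_succ_apply']; exact Gen.mul (List.mem_cons_self ..) ih
      exact hk 10
    · exact ⟨yC, yC_K, key _ hy (by decide)⟩
    · exact ⟨fC, fC_K, key _ hf (by decide)⟩
    · exact ⟨p2C, hpp ▸ gen_mul (fun _ hg => gensK_sub hg) pC_K pC_K, key _ hp (by decide)⟩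
  induction h with
  | one => exact Or.inl Gen.one
  | @mul g D hg hD ih =>
    have hg' : g = sC ∨ g ∈ gensK := by
      simp only [gensL, gensK, List.mem_cons, List.not_mem_nil, or_false] at hg ⊢
      tauto
    rcases hg' with rfl | hg' <;> rcases ih with hK | ⟨E, hE, rfl⟩
    · exact Or.inr ⟨D, hK, rfl⟩
    · refine Or.inl ?_
      rw [← mulC_assoc, gens_cols.1, unitC_mulC hE (fun _ hg => gensK_sub hg)]
      exact hE
    · exact Or.inl (Gen.mul hg' hK)
    · obtain ⟨g', hg2, e⟩ := hsK g hg'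
      exact Or.inr ⟨mulC g' E, gen_mul (fun _ hg => gensK_sub hg) hg2 hE, by rw [← mulC_assoc, e, mulC_assoc]⟩

theorem app_gb_lt : ∀ m ∈ [5, 1, 4], app (gbL.take 4) m < 4096 := by decide +kernel

theorem app_ge_lt : (∀ m ∈ [30, 17], app (gbL.drop 4) m < 4096) ∧ app gbL 273 < 4096 ∧ app yC 1 = 1 ∧
    app yC 4 = 4 := by decide +kernel

/-- The linear elements commuting with the element of order five. -/
theorem mem_listK {C : List ℕ} (hC : InK0 C) (hy : mulC C yC = mulC yC C) : C ∈ listK := by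
  have hL := gen_mono hC
  have hp : ∀ n, app C (app pC n) = app pC (app C n) := fun n => by rw [← app_mulC, lin_of_K hC, app_mulC]
  have hq : ∀ n, app C (app p2C n) = app p2C (app C n) := fun n => by rw [app_p2, hp, hp, ← app_p2]
  have hyy : ∀ n, app C (app yC n) = app yC (app C n) := fun n => by rw [← app_mulC, hy, app_mulC]
  obtain ⟨-, -, hy1, hy4⟩ := app_ge_lt
  have hlt := gen_app_lt hL
  set i := app C 1 with hi
  set j := app C 4 with hj
  set k := app C aV with hk
  set l := app C bV with hl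
  have hi' : i ∈ fixL := J4Module.fix_spec _ (hlt _) (by rw [hi, ← hyy, hy1])
  have hj' : j ∈ fixL := J4Module.fix_spec _ (hlt _) (by rw [hj, ← hyy, hy4])
  have hk' : k ∈ aL := eig_a _ (hlt _) (by
    rw [hk, ← hyy, ← hyy, ← hp, ← app_xor, ← app_xor, J4Module.a_eq.1, J4Module.app_zero])
  have hl' : l ∈ bL := eig_b _ (hlt _) (by
    rw [hl, ← hyy, ← hyy, ← hq, ← app_xor, ← app_xor, J4Module.a_eq.2.1, J4Module.app_zero])
  have e1 : imFix i j = mulC C (gbL.take 4) := by
    simp [imFix, gbL, mulC, hp, hi, hj]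
  have e2 : imEig k l = mulC C (gbL.drop 4) := by
    simp [imEig, gbL, mulC, hp, hyy, hk, hl]
  have e3 : imAll (i, j, k, l) = mulC C gbL := by
    show imFix i j ++ imEig k l = _
    rw [e1, e2, mulC, mulC, mulC, ← List.map_append, List.take_append_drop]
  have hs : ∀ {L : List ℕ} {m : ℕ}, app L m < 4096 → sameCls (mulC C L) L m = true := fun h => by
    rw [sameCls, app_mulC, cls_InL0 hL _ h, beq_self_eq_true]
  have hmem : (i, j, k, l) ∈ quads := by
    simp only [quads, pairsFix, pairsEig, List.mem_flatMap, List.mem_map, List.mem_filter, List.all_eq_true,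
      Prod.exists, Prod.mk.injEq]
    refine ⟨i, j, ⟨i, hi', j, ⟨hj', fun m hm => ?_⟩, rfl, rfl⟩, k, l,
      ⟨⟨k, hk', l, ⟨hl', fun m hm => ?_⟩, rfl, rfl⟩, ?_⟩, rfl, rfl, rfl, rfl⟩
    · rw [e1]; exact hs (app_gb_lt m hm)
    · rw [e2]; exact hs (app_ge_lt.1 m hm)
    · rw [e3]; exact hs app_ge_lt.2.1
  have h := quads_spec _ hmem
  rw [e3, mulC_assoc, gb_id.1, mulC_unitC (gen_length hC)] at h
  exact h

theorem listK_mem {C : List ℕ} (h : C ∈ listK) : InK0 C := by
  simp only [listK, List.mem_flatMap, List.mem_map] at h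
  obtain ⟨a, -, b, -, rfl⟩ := h
  exact gen_mul (fun _ hg => gensK_sub hg) (powC_K yC_K a) (powC_K pC_K b)

theorem listL_mem {C : List ℕ} (h : C ∈ listL) : InL0 C := by
  rcases List.mem_append.1 h with h | h
  · exact gen_mono (listK_mem h)
  · obtain ⟨D, hD, rfl⟩ := List.mem_map.1 h
    exact Gen.mul (by simp [gensL]) (gen_mono (listK_mem hD))

/-- All elements commuting with the element of order five. -/
theorem mem_listL {C : List ℕ} (hC : InL0 C) (hy : mulC C yC = mulC yC C) : C ∈ listL := by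
  rcases K_or_outer hC with h | ⟨D, hD, rfl⟩
  · exact List.mem_append_left _ (mem_listK h hy)
  · refine List.mem_append_right _ (List.mem_map.2 ⟨D, mem_listK hD ?_, rfl⟩)
    have hl : ∀ E, InL0 E → mulC sC (mulC sC E) = E := fun E hE => by
      rw [← mulC_assoc, gens_cols.1, unitC_mulC hE (fun _ hg => hg)]
    have h1 : mulC sC (mulC D yC) = mulC sC (mulC yC D) := by
      rw [← mulC_assoc, hy, ← mulC_assoc, ← mulC_assoc, FiveTab.gens_k.2.1]
    have := congrArg (mulC sC) h1
    rwa [hl _ (gen_mul (fun _ hg => hg) (gen_mono hD) (gen_mono yC_K)),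
      hl _ (gen_mul (fun _ hg => hg) (gen_mono yC_K) (gen_mono hD))] at this

namespace Model

variable {G : Type*} [Group G] [Finite G] {z : G} {P : Subgroup G} (M : Model z P)
include M

theorem acts_pow {c : ↥(centralizer ({z} : Set G))} {C : List ℕ} (hc : M.Acts c C) :
    ∀ k, M.Acts (c ^ k) (powC C k)
  | 0 => by rw [pow_zero]; exact M.acts_one
  | k + 1 => by rw [pow_succ]; exact M.acts_mul (acts_pow hc k) hc

/-- Lifts normalising the subgroup of order three. -/
theorem exists_liftNP {C : List ℕ} (hC : InL0 C) :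
    ∃ c : ↥(centralizer ({z} : Set G)), InN (P := P) c ∧ M.Acts c C := by
  obtain ⟨c, hc⟩ := M.exists_elem C hC
  obtain ⟨q, hq, n, hn, he⟩ := M.decomp c
  refine ⟨⟨n, (mem_inf.1 hn).2⟩, (mem_inf.1 hn).1, M.acts_mul_Q hc ?_ (gen_length hC)⟩
  have hqH : q ∈ centralizer ({z} : Set G) := M.mem_H hq
  have hq'Q : (⟨q, hqH⟩ : ↥(centralizer ({z} : Set G))) ∈ M.Q := (M.mem_Q_iff _).2 hq
  have : c⁻¹ * ⟨n, (mem_inf.1 hn).2⟩ = c⁻¹ * (⟨q, hqH⟩ : ↥(centralizer ({z} : Set G)))⁻¹ * c⁻¹⁻¹ :=
    Subtype.ext (by simp [he, mul_assoc])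
  rw [this]
  exact M.normal.conj_mem _ (inv_mem hq'Q) _

theorem zQ_pow_odd {k : ℕ} (hk : Odd k) : M.toH M.zQ ^ k = M.toH M.zQ := by
  obtain ⟨j, rfl⟩ := hk
  rw [pow_succ, pow_mul, pow_two, M.zz, one_pow, one_mul]

/-- The chosen element of order five. -/
structure Five where
  c : ↥(centralizer ({z} : Set G))
  pow_five : c ^ 5 = 1
  centP : (c : G) ∈ centralizer (P : Set G)
  acts : M.Acts c yC

theorem exists_five : Nonempty M.Five := by
  obtain ⟨c, hcP, hc⟩ := M.cent_elem yC yC_K
  have hP : ∀ k : ℕ, ((c ^ k : ↥(centralizer ({z} : Set G))) : G) ∈ centralizer (P : Set G) := fun k => by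
    rw [SubmonoidClass.coe_pow]; exact pow_mem hcP k
  have h5 : c ^ 5 ∈ M.Q := M.mem_Q _ (FiveTab.powY.2.1 ▸ M.acts_pow hc 5)
  have h10 : c ^ 10 = 1 := by
    rw [show (10 : ℕ) = 5 + 5 from rfl, pow_add]
    rcases M.cent_Q h5 (hP 5) with e | e <;> rw [e]
    · exact one_mul _
    · exact M.zz
  refine ⟨⟨c ^ 6, ?_, hP 6, FiveTab.powY.2.2.2.1 ▸ M.acts_pow hc 6⟩⟩
  rw [← pow_mul, show 6 * 5 = 10 * 3 from rfl, pow_mul, h10, one_pow]

namespace Five

variable {M} (F : M.Five)
include F

theorem order : orderOf F.c = 5 :=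
  haveI : Fact (Nat.Prime 5) := ⟨by norm_num⟩
  orderOf_eq_prime F.pow_five fun e => by
    have h := M.acts_unique (by decide) (by decide) F.acts (e ▸ M.acts_one)
    exact absurd h (by decide +kernel)

theorem acts_pow_mod (a : ℕ) : M.Acts (F.c ^ a) (powC yC a) := M.acts_pow F.acts a

/-- Commutation with the element in the extraspecial subgroup. -/
theorem comm_iff (x : ↥(QG M.Q)) : (F.c : G) * x = x * F.c ↔ M.vec x ∈ fixL := by
  rw [← M.cfix_comm]
  constructor
  · intro h
    refine J4Module.fix_spec _ (M.vec_lt x) ?_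
    rw [← F.acts x, h]
  · intro h
    rcases M.toH_cases (x := x) (y := M.ctx.conjQ F.c x)
      (by rw [F.acts x, (FiveTab.fix_classes.2.2.2.2.2.2.1 _ h).2.1]) with e | e
    · exact M.toH_injective e
    · exfalso
      rw [← M.toH_conj] at e
      have key : ∀ k : ℕ, F.c ^ k * M.toH x * (F.c ^ k)⁻¹ = M.toH x * M.toH M.zQ ^ k := by
        intro k
        induction k with
        | zero => simp
        | succ k ih =>
          rw [pow_succ', show F.c * F.c ^ k * M.toH x * (F.c * F.c ^ k)⁻¹ =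
            F.c * (F.c ^ k * M.toH x * (F.c ^ k)⁻¹) * F.c⁻¹ by group, ih,
            show F.c * (M.toH x * M.toH M.zQ ^ k) * F.c⁻¹ =
              F.c * M.toH x * F.c⁻¹ * (F.c * M.toH M.zQ * F.c⁻¹) ^ k by rw [conj_pow]; group,
            M.z_conj, e, pow_succ', mul_assoc]
      have h5 := key 5
      rw [F.pow_five, M.zQ_pow_odd (by decide), one_mul, inv_one, mul_one] at h5
      exact M.z_ne (left_eq_mul.1 h5)

/-- Elements commuting with it act by the tabulated matrices. -/
theorem acts_list {h : ↥(centralizer ({z} : Set G))} {C : List ℕ} (hh : h * F.c = F.c * h) (hC : InL0 C)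
    (ha : M.Acts h C) : C ∈ listL := by
  refine mem_listL hC (M.acts_unique (by rw [length_mulC]; rfl) (by rw [length_mulC]; exact gen_length hC)
    (M.acts_mul ha F.acts) ?_)
  rw [hh]
  exact M.acts_mul F.acts ha

/-- Lifts normalising the subgroup of order three transport the element. -/
theorem conj_eq {h : ↥(centralizer ({z} : Set G))} {C : List ℕ} (hN : InN (P := P) h) (ha : M.Acts h C) {a : ℕ}
    (he : mulC C yC = mulC (powC yC a) C) : h * F.c * h⁻¹ = F.c ^ a := by
  have hPa : InN (P := P) (F.c ^ a) := InN.of_cent (by rw [SubmonoidClass.coe_pow]; exact pow_mem F.centP a)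
  rcases M.lift_eqN hPa ((hN.mul (InN.of_cent F.centP)).mul hN.inv) (F.acts_pow_mod a)
    (M.acts_conj ha F.acts he) with e | e
  · exact e
  · exfalso
    have h5 := congrArg (· ^ 5) e
    simp only [conj_pow, F.pow_five, mul_one, mul_inv_cancel] at h5
    rw [(show Commute (F.c ^ a) (M.toH M.zQ) from M.z_fix _).mul_pow, ← pow_mul, mul_comm a 5, pow_mul,
      F.pow_five, one_pow, one_mul, M.zQ_pow_odd (by decide)] at h5
    exact M.z_ne h5.symm

/-- Every tabulated matrix has a commuting lift. -/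
theorem exists_lift {C : List ℕ} (hC : C ∈ listL) :
    ∃ h : ↥(centralizer ({z} : Set G)), h * F.c = F.c * h ∧ M.Acts h C := by
  obtain ⟨h, hN, ha⟩ := M.exists_liftNP (listL_mem hC)
  refine ⟨h, ?_, ha⟩
  have e := F.conj_eq (a := 1) hN ha (by
    rw [show powC yC 1 = mulC unitC yC from rfl, unitC_mulC (gens := gensK) yC_K (fun _ hg => gensK_sub hg)]
    exact list_spec.2.2.2.2.2.2 C hC)
  rwa [pow_one, mul_inv_eq_iff_eq_mul] at e

/-- A lift of the normalising matrix, of order four. -/
theorem exists_norm : ∃ n : ↥(centralizer ({z} : Set G)), (n : G) ∈ centralizer (P : Set G) ∧ M.Acts n fC ∧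
    n * F.c * n⁻¹ = F.c ^ 2 := by
  obtain ⟨n, hn, ha⟩ := M.cent_elem fC fC_K
  exact ⟨n, hn, ha, F.conj_eq (InN.of_cent hn) ha FiveTab.norm_spec.1⟩

/-- The centraliser inside the centraliser of the involution. -/
def cent : Subgroup ↥(centralizer ({z} : Set G)) := centralizer ({F.c} : Set ↥(centralizer ({z} : Set G)))

theorem mem_cent {h : ↥(centralizer ({z} : Set G))} : h ∈ F.cent ↔ h * F.c = F.c * h :=
  mem_centralizer_singleton_iff

theorem card_cent : Nat.card ↥F.cent = 960 := by
  classical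
  haveI := M.normal
  set f : ↥F.cent →* ↥(centralizer ({z} : Set G)) ⧸ M.Q := (QuotientGroup.mk' M.Q).comp F.cent.subtype with hf
  have hlift : ∀ C : {C // C ∈ listL.toFinset}, ∃ h : ↥F.cent, M.Acts h C.1 := fun C => by
    obtain ⟨h, hh, ha⟩ := F.exists_lift (List.mem_toFinset.1 C.2)
    exact ⟨⟨h, F.mem_cent.2 hh⟩, ha⟩
  choose L hL using hlift
  have hrange : Nat.card ↥f.range = 30 := by
    let φ : {C // C ∈ listL.toFinset} → ↥f.range := fun C => ⟨f (L C), L C, rfl⟩
    have hφ : Function.Bijective φ := by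
      refine ⟨fun C D e => ?_, ?_⟩
      · have hm : ((L C).1)⁻¹ * (L D).1 ∈ M.Q := QuotientGroup.eq.1 (congrArg Subtype.val e)
        have hC := List.mem_toFinset.1 C.2
        refine Subtype.ext (M.acts_unique (gen_length (listL_mem hC)) (gen_length (listL_mem (List.mem_toFinset.1 D.2)))
          ?_ (hL D))
        exact M.acts_mul_Q (hL C) hm (gen_length (listL_mem hC))
      · rintro ⟨_, h, rfl⟩
        obtain ⟨C, hC, ha⟩ := M.exists_cols h.1
        have hm := F.acts_list (F.mem_cent.1 h.2) hC ha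
        exact ⟨⟨C, List.mem_toFinset.2 hm⟩, Subtype.ext (QuotientGroup.eq.2 (M.inv_mul_mem (hL ⟨C, _⟩) ha))⟩
    rw [← Nat.card_congr (Equiv.ofBijective φ hφ), Nat.card_eq_fintype_card, Fintype.card_coe,
      List.toFinset_card_of_nodup list_spec.1, list_spec.2.1]
  have hker : Nat.card ↥f.ker = 32 := by
    obtain ⟨-, -, -, -, -, -, hfix, -, hnd, hlen⟩ := FiveTab.fix_classes
    have hlt : ∀ n : {n // n ∈ fixL.toFinset}, ∃ x : ↥(QG M.Q), M.vec x = n.1 := fun n =>
      M.vec_surj _ (hfix _ (List.mem_toFinset.1 n.2)).1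
    choose X hX using hlt
    have hmem : ∀ x : ↥(QG M.Q), M.vec x ∈ fixL → M.toH x ∈ F.cent := fun x hx =>
      F.mem_cent.2 (Subtype.ext ((F.comm_iff x).2 hx).symm)
    have hvz : ∀ x : ↥(QG M.Q), M.vec (x * M.zQ) = M.vec x := fun x => by
      rw [M.vec_mul, show M.vec M.zQ = 0 from M.vec_z, Nat.xor_zero]
    let u : {n // n ∈ fixL.toFinset} × Bool → ↥(QG M.Q) := fun nb => if nb.2 then X nb.1 * M.zQ else X nb.1
    have hu : ∀ nb, M.vec (u nb) = nb.1.1 := fun nb => by
      rcases nb with ⟨n, _ | _⟩ <;> simp [u, hX, hvz]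
    let ψ : {n // n ∈ fixL.toFinset} × Bool → ↥f.ker := fun nb =>
      ⟨⟨M.toH (u nb), hmem _ (by rw [hu]; exact List.mem_toFinset.1 nb.1.2)⟩,
        (QuotientGroup.eq_one_iff _).2 (M.toH_mem _)⟩
    have hψ : Function.Bijective ψ := by
      refine ⟨fun a b e => ?_, fun h => ?_⟩
      · have e' : u a = u b := M.toH_injective (congrArg (fun t : ↥f.ker => t.1.1) e)
        have hn : a.1 = b.1 := Subtype.ext (by rw [← hu a, ← hu b, e'])
        obtain ⟨n, s⟩ := a
        obtain ⟨m, t⟩ := b
        cases hn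
        cases s <;> cases t <;> simp only [u, Bool.false_eq_true, if_false, if_true] at e' ⊢
        · exact absurd (congrArg M.toH (left_eq_mul.1 e')) (by rw [map_one]; exact M.z_ne)
        · exact absurd (congrArg M.toH (left_eq_mul.1 e'.symm)) (by rw [map_one]; exact M.z_ne)
      · obtain ⟨x, hx⟩ := M.toH_surj ((QuotientGroup.eq_one_iff _).1 h.2)
        have hv : M.vec x ∈ fixL := (F.comm_iff x).1
          (congrArg Subtype.val ((hx.symm ▸ F.mem_cent.1 h.1.2 : M.toH x * F.c = F.c * M.toH x))).symm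
        rcases M.toH_cases (x := X ⟨_, List.mem_toFinset.2 hv⟩) (y := x) (hX _) with e | e
        · exact ⟨(⟨_, List.mem_toFinset.2 hv⟩, false), Subtype.ext (Subtype.ext ((congrArg Subtype.val rfl).trans (e.symm.trans hx)))⟩
        · refine ⟨(⟨_, List.mem_toFinset.2 hv⟩, true), Subtype.ext (Subtype.ext ?_)⟩
          exact (map_mul M.toH _ _).trans (e.symm.trans hx)
    rw [← Nat.card_congr (Equiv.ofBijective ψ hψ), Nat.card_prod, Nat.card_eq_fintype_card, Fintype.card_coe,
      List.toFinset_card_of_nodup hnd, hlen, Nat.card_eq_fintype_card, Fintype.card_bool]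
  rw [Subgroup.card_eq_card_quotient_mul_card_subgroup f.ker, hker,
    Nat.card_congr (QuotientGroup.quotientKerEquivRange f).toEquiv, hrange]

end Five

end Model

end Cfsg.Agent.JankoFour
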