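import Cfsg.Agent.Lib.JankoFour.BigSylow

/-!
Twelve by twelve matrices over two elements packed in one number, their products, and sums of powers.
-/

set_option autoImplicit false
set_option maxRecDepth 100000

namespace Cfsg.Agent.JankoFour.OC

open Cfsg.Agent.J4Module (app)

/-- A column of a packed matrix. -/
def slot (a j : ℕ) : ℕ := (a >>> (12 * j)) &&& 4095

/-- The columns of a packed matrix. -/
def unp (a : ℕ) : List ℕ := (List.range 12).map (slot a)

/-- Packing of columns. -/
def pkC (C : List ℕ) : ℕ := C.foldr (fun c r => c + 4096 * r) 0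

/-- One in every column. -/
def ones : ℕ := pkC (List.replicate 12 1)

/-- The product of packed matrices. -/
def mulP (a b : ℕ) : ℕ :=
  (List.range 12).foldl (fun acc k => acc ^^^ (((b >>> k) &&& ones) * slot a k)) 0

theorem slot_eq (a j : ℕ) : slot a j = a / 4096 ^ j % 4096 := by
  rw [slot, Nat.shiftRight_eq_div_pow, show (4095 : ℕ) = 2 ^ 12 - 1 from rfl, Nat.and_two_pow_sub_one_eq_mod,
    pow_mul]
  rfl

theorem slot_lt (a j : ℕ) : slot a j < 4096 := by
  rw [slot_eq]; exact Nat.mod_lt _ (by norm_num)

theorem slot_xor (a b j : ℕ) : slot (a ^^^ b) j = slot a j ^^^ slot b j := by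
  refine Nat.eq_of_testBit_eq fun i => ?_
  simp only [slot, Nat.testBit_and, Nat.testBit_xor, Nat.testBit_shiftRight]
  cases (4095 : ℕ).testBit i <;> simp

theorem slot_ones (j : ℕ) : slot ones j ≤ 1 := by
  rcases Nat.lt_or_ge j 12 with h | h
  · revert j; decide +kernel
  · rw [slot_eq, Nat.div_eq_of_lt (lt_of_lt_of_le (show ones < 4096 ^ 12 by decide +kernel)
      (Nat.pow_le_pow_right (by norm_num) h))]
    simp

theorem slot_ones_eq {j : ℕ} (hj : j < 12) : slot ones j = 1 := by
  revert j; decide +kernel

theorem slot_bits (b k j : ℕ) : slot ((b >>> k) &&& ones) j = (slot (b >>> k) j) &&& slot ones j := by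
  refine Nat.eq_of_testBit_eq fun i => ?_
  simp only [slot, Nat.testBit_and, Nat.testBit_shiftRight]
  cases (4095 : ℕ).testBit i <;> simp

/-- A number with a zero or one in every column is multiplied column by column. -/
theorem slot_mul {c : ℕ} (hc : c < 4096) : ∀ {j x : ℕ}, (∀ i, slot x i ≤ 1) → slot (x * c) j = slot x j * c
  | j, x, hx => by
    have h0 : x % 4096 ≤ 1 := by simpa [slot_eq] using hx 0
    have e : x * c = x % 4096 * c + 4096 * (x / 4096 * c) := by
      conv_lhs => rw [← Nat.mod_add_div x 4096]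
      rw [add_mul, mul_assoc]
    have hlt : x % 4096 * c < 4096 := lt_of_le_of_lt (Nat.mul_le_mul_right c h0) (by omega)
    match j with
    | 0 =>
      rw [slot_eq, slot_eq, pow_zero, Nat.div_one, Nat.div_one, e, Nat.add_mul_mod_self_left, Nat.mod_eq_of_lt hlt]
    | j + 1 =>
      have hs : ∀ y i, slot y (i + 1) = slot (y / 4096) i := fun y i => by
        rw [slot_eq, slot_eq, Nat.div_div_eq_div_mul, pow_succ']
      rw [hs, hs, e, Nat.add_mul_div_left _ _ (by norm_num : 0 < 4096), Nat.div_eq_of_lt hlt, zero_add]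
      exact slot_mul hc fun i => by rw [← hs]; exact hx (i + 1)

theorem slot_term {a b k j : ℕ} (hk : k < 12) (hj : j < 12) :
    slot (((b >>> k) &&& ones) * slot a k) j = if (slot b j).testBit k then slot a k else 0 := by
  have hbit : ∀ i, slot ((b >>> k) &&& ones) i ≤ 1 := fun i => by
    rw [slot_bits]; exact (Nat.and_le_right).trans (slot_ones i)
  rw [slot_mul (slot_lt a k) hbit, slot_bits, slot_ones_eq hj]
  have h1 : slot (b >>> k) j &&& 1 = if (slot b j).testBit k then 1 else 0 := by
    have e : (slot (b >>> k) j).testBit 0 = (slot b j).testBit k := by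
      simp only [slot, Nat.testBit_and, Nat.testBit_shiftRight]
      rw [show (4095 : ℕ).testBit k = true by
        rw [show (4095 : ℕ) = 2 ^ 12 - 1 from rfl, Nat.testBit_two_pow_sub_one]; simpa using hk,
        Nat.testBit_zero (4095 : ℕ)]
      simp [Nat.add_comm]
    rw [Nat.and_one_is_mod, ← e, Nat.testBit_zero]
    rcases Nat.mod_two_eq_zero_or_one (slot (b >>> k) j) with h | h <;> simp [h]
  rw [h1]
  split <;> simp

theorem slot_zero (j : ℕ) : slot 0 j = 0 := by simp [slot]

theorem foldl_range12 {α : Type} (f : α → ℕ → α) (a : α) : (List.range 12).foldl f a =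
    f (f (f (f (f (f (f (f (f (f (f (f a 0) 1) 2) 3) 4) 5) 6) 7) 8) 9) 10) 11 := rfl

theorem app_range12 (f : ℕ → ℕ) (m : ℕ) : app ((List.range 12).map f) m =
    (List.range 12).foldl (fun acc k => acc ^^^ (if m.testBit k then f k else 0)) 0 := by
  rw [foldl_range12]
  simp only [List.range, List.range.loop, List.map, app, Nat.testBit_eq_decide_div_mod_eq,
    Nat.div_div_eq_div_mul, decide_eq_true_eq, pow_zero, Nat.div_one, Nat.xor_zero, Nat.zero_xor]
  simp only [Nat.reduceMul, Nat.reducePow, Nat.xor_assoc]

theorem slot_mulP (a b : ℕ) {j : ℕ} (hj : j < 12) : slot (mulP a b) j = app (unp a) (slot b j) := by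
  rw [unp, app_range12, mulP, foldl_range12, foldl_range12]
  simp only [slot_xor, slot_zero]
  rw [slot_term (by norm_num) hj, slot_term (by norm_num) hj, slot_term (by norm_num) hj,
    slot_term (by norm_num) hj, slot_term (by norm_num) hj, slot_term (by norm_num) hj,
    slot_term (by norm_num) hj, slot_term (by norm_num) hj, slot_term (by norm_num) hj,
    slot_term (by norm_num) hj, slot_term (by norm_num) hj, slot_term (by norm_num) hj]

theorem unp_mulP (a b : ℕ) : unp (mulP a b) = mulC (unp a) (unp b) := by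
  refine List.ext_getElem (by simp [unp, mulC]) fun i h1 _ => ?_
  have hi : i < 12 := by simpa [unp] using h1
  simp [unp, mulC, slot_mulP a b hi]

theorem length_unp (a : ℕ) : (unp a).length = 12 := by simp [unp]

theorem app_unp_lt (a n : ℕ) : app (unp a) n < 4096 :=
  J4Module.app_lt (k := 12) (fun c hc => by
    obtain ⟨j, -, rfl⟩ := List.mem_map.1 hc
    exact slot_lt a j) n

theorem unitC_mul_unp (a : ℕ) : mulC unitC (unp a) = unp a :=
  cols_ext (by rw [length_mulC, length_unp]) (length_unp a) fun n _ => by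
    rw [app_mulC, app_unitC _ (app_unp_lt a n)]

theorem app_unp_xor (a b n : ℕ) : app (unp (a ^^^ b)) n = app (unp a) n ^^^ app (unp b) n := by
  have h : ∀ k, (if n.testBit k then slot (a ^^^ b) k else 0) =
      (if n.testBit k then slot a k else 0) ^^^ (if n.testBit k then slot b k else 0) := fun k => by
    rw [slot_xor]
    split <;> simp
  rw [unp, unp, unp, app_range12, app_range12, app_range12, foldl_range12, foldl_range12, foldl_range12]
  simp only [h, Nat.zero_xor]
  ac_rfl

/-- The powers of a matrix. -/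
def pw (K : List ℕ) : ℕ → List ℕ
  | 0 => unitC
  | i + 1 => mulC K (pw K i)

/-- The translation part of a power. -/
def sumV (K : List ℕ) (c : ℕ) : ℕ → ℕ
  | 0 => 0
  | i + 1 => c ^^^ app K (sumV K c i)

theorem sumV_succ (K : List ℕ) {c : ℕ} (hc : c < 4096) :
    ∀ i, sumV K c (i + 1) = sumV K c i ^^^ app (pw K i) c
  | 0 => by simp [sumV, pw, app_unitC c hc]
  | i + 1 => by
    show c ^^^ app K (sumV K c (i + 1)) = (c ^^^ app K (sumV K c i)) ^^^ app (mulC K (pw K i)) c
    rw [sumV_succ K hc i, app_xor, app_mulC, Nat.xor_assoc]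

/-- The sum of the first entries of a list of packed matrices. -/
def prefX (Ps : List ℕ) : ℕ → ℕ
  | 0 => 0
  | i + 1 => prefX Ps i ^^^ Ps.getD i 0

theorem app_prefX {K : List ℕ} {Ps : List ℕ} {c : ℕ} (hc : c < 4096) :
    ∀ i, (∀ l < i, unp (Ps.getD l 0) = pw K l) → app (unp (prefX Ps i)) c = sumV K c i
  | 0, _ => by
    show app (unp 0) c = 0
    rw [unp, app_range12, foldl_range12]
    simp [slot_zero]
  | i + 1, h => by
    show app (unp (prefX Ps i ^^^ Ps.getD i 0)) c = _
    rw [app_unp_xor, app_prefX hc i (fun l hl => h l (by omega)), h i (by omega), sumV_succ K hc]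

/-- The product of generators along a word, packed. -/
def wordP (gP : List ℕ) (w : List ℕ) : ℕ := w.foldr (fun k r => mulP (gP.getD k 0) r) (pkC unitC)

end Cfsg.Agent.JankoFour.OC
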