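import Cfsg.Agent.Lib.JankoFour.OrderBase
import Cfsg.Agent.Lib.JankoFour.OCountMat

/-!
An element of the centraliser of the involution as a vector and a matrix: the factorisation through the
normaliser of the subgroup of order three.
-/

set_option autoImplicit false
set_option linter.unusedSectionVars false
set_option maxRecDepth 100000

namespace Cfsg.Agent.JankoFour

open Subgroup
open Cfsg.Agent.LargeFischer (Ctx QG)
open Cfsg.Agent.J4Module (app)
open Cfsg.Agent.J4Module.Data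
open OC

namespace Model

variable {G : Type*} [Group G] [Finite G] {z : G} {P : Subgroup G} (M : Model z P)
include M

/-- The vector and the matrix of an element. -/
def Code (g : ↥(centralizer ({z} : Set G))) (v : ℕ) (C : List ℕ) : Prop :=
  ∃ (y : ↥(QG M.Q)) (n : ↥(centralizer ({z} : Set G))),
    InN (P := P) n ∧ M.Acts n C ∧ C.length = 12 ∧ M.vec y = v ∧ g = M.toH y * n

variable {M}

theorem Code.lt {g : ↥(centralizer ({z} : Set G))} {v : ℕ} {C : List ℕ} (h : M.Code g v C) : v < 4096 := by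
  obtain ⟨y, n, -, -, -, rfl, -⟩ := h
  exact M.vec_lt y

theorem Code.length {g : ↥(centralizer ({z} : Set G))} {v : ℕ} {C : List ℕ} (h : M.Code g v C) :
    C.length = 12 := by
  obtain ⟨y, n, -, -, hl, -, -⟩ := h
  exact hl

theorem Code.acts {g : ↥(centralizer ({z} : Set G))} {v : ℕ} {C : List ℕ} (h : M.Code g v C) : M.Acts g C := by
  obtain ⟨y, n, -, ha, -, -, rfl⟩ := h
  intro x
  rw [M.acts_mul (M.acts_of_mem_Q (M.toH_mem y)) ha x, app_mulC, app_unitC]
  rw [← ha x]
  exact M.vec_lt _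

theorem Code.unique {g : ↥(centralizer ({z} : Set G))} {v w : ℕ} {C D : List ℕ} (h : M.Code g v C)
    (h' : M.Code g w D) : v = w ∧ C = D := by
  have hCD : C = D := M.acts_unique h.length h'.length h.acts h'.acts
  refine ⟨?_, hCD⟩
  obtain ⟨y, n, hn, -, -, rfl, e⟩ := h
  obtain ⟨y', n', hn', -, -, rfl, e'⟩ := h'
  have h1 : M.toH (y'⁻¹ * y) = n' * n⁻¹ := by
    rw [map_mul, map_inv, eq_mul_inv_iff_mul_eq, mul_assoc, ← e, e', inv_mul_cancel_left]
  have h2 := M.np_Q (M.toH_mem (y'⁻¹ * y)) (h1 ▸ hn'.mul hn.inv)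
  refine M.vec_eq_iff.2 ?_
  rcases h2 with h | h
  · left
    have h3 : y'⁻¹ * y = 1 := M.toH_injective (h.trans (map_one _).symm)
    rw [inv_mul_eq_one.1 h3]
  · right
    have h3 : y = y' * M.zQ := inv_mul_eq_iff_eq_mul.1 (M.toH_injective h)
    rw [h3]
    show (y' : G) = (y' : G) * z * z
    rw [mul_assoc, M.ctx.xs.sq, mul_one]

theorem Code.mul {g h : ↥(centralizer ({z} : Set G))} {v w : ℕ} {C D : List ℕ} (hg : M.Code g v C)
    (hh : M.Code h w D) : M.Code (g * h) (v ^^^ app C w) (mulC C D) := by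
  obtain ⟨y, n, hn, ha, hl, rfl, rfl⟩ := hg
  obtain ⟨y', n', hn', ha', hl', rfl, rfl⟩ := hh
  refine ⟨y * M.ctx.conjQ n y', n * n', hn.mul hn', M.acts_mul ha ha', by rw [length_mulC]; exact hl', ?_, ?_⟩
  · rw [M.vec_mul, ha y']
  · rw [map_mul, ← M.toH_conj]
    group

variable (M)

theorem code_one : M.Code 1 0 unitC :=
  ⟨1, 1, one_mem (normalizer (P : Set G)), M.acts_one, rfl, M.vec_one, by rw [map_one, one_mul]⟩

theorem code_z : M.Code (M.toH M.zQ) 0 unitC :=
  ⟨M.zQ, 1, one_mem (normalizer (P : Set G)), M.acts_one, rfl, M.vec_z, by rw [mul_one]⟩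

/-- Every element has a vector and a matrix of the group. -/
theorem exists_code (g : ↥(centralizer ({z} : Set G))) : ∃ v C, v < 4096 ∧ InL0 C ∧ M.Code g v C := by
  obtain ⟨q, hq, n, hn, he⟩ := M.decomp g
  set n' : ↥(centralizer ({z} : Set G)) := ⟨n, (mem_inf.1 hn).2⟩
  obtain ⟨C, hC, hca⟩ := M.exists_cols n'
  exact ⟨M.vec ⟨q, hq⟩, C, M.vec_lt _, hC, ⟨q, hq⟩, n', (mem_inf.1 hn).1, hca, gen_length hC, rfl, Subtype.ext he⟩

/-- An element normalising the subgroup of order three over a given matrix. -/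
theorem exists_normal_lift {C : List ℕ} (hC : InL0 C) :
    ∃ n : ↥(centralizer ({z} : Set G)), InN (P := P) n ∧ M.Acts n C := by
  obtain ⟨c, hc⟩ := M.exists_elem C hC
  obtain ⟨v, D, -, -, hD⟩ := M.exists_code c
  have hDC : D = C := M.acts_unique hD.length (gen_length hC) hD.acts hc
  subst hDC
  obtain ⟨y, n, hn, ha, -, -, -⟩ := hD
  exact ⟨n, hn, ha⟩

theorem code_of_pair {v : ℕ} (hv : v < 4096) {C : List ℕ} (hC : InL0 C) :
    ∃ g, M.Code g v C := by
  obtain ⟨n, hn, ha⟩ := M.exists_normal_lift hC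
  obtain ⟨y, hy⟩ := M.vec_surj v hv
  exact ⟨_, y, n, hn, ha, gen_length hC, hy, rfl⟩

variable {M}

theorem Code.mem_L0 {g : ↥(centralizer ({z} : Set G))} {v : ℕ} {C : List ℕ} (h : M.Code g v C) : InL0 C := by
  obtain ⟨w, D, -, hD, h'⟩ := M.exists_code g
  exact (h.unique h').2 ▸ hD

theorem Code.unit_mul {g : ↥(centralizer ({z} : Set G))} {v : ℕ} {C : List ℕ} (h : M.Code g v C) :
    mulC unitC C = C :=
  unitC_mulC h.mem_L0 fun _ h => h

theorem Code.mul_z {g : ↥(centralizer ({z} : Set G))} {v : ℕ} {C : List ℕ} (h : M.Code g v C) :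
    M.Code (g * M.toH M.zQ) v C := by
  have := h.mul M.code_z
  rwa [J4Module.app_zero, Nat.xor_zero, mulC_unitC h.length] at this

theorem Code.cases {g h : ↥(centralizer ({z} : Set G))} {v : ℕ} {C : List ℕ} (hg : M.Code g v C)
    (hh : M.Code h v C) : h = g ∨ h = g * M.toH M.zQ := by
  obtain ⟨y, n, hn, ha, -, rfl, rfl⟩ := hg
  obtain ⟨y', n', hn', ha', -, hy, rfl⟩ := hh
  rcases M.toH_cases hy.symm with e | e <;> rcases M.lift_eqN hn hn' ha ha' with f | f <;> rw [e, f]
  · exact Or.inl rfl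
  · exact Or.inr (mul_assoc _ _ _).symm
  · exact Or.inr (by rw [mul_assoc, ← M.z_fix n, ← mul_assoc])
  · left
    rw [show M.toH y * M.toH M.zQ * (n * M.toH M.zQ) = M.toH y * (M.toH M.zQ * n) * M.toH M.zQ by group,
      ← M.z_fix n, show M.toH y * (n * M.toH M.zQ) * M.toH M.zQ = M.toH y * n * (M.toH M.zQ * M.toH M.zQ) by group,
      M.zz, mul_one]

theorem Code.inv_cols {g : ↥(centralizer ({z} : Set G))} {v : ℕ} {C : List ℕ} (h : M.Code g v C) :
    ∃ w D, M.Code g⁻¹ w D ∧ mulC C D = unitC ∧ mulC D C = unitC := by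
  obtain ⟨w, D, -, -, h'⟩ := M.exists_code g⁻¹
  refine ⟨w, D, h', ?_, ?_⟩
  · have := h.mul h'
    rw [mul_inv_cancel] at this
    exact (this.unique M.code_one).2
  · have := h'.mul h
    rw [inv_mul_cancel] at this
    exact (this.unique M.code_one).2

theorem Code.conj {h x : ↥(centralizer ({z} : Set G))} {u v v' : ℕ} {E C C' : List ℕ} (hh : M.Code h u E)
    (hx : M.Code x v C) (hl : C'.length = 12) (e1 : mulC E C = mulC C' E)
    (e2 : u ^^^ app E v = v' ^^^ app C' u) : M.Code (h * x * h⁻¹) v' C' := by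
  obtain ⟨a, A, -, -, hk⟩ := M.exists_code (h * x * h⁻¹)
  have h1 := hk.mul hh
  rw [inv_mul_cancel_right] at h1
  obtain ⟨e3, e4⟩ := h1.unique (hh.mul hx)
  obtain ⟨w, D, -, hED, -⟩ := hh.inv_cols
  have hA : A = C' := by
    calc A = mulC A (mulC E D) := by rw [hED, mulC_unitC hk.length]
      _ = mulC (mulC C' E) D := by rw [← mulC_assoc, e4, e1]
      _ = C' := by rw [mulC_assoc, hED, mulC_unitC hl]
  subst hA
  rw [e2] at e3
  obtain rfl : a = v' := by
    have := congrArg (fun n => n ^^^ app A u) e3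
    simpa [Nat.xor_assoc] using this
  exact hk

theorem Code.pow {g : ↥(centralizer ({z} : Set G))} {c : ℕ} {K : List ℕ} (h : M.Code g c K) :
    ∀ i : ℕ, M.Code (g ^ i) (sumV K c i) (pw K i)
  | 0 => by rw [pow_zero]; exact M.code_one
  | i + 1 => by rw [pow_succ']; exact h.mul (Code.pow h i)

theorem qbit_acts {c : ↥(centralizer ({z} : Set G))} {C : List ℕ} (hc : M.Acts c C) (x : ↥(QG M.Q)) :
    qbit (app C (M.vec x)) = qbit (M.vec x) := by
  have key : ((M.ctx.conjQ c x : ↥(QG M.Q)) : G) * M.ctx.conjQ c x = 1 ↔ (x : G) * x = 1 := by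
    show (c : G) * x * (c : G)⁻¹ * ((c : G) * x * (c : G)⁻¹) = 1 ↔ _
    rw [show (c : G) * x * (c : G)⁻¹ * ((c : G) * x * (c : G)⁻¹) = (c : G) * (x * x) * (c : G)⁻¹ by group,
      conj_eq_one_iff]
  rw [M.sq_iff, M.sq_iff, hc x] at key
  cases h1 : qbit (app C (M.vec x)) <;> cases h2 : qbit (M.vec x) <;> simp_all

theorem Code.unit_sq {g : ↥(centralizer ({z} : Set G))} {v : ℕ} (h : M.Code g v unitC) :
    (g * g = 1 ∨ g * g = M.toH M.zQ) ∧ (g * g = 1 ↔ qbit v = false) := by
  obtain ⟨y, n, hn, ha, -, rfl, rfl⟩ := h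
  have e : M.toH y * n * (M.toH y * n) = M.toH (y * y) := by
    rcases M.np_Q (M.mem_Q n ha) hn with rfl | rfl
    · rw [mul_one, map_mul]
    · rw [show M.toH y * M.toH M.zQ * (M.toH y * M.toH M.zQ) =
        M.toH y * (M.toH M.zQ * M.toH y) * M.toH M.zQ by group, ← M.z_fix,
        show M.toH y * (M.toH y * M.toH M.zQ) * M.toH M.zQ = M.toH y * M.toH y * (M.toH M.zQ * M.toH M.zQ) by group,
        M.zz, mul_one, map_mul]
  rw [e]
  refine ⟨?_, ?_⟩
  · rcases M.ctx.xs.sq_cases y.2 with h | h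
    · exact Or.inl (Subtype.ext h)
    · exact Or.inr (Subtype.ext h)
  · rw [← M.sq_iff y]
    exact ⟨fun h => congrArg Subtype.val h, fun h => Subtype.ext h⟩

theorem Code.unit_zero {g : ↥(centralizer ({z} : Set G))} (h : M.Code g 0 unitC) :
    g = 1 ∨ g = M.toH M.zQ := by
  rcases M.code_one.cases h with e | e
  · exact Or.inl e
  · exact Or.inr (by rw [e, one_mul])

/-- The squares over the inner involution. -/
theorem Code.hex_sq {g : ↥(centralizer ({z} : Set G))} {v : ℕ} (h : M.Code g v (Big.bEl 1))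
    (hfix : app (Big.bEl 1) v = v) : g * g = 1 ↔ qbit v = false := by
  obtain ⟨y, n, hn, ha, -, rfl, rfl⟩ := h
  obtain ⟨l, hl, hla⟩ := M.exists_lift_bP (show 1 < 16 by norm_num)
  have hcy := M.bP_comm_fix hl (show 1 < 16 by norm_num) hla hfix
  have hn2 : n * n = 1 := by rw [M.sq_lift_eqN (InN.of_cent hl.1) hn hla ha, M.bP_sq hl]
  have hny : n * M.toH y = M.toH y * n := by
    rcases M.lift_eqN (InN.of_cent hl.1) hn hla ha with rfl | rfl
    · exact hcy
    · rw [mul_assoc, ← M.z_fix, ← mul_assoc, hcy, mul_assoc]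
  rw [show M.toH y * n * (M.toH y * n) = M.toH y * (n * M.toH y) * n by group, hny,
    show M.toH y * (M.toH y * n) * n = M.toH y * M.toH y * (n * n) by group, hn2, mul_one, ← map_mul,
    ← M.sq_iff y]
  exact ⟨fun h => congrArg Subtype.val h, fun h => Subtype.ext h⟩

end Model

end Cfsg.Agent.JankoFour
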