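import Cfsg.Agent.Lib.JankoFour.ClassLabelData
import Cfsg.Agent.Lib.JankoFour.BigBuild
import Cfsg.Agent.Lib.JankoFour.FiveCent
import Cfsg.Agent.Lib.JankoFour.OCountCode

/-!
A 2-element of the centraliser of the involution is conjugate to an element over one of ten matrices.
-/

set_option autoImplicit false
set_option linter.unusedSectionVars false
set_option maxRecDepth 100000
set_option maxHeartbeats 400000

namespace Cfsg.Agent.JankoFour

open Subgroup
open Cfsg.Agent.J4Module (app)
open Cfsg.Agent.J4Module.Data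

namespace KLabel

/-- The representative of a class. -/
def rM (j : ℕ) : List ℕ := sylow.getD (repIdx.getD j 0) unitC

theorem rep_ok : repIdx.length = 10 ∧ (∀ j < 10, rM j ∈ sylow) ∧ rM 0 = unitC := by decide +kernel

theorem label_ok : ∀ i < 256, clsOf.getD i 10 < 10 ∧ (∀ k ∈ toRep.getD i [], k < 5) ∧
    mulC (Big.wordC (toRep.getD i [])) (sylow.getD i []) =
      mulC (rM (clsOf.getD i 10)) (Big.wordC (toRep.getD i [])) ∧
    (mulC pC (sylow.getD i []) = mulC (sylow.getD i []) pC → clsOf.getD i 10 ∈ linCls) := by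
  decide +kernel

theorem out_ok : linCls.length = 5 ∧ ∀ l < 5, linCls.getD l 0 < 10 ∧
    mulC pC (rM (linCls.getD l 0)) = mulC (rM (linCls.getD l 0)) pC ∧ (∀ k ∈ outWord.getD l [], k < 5) ∧
    mulC (Big.wordC (outWord.getD l [])) (rM (linCls.getD l 0)) =
      mulC (rM (linCls.getD l 0)) (Big.wordC (outWord.getD l [])) ∧
    mulC (Big.wordC (outWord.getD l [])) pC = mulC p2C (Big.wordC (outWord.getD l [])) := by
  decide +kernel

theorem outer_p : mulC sC pC = mulC p2C sC ∧ mulC pC sC = mulC sC p2C ∧ app pC 1 = 2 ∧ app p2C 1 = 3 := by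
  decide +kernel

theorem rM_InL0 {j : ℕ} (hj : j < 10) : InL0 (rM j) := Big.sylow_InL0 (rep_ok.2.1 j hj)

end KLabel

namespace Model

open KLabel

variable {G : Type*} [Group G] [Finite G] {z : G} {P : Subgroup G} (M : Model z P)
include M

/-- A matrix of the group commuting with the scalar is linear. -/
theorem lin_K {C : List ℕ} (hC : InL0 C) (hp : mulC pC C = mulC C pC) : InK0 C := by
  rcases K_or_outer hC with h | ⟨D, hD, rfl⟩
  · exact h
  exfalso
  obtain ⟨c, hc⟩ := M.exists_elem _ hC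
  obtain ⟨C', -, hC'⟩ := M.exists_cols c⁻¹
  obtain ⟨x, hx⟩ := M.vec_surj 1 (by norm_num)
  have hinv := (M.acts_inv hc hC' x).2
  rw [hx] at hinv
  have h1 : mulC p2C (mulC sC D) = mulC (mulC sC D) pC := by
    rw [mulC_assoc, lin_of_K hD, ← mulC_assoc, ← outer_p.1, mulC_assoc]
  rw [← hp] at h1
  have h2 := congrArg (fun L => app L (app C' 1)) h1
  simp only [app_mulC] at h2 hinv
  rw [hinv, outer_p.2.2.1, outer_p.2.2.2] at h2
  norm_num at h2

/-- A matrix carried from a linear one is linear. -/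
theorem lin_carry {g : ↥(centralizer ({z} : Set G))} {a : ℕ} {A C S : List ℕ} (hg : M.Code g a A) (hC : InK0 C)
    (hS : InL0 S) (e : mulC A C = mulC S A) : mulC pC S = mulC S pC := by
  have hA := hg.mem_L0
  obtain ⟨w, A', -, hAA', -⟩ := hg.inv_cols
  have hAS : ∀ m, app A (app C m) = app S (app A m) := fun m => by rw [← app_mulC, e, app_mulC]
  have hCp : ∀ m, app C (app pC m) = app pC (app C m) := fun m => by rw [← app_mulC, lin_of_K hC, app_mulC]
  refine cols_ext (by rw [length_mulC, gen_length hS]) (by rw [length_mulC]; decide) fun n hn => ?_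
  rw [app_mulC, app_mulC]
  have hn' : app A (app A' n) = n := by rw [← app_mulC, hAA', app_unitC n hn]
  rw [← hn']
  generalize app A' n = m
  rcases K_or_outer hA with hK | ⟨E, hE, rfl⟩
  · have hAp : ∀ m, app A (app pC m) = app pC (app A m) := fun m => by rw [← app_mulC, lin_of_K hK, app_mulC]
    rw [← hAS, ← hAp, ← hCp, hAS, hAp]
  · have hEp : ∀ m, app E (app pC m) = app pC (app E m) := fun m => by rw [← app_mulC, lin_of_K hE, app_mulC]
    have hAp : ∀ m, app (mulC sC E) (app p2C m) = app pC (app (mulC sC E) m) := fun m => by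
      rw [app_mulC, app_mulC, app_p2, hEp, hEp, ← app_p2, ← app_mulC sC p2C, ← outer_p.2.1, app_mulC]
    have hCp2 : ∀ m, app C (app p2C m) = app p2C (app C m) := fun m => by rw [app_p2, hCp, hCp, ← app_p2]
    rw [← hAS, ← hAp, ← hCp2, hAS, hAp]

/-- A normalising lift of a linear matrix centralises. -/
theorem InN_cent {n : ↥(centralizer ({z} : Set G))} (hn : InN (P := P) n) {C : List ℕ} (hC : InK0 C)
    (ha : M.Acts n C) : (n : G) ∈ centralizer (P : Set G) := by
  obtain ⟨d, hdP, hd⟩ := M.cent_elem C hC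
  rcases M.lift_eqN (InN.of_cent hdP) hn hd ha with rfl | rfl
  · exact hdP
  · refine mul_mem hdP ?_
    show z ∈ centralizer (P : Set G)
    rw [mem_centralizer_iff]
    intro g hg
    rw [SetLike.mem_coe, ← M.p_gen] at hg
    obtain ⟨i, rfl⟩ := hg
    exact ((show Commute (M.pElem : G) z from mem_centralizer_singleton_iff.1 M.pElem.2).zpow_left i).eq

/-- Every 2-element is conjugate to one over a representative. -/
theorem exists_label {u : ↥(centralizer ({z} : Set G))} (hu : IsPGroup 2 ↥(zpowers u)) :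
    ∃ (h : ↥(centralizer ({z} : Set G))) (v j : ℕ), j < 10 ∧ M.Code (h * u * h⁻¹) v (rM j) := by
  obtain ⟨g, hg⟩ := M.exists_conj_sylow hu
  obtain ⟨C, hC, -, ha⟩ := hg u (mem_zpowers u)
  obtain ⟨v, C', -, -, hx⟩ := M.exists_code (g * u * g⁻¹)
  obtain rfl : C' = C := M.acts_unique hx.length (gen_length (Big.sylow_InL0 hC)) hx.acts ha
  obtain ⟨i, hi, rfl⟩ := List.getElem_of_mem hC
  obtain ⟨hj, hw, e, -⟩ := label_ok i (Big.sylow_shape.1 ▸ hi)
  rw [List.getD_eq_getElem _ _ hi] at e
  obtain ⟨T, hT⟩ := M.code_of_pair (show (0 : ℕ) < 4096 by norm_num) (Big.wordC_mem hw)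
  refine ⟨T * g, app (Big.wordC (toRep.getD i [])) v, _, hj, ?_⟩
  rw [show T * g * u * (T * g)⁻¹ = T * (g * u * g⁻¹) * T⁻¹ by group]
  exact hT.conj hx (gen_length (rM_InL0 hj)) e (by simp)

/-- Every 2-element of the centraliser of the subgroup of order three is conjugate there to one over a linear
representative. -/
theorem exists_label_cent {u : ↥(centralizer ({z} : Set G))} (hu : IsPGroup 2 ↥(zpowers u))
    (huP : (u : G) ∈ centralizer (P : Set G)) :
    ∃ k : ↥(centralizer ({z} : Set G)), (k : G) ∈ centralizer (P : Set G) ∧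
      ∃ l < 5, M.Code (k * u * k⁻¹) 0 (rM (linCls.getD l 0)) := by
  obtain ⟨v, C, -, hC, hx⟩ := M.exists_code u
  have hzero : M.Code u 0 C := ⟨1, u, InN.of_cent huP, hx.acts, hx.length, M.vec_one, by rw [map_one, one_mul]⟩
  obtain ⟨D, hD, hDa⟩ := M.cent_cols u huP
  obtain rfl : C = D := M.acts_unique hx.length (gen_length (gen_mono hD)) hx.acts hDa
  obtain ⟨g, hg⟩ := M.exists_conj_sylow hu
  obtain ⟨S, hS, -, hSa⟩ := hg u (mem_zpowers u)
  obtain ⟨a, A, -, hA, hga⟩ := M.exists_code g
  obtain ⟨b, S', -, -, hgu⟩ := M.exists_code (g * u * g⁻¹)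
  obtain rfl : S' = S := M.acts_unique hgu.length (gen_length (Big.sylow_InL0 hS)) hgu.acts hSa
  have eA : mulC A C = mulC S' A := by
    have h1 := hgu.mul hga
    rw [inv_mul_cancel_right] at h1
    exact ((hga.mul hx).unique h1).2
  obtain ⟨i, hi, rfl⟩ := List.getElem_of_mem hS
  have hSl : mulC pC sylow[i] = mulC sylow[i] pC :=
    M.lin_carry hga hD (Big.sylow_InL0 (List.getElem_mem hi)) eA
  obtain ⟨hj, hw, e, hlin⟩ := label_ok i (Big.sylow_shape.1 ▸ hi)
  rw [List.getD_eq_getElem _ _ hi] at e hlin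
  obtain ⟨l, hl, hl'⟩ := List.getElem_of_mem (hlin hSl)
  have hl5 : l < 5 := out_ok.1 ▸ hl
  obtain ⟨-, hRp, how, howR, howp⟩ := out_ok.2 l hl5
  have hget : linCls.getD l 0 = clsOf.getD i 10 := by rw [List.getD_eq_getElem _ _ hl, hl']
  rw [hget] at hRp howR
  set R := rM (clsOf.getD i 10)
  set E := mulC (Big.wordC (toRep.getD i [])) A
  have hEL : InL0 E := gen_mul (fun _ h => h) (Big.wordC_mem hw) hA
  have eE : mulC E C = mulC R E := by
    rw [mulC_assoc, eA, ← mulC_assoc, e, mulC_assoc]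
  obtain ⟨E', hE', eE'⟩ : ∃ E', InK0 E' ∧ mulC E' C = mulC R E' := by
    rcases K_or_outer hEL with h | ⟨F, hF, hEF⟩
    · exact ⟨E, h, eE⟩
    · set W := Big.wordC (outWord.getD l [])
      have hEp : mulC E pC = mulC p2C E := by
        rw [hEF, mulC_assoc, lin_of_K hF, ← mulC_assoc, outer_p.1, mulC_assoc]
      refine ⟨mulC W E, M.lin_K (gen_mul (fun _ h => h) (Big.wordC_mem how) hEL) ?_, ?_⟩
      · have hW : ∀ m, app W (app pC m) = app p2C (app W m) := fun m => by rw [← app_mulC, howp, app_mulC]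
        have hE2 : ∀ m, app E (app pC m) = app p2C (app E m) := fun m => by rw [← app_mulC, hEp, app_mulC]
        refine cols_ext (by rw [length_mulC, length_mulC, gen_length hEL]) (by rw [length_mulC]; decide)
          fun n hn => ?_
        have hEn : app E n < 4096 := gen_app_lt hEL n
        have key : ∀ m < 4096, app p2C (app p2C m) = app pC m := J4Module.of_chunks 64 (by decide +kernel)
        simp only [app_mulC]
        rw [hE2, app_p2 (app E n), hW, hW, key _ (gen_app_lt (Big.wordC_mem how) _)]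
      · rw [mulC_assoc, eE, ← mulC_assoc, howR, mulC_assoc]
  obtain ⟨k, hkP, hka⟩ := M.cent_elem E' hE'
  have hk : M.Code k 0 E' :=
    ⟨1, k, InN.of_cent hkP, hka, gen_length (gen_mono hE'), M.vec_one, by rw [map_one, one_mul]⟩
  exact ⟨k, hkP, l, hl5, hget ▸ hk.conj hzero (gen_length (rM_InL0 hj)) eE' (by simp)⟩

end Model

end Cfsg.Agent.JankoFour
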