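/-!
Labels of the Sylow subgroup by the classes of the group of order 2661120 on the twelve-dimensional module.
-/

namespace Cfsg.Agent.JankoFour.KLabel

/-- The position of the representative of each class. -/
def repIdx : List Nat :=
  [0, 1, 2, 4, 7, 8, 10, 14, 18, 87]

/-- The class of each element. -/
def clsOf : List Nat :=
  [0, 1, 2, 2, 3, 3, 2, 4, 5, 5, 6, 6, 3, 3, 7, 7, 5, 5, 8, 1, 4, 2, 6, 6, 6, 6, 6, 6, 3, 3, 5, 5, 3, 3, 1, 1,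
   5, 5, 1, 8, 3, 3, 5, 5, 3, 3, 1, 8, 6, 6, 6, 6, 4, 4, 4, 2, 1, 1, 8, 8, 5, 5, 1, 5, 8, 1, 5, 1, 2, 4, 1, 1,
   6, 6, 6, 6, 1, 1, 6, 6, 8, 8, 8, 8, 6, 6, 6, 9, 9, 4, 4, 4, 8, 5, 5, 8, 9, 9, 4, 9, 9, 6, 6, 6, 8, 5, 5, 8,
   6, 6, 9, 2, 4, 9, 9, 6, 6, 9, 7, 7, 5, 8, 6, 6, 2, 4, 8, 5, 8, 5, 5, 8, 6, 6, 6, 6, 4, 9, 6, 9, 8, 8, 8, 8,
   9, 6, 7, 7, 2, 9, 2, 4, 8, 8, 8, 8, 4, 2, 9, 6, 7, 7, 9, 9, 4, 4, 7, 7, 8, 8, 6, 9, 2, 4, 8, 8, 5, 5, 6, 6,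
   2, 4, 1, 5, 1, 1, 6, 6, 7, 7, 5, 1, 8, 1, 5, 5, 7, 7, 4, 4, 4, 2, 6, 6, 5, 1, 1, 1, 1, 5, 5, 5, 1, 8, 5, 5,
   1, 5, 1, 8, 5, 1, 5, 5, 6, 6, 2, 4, 6, 6, 7, 7, 8, 8, 1, 1, 8, 1, 3, 3, 5, 5, 3, 3, 4, 2, 1, 1, 6, 6, 6, 6,
   1, 1, 2, 2]

/-- A word conjugating each element to the representative. -/
def toRep : List (List Nat) :=
  [[], [], [], [1, 2, 4, 0, 2], [], [0, 2, 2, 1, 0, 2, 4, 0, 2, 2, 2, 1, 0], [2, 0, 0, 2, 1, 2, 0, 2], [], [],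
   [1, 2, 4, 0, 2, 1, 2, 2], [], [0, 2, 2, 0, 2, 0, 1, 0, 0, 2], [2, 0, 2, 1, 0, 2, 0, 2, 4, 0, 1, 2],
   [2, 0, 2, 2, 0, 2, 1, 1], [], [2, 0, 2, 2, 0, 2, 4, 0, 1, 1, 3], [1, 2, 0, 2, 0, 2, 4, 0, 2, 1, 2],
   [1, 2, 2, 2, 0, 2, 0, 0, 2, 0, 0], [], [4, 0, 0, 2, 0, 2, 4], [1, 2, 1, 2, 4], [2, 1, 4, 0, 2, 2, 0, 2, 0],
   [1, 0, 2, 0, 0, 1], [2, 0, 2, 2, 0, 2, 1, 1], [1, 2, 0, 2, 2, 2, 0, 2, 3],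
   [0, 0, 2, 0, 0, 1, 2, 0, 2, 1, 1], [0, 2, 0, 0, 2, 0, 0, 1, 0, 1], [0, 0, 2, 2, 2, 0, 0, 2, 1, 0, 2],
   [4, 0, 0, 0, 0, 0], [1, 1, 0, 2, 4, 0, 2, 0, 2, 2], [2, 2, 2, 4, 0, 2, 2, 2, 1, 0], [1, 0, 2, 0, 2, 0, 2],
   [0, 0, 2, 1, 0, 2, 4, 0, 2, 4, 0, 1, 2], [2, 0, 2, 2, 0, 2, 4, 0, 1, 1], [2, 0, 0, 2, 2, 0], [2, 0, 1, 4],
   [2, 2, 4, 0, 2, 0, 2, 4, 0, 0, 2, 0], [2, 2, 0, 2, 0, 2, 1, 2, 2, 0, 2], [1, 2, 0, 0, 2, 2, 0],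
   [1, 0, 2, 1, 2, 2, 0, 0, 1], [2, 1, 4, 0, 2, 2, 1, 0, 2, 4, 0], [1, 0, 2, 0, 0, 1],
   [0, 0, 2, 2, 0, 2, 1, 0, 2, 2, 4], [2, 2, 0, 2, 0, 1, 2, 2, 4, 0], [1, 2, 4, 0, 2, 1, 1, 0, 2, 2, 0],
   [0, 2, 4, 0, 2, 2, 2, 1, 0, 0, 2], [1, 2, 0, 4], [0, 0, 0, 2, 2, 0, 2, 0, 2],
   [0, 2, 0, 1, 1, 0, 2, 0, 2, 1, 3], [1, 2, 4, 0, 2, 1, 2, 2], [0, 2, 0, 2, 1, 4, 0, 1, 1],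
   [1, 0, 2, 1, 2, 4, 0, 1], [2, 2, 1, 2, 0, 2, 1, 0], [1, 2, 4, 0, 1, 0, 2, 0],
   [2, 1, 0, 2, 4, 0, 2, 1, 2, 3], [2, 1, 0, 2, 0, 1, 3], [0, 2, 0, 2, 0, 2, 1], [4, 0, 1, 2, 1, 0],
   [2, 2, 0, 2, 0, 2, 1, 2, 0, 1], [1, 1, 0, 2, 4, 0, 2, 0, 2, 2], [0, 2, 0, 2, 2, 0, 2, 0, 0, 2, 0],
   [0, 2, 0, 1, 2, 0, 1, 2, 0, 2, 0, 4], [0, 0, 2, 0, 0, 2, 2, 1], [2, 0, 0, 1, 0], [0, 2, 2, 1, 0, 2, 2],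
   [0, 2, 0, 0, 0, 2], [0, 0, 1, 2, 2, 2, 0, 2, 1, 1], [4, 0, 1, 2, 0, 4], [0, 2, 0, 2, 0, 2, 1],
   [2, 1, 2, 4, 0, 2, 0, 0, 1], [0, 0, 2, 0, 2, 0, 1, 1], [4, 0, 1, 0, 2, 0, 0],
   [2, 1, 0, 2, 0, 1, 0, 1, 2, 3], [1, 0, 2, 0, 0, 0, 2, 2, 2, 3, 4], [0, 1, 2, 0, 2, 2, 2, 1, 0, 3],
   [0, 0, 1, 2, 2, 0, 1, 0, 4], [0, 0, 1, 2, 0, 2, 2, 0], [0, 0, 1, 2, 0, 1, 0],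
   [1, 2, 0, 2, 0, 0, 1, 2, 1, 3], [2, 2, 1, 0, 2, 2, 0], [2, 0, 1, 0, 2, 2, 4, 0],
   [0, 0, 2, 0, 2, 4, 0, 0, 2], [2, 1, 1, 0, 2, 0, 2, 4], [4, 0, 2, 2, 2, 1, 0, 4], [1, 0, 1, 2, 2, 0, 3],
   [0, 2, 0, 1, 2, 3], [0, 0, 1, 0, 2, 0, 1, 2, 0, 4], [], [4, 0, 1, 1, 3], [0, 1, 0, 0, 2, 2, 1, 2, 0, 2],
   [0, 0, 1, 2, 0, 2, 0, 0, 2, 2], [2, 2, 1, 2, 0, 2, 2, 4, 0, 2], [0, 2, 0, 2, 0, 2, 4, 0, 1, 0],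
   [0, 2, 1, 0, 0, 0, 2, 0, 0, 2, 0], [0, 0, 2, 0, 0, 2, 2, 0, 2, 1], [4, 0, 2, 4, 0, 2, 0, 1],
   [1, 0, 0, 1, 3, 3], [0, 2, 1, 1, 0, 3], [0, 1, 2, 3, 4, 0, 0, 0, 2, 0, 0], [1, 1], [1, 0, 2, 0, 0, 1],
   [2, 2, 1, 2, 0, 2, 4, 0, 1, 3], [0, 0, 2, 2, 3, 4, 0, 4], [2, 1, 0, 2, 2, 3, 4], [2, 1, 0, 2, 0, 2, 1, 2],
   [0, 0, 2, 2, 2, 0, 0, 1, 2, 0], [2, 1, 4, 0, 1, 2, 0, 1, 2, 0, 4], [2, 0, 2, 0, 2, 2, 2, 0],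
   [0, 0, 0, 0, 2, 0, 0, 2, 0, 0, 4], [0, 2, 2, 2, 0, 2, 1, 2, 2, 3], [0, 0, 1, 2, 3, 4],
   [0, 1, 2, 0, 2, 0, 2, 2], [0, 1, 2, 0, 2, 2, 2, 0, 2, 4, 3], [1, 2, 4, 0, 2, 0, 3], [1, 0, 1, 2, 0, 3],
   [2, 1, 1, 0, 1, 2, 0, 2, 0, 0, 3], [0, 2, 2, 2, 0, 2, 0, 1, 0, 2, 3, 3], [0, 1, 0, 2, 2],
   [4, 0, 0, 2, 2, 0, 0, 2, 0, 2, 0, 2], [1, 1, 0, 2, 4, 0, 2, 0, 2, 2, 3], [1, 2, 0, 2, 1, 2, 2, 0, 2, 1, 0],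
   [0, 0, 1, 2, 0, 2, 2, 1, 2, 0, 1], [0, 0, 2, 2, 1, 2, 3], [0, 2, 2, 2, 4, 0, 2, 0, 0],
   [0, 2, 0, 2, 0, 0, 2, 0, 2, 3], [0, 0, 0, 2, 2, 0, 1, 4, 0, 3], [0, 2, 0, 2, 0, 0, 2, 1, 0],
   [2, 0, 2, 2, 2, 4, 0, 2, 1, 0], [0, 2, 0, 2, 0, 2, 1], [2, 0, 2, 0, 2, 0, 0, 2, 0, 2],
   [2, 0, 2, 0, 2, 2, 4, 0, 2], [1, 2, 2, 0, 0, 2, 0, 1, 2], [2, 0, 2, 2, 0, 1, 2, 0, 1, 0, 3],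
   [0, 2, 0, 2, 0, 0, 2, 0, 2, 1], [2, 2, 3, 4, 0, 0, 0, 2], [0, 0, 1, 2, 0, 2, 2, 0, 3],
   [0, 2, 3, 4, 0, 0, 2, 0, 0], [2, 1, 0, 2, 1, 0], [0, 0, 1, 2, 0, 2, 0, 0, 2, 2], [1, 1, 0, 2, 1, 2],
   [2, 1, 0, 2, 0, 2, 2, 4], [2, 0, 1, 0, 1, 2, 2, 0, 1], [1, 2, 1, 0, 0, 2, 2, 0, 4],
   [0, 2, 1, 1, 0, 0, 2, 0, 0, 0, 2], [2, 0, 2, 0, 1, 2, 0], [1, 2, 4, 0, 1, 0, 2, 0],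
   [0, 0, 2, 1, 0, 2, 4, 0, 2, 4, 0, 1, 2], [0, 2, 2, 1, 0, 2, 4, 0, 2, 2, 2, 1, 0],
   [2, 0, 0, 2, 0, 2, 1, 0, 0, 4], [1, 0, 2, 1, 3], [2, 1, 0, 2, 4, 0, 2, 3, 4], [4, 0, 0, 0, 0, 0, 3],
   [0, 1, 2, 2, 2, 0, 0, 2], [2, 4, 0, 2, 0, 1, 0, 1, 2], [2, 1, 2, 0, 0, 2, 0, 0, 2], [2, 1, 0, 2, 1, 0],
   [1, 0, 2, 2, 2, 0, 0, 0, 4, 3], [0, 2, 1, 4, 0, 0, 2, 2], [2, 1, 1, 0, 0, 2, 0], [2, 2, 1, 2, 0, 2, 1, 0],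
   [1, 2, 4, 0, 2, 1, 1, 0, 2, 2, 0], [2, 1, 4, 0, 2, 2, 2, 0, 2, 0, 0, 3], [0, 2, 1, 4, 0, 1],
   [1, 0, 1, 3, 4, 0], [2, 4, 0, 2, 2, 0, 0, 1, 2], [2, 0, 0, 2, 1, 2, 0, 2],
   [0, 1, 2, 4, 0, 0, 2, 2, 0, 2, 0, 4], [2, 1, 4, 0, 2, 2, 1, 0, 2, 4, 0], [0, 0, 1, 2, 2, 0, 2, 0, 4],
   [2, 1, 0, 2, 4, 0, 1], [2, 0, 0, 2, 1, 2, 0, 2], [0, 0, 2, 1, 2, 0], [2, 0, 1, 2, 0, 4],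
   [1, 0, 2, 0, 1, 4, 0, 3], [0, 2, 2, 0, 2, 0, 0, 1, 1], [2, 2, 0, 2, 2, 0, 2, 0, 1, 2],
   [1, 2, 4, 0, 2, 1, 1, 0, 2, 2, 0], [0, 2, 2, 1, 0, 2, 2], [2, 2, 2, 4, 0, 2, 2, 2, 1, 0],
   [0, 2, 2, 1, 0, 2, 2], [2, 0, 0, 2, 1, 0, 4], [0, 2, 0, 0, 2, 0, 2, 4, 3], [4, 0, 2, 0, 1, 0, 4],
   [0, 2, 1, 0, 0, 2, 2, 2, 0, 2, 1], [1, 0, 2, 0, 2, 0, 2], [2, 0, 2, 0, 2, 1, 0],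
   [0, 2, 1, 4, 0, 2, 0, 1, 2, 0, 1, 3], [2, 1, 2, 0, 0, 2, 0, 2, 0, 2, 4],
   [0, 2, 3, 4, 0, 2, 2, 2, 1, 0, 0, 2], [1, 0, 2, 0, 1, 4, 0, 3], [2, 1, 0, 1, 2, 0, 0, 1],
   [2, 0, 0, 1, 2, 2, 0], [0, 0, 0, 2, 2, 0, 0, 1], [2, 1, 0, 1, 2, 0, 2], [0, 2, 0, 2, 0, 2, 0, 2, 2, 2, 4],
   [0, 2, 4, 0, 2, 2, 4, 0, 2, 0, 2, 1], [1, 0, 2, 1, 0, 1, 2, 0, 2, 0, 0, 0, 2], [1, 0, 2, 0, 0, 1],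
   [2, 0, 0, 2, 1, 0, 1, 3], [0, 1, 2, 4, 0, 1, 2, 0, 3, 4], [1, 0, 2, 0, 0, 1], [2, 0, 1, 3, 4],
   [4, 0, 1, 2, 0, 2, 2, 0, 1, 2, 1], [1, 0, 2, 4, 0, 2, 0, 2], [1, 2, 0, 0, 2, 4, 0, 2, 0, 2, 2],
   [0, 1, 1, 0, 2, 0, 4], [2, 1, 0, 1, 2, 0, 0, 1], [0, 0, 2, 1, 1, 0, 2, 2, 4], [0, 1, 2, 0, 0, 2],
   [2, 1, 0, 1, 2, 0, 1, 4, 0], [2, 2, 0, 0, 2, 0, 2, 1, 1, 0, 0], [1, 2, 1, 0, 2, 2, 0, 2, 0, 1],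
   [0, 2, 4, 0, 2, 1], [1, 0, 2, 0, 0, 1], [0, 1, 2, 4, 0, 1, 0, 2, 0, 0], [2, 0, 0, 2, 0, 0, 2, 4, 0, 2, 0],
   [4, 0, 2, 1, 0, 1, 1, 0], [0, 2, 2, 1, 0, 2, 2, 2, 0, 1, 4], [2, 1, 0, 1, 1, 0], [4, 0, 2, 1, 1, 0, 2],
   [2, 0, 1, 4], [2, 0, 1, 0, 2, 0, 1, 2], [1, 1, 0, 2, 4, 0, 2, 0, 2, 2], [2, 2, 0, 2, 0, 2, 1, 2, 0, 1],
   [2, 2, 4, 0, 0, 2, 2, 2, 0, 1], [0, 1, 2, 2, 0, 0, 2, 1, 0, 3], [2, 2, 2, 0, 0, 2, 1, 1],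
   [2, 2, 0, 2, 2, 3, 4], [1, 0, 2, 1, 2, 2, 0, 0, 1], [0, 1, 2, 4, 0, 0, 2, 2, 0, 2, 0, 4],
   [4, 0, 0, 0, 0, 0, 3], [2, 0, 2, 2, 0, 2, 1, 1], [2, 2, 0, 2, 0, 1, 2, 2, 4, 0],
   [2, 2, 0, 1, 2, 1, 0, 1, 2, 2, 4], [4, 0, 1, 0, 2, 0, 1], [1, 2, 1, 0, 2, 0], [2, 2, 1, 0, 2, 2, 0],
   [0, 0, 1, 2, 0, 0, 4], [0, 1, 2, 4, 0, 0, 2, 2, 0, 2, 0, 4], [2, 0, 0, 1, 2, 2, 0, 2, 0, 0, 2, 4],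
   [2, 1, 0, 2, 0, 2, 0, 1, 0, 2, 0], [0, 1, 2, 4, 0, 0, 2, 2, 0, 2, 0, 4], [2, 1, 4, 0, 2, 2, 2, 0, 2, 0, 0],
   [1, 0, 2, 0, 1, 4, 0], [2, 2, 0, 1, 1, 3], [0, 2, 0, 2, 0, 0, 2, 1, 0], [0, 1, 0, 2, 1],
   [0, 0, 2, 0, 2, 2, 0, 0], [0, 0, 0, 2, 2, 0, 0, 1], [0, 1, 1, 0, 2, 0, 2, 1, 2, 0, 0, 2],
   [0, 0, 2, 1, 1, 0, 1, 2, 0, 1, 3, 4], [0, 2, 1, 2, 0, 2, 4, 0, 2, 3], [0, 2, 0, 1, 2, 2, 0],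
   [4, 0, 1, 2, 0, 0, 0], [0, 2, 0, 2, 0, 2, 2, 1, 2], [2, 0, 1, 0, 2, 0, 0]]

/-- The classes inside the linear part. -/
def linCls : List Nat :=
  [0, 1, 3, 5, 8]

/-- Words outside the linear part commuting with their representatives. -/
def outWord : List (List Nat) :=
  [[4], [2, 2, 1, 1, 4], [0, 0, 0, 2, 2, 2, 1, 4, 2, 2, 2, 0, 0, 0, 0, 0, 0, 0, 0, 0, 0, 1, 1, 1, 1],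
   [2, 1, 0, 1, 2, 1, 2, 4, 1, 1, 1, 1, 0, 0, 0, 0, 0, 0, 0, 0, 0, 0, 1, 1, 1, 1, 2, 2, 2],
   [0, 1, 4, 0, 4, 0, 0, 0, 0, 0, 0, 0, 0, 0, 0, 4, 1, 1, 1, 1]]

end Cfsg.Agent.JankoFour.KLabel
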