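/-!
An element of the extraspecial subgroup as a permutation of the points, and a permutation commuting with it
which carries a pair inside a tetrad to a pair across two tetrads.
-/

namespace Cfsg.Agent.JankoFour.Hinto

/-- The vector of the element. -/
def v1 : Nat := 276

/-- Its permutation of the points. -/
def piL : List Nat :=
  [1, 0, 7, 4, 3, 5, 6, 2, 17, 13, 12, 11,
    10, 9, 15, 14, 16, 8, 22, 19, 20, 21, 18, 23]

/-- Two points in the tetrad of each point. -/
def nbL : List (Nat × Nat) :=
  [(1, 3), (0, 3), (7, 10), (0, 1), (0, 1), (6, 16), (5, 16), (2, 10),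
    (17, 18), (13, 14), (2, 7), (19, 20), (2, 7), (9, 14), (9, 13), (9, 13),
    (5, 6), (8, 18), (8, 17), (11, 20), (11, 19), (5, 6), (8, 17), (11, 19)]

/-- The commuting permutation with its inverse, packed by five bits. -/
def sigmaE : Nat × Nat :=
  (800433551193922986443274539313105952, 807875925585206804723005192112508960)

/-- The moved pair. -/
def pairA : Nat := 5

/-- The moved pair, second point. -/
def pairB : Nat := 6

end Cfsg.Agent.JankoFour.Hinto
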