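import Cfsg.Agent.Lib.JankoFour.OrbitChecks
import Cfsg.Agent.Lib.JankoFour.BigChecks
import Cfsg.Agent.Lib.JankoFour.Checks
import Cfsg.Agent.Lib.JankoFour.HintoPairData
import Cfsg.Agent.Lib.Golay.Aut

/-!
Decidable facts on the permutation of the points given by an element of the extraspecial subgroup.
-/

set_option autoImplicit false
set_option maxRecDepth 100000

namespace Cfsg.Agent.JankoFour.Hinto

open Cfsg.Agent.J4Module (app)
open Cfsg.Agent.J4Module.Data
open Cfsg.Agent.LargeFischer.Big (pp)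
open Cfsg.Agent.Golay (isAutB)

/-- The coordinate of a pair of points. -/
def pk (i j : ℕ) : ℕ := app pairCols (pp i ^^^ pp j)

/-- The image of a point. -/
def piF (i : ℕ) : ℕ := piL.getD i 0

/-- The coordinate of a pair inside a tetrad moved by the element. -/
def moved (k : ℕ) : ℕ := k ^^^ (if bbit v1 (Big.bigW.getD (k % 64) 0) then 1024 else 0)

theorem v1_spec : v1 < 4096 ∧ qbit v1 = false ∧ bigFix.testBit v1 = false := by decide +kernel

theorem nb_spec : ∀ i < 24, piF i < 24 ∧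
    ∀ j ∈ [(nbL.getD i (0, 0)).1, (nbL.getD i (0, 0)).2],
      j < 24 ∧ j ≠ i ∧ piF j ≠ piF i ∧ pk i j / 64 % 16 = 0 ∧ pk (piF i) (piF j) = moved (pk i j) := by
  decide +kernel

theorem nb_ne : ∀ i < 24, piF (nbL.getD i (0, 0)).1 ≠ piF (nbL.getD i (0, 0)).2 := by decide +kernel

/-- The image of a point under the commuting permutation. -/
def sgF (i : ℕ) : ℕ := PermCert.get 5 sigmaE.1 i

theorem sigma_spec : PermCert.validElt 5 24 sigmaE = true ∧ isAutB sigmaE = true ∧
    ∀ i < 24, sgF i < 24 ∧ sgF (piF i) = piF (sgF i) := by decide +kernel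

theorem pair_spec : pairA < 24 ∧ pairB < 24 ∧ pairA ≠ pairB ∧ pk pairA pairB / 64 % 16 = 0 ∧
    bbit v1 (Big.bigW.getD (pk pairA pairB % 64) 0) = false ∧ sgF pairA ≠ sgF pairB ∧
      pk (sgF pairA) (sgF pairB) / 64 % 16 ≠ 0 := by decide +kernel

theorem v1_cls : cls v1 = 2 ∧ cls (v1 ^^^ Big.bigW.getD (pk pairA pairB % 64) 0) = 2 := by decide +kernel

end Cfsg.Agent.JankoFour.Hinto
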