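import Cfsg.Agent.Lib.JankoFour.HintoInner
import Cfsg.Agent.S0111

/-!
Every involution is conjugate into the large abelian subgroup or to the standard one over the hexad group.
-/

set_option autoImplicit false
set_option linter.unusedSectionVars false

namespace Cfsg.Agent.JankoFour

open Subgroup
open Cfsg.Agent.LargeFischer (Ctx QG)
open Cfsg.Agent.J4Module (app elemI oneC compC)
open Cfsg.Agent.J4Module.Data
open Big

variable {G : Type*} [Group G] [Finite G] {z : G} {P : Subgroup G}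

namespace Hinto

theorem semi_spec : (∃ g ∈ sylow, mulC g pC ≠ mulC pC g) ∧ mulC p2C p2C = pC ∧
    mulC pC pC = p2C := by decide +kernel

theorem elemI_cases : ∀ j ∈ bigIdx, ∃ k < 16, bEl k = elemI j := fun j hj =>
  let ⟨k, hk, e⟩ := bEl_spec.2.2.2.2 j (List.mem_cons_of_mem _ hj)
  ⟨k, hk, e.symm⟩

end Hinto

namespace Model

variable (M : Model z P)
include M

/-- The elements of the centraliser acting semilinearly trivially on the subgroup of order three modulo Q. -/
def innerH : Subgroup ↥(centralizer ({z} : Set G)) :=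
  haveI := M.normal
  (centralizer ({QuotientGroup.mk' M.Q M.pElem} : Set (↥(centralizer ({z} : Set G)) ⧸ M.Q))).comap
    (QuotientGroup.mk' M.Q)

theorem mem_innerH {c : ↥(centralizer ({z} : Set G))} {C : List ℕ} (hC : C ∈ sylow) (hc : M.Acts c C) :
    c ∈ M.innerH ↔ mulC C pC = mulC pC C := by
  haveI := M.normal
  have hlen := (sylow_coset C hC).1
  have h1 := M.acts_mul hc M.p_acts
  have h2 := M.acts_mul M.p_acts hc
  unfold innerH
  rw [mem_comap, mem_centralizer_singleton_iff, ← map_mul, ← map_mul, QuotientGroup.mk'_eq_mk']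
  constructor
  · rintro ⟨q, hq, e⟩
    refine M.acts_unique (by rw [length_mulC]; rfl) (by rw [length_mulC]; exact hlen) h1 ?_
    have h3 := M.acts_mul h1 (M.acts_of_mem_Q hq)
    rw [e, mulC_unitC (by rw [length_mulC]; rfl)] at h3
    exact fun x => by
      obtain ⟨C', -, h'⟩ := M.exists_cols (M.pElem * c)
      rw [show M.vec (M.ctx.conjQ (c * M.pElem) x) = app (mulC C pC) (M.vec x) from h1 x]
      rw [← h3 x, h2 x]
  · intro e
    exact ⟨(c * M.pElem)⁻¹ * (M.pElem * c), M.inv_mul_mem h1 (e ▸ h2), by group⟩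

end Model

namespace BigData

variable {M : Model z P} (B : BigData M)
include B

/-- An involution of the inner part of the Sylow subgroup. -/
theorem inner_involution {t : ↥(centralizer ({z} : Set G))} (ht : t * t = 1) {C : List ℕ} (hC : C ∈ sylow)
    (htC : M.Acts t C) (hin : mulC C pC = mulC pC C) :
    (∃ g : G, g * t * g⁻¹ ∈ B.V) ∨ M.IsE6 (t : G) := by
  by_cases h1 : C = unitC
  · exact B.hexad_cases ht (show (0 : ℕ) < 16 by norm_num) (by rw [bEl_spec.2.1, ← h1]; exact htC)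
  have hlen := (sylow_coset C hC).1
  have h2 : compC C C = oneC := by
    rw [unit_eq.2, unit_eq.1]
    refine M.acts_unique (by rw [length_mulC]; exact hlen) (by decide) ?_ M.acts_one
    have := M.acts_mul htC htC
    rwa [ht] at this
  obtain ⟨i, hi, rfl⟩ := elemI_sylow_invol hC h2 (by rw [unit_eq.1]; exact h1)
  obtain ⟨w, hw, rfl⟩ := inner_cover i hi hin
  obtain ⟨hjb, hwk, he⟩ := inner_words w hw
  obtain ⟨k, hk, ek⟩ := Hinto.elemI_cases _ hjb
  obtain ⟨h, hh⟩ := M.exists_elem _ (wordC_mem hwk)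
  have hu : M.Acts (h * t * h⁻¹) (bEl k) := M.acts_conj hh htC (by rw [ek]; exact he)
  have hu2 : h * t * h⁻¹ * (h * t * h⁻¹) = 1 := by
    rw [show h * t * h⁻¹ * (h * t * h⁻¹) = h * (t * t) * h⁻¹ by group, ht, mul_one, mul_inv_cancel]
  rcases B.hexad_cases hu2 hk hu with ⟨g, hg⟩ | ⟨s, hs, hst⟩
  · exact Or.inl ⟨g * h, by simpa [mul_assoc] using hg⟩
  · exact Or.inr ⟨s, hs, hst.trans (isConj_iff.2 ⟨(h : G)⁻¹, by simp [mul_assoc]⟩)⟩

/-- Every involution is conjugate into the subgroup or to the standard class. -/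
theorem involution_cases [IsSimpleGroup G] (hG : ¬ IsMulCommutative G) {t : G} (ht : orderOf t = 2) :
    (∃ g : G, g * t * g⁻¹ ∈ B.V) ∨ M.IsE6 t := by
  haveI : Fact (Nat.Prime 2) := ⟨Nat.prime_two⟩
  haveI := M.normal
  obtain ⟨S, hS⟩ := M.sylow_of_cent
  obtain ⟨S', hS'⟩ := (IsPGroup.of_card (n := 1) (G := ↥(zpowers t))
    (by rw [Nat.card_zpowers, ht, pow_one])).exists_le_sylow
  obtain ⟨g, hg⟩ := MulAction.exists_smul_eq G S' S
  set Q : Subgroup G := (S : Subgroup G) ⊓ M.innerH.map (centralizer ({z} : Set G)).subtype with hQdef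
  have hidx : Q.relIndex (S : Subgroup G) = 2 := by
    obtain ⟨⟨a, ha, hne⟩, hp4, hp2⟩ := Hinto.semi_spec
    obtain ⟨c, hc⟩ := M.exists_elem a (sylow_InL0 ha)
    have hcS : (c : G) ∈ (S : Subgroup G) := by rw [hS]; exact ⟨c, M.mem_syl.2 ⟨a, ha, hc⟩, rfl⟩
    unfold Subgroup.relIndex
    refine index_eq_two_iff.2 ⟨⟨c, hcS⟩, fun b => ?_⟩
    have hmem : ∀ x : ↥(centralizer ({z} : Set G)), (x : G) ∈ (S : Subgroup G) →
        ((x : G) ∈ Q ↔ x ∈ M.innerH) := by
      intro x hx
      rw [hQdef, mem_inf]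
      exact ⟨fun h => by obtain ⟨-, y, hy, e⟩ := h; exact (Subtype.ext e : y = x) ▸ hy,
        fun h => ⟨hx, x, h, rfl⟩⟩
    obtain ⟨d, hd, hdb⟩ : (b : G) ∈ M.syl.map (centralizer ({z} : Set G)).subtype := hS ▸ b.2
    obtain ⟨D, hD, hdD⟩ := M.mem_syl.1 hd
    have hdS : (d : G) ∈ (S : Subgroup G) := by rw [show (d : G) = b from hdb]; exact b.2
    have e1 : (b * ⟨c, hcS⟩ : ↥(S : Subgroup G)) ∈ Q.subgroupOf (S : Subgroup G) ↔ d * c ∈ M.innerH := by
      rw [mem_subgroupOf, ← hmem _ (mul_mem hdS hcS)]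
      simp [← hdb]
    have e2 : b ∈ Q.subgroupOf (S : Subgroup G) ↔ d ∈ M.innerH := by
      rw [mem_subgroupOf, ← hmem _ hdS]
      simp [← hdb]
    rw [e1, e2, M.mem_innerH hD hdD, M.mem_innerH (Big.sylow_mul hD ha) (M.acts_mul hdD hc)]
    have hcin : c ∉ M.innerH := fun h => hne ((M.mem_innerH ha hc).1 h)
    have hap : mulC a pC = mulC p2C a := (sylow_coset a ha).2.resolve_left hne
    rcases (sylow_coset D hD).2 with hl | hl
    · refine Or.inr ⟨hl, fun h => hcin ?_⟩
      have hdin : d ∈ M.innerH := (M.mem_innerH hD hdD).2 hl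
      have hmul : d * c ∈ M.innerH := (M.mem_innerH (Big.sylow_mul hD ha) (M.acts_mul hdD hc)).2 h
      exact (Subgroup.mul_mem_cancel_left _ hdin).1 hmul
    · refine Or.inl ⟨?_, fun h => hne ?_⟩
      · rw [mulC_assoc, hap, ← hp2, ← mulC_assoc, ← mulC_assoc, hl, mulC_assoc p2C D pC, hl, ← mulC_assoc,
          hp4, mulC_assoc]
      · have e : mulC D pC = mulC pC D ∧ mulC D pC = mulC p2C D := ⟨h, hl⟩
        exfalso
        obtain ⟨D', -, h'⟩ := M.exists_cols d⁻¹
        obtain ⟨x, hx⟩ := M.vec_surj 1 (by norm_num)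
        have h0 := p2_fix _ (hdD x ▸ M.vec_lt _) (by rw [← app_mulC, ← app_mulC, ← e.2, e.1])
        have h1 := (M.acts_inv hdD h' x).1
        rw [h0, J4Module.app_zero, hx] at h1
        exact absurd h1 (by norm_num)
  have htS : g * t * g⁻¹ ∈ (S : Subgroup G) := by
    rw [← hg, Sylow.coe_subgroup_smul]
    exact ⟨t, hS' (mem_zpowers t), rfl⟩
  have hu : orderOf (g * t * g⁻¹) = 2 := by
    rw [show g * t * g⁻¹ = MulAut.conj g t from rfl, MulEquiv.orderOf_eq, ht]
  obtain ⟨h, hh⟩ : ∃ h : G, h * (g * t * g⁻¹) * h⁻¹ ∈ Q := by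
    by_cases hQ : g * t * g⁻¹ ∈ Q
    · exact ⟨1, by simpa using hQ⟩
    rcases Cfsg.Agent.S0111.result S Q inf_le_left hidx _ hu htS hQ with ⟨N, hN, hN2, -⟩ | h
    · exfalso
      rcases hN.eq_bot_or_eq_top with e | e
      · rw [e, index_bot] at hN2
        haveI : IsCyclic G := isCyclic_of_prime_card hN2
        exact hG ⟨⟨fun a b => IsCyclic.commGroup.mul_comm a b⟩⟩
      · rw [e, index_top] at hN2
        norm_num at hN2
    · exact h
  set u := h * (g * t * g⁻¹) * h⁻¹ with hudef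
  have hu2 : u * u = 1 := by
    have : orderOf u = 2 := by rw [hudef, show h * (g * t * g⁻¹) * h⁻¹ = MulAut.conj h (g * t * g⁻¹) from rfl,
      MulEquiv.orderOf_eq, hu]
    have h := pow_orderOf_eq_one u
    rwa [this, pow_two] at h
  have hconj : IsConj u t := isConj_iff.2 ⟨(h * g)⁻¹, by rw [hudef]; group⟩
  obtain ⟨hcS, c, hc, hcu⟩ := mem_inf.1 hh
  obtain ⟨d, hd, hdu⟩ : u ∈ M.syl.map (centralizer ({z} : Set G)).subtype := hS ▸ hcS
  obtain rfl : d = c := Subtype.ext (hdu.trans hcu.symm)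
  obtain ⟨D, hD, hdD⟩ := M.mem_syl.1 hd
  have hdd : d * d = 1 := Subtype.ext (by
    show (d : G) * d = 1
    rw [show (d : G) = u from hdu, hu2])
  rcases B.inner_involution hdd hD hdD ((M.mem_innerH hD hdD).1 hc) with ⟨k, hk⟩ | ⟨s, hs, hsd⟩
  · refine Or.inl ⟨k * (h * g), ?_⟩
    rw [show (d : G) = u from hdu] at hk
    convert hk using 1
    rw [hudef]
    group
  · rw [show (d : G) = u from hdu] at hsd
    exact Or.inr ⟨s, hs, hsd.trans hconj⟩

/-- Every involution is conjugate into the subgroup, if one of the standard class is. -/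
theorem involution_into [IsSimpleGroup G] (hG : ¬ IsMulCommutative G)
    (hex : ∃ e g : G, M.IsE6 e ∧ g * e * g⁻¹ ∈ B.V) {t : G} (ht : orderOf t = 2) :
    ∃ g : G, g * t * g⁻¹ ∈ B.V := by
  rcases B.involution_cases hG ht with h | h
  · exact h
  obtain ⟨e, g, he, hge⟩ := hex
  obtain ⟨k, hk⟩ := isConj_iff.1 (M.e6_conj h he)
  refine ⟨g * k, ?_⟩
  convert hge using 1
  rw [← hk]
  group

end BigData

end Cfsg.Agent.JankoFour
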