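import Cfsg.Agent.Lib.JankoFour.Mathieu
import Cfsg.Agent.Lib.JankoFour.HintoTransfer
import Cfsg.Agent.Lib.JankoFour.HintoPairChecks
import Cfsg.Agent.Lib.JankoFour.Split

/-!
One involution of the standard class over the hexad group is conjugate into the extraspecial subgroup, so every
involution is conjugate into the large abelian subgroup.
-/

set_option autoImplicit false
set_option linter.unusedSectionVars false
set_option maxRecDepth 100000

namespace Cfsg.Agent.JankoFour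

open Subgroup
open Cfsg (GolayPt M24)
open Cfsg.Agent.LargeFischer (Ctx QG)
open Cfsg.Agent.LargeFischer.Big (ev ev_pair pp pair_inj)
open Cfsg.Agent.Golay (idx pt idx_lt idx_injective idx_pt permOf idx_permOf permOf_mem_M24)
open Cfsg.Agent.J4Module (app elemI)
open Cfsg.Agent.J4Module.Data
open scoped symmDiff

variable {G : Type*} [Group G] [Finite G] {z : G} {P : Subgroup G}

namespace BigData

variable {M : Model z P} (B : BigData M)
include B

/-- An involution of the extraspecial subgroup is conjugate into the large abelian subgroup. -/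
theorem sing_into {y : G} (hy : y ∈ QG M.Q) (hy2 : y * y = 1) : ∃ g : G, g * y * g⁻¹ ∈ B.V := by
  set x : ↥(QG M.Q) := ⟨y, hy⟩
  by_cases h0 : M.vec x = 0
  · rcases M.vec_eq_zero.1 h0 with e | e
    · exact ⟨1, by rw [show y = 1 from e]; simp⟩
    · exact ⟨1, by rw [show y = z from e]; simpa using B.z_mem⟩
  · obtain ⟨C, hC, hb⟩ := M.exists_conj_hex (M.vec_lt x) h0 ((M.sq_iff x).1 hy2)
    obtain ⟨h, hh⟩ := M.exists_elem C hC
    exact ⟨h, (B.inf_Q (M.ctx.conjQ h x)).2 (by rw [hh x]; exact hb)⟩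

/-- Products with elements outside the extraspecial subgroup. -/
theorem e6_of_prod {x : ↥(QG M.Q)} (hx : (x : G) ∉ B.V) {d : G} (hd : d ∈ B.V) (hdQ : d ∉ QG M.Q)
    (h2 : (x : G) * d * ((x : G) * d) = 1) : M.IsE6 ((x : G) * d) := by
  set c : ↥(centralizer ({z} : Set G)) := ⟨d, B.le_cent hd⟩
  obtain ⟨i, hi, hci⟩ := B.img c hd
  obtain ⟨j, hj, e⟩ := Big.bEl_spec.2.2.2.2 i hi
  replace hci : M.Acts c (Big.bEl j) := e ▸ hci
  have hj0 : j ≠ 0 := by
    rintro rfl
    rw [Big.bEl_spec.2.1] at hci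
    exact hdQ ((M.mem_Q_iff c).1 (M.mem_Q c hci))
  have ht : M.Acts (M.toH x * c) (Big.bEl j) := fun w => by
    rw [M.acts_mul (M.acts_of_mem_Q (M.toH_mem x)) hci w, app_mulC,
      app_unitC _ (gen_app_lt (gen_mono (Big.bEl_InK0 hj)) _)]
  rcases B.hexad_ne (t := M.toH x * c) (Subtype.ext h2) hj hj0 ht with h | h
  · exfalso
    apply hx
    have := mul_mem (show (x : G) * d ∈ B.V from h) (inv_mem hd)
    rwa [mul_inv_cancel_right] at this
  · exact h

theorem QG_le_normalizer {y : G} (hy : y ∈ QG M.Q) : y ∈ normalizer (B.V : Set G) := by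
  rw [B.V_eq_vG]
  exact Model.syl_mem_normalizer (c := M.toH ⟨y, hy⟩) (M.Q_le_syl (M.toH_mem ⟨y, hy⟩))

end BigData

namespace BigCoords

open Hinto

variable {M : Model z P} {B : BigData M} (C : BigCoords B)
include C

theorem pk_lt (i j : ℕ) (hi : i < 24) (hj : j < 24) : pk i j < 2048 :=
  (Orb.pair_bij _ (Nat.xor_lt_two_pow (n := 11) (LargeFischer.Big.pp_lt i hi) (LargeFischer.Big.pp_lt j hj))).1

theorem eS_pair {p q : GolayPt} (h : p ≠ q) : C.eS {p, q} = C.el (pk (idx p) (idx q)) := by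
  rw [eS, ev_pair h]
  rfl

theorem conj_moved {x : ↥(QG M.Q)} (hx : M.vec x = v1) {k : ℕ} (hk : k < 2048) (hk0 : k / 64 % 16 = 0) :
    (x : G) * C.el k * (x : G)⁻¹ = C.el (moved k) := by
  have hm : C.el k ∈ QG M.Q := (C.el_mem_Q k hk).2 hk0
  have hvec := C.el_vec k hk ⟨_, hm⟩ rfl
  have hc := M.comm_iff x ⟨_, hm⟩
  rw [hx, hvec] at hc
  unfold moved
  cases hb : bbit v1 (Big.bigW.getD (k % 64) 0) with
  | false =>
    simp only [Bool.false_eq_true, if_false, Nat.xor_zero]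
    rw [mul_inv_eq_iff_eq_mul]
    exact hc.2 hb
  | true =>
    simp only [if_true]
    rw [C.el_xor k hk 1024 (by norm_num), C.el_z]
    rcases M.toH_cases (x := ⟨C.el k, hm⟩) (y := M.ctx.conjQ (M.toH x) ⟨C.el k, hm⟩)
      (by rw [(M.acts_of_mem_Q (M.toH_mem x)) _, app_unitC _ (M.vec_lt _)]) with f | f
    · exfalso
      have h := mul_inv_eq_iff_eq_mul.1 (congrArg Subtype.val ((M.toH_conj _ _).trans f))
      rw [hc.1 h] at hb
      simp at hb
    · exact congrArg Subtype.val ((M.toH_conj _ _).trans f)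

variable (hT : ∀ n < 2048, (Orb.tMask.testBit n = true ↔ n ≠ 0 ∧ ¬ IsConj z (C.el n)))
include hT

/-- Some standard involution over the hexad group is conjugate into the subgroup. -/
theorem exists_e6_fused (hcard : Nat.card ↥(normalizer (B.V : Set G)) = 1771 * (2 ^ 21 * 135)) :
    ∃ e g : G, M.IsE6 e ∧ g * e * g⁻¹ ∈ B.V ∧
      ∃ y : ↥(QG M.Q), (y : G) * y = 1 ∧ cls (M.vec y) = 2 ∧ IsConj (y : G) e := by
  classical
  obtain ⟨Φ, hΦ, hker, hsurj⟩ := C.exists_hom hT hcard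
  obtain ⟨x, hx⟩ := M.vec_surj v1 v1_spec.1
  have hx2 : (x : G) * x = 1 := (M.sq_iff x).2 (by rw [hx]; exact v1_spec.2.1)
  have hxV : (x : G) ∉ B.V := fun h => by
    have := (B.inf_Q x).1 h
    rw [hx, v1_spec.2.2] at this
    simp at this
  set xN : ↥(normalizer (B.V : Set G)) := ⟨x, B.QG_le_normalizer x.2⟩
  set ρ := (Φ xN).1
  -- the permutation of x
  have hρ : ∀ p, idx (ρ p) = piF (idx p) := by
    intro p
    obtain ⟨hp, hn⟩ := nb_spec (idx p) (idx_lt p)
    have key : ∀ j ∈ [(nbL.getD (idx p) (0, 0)).1, (nbL.getD (idx p) (0, 0)).2],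
        ∃ r : GolayPt, idx r = piF j ∧ ρ p ∈ ({pt ⟨piF (idx p), hp⟩, r} : Finset GolayPt) := by
      intro j hj
      obtain ⟨hj24, hji, hpj, h0, hmv⟩ := hn j hj
      have hp24 : piF j < 24 := (nb_spec j hj24).1
      refine ⟨pt ⟨piF j, hp24⟩, by rw [idx_pt], ?_⟩
      have hpq : p ≠ pt ⟨j, hj24⟩ := fun e => hji (by rw [e, idx_pt])
      have hrs : pt ⟨piF (idx p), hp⟩ ≠ pt ⟨piF j, hp24⟩ := fun e => hpj (by
        have := congrArg idx e
        rw [idx_pt, idx_pt] at this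
        exact this.symm)
      have h := hΦ xN p _ hpq
      rw [C.eS_pair hpq, idx_pt, C.conj_moved hx (C.pk_lt _ _ (idx_lt p) hj24) h0, ← hmv] at h
      have h' : C.eS {pt ⟨piF (idx p), hp⟩, pt ⟨piF j, hp24⟩} = C.eS {ρ p, ρ (pt ⟨j, hj24⟩)} := by
        rw [← h, C.eS_pair hrs, idx_pt, idx_pt]
      rw [pair_inj (Finset.card_pair hrs) (Finset.card_pair (ρ.injective.ne hpq)) (C.eS_inj h')]
      exact Finset.mem_insert_self _ _
    obtain ⟨r, hr, hr'⟩ := key _ List.mem_cons_self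
    obtain ⟨s, hs, hs'⟩ := key _ (List.mem_cons_of_mem _ List.mem_cons_self)
    rw [Finset.mem_insert, Finset.mem_singleton] at hr' hs'
    rcases hr' with e | e
    · rw [e, idx_pt]
    rcases hs' with f | f
    · rw [f, idx_pt]
    · exact absurd (by rw [← hr, ← hs, ← e, ← f]) (nb_ne _ (idx_lt p))
  -- an element commuting with it modulo the subgroup
  obtain ⟨hval, haut, hσ⟩ := sigma_spec
  obtain ⟨n, hn⟩ := hsurj ⟨permOf sigmaE, permOf_mem_M24 hval haut⟩
  have hsig : ∀ p, idx ((Φ n).1 p) = sgF (idx p) := fun p => by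
    rw [hn]
    exact idx_permOf hval p
  have hcomm : Φ n * Φ xN = Φ xN * Φ n := by
    refine Subtype.ext (Equiv.ext fun p => idx_injective ?_)
    show idx ((Φ n).1 (ρ p)) = idx (ρ ((Φ n).1 p))
    rw [hsig, hρ, hρ, hsig]
    exact (hσ _ (idx_lt p)).2
  set d : G := (x : G)⁻¹ * ((n : G) * x * (n : G)⁻¹) with hd
  have hdV : d ∈ B.V := by
    have h : xN⁻¹ * (n * xN * n⁻¹) ∈ Φ.ker := by
      rw [MonoidHom.mem_ker, map_mul, map_mul, map_mul, map_inv, map_inv, hcomm]
      group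
    rw [hker, mem_subgroupOf] at h
    exact h
  obtain ⟨hA, hB, hAB, hA0, hAb, hAB', hcross⟩ := pair_spec
  by_cases hdQ : d ∈ QG M.Q
  · -- move the fixed pair across
    set p := pt ⟨pairA, hA⟩
    set q := pt ⟨pairB, hB⟩
    have hpq : p ≠ q := fun e => hAB (by
      have := congrArg idx e
      rwa [idx_pt, idx_pt] at this)
    set a := C.eS {p, q} with ha
    have hak : a = C.el (pk pairA pairB) := by rw [ha, C.eS_pair hpq, idx_pt, idx_pt]
    have haQ : a ∈ QG M.Q := hak ▸ (C.el_mem_Q _ (C.pk_lt _ _ hA hB)).2 hA0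
    have hxa : (x : G) * a = a * x := by
      have h := C.conj_moved hx (C.pk_lt _ _ hA hB) hA0
      unfold moved at h
      rw [hAb] at h
      simp only [Bool.false_eq_true, if_false, Nat.xor_zero] at h
      rw [hak]
      exact mul_inv_eq_iff_eq_mul.1 h
    have ha2 : a * a = 1 := B.sq _ (C.eS_mem _)
    set b := (n : G) * a * (n : G)⁻¹ with hb
    have hbV : b ∈ B.V := (Subgroup.mem_normalizer_iff.1 n.2 _).1 (C.eS_mem _)
    have hne : (Φ n).1 p ≠ (Φ n).1 q := (Φ n).1.injective.ne hpq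
    have hbQ : b ∉ QG M.Q := by
      rw [hb, ha, hΦ n p q hpq, C.eS_pair hne, hsig, hsig, idx_pt, idx_pt,
        C.el_mem_Q _ (C.pk_lt _ _ (hσ _ hA).1 (hσ _ hB).1)]
      exact hcross
    have e : (n : G) * ((x : G) * a) * (n : G)⁻¹ = (x : G) * (d * b) := by rw [hd, hb]; group
    have hy2 : (x : G) * a * ((x : G) * a) = 1 := by
      calc (x : G) * a * ((x : G) * a) = (x : G) * (a * x) * a := by group
        _ = (x : G) * x * (a * a) := by rw [← hxa]; group
        _ = 1 := by rw [hx2, ha2, mul_one]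
    obtain ⟨g, hg⟩ := B.sing_into (mul_mem x.2 haQ) hy2
    have hcl : cls (M.vec (⟨(x : G) * a, mul_mem x.2 haQ⟩ : ↥(QG M.Q))) = 2 := by
      have h : M.vec (⟨(x : G) * a, mul_mem x.2 haQ⟩ : ↥(QG M.Q)) = M.vec x ^^^ M.vec ⟨a, haQ⟩ := M.vec_mul x ⟨a, haQ⟩
      rw [h, C.el_vec _ (C.pk_lt _ _ hA hB) ⟨a, haQ⟩ hak, hx]
      exact v1_cls.2
    refine ⟨_, g * (n : G)⁻¹, B.e6_of_prod hxV (mul_mem hdV hbV) (fun h => hbQ ?_) ?_, ?_,
      ⟨(x : G) * a, mul_mem x.2 haQ⟩, hy2, hcl, isConj_iff.2 ⟨(n : G), e⟩⟩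
    · have := mul_mem (inv_mem hdQ) h
      rwa [inv_mul_cancel_left] at this
    · rw [← e, show (n : G) * ((x : G) * a) * (n : G)⁻¹ * ((n : G) * ((x : G) * a) * (n : G)⁻¹) =
        (n : G) * ((x : G) * a * ((x : G) * a)) * (n : G)⁻¹ by group, hy2]
      group
    · rw [← e]
      convert hg using 1
      group
  · have e : (n : G) * x * (n : G)⁻¹ = (x : G) * d := by rw [hd]; group
    obtain ⟨g, hg⟩ := B.sing_into x.2 hx2
    refine ⟨_, g * (n : G)⁻¹, B.e6_of_prod hxV hdV hdQ ?_, ?_, x, hx2, by rw [hx]; exact v1_cls.1,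
      isConj_iff.2 ⟨(n : G), e⟩⟩
    · rw [← e, show (n : G) * x * (n : G)⁻¹ * ((n : G) * x * (n : G)⁻¹) = (n : G) * ((x : G) * x) * (n : G)⁻¹ by group,
        hx2]
      group
    · rw [← e]
      convert hg using 1
      group

/-- Every involution is conjugate into the large abelian subgroup. -/
theorem involution_into [IsSimpleGroup G] (hG : ¬ IsMulCommutative G)
    (hcard : Nat.card ↥(normalizer (B.V : Set G)) = 1771 * (2 ^ 21 * 135)) {t : G} (ht : orderOf t = 2) :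
    ∃ g : G, g * t * g⁻¹ ∈ B.V :=
  B.involution_into hG (by obtain ⟨e, g, he, hge, -⟩ := C.exists_e6_fused hT hcard; exact ⟨e, g, he, hge⟩) ht

end BigCoords

end Cfsg.Agent.JankoFour
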