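import Cfsg.Agent.Lib.JankoFour.SevenGroup
import Cfsg.Agent.Lib.MonsterT.SLThree
import Cfsg.Prelude.Def_TwoFusion
import Mathlib.GroupTheory.Transfer

/-!
The local structure at the prime seven.
-/

set_option autoImplicit false
set_option linter.unusedSectionVars false
set_option maxRecDepth 20000

namespace Cfsg.Agent.JankoFour

open Subgroup
open Cfsg.Agent.LargeFischer (QG)

theorem Trio.mulAut_seven {E : Type*} [Group E] [Finite E] (h2 : ∀ a : E, a * a = 1) (hc : Nat.card E = 8)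
    (α : MulAut E) (hα : orderOf α = 7) :
    ∃ β : MulAut E, β * α * β⁻¹ ∈ zpowers α ∧ β * α ≠ α * β := by
  haveI : Fact (Nat.Prime 7) := ⟨by norm_num⟩
  obtain ⟨e⟩ := aut_eight E h2 hc
  obtain ⟨hsimp, hcard⟩ := MonsterT.Seven.sl32_facts
  haveI := hsimp
  haveI : IsSimpleGroup (MulAut E) := e.isSimpleGroup
  have h168 : Nat.card (MulAut E) = 168 := (Nat.card_congr e.toEquiv).trans hcard
  have hfac : (Nat.card (MulAut E)).factorization 7 = 1 := by
    rw [h168, show 168 = 7 ^ 1 * 24 by norm_num, Nat.factorization_mul (by norm_num) (by norm_num), Finsupp.add_apply,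
      Nat.Prime.factorization_pow (by norm_num), Nat.factorization_eq_zero_of_not_dvd (by norm_num)]
    simp
  let S : Sylow 7 (MulAut E) := Sylow.ofCard (zpowers α) (by rw [hfac, Nat.card_zpowers, hα, pow_one])
  by_contra hno
  simp only [not_exists, not_and, ne_eq, not_not] at hno
  have hP : normalizer ((S : Subgroup (MulAut E)) : Set (MulAut E)) ≤ centralizer ((S : Subgroup (MulAut E)) : Set (MulAut E)) := by
    intro β hβ
    refine mem_centralizer_iff.2 fun t ht => ?_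
    have h := hno β ((Subgroup.mem_normalizer_iff.1 hβ α).1 (mem_zpowers α))
    obtain ⟨i, rfl⟩ := mem_zpowers_iff.1 ht
    exact ((show Commute β α from h).zpow_right i).eq.symm
  have hcomp := MonoidHom.ker_transferSylow_isComplement' S hP
  have hk := hcomp.card_mul
  rw [show Nat.card ↥(S : Subgroup (MulAut E)) = 7 by rw [show (S : Subgroup (MulAut E)) = zpowers α from rfl,
    Nat.card_zpowers, hα], h168] at hk
  rcases (MonoidHom.transferSylow S hP).normal_ker.eq_bot_or_eq_top with h | h <;> rw [h] at hk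
  · rw [Subgroup.card_bot] at hk; norm_num at hk
  · rw [Subgroup.card_top, h168] at hk; norm_num at hk

namespace Model.Five

variable {G : Type*} [Group G] [Finite G] {z : G} {P : Subgroup G} {M : Model z P} (F : M.Five)
  {B : BigData M} (Cc : BigCoords B)
  (hT : ∀ n < 2048, (Orb.tMask.testBit n = true ↔ n ≠ 0 ∧ ¬ IsConj z (Cc.el n)))
  (D : BigPack z B.V) (hinto : ∀ t : G, orderOf t = 2 → ∃ g : G, g * t * g⁻¹ ∈ B.V)
include F Cc hT D hinto

set_option maxHeartbeats 1000000 in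
/-- The centraliser and the normaliser of a subgroup of order seven. -/
theorem seven_core : ∃ (s : G) (I : Subgroup G), orderOf s = 7 ∧
    zpowers s ≤ centralizer ({s} : Set G) ∧ I ≤ centralizer ({s} : Set G) ∧ (∀ i ∈ I, s * i = i * s) ∧
    zpowers s ⊓ I = ⊥ ∧ zpowers s ⊔ I = centralizer ({s} : Set G) ∧ Nonempty (↥I ≃* Equiv.Perm (Fin 5)) ∧
    I ≤ normalizer (M.eG : Set G) ∧
    Nat.card ↥(centralizer ({s} : Set G)) = 840 ∧ Nat.card ↥(normalizer (zpowers s : Set G)) = 2520 ∧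
    normalizer (zpowers s : Set G) ≤ normalizer (M.eG : Set G) ∧
    ∃ u, IsConj z u ∧ s * u = u * s := by
  classical
  haveI : Fact (Nat.Prime 7) := ⟨by norm_num⟩
  haveI : Fact (Nat.Prime 2) := ⟨Nat.prime_two⟩
  obtain ⟨s, I, hs, hsN, hsC, hIC, hIs, hdisj, ⟨ψ⟩⟩ := F.exists_sym Cc hT D hinto
  have hIs' : I ≤ centralizer ({s} : Set G) := fun i hi => mem_centralizer_singleton_iff.2 (hIs i hi).symm
  have hzs : zpowers s ≤ centralizer ({s} : Set G) := zpowers_le.2 (mem_centralizer_singleton_iff.2 rfl)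
  have hcomm : ∀ t ∈ zpowers s, ∀ i ∈ I, t * i = i * t := fun t ht i hi => by
    obtain ⟨k, rfl⟩ := mem_zpowers_iff.1 ht
    exact ((show Commute s i from hIs i hi).zpow_left k).eq
  -- products
  let pr : ↥(zpowers s) × ↥I → G := fun p => (p.1 : G) * p.2
  have hpr : Function.Injective pr := by
    rintro ⟨a, b⟩ ⟨c, d⟩ (h : (a : G) * b = c * d)
    have h1 : (c : G)⁻¹ * a = d * (b : G)⁻¹ := by
      rw [inv_mul_eq_iff_eq_mul, ← mul_assoc, ← h, mul_inv_cancel_right]
    have hm : (c : G)⁻¹ * a ∈ zpowers s ⊓ I := mem_inf.2 ⟨mul_mem (inv_mem c.2) a.2, h1 ▸ mul_mem d.2 (inv_mem b.2)⟩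
    rw [hdisj, mem_bot] at hm
    have hac : (a : G) = c := (inv_mul_eq_one.1 hm).symm
    refine Prod.ext (Subtype.ext hac) (Subtype.ext ?_)
    rw [hac] at h
    exact mul_left_cancel h
  have hmem : ∀ x ∈ zpowers s ⊔ I, ∃ t ∈ zpowers s, ∃ i ∈ I, x = t * i := by
    intro x hx
    have hle : I ≤ normalizer (zpowers s : Set G) := hIs'.trans (by
      rw [← Subgroup.centralizer_closure, ← Subgroup.zpowers_eq_closure]
      exact centralizer_le_normalizer _)
    rw [← SetLike.mem_coe, Subgroup.coe_mul_of_right_le_normalizer_left _ _ hle] at hx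
    obtain ⟨t, ht, i, hi, rfl⟩ := Set.mem_mul.1 hx
    exact ⟨t, ht, i, hi, rfl⟩
  set M7 := zpowers s ⊔ I with hM7
  have hM7c : Nat.card ↥M7 = 840 := by
    let f : ↥(zpowers s) × ↥I → ↥M7 := fun p => ⟨pr p, mul_mem_sup p.1.2 p.2.2⟩
    have hf : Function.Bijective f := by
      refine ⟨fun a b h => hpr (congrArg Subtype.val h), fun x => ?_⟩
      obtain ⟨t, ht, i, hi, e⟩ := hmem x x.2
      exact ⟨(⟨t, ht⟩, ⟨i, hi⟩), Subtype.ext e.symm⟩
    rw [← Nat.card_congr (Equiv.ofBijective f hf), Nat.card_prod, Nat.card_zpowers, hs, Nat.card_congr ψ.toEquiv,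
      Nat.card_perm, Nat.card_fin]
    rfl
  -- involutions lie in the symmetric group
  have hinvI : ∀ x ∈ M7, x * x = 1 → x ∈ I := by
    intro x hx hx2
    obtain ⟨t, ht, i, hi, rfl⟩ := hmem x hx
    have h : t * i * (t * i) = (t * t) * (i * i) := by
      rw [mul_assoc, ← mul_assoc i t, ← hcomm t ht i hi]; group
    rw [h] at hx2
    have hm : t * t ∈ zpowers s ⊓ I := mem_inf.2 ⟨mul_mem ht ht, by
      rw [mul_eq_one_iff_eq_inv.1 hx2]; exact inv_mem (mul_mem hi hi)⟩
    rw [hdisj, mem_bot] at hm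
    have h1 := orderOf_dvd_of_pow_eq_one (show t ^ 2 = 1 by rw [pow_two, hm])
    have h2 := Subgroup.orderOf_dvd_natCard _ ht
    rw [Nat.card_zpowers, hs] at h2
    have := Nat.dvd_gcd h1 h2
    norm_num at this
    rwa [this, one_mul]
  -- the two representatives
  set u : G := ((ψ.symm Trio.tPerm : ↥I) : G) with hu
  set v : G := ((ψ.symm Trio.dPerm : ↥I) : G) with hv
  obtain ⟨hc12, hc8, ht2, ht1, hd2, hd1⟩ := Trio.perm5_cents
  have hord2 : ∀ π : Equiv.Perm (Fin 5), π * π = 1 → π ≠ 1 → orderOf ((ψ.symm π : ↥I) : G) = 2 := by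
    intro π h2 h1
    rw [Subgroup.orderOf_coe, ψ.symm.orderOf_eq]
    exact orderOf_eq_prime (by rw [pow_two, h2]) h1
  have huo : orderOf u = 2 := hord2 _ ht2 ht1
  have hvo : orderOf v = 2 := hord2 _ hd2 hd1
  have hu2 : u * u = 1 := by rw [← pow_two, ← huo, pow_orderOf_eq_one]
  have hv2 : v * v = 1 := by rw [← pow_two, ← hvo, pow_orderOf_eq_one]
  have hsu : s * u = u * s := hIs u (ψ.symm Trio.tPerm).2
  have hsv : s * v = v * s := hIs v (ψ.symm Trio.dPerm).2
  let XI : Equiv.Perm (Fin 5) → Subgroup G := fun π =>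
    (zpowers s ⊔ I) ⊓ centralizer ({((ψ.symm π : ↥I) : G)} : Set G)
  have hXcard : ∀ π : Equiv.Perm (Fin 5), 7 * Fintype.card {k : Equiv.Perm (Fin 5) // k * π = π * k} ≤ Nat.card ↥(XI π) := by
    intro π
    let f : ↥(zpowers s) × {k : Equiv.Perm (Fin 5) // k * π = π * k} → ↥(XI π) := fun p =>
      ⟨pr (p.1, ψ.symm p.2.1), mem_inf.2 ⟨mul_mem_sup p.1.2 (ψ.symm p.2.1).2, mem_centralizer_singleton_iff.2 (by
        refine ((show Commute (p.1 : G) ((ψ.symm π : ↥I) : G) from hcomm _ p.1.2 _ (ψ.symm π).2).mul_left ?_).eq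
        show ((ψ.symm p.2.1 : ↥I) : G) * (ψ.symm π : ↥I) = (ψ.symm π : ↥I) * (ψ.symm p.2.1 : ↥I)
        rw [← Subgroup.coe_mul, ← Subgroup.coe_mul, ← map_mul, ← map_mul, p.2.2])⟩⟩
    have hf : Function.Injective f := fun a b h => by
      have := hpr (congrArg Subtype.val h)
      simp only [Prod.mk.injEq, EmbeddingLike.apply_eq_iff_eq] at this
      exact Prod.ext this.1 (Subtype.ext this.2)
    have := Nat.card_le_card_of_injective f hf
    rwa [Nat.card_prod, Nat.card_zpowers, hs, Nat.card_eq_fintype_card] at this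
  have hXle : ∀ π, XI π ≤ centralizer ({((ψ.symm π : ↥I) : G)} : Set G) ⊓ centralizer ({s} : Set G) := fun π =>
    le_inf inf_le_right (inf_le_left.trans (sup_le hzs hIs'))
  obtain ⟨hAu, hBu⟩ := F.pair_bound Cc hT D hinto huo hs hsu
  obtain ⟨hAv, hBv⟩ := F.pair_bound Cc hT D hinto hvo hs hsv
  have hX1 := hXcard Trio.tPerm
  rw [hc12] at hX1
  have hX2 := hXcard Trio.dPerm
  rw [hc8] at hX2
  have hle1 : Nat.card ↥(XI Trio.tPerm) ≤ Nat.card ↥(centralizer ({u} : Set G) ⊓ centralizer ({s} : Set G)) :=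
    Subgroup.card_le_of_le (hXle Trio.tPerm)
  have hle2 : Nat.card ↥(XI Trio.dPerm) ≤ Nat.card ↥(centralizer ({v} : Set G) ⊓ centralizer ({s} : Set G)) :=
    Subgroup.card_le_of_le (hXle Trio.dPerm)
  have huz : IsConj z u := by
    by_contra hz
    have := Nat.le_of_dvd (by norm_num) (hBu hz)
    omega
  have hvz : ¬ IsConj z v := fun hz => by
    let W : Subgroup (Equiv.Perm (Fin 5)) := centralizer ({Trio.dPerm} : Set _)
    have hW : Nat.card ↥W = 8 := by
      rw [← hc8, ← Nat.card_eq_fintype_card]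
      exact Nat.card_congr (Equiv.subtypeEquivRight fun k => mem_centralizer_singleton_iff)
    have hWle : (W.map ψ.symm.toMonoidHom).map I.subtype ≤ centralizer ({v} : Set G) ⊓ centralizer ({s} : Set G) := by
      rintro _ ⟨_, ⟨k, hk, rfl⟩, rfl⟩
      refine mem_inf.2 ⟨mem_centralizer_singleton_iff.2 ?_, hIs' (ψ.symm k).2⟩
      show ((ψ.symm k : ↥I) : G) * (ψ.symm Trio.dPerm : ↥I) = (ψ.symm Trio.dPerm : ↥I) * (ψ.symm k : ↥I)
      rw [← Subgroup.coe_mul, ← Subgroup.coe_mul, ← map_mul, ← map_mul, mem_centralizer_singleton_iff.1 hk]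
    have := card_dvd_of_le hWle
    rw [card_map_of_injective I.subtype_injective, card_map_of_injective ψ.symm.injective, hW] at this
    exact (hAv hz).2 this
  have hXu : centralizer ({u} : Set G) ⊓ centralizer ({s} : Set G) ≤ M7 := by
    rw [← Subgroup.eq_of_le_of_card_ge (hXle Trio.tPerm) ((hAu huz).1.trans hX1)]
    exact inf_le_left
  have hXv : centralizer ({v} : Set G) ⊓ centralizer ({s} : Set G) ≤ M7 := by
    rw [← Subgroup.eq_of_le_of_card_ge (hXle Trio.dPerm)
      ((Nat.le_of_dvd (by norm_num) (hBv hvz)).trans hX2)]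
    exact inf_le_left
  have hclass : ∀ x ∈ I, x * x = 1 → x ≠ 1 → ∃ i ∈ I, i * x * i⁻¹ = u ∨ i * x * i⁻¹ = v := by
    intro x hx hx2 hx1
    obtain ⟨k, hk⟩ := Trio.perm5_invol (ψ ⟨x, hx⟩) (by rw [← map_mul, ← map_one ψ]; exact congrArg ψ (Subtype.ext hx2))
      (fun h => hx1 (congrArg Subtype.val ((map_eq_one_iff ψ ψ.injective).1 h)))
    refine ⟨(ψ.symm k : ↥I), (ψ.symm k).2, hk.imp (fun h => ?_) fun h => ?_⟩ <;>
    · have := congrArg (fun t => ((ψ.symm t : ↥I) : G)) h
      simpa using this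
  have hinv : ∀ w ∈ M7, w * w = 1 → w ≠ 1 → centralizer ({w} : Set G) ⊓ centralizer ({s} : Set G) ≤ M7 := by
    intro w hw hw2 hw1 g hg
    obtain ⟨i, hi, h⟩ := hclass w (hinvI w hw hw2) hw2 hw1
    have hi7 : i ∈ M7 := mem_sup_right hi
    have hg' : ∀ y, i * w * i⁻¹ = y → i * g * i⁻¹ ∈ centralizer ({y} : Set G) ⊓ centralizer ({s} : Set G) := by
      rintro y rfl
      refine mem_inf.2 ⟨mem_centralizer_singleton_iff.2 ?_, mul_mem (mul_mem (hIs' hi) (mem_inf.1 hg).2) (inv_mem (hIs' hi))⟩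
      calc i * g * i⁻¹ * (i * w * i⁻¹) = i * (g * w) * i⁻¹ := by group
        _ = _ := by rw [mem_centralizer_singleton_iff.1 (mem_inf.1 hg).1]; group
    have : i * g * i⁻¹ ∈ M7 := by
      rcases h with h | h
      exacts [hXu (hg' u h), hXv (hg' v h)]
    have h2 := mul_mem (mul_mem (inv_mem hi7) this) hi7
    simpa [mul_assoc] using h2
  have hcent : centralizer ({s} : Set G) = M7 := by
    refine le_antisymm (fun k hk => ?_) (sup_le hzs hIs')
    set x := k * u * k⁻¹ with hx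
    have hxs : x ∈ centralizer ({s} : Set G) :=
      mul_mem (mul_mem hk (mem_centralizer_singleton_iff.2 hsu.symm)) (inv_mem hk)
    have hx2 : x * x = 1 := by
      rw [hx, show k * u * k⁻¹ * (k * u * k⁻¹) = k * (u * u) * k⁻¹ by group, hu2]; group
    have hxz : IsConj z x := huz.trans (isConj_iff.2 ⟨k, rfl⟩)
    rcases invol_between (H := centralizer ({s} : Set G)) (mem_centralizer_singleton_iff.2 hsv.symm) hxs hv2 hx2 with
      h | ⟨w, hws, hw2, hw1, hwv, hxw⟩
    · exact absurd (hxz.trans h) hvz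
    · have hw7 : w ∈ M7 := hXv (mem_inf.2 ⟨mem_centralizer_singleton_iff.2 hwv, hws⟩)
      have hx7 : x ∈ M7 := hinv w hw7 hw2 hw1 (mem_inf.2 ⟨mem_centralizer_singleton_iff.2 hxw, hxs⟩)
      have hx1 : x ≠ 1 := fun h => by
        rw [hx, conj_eq_one_iff] at h
        rw [h, orderOf_one] at huo
        norm_num at huo
      obtain ⟨i, hi, h | h⟩ := hclass x (hinvI x hx7 hx2) hx2 hx1
      · have hik : i * k ∈ centralizer ({u} : Set G) ⊓ centralizer ({s} : Set G) := by
          refine mem_inf.2 ⟨mem_centralizer_singleton_iff.2 ?_, mul_mem (hIs' hi) hk⟩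
          rw [← mul_inv_eq_iff_eq_mul]
          calc i * k * u * (i * k)⁻¹ = i * x * i⁻¹ := by rw [hx]; group
            _ = u := h
        have := mul_mem (inv_mem (show i ∈ M7 from mem_sup_right hi)) (hXu hik)
        rwa [inv_mul_cancel_left] at this
      · exact absurd (hxz.trans (isConj_iff.2 ⟨i, h⟩)) hvz
  -- the normaliser
  set Z := zpowers s with hZ
  set ρ := Z.normalizerMonoidHom with hρ
  have hCZ : centralizer (Z : Set G) = centralizer ({s} : Set G) := by
    rw [hZ, Subgroup.zpowers_eq_closure, Subgroup.centralizer_closure]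
  have hker : ρ.ker = (centralizer ({s} : Set G)).subgroupOf (normalizer (Z : Set G)) := by
    rw [hρ, Subgroup.normalizerMonoidHom_ker, hCZ]
  have hCN : centralizer ({s} : Set G) ≤ normalizer (Z : Set G) := hCZ ▸ centralizer_le_normalizer _
  have hnoinv : ∀ g ∈ normalizer (Z : Set G), g * s * g⁻¹ ≠ s⁻¹ := by
    intro g hg hgs
    have hgC : ∀ a ∈ centralizer ({s} : Set G), g * a * g⁻¹ ∈ centralizer ({s} : Set G) := fun a ha => by
      refine mem_centralizer_singleton_iff.2 ?_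
      have hs' : g * a * g⁻¹ * (g * s * g⁻¹) = g * s * g⁻¹ * (g * a * g⁻¹) := by
        calc g * a * g⁻¹ * (g * s * g⁻¹) = g * (a * s) * g⁻¹ := by group
          _ = _ := by rw [mem_centralizer_singleton_iff.1 ha]; group
      rw [hgs] at hs'
      have := ((show Commute (g * a * g⁻¹) s⁻¹ from hs').inv_right).eq
      rwa [inv_inv] at this
    set x := g * u * g⁻¹ with hx
    have hx7 : x ∈ M7 := hcent ▸ hgC u (mem_centralizer_singleton_iff.2 hsu.symm)
    have hx2 : x * x = 1 := by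
      rw [hx, show g * u * g⁻¹ * (g * u * g⁻¹) = g * (u * u) * g⁻¹ by group, hu2]; group
    have hxz : IsConj z x := huz.trans (isConj_iff.2 ⟨g, rfl⟩)
    have hx1 : x ≠ 1 := fun h => by
      rw [hx, conj_eq_one_iff] at h
      rw [h, orderOf_one] at huo
      norm_num at huo
    obtain ⟨i, hi, h | h⟩ := hclass x (hinvI x hx7 hx2) hx2 hx1
    · obtain ⟨k, hk⟩ := isConj_iff.1 huz.symm
      set g' := k * (i * g) * k⁻¹ with hg'
      have hg'z : g' ∈ centralizer ({z} : Set G) := by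
        refine mem_centralizer_singleton_iff.2 (mul_inv_eq_iff_eq_mul.1 ?_)
        calc g' * z * g'⁻¹ = g' * (k * u * k⁻¹) * g'⁻¹ := (congrArg (fun t => g' * t * g'⁻¹) hk).symm
          _ = k * (i * x * i⁻¹) * k⁻¹ := by rw [hg', hx]; group
          _ = k * u * k⁻¹ := by rw [h]
          _ = z := hk
      set d0 := k * s * k⁻¹ with hd0
      have hd0z : d0 ∈ centralizer ({z} : Set G) := by
        refine mem_centralizer_singleton_iff.2 ?_
        have e : d0 * (k * u * k⁻¹) = k * u * k⁻¹ * d0 := by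
          calc d0 * (k * u * k⁻¹) = k * (s * u) * k⁻¹ := by rw [hd0]; group
            _ = _ := by rw [hsu, hd0]; group
        rwa [hk] at e
      have hinvd : g' * d0 * g'⁻¹ = d0⁻¹ := by
        calc g' * d0 * g'⁻¹ = k * (i * (g * s * g⁻¹) * i⁻¹) * k⁻¹ := by rw [hg', hd0]; group
          _ = k * (i * s⁻¹ * i⁻¹) * k⁻¹ := by rw [hgs]
          _ = d0⁻¹ := by rw [((show Commute s i from hIs i hi).symm.inv_right).eq, hd0]; group
      obtain ⟨c, hc7, hco, hca⟩ := M.exists_seven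
      set d : ↥(centralizer ({z} : Set G)) := ⟨d0, hd0z⟩
      have hdo : orderOf d = 7 := by
        rw [← Subgroup.orderOf_coe]
        exact ((MulAut.conj k).orderOf_eq s).trans hs
      obtain ⟨y, hy⟩ := M.exists_conj_seven hco hdo
      obtain ⟨t, ht, e⟩ := (hy.ge (mem_zpowers c) : c ∈ (zpowers d).map (MulAut.conj y).toMonoidHom)
      obtain ⟨m, rfl⟩ := mem_zpowers_iff.1 ht
      refine M.no_invert hca hc7 (h := y * ⟨g', hg'z⟩ * y⁻¹) ?_
      have hd : (⟨g', hg'z⟩ : ↥(centralizer ({z} : Set G))) * d * ⟨g', hg'z⟩⁻¹ = d⁻¹ := Subtype.ext hinvd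
      have e' : y * d ^ m * y⁻¹ = c := e
      rw [← e']
      calc y * ⟨g', hg'z⟩ * y⁻¹ * (y * d ^ m * y⁻¹) * (y * ⟨g', hg'z⟩ * y⁻¹)⁻¹
          = y * ((⟨g', hg'z⟩ : ↥(centralizer ({z} : Set G))) * d * ⟨g', hg'z⟩⁻¹) ^ m * y⁻¹ := by
            rw [conj_zpow]; group
        _ = (y * d ^ m * y⁻¹)⁻¹ := by rw [hd, inv_zpow]; group
    · exact absurd (hxz.trans (isConj_iff.2 ⟨i, h⟩)) hvz
  -- an element of order three on the subgroup
  obtain ⟨φ, θ, -, -, hθ, hθker, -, hθ2⟩ := F.exists_theta Cc hT D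
  set sN : ↥(normalizer (M.eG : Set G)) := ⟨s, hsN⟩
  have hs7 : (θ sN) ^ 7 = 1 := by
    rw [← map_pow, show sN ^ 7 = 1 from Subtype.ext (by
      rw [SubmonoidClass.coe_pow]
      show s ^ 7 = 1
      rw [← hs, pow_orderOf_eq_one]), map_one]
  have hα1 : (θ sN).2 ≠ 1 := fun h => hsC (by
    have h2 : sN ∈ M.eG.normalizerMonoidHom.ker := MonoidHom.mem_ker.2 ((hθ2 sN).symm.trans h)
    rwa [Subgroup.normalizerMonoidHom_ker, mem_subgroupOf] at h2)
  have hπ1 : (θ sN).1 = 1 := by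
    have h1 := orderOf_dvd_of_pow_eq_one (show (θ sN).1 ^ 7 = 1 from congrArg Prod.fst hs7)
    have h2 := orderOf_dvd_natCard (θ sN).1
    rw [Nat.card_perm, Nat.card_fin] at h2
    exact orderOf_eq_one_iff.1 (Nat.eq_one_of_dvd_one (by
      have := Nat.dvd_gcd h1 h2
      rwa [show Nat.gcd 7 (Nat.factorial 5) = 1 by decide] at this))
  obtain ⟨β, hβn, hβc⟩ := Trio.mulAut_seven (fun a : ↥M.eG => Subtype.ext (M.eG_sq _ a.2)) M.card_eG (θ sN).2
    (orderOf_eq_prime (congrArg Prod.snd hs7) hα1)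
  obtain ⟨g, hg⟩ := hθ (1, β)
  set U := (zpowers (θ sN)).comap θ with hU
  have hUc : Nat.card ↥U = 7 * 2 ^ 15 := by
    have h := Subgroup.card_eq_card_quotient_mul_card_subgroup (θ.subgroupComap (zpowers (θ sN))).ker
    rw [Nat.card_congr (QuotientGroup.quotientKerEquivOfSurjective _
      (θ.subgroupComap_surjective_of_surjective _ hθ)).toEquiv, Nat.card_zpowers,
      orderOf_eq_prime hs7 (fun h => hα1 (congrArg Prod.snd h))] at h
    rw [hU, h]
    congr 1
    have e : Nat.card ↥(θ.subgroupComap (zpowers (θ sN))).ker = Nat.card ↥θ.ker := by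
      refine Nat.card_congr
        { toFun := fun a => ⟨a.1.1, congrArg Subtype.val (MonoidHom.mem_ker.1 a.2)⟩
          invFun := fun a => ⟨⟨a.1, by show θ a.1 ∈ zpowers (θ sN); rw [MonoidHom.mem_ker.1 a.2]; exact one_mem _⟩,
            MonoidHom.mem_ker.2 (Subtype.ext (MonoidHom.mem_ker.1 a.2))⟩
          left_inv := fun _ => rfl
          right_inv := fun _ => rfl }
    rw [e, hθker, Nat.card_congr (subgroupOfEquivOfLe M.lG_le_normalizer).toEquiv, M.card_lG]
  have hfacU : (Nat.card ↥U).factorization 7 = 1 := by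
    rw [hUc, Nat.factorization_mul (by norm_num) (by norm_num), Finsupp.add_apply,
      Nat.Prime.factorization_self (by norm_num), Nat.factorization_eq_zero_of_not_dvd (by norm_num)]
  have hsU : sN ∈ U := mem_zpowers (θ sN)
  have hgsU : g * sN * g⁻¹ ∈ U := by
    rw [hU, mem_comap]
    rw [map_mul, map_mul, map_inv, hg]
    obtain ⟨j, hj⟩ := mem_zpowers_iff.1 hβn
    refine ⟨j, Prod.ext ?_ ?_⟩
    · show (θ sN).1 ^ j = (1 : Equiv.Perm (Fin 5)) * (θ sN).1 * 1⁻¹
      rw [hπ1, one_zpow, one_mul, inv_one, mul_one]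
    · exact hj
  have hoU : ∀ x : ↥U, orderOf ((x : ↥(normalizer (M.eG : Set G))) : G) = 7 → orderOf x = 7 := fun x h => by
    rw [← Subgroup.orderOf_coe, ← Subgroup.orderOf_coe]; exact h
  let a : ↥U := ⟨g * sN * g⁻¹, hgsU⟩
  have ha7 : orderOf a = 7 := hoU a (((MulAut.conj (g : G)).orderOf_eq s).trans hs)
  let b : ↥U := ⟨sN, hsU⟩
  have hb7 : orderOf b = 7 := hoU b hs
  let Sa : Sylow 7 ↥U := Sylow.ofCard (zpowers a) (by rw [hfacU, Nat.card_zpowers, ha7, pow_one])
  let Sb : Sylow 7 ↥U := Sylow.ofCard (zpowers b) (by rw [hfacU, Nat.card_zpowers, hb7, pow_one])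
  obtain ⟨c, hc⟩ := MulAction.exists_smul_eq ↥U Sa Sb
  have hc' : c * a * c⁻¹ ∈ zpowers b := by
    have h : (zpowers a).map (MulAut.conj c).toMonoidHom = zpowers b := by
      rw [show zpowers b = (Sb : Subgroup _) from rfl, ← hc]; rfl
    exact h.le ⟨a, mem_zpowers a, rfl⟩
  set f : ↥(normalizer (M.eG : Set G)) := c.1 * g with hf
  obtain ⟨j, hj⟩ := mem_zpowers_iff.1 hc'
  have hfs : (f : G) * s * (f : G)⁻¹ = s ^ j := by
    have h := congrArg (fun t : ↥U => ((t : ↥(normalizer (M.eG : Set G))) : G)) hj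
    simp only [a, b, SubgroupClass.coe_zpow, Subgroup.coe_mul, InvMemClass.coe_inv] at h
    rw [hf, Subgroup.coe_mul, show s ^ j = ((sN : G)) ^ j from rfl, h]
    group
    rfl
  have hfN : (f : G) ∈ normalizer (Z : Set G) := by
    refine mem_normalizer_fintype fun v hv => ?_
    obtain ⟨i, rfl⟩ := mem_zpowers_iff.1 hv
    rw [← conj_zpow, hfs]
    exact zpow_mem (zpow_mem (mem_zpowers _) j) i
  have hfC : (f : G) ∉ centralizer ({s} : Set G) := fun h => by
    have e : f * sN = sN * f := Subtype.ext (mem_centralizer_singleton_iff.1 h)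
    have e1 : (θ f).2 * (θ sN).2 = (θ sN).2 * (θ f).2 := by
      rw [← Prod.snd_mul, ← map_mul, e, map_mul, Prod.snd_mul]
    obtain ⟨m, hm⟩ := mem_zpowers_iff.1 (show θ c.1 ∈ zpowers (θ sN) from c.2)
    rw [hf, map_mul, Prod.snd_mul, hg, ← hm, Prod.pow_snd] at e1
    refine hβc (mul_left_cancel (a := (θ sN).2 ^ m) ?_)
    rw [← mul_assoc, e1, ← mul_assoc, ← mul_assoc, (Commute.refl (θ sN).2).zpow_right m |>.eq]
  have hZc : Nat.card ↥Z = 7 := by rw [hZ, Nat.card_zpowers, hs]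
  have hrange : Nat.card ↥ρ.range = 3 := by
    have hdvd : Nat.card ↥ρ.range ∣ 6 := by
      refine (Subgroup.card_subgroup_dvd_card _).trans ?_
      rw [IsCyclic.card_mulAut, hZc, Nat.totient_prime (by norm_num)]
    have hodd : ¬ 2 ∣ Nat.card ↥ρ.range := fun h => by
      obtain ⟨w, hw⟩ := exists_prime_orderOf_dvd_card' (G := ↥ρ.range) 2 h
      obtain ⟨n, hn⟩ := MonoidHom.mem_range.1 w.2
      have hα : orderOf (ρ n) = 2 := by rw [hn, Subgroup.orderOf_coe]; exact hw
      have hgen : ((⟨s, mem_zpowers s⟩ : ↥Z)) ≠ 1 := fun e => by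
        have : s = 1 := congrArg Subtype.val e
        rw [this, orderOf_one] at hs; norm_num at hs
      obtain ⟨k, hk⟩ := mem_zpowers_iff.1 ((Subgroup.mem_normalizer_iff.1 n.2 s).1 (mem_zpowers s))
      have hsq : (n : G) * ((n : G) * s * (n : G)⁻¹) * (n : G)⁻¹ = s := by
        have h2 : ρ n * ρ n = 1 := by rw [← pow_two, ← hα, pow_orderOf_eq_one]
        exact congrArg Subtype.val (DFunLike.congr_fun h2 (⟨s, mem_zpowers s⟩ : ↥Z))
      rw [← hk, ← conj_zpow, ← hk, ← zpow_mul] at hsq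
      have hmod : ((7 : ℤ) ∣ k * k - 1) := by
        have h : s ^ (k * k - 1) = 1 := by rw [zpow_sub, hsq, zpow_one, mul_inv_cancel]
        have := orderOf_dvd_iff_zpow_eq_one.2 h
        rwa [hs] at this
      have hcases : (7 : ℤ) ∣ k - 1 ∨ (7 : ℤ) ∣ k + 1 := by
        have : k * k - 1 = (k - 1) * (k + 1) := by ring
        rw [this] at hmod
        exact (Int.prime_iff_natAbs_prime.2 (by norm_num)).dvd_mul.1 hmod
      rcases hcases with hd | hd
      · have hk1 : s ^ k = s := by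
          have := orderOf_dvd_iff_zpow_eq_one.1 (show ((orderOf s : ℕ) : ℤ) ∣ k - 1 by rw [hs]; exact hd)
          rw [zpow_sub, zpow_one, mul_inv_eq_one] at this
          exact this
        have : n ∈ ρ.ker := by
          rw [hker, mem_subgroupOf]
          exact mem_centralizer_singleton_iff.2 (mul_inv_eq_iff_eq_mul.1 (hk.symm.trans hk1))
        rw [MonoidHom.mem_ker.1 this, orderOf_one] at hα
        norm_num at hα
      · refine hnoinv n n.2 ?_
        have := orderOf_dvd_iff_zpow_eq_one.1 (show ((orderOf s : ℕ) : ℤ) ∣ k + 1 by rw [hs]; exact hd)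
        rw [zpow_add_one] at this
        rw [← hk]
        exact eq_inv_of_mul_eq_one_left this
    have hne : Nat.card ↥ρ.range ≠ 1 := fun h => hfC (by
      have hb := Subgroup.card_eq_one.1 h
      have hm : ρ ⟨f, hfN⟩ ∈ ρ.range := ⟨_, rfl⟩
      rw [hb, mem_bot, ← MonoidHom.mem_ker, hker, mem_subgroupOf] at hm
      exact hm)
    obtain ⟨q, hq⟩ := hdvd
    have hle : Nat.card ↥ρ.range ≤ 6 := Nat.le_of_dvd (by norm_num) ⟨q, hq⟩
    interval_cases Nat.card ↥ρ.range <;> omega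
  have hNcard : Nat.card ↥(normalizer (Z : Set G)) = 2520 := by
    rw [Subgroup.card_eq_card_quotient_mul_card_subgroup ρ.ker,
      Nat.card_congr (QuotientGroup.quotientKerEquivRange ρ).toEquiv, hrange, hker,
      Nat.card_congr (subgroupOfEquivOfLe hCN).toEquiv, hcent, hM7c]
  have hM7N : centralizer ({s} : Set G) ≤ normalizer (M.eG : Set G) := by
    rw [hcent]
    exact sup_le (zpowers_le.2 hsN) (hIC.trans (centralizer_le_normalizer _))
  have hNle : normalizer (Z : Set G) ≤ normalizer (M.eG : Set G) := by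
    intro n hn
    have hgen : zpowers (ρ ⟨f, hfN⟩) = ρ.range := by
      haveI : Fact (Nat.Prime 3) := ⟨Nat.prime_three⟩
      refine Subgroup.eq_of_le_of_card_ge (zpowers_le.2 ⟨_, rfl⟩) ?_
      rw [hrange, Nat.card_zpowers]
      have h3 : orderOf (ρ ⟨f, hfN⟩) ∣ 3 := hrange ▸ Subgroup.orderOf_dvd_natCard _ ⟨_, rfl⟩
      rcases (Nat.dvd_prime Nat.prime_three).1 h3 with h | h
      · exfalso
        refine hfC ?_
        have := orderOf_eq_one_iff.1 h
        rw [← MonoidHom.mem_ker, hker, mem_subgroupOf] at this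
        exact this
      · rw [h]
    obtain ⟨i, hi⟩ := mem_zpowers_iff.1 (hgen.symm ▸ (⟨_, rfl⟩ : ρ ⟨n, hn⟩ ∈ ρ.range) : ρ ⟨n, hn⟩ ∈ zpowers (ρ ⟨f, hfN⟩))
    have hk : (⟨f, hfN⟩ : ↥(normalizer (Z : Set G))) ^ (-i) * ⟨n, hn⟩ ∈ ρ.ker := by
      rw [MonoidHom.mem_ker, map_mul, map_zpow, ← hi, ← zpow_add, neg_add_cancel, zpow_zero]
    rw [hker, mem_subgroupOf, Subgroup.coe_mul, SubgroupClass.coe_zpow] at hk
    have := mul_mem (zpow_mem f.2 i) (hM7N hk)
    rwa [← mul_assoc, ← zpow_add, add_neg_cancel, zpow_zero, one_mul] at this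
  exact ⟨s, I, hs, hzs, hIs', hIs, hdisj, hcent.symm, ⟨ψ⟩, hIC.trans (centralizer_le_normalizer _),
    hcent ▸ hM7c, hNcard, hNle, u, huz, hsu⟩

/-- The square of seven does not divide the order of the group. -/
theorem not_sq_dvd_seven : ¬ (49 ∣ Nat.card G) := by
  intro h
  haveI : Fact (Nat.Prime 7) := ⟨by norm_num⟩
  obtain ⟨s, I, hs, -, -, -, -, -, -, -, hc, -, -, -⟩ := F.seven_core Cc hT D hinto
  obtain ⟨S, hS, hle⟩ := Sylow.exists_subgroup_card_pow_prime_le (p := 7) (n := 1) (m := 2)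
    (show 7 ^ 2 ∣ Nat.card G by norm_num; exact h) (zpowers s)
    (by rw [Nat.card_zpowers, hs, pow_one]) (by norm_num)
  haveI : IsMulCommutative ↥S := IsPGroup.isMulCommutative_of_card_eq_prime_sq (p := 7) hS
  have hSK : S ≤ centralizer ({s} : Set G) := fun x hx => mem_centralizer_singleton_iff.2
    (congrArg Subtype.val (IsMulCommutative.is_comm.comm (⟨x, hx⟩ : ↥S) ⟨_, hle (mem_zpowers _)⟩))
  have hdvd := card_dvd_of_le hSK
  rw [hS, hc] at hdvd
  norm_num at hdvd

end Model.Five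

namespace Model

variable {G : Type*} [Group G] [Finite G] {z : G} {P : Subgroup G} (M : Model z P)

/-- The local structure at seven for any subgroup of order seven of the centraliser of the involution. -/
theorem seven_local {B : BigData M} (Cc : BigCoords B)
    (hT : ∀ n < 2048, (Orb.tMask.testBit n = true ↔ n ≠ 0 ∧ ¬ IsConj z (Cc.el n))) (D : BigPack z B.V)
    (hinto : ∀ t : G, orderOf t = 2 → ∃ g : G, g * t * g⁻¹ ∈ B.V)
    (S : Subgroup G) (hS : Nat.card ↥S = 7) (hSz : S ≤ centralizer ({z} : Set G)) :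
    ¬ (49 ∣ Nat.card G) ∧
    (∃ I : Subgroup G, Cfsg.IsInternalDirectProduct S I (centralizer (S : Set G)) ∧
      Nonempty (↥I ≃* Equiv.Perm (Fin 5))) ∧
    Nat.card ↥(normalizer (S : Set G)) = 3 * Nat.card ↥(centralizer (S : Set G)) ∧
    Nat.card ↥(normalizer (S : Set G)) = 2 ^ 3 * 3 ^ 2 * 5 * 7 := by
  haveI : Fact (Nat.Prime 7) := ⟨by norm_num⟩
  obtain ⟨F⟩ := M.exists_five
  obtain ⟨s, I, hs, hzs, hIs', hIs, hdisj, hsup, ⟨ψ⟩, -, hc, hN, -, u, huz, hsu⟩ := F.seven_core Cc hT D hinto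
  obtain ⟨k, hk⟩ := isConj_iff.1 huz.symm
  obtain ⟨d, hd⟩ := exists_prime_orderOf_dvd_card' (G := ↥S) 7 (by rw [hS])
  have hSd : S = zpowers (d : G) := (Subgroup.eq_of_le_of_card_ge (zpowers_le.2 d.2)
    (by rw [Nat.card_zpowers, Subgroup.orderOf_coe, hd, hS])).symm
  have hkz : k * s * k⁻¹ ∈ centralizer ({z} : Set G) := by
    refine mem_centralizer_singleton_iff.2 ?_
    have e : k * s * k⁻¹ * (k * u * k⁻¹) = k * u * k⁻¹ * (k * s * k⁻¹) := by
      calc k * s * k⁻¹ * (k * u * k⁻¹) = k * (s * u) * k⁻¹ := by group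
        _ = _ := by rw [hsu]; group
    rwa [hk] at e
  obtain ⟨y, hy⟩ := M.exists_conj_seven (c := ⟨(d : G), hSz d.2⟩) (d := ⟨k * s * k⁻¹, hkz⟩)
    (by rw [← Subgroup.orderOf_coe]; exact (Subgroup.orderOf_coe d).trans hd)
    (by rw [← Subgroup.orderOf_coe]; exact ((MulAut.conj k).orderOf_eq s).trans hs)
  set σ : G ≃* G := MulAut.conj ((y : G) * k) with hσ
  have hmap : (zpowers s).map σ.toMonoidHom = S := by
    rw [hSd]
    have h := congrArg (Subgroup.map (centralizer ({z} : Set G)).subtype) hy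
    rw [Subgroup.map_map, MonoidHom.map_zpowers, MonoidHom.map_zpowers] at h
    rw [MonoidHom.map_zpowers]
    have e : σ.toMonoidHom s = ((centralizer ({z} : Set G)).subtype.comp (MulAut.conj y).toMonoidHom)
        ⟨k * s * k⁻¹, hkz⟩ := by
      show (y : G) * k * s * ((y : G) * k)⁻¹ = (y : G) * (k * s * k⁻¹) * (y : G)⁻¹
      group
    rw [e]
    exact h
  have hcs : centralizer (zpowers s : Set G) = centralizer ({s} : Set G) := by
    rw [Subgroup.zpowers_eq_closure, Subgroup.centralizer_closure]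
  have hcent : (centralizer ({s} : Set G)).map σ.toMonoidHom = centralizer (S : Set G) := by
    rw [← hmap, ← hcs]
    ext g
    simp only [mem_map, mem_centralizer_iff, coe_map, Set.forall_mem_image]
    constructor
    · rintro ⟨a, ha, rfl⟩ b hb
      rw [← map_mul, ha b hb, map_mul]
    · intro h
      refine ⟨σ.symm g, fun b hb => σ.injective ?_, σ.apply_symm_apply g⟩
      rw [map_mul, map_mul, σ.apply_symm_apply]
      exact h hb
  have hnorm : (normalizer (zpowers s : Set G)).map σ.toMonoidHom = normalizer (S : Set G) := by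
    rw [← hmap, map_equiv_normalizer_eq]
  refine ⟨F.not_sq_dvd_seven Cc hT D hinto, ⟨I.map σ.toMonoidHom,
    ⟨hmap.symm.le.trans ((map_mono hzs).trans hcent.le), (map_mono hIs').trans hcent.le, ?_, ?_, ?_⟩,
    ⟨(I.equivMapOfInjective σ.toMonoidHom σ.injective).symm.trans ψ⟩⟩, ?_, ?_⟩
  · rw [← hmap]
    rintro _ ⟨a, ha, rfl⟩ _ ⟨b, hb, rfl⟩
    obtain ⟨j, rfl⟩ := mem_zpowers_iff.1 ha
    rw [← map_mul, ((show Commute s b from hIs b hb).zpow_left j).eq, map_mul]
  · rw [← hmap, ← map_inf _ _ _ σ.injective, hdisj, Subgroup.map_bot]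
  · rw [← hmap, ← Subgroup.map_sup, hsup, hcent, hmap]
  · rw [← hnorm, ← hcent, card_map_of_injective σ.injective, card_map_of_injective σ.injective, hN, hc]
  · rw [← hnorm, card_map_of_injective σ.injective, hN]
    norm_num

end Model

end Cfsg.Agent.JankoFour
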