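import Cfsg.Agent.Lib.JankoFour.OrbitClassify
import Cfsg.Agent.Lib.JankoFour.BigPack
import Cfsg.Agent.Lib.LargeFischer.BigPairs

/-!
The normaliser of the large abelian subgroup acts as the Mathieu group on pairs of points: the package.
-/

set_option autoImplicit false
set_option linter.unusedSectionVars false
set_option maxRecDepth 100000

namespace Cfsg.Agent.JankoFour

open Subgroup
open Cfsg (GolayPt M24 golayCode supports)
open Cfsg.Agent.LargeFischer (QG)
open Cfsg.Agent.LargeFischer.Big (ev ev_symmDiff ev_lt ev_empty ev_pair pair_isN exists_pair pair_inj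
  ev_supports supports_of_ev card_symmDiff_mod triangle exists_perm perm_unique isN_span isN pp)
open Cfsg.Agent.J4Module (app)
open scoped symmDiff Pointwise

variable {G : Type*} [Group G] [Finite G] {z : G} {P : Subgroup G}

theorem even_set_onto : ∀ i < 2048, ∃ S : Finset GolayPt, S.card % 2 = 0 ∧ ev S = i := by
  have pairSet : ∀ p q : ℕ, p < 24 → q < 24 → ∃ S : Finset GolayPt, S.card % 2 = 0 ∧ ev S = pp p ^^^ pp q := by
    intro p q hp hq
    by_cases h : p = q
    · exact ⟨∅, rfl, by rw [ev_empty, h, Nat.xor_self]⟩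
    have hne : Cfsg.Agent.Golay.pt ⟨p, hp⟩ ≠ Cfsg.Agent.Golay.pt ⟨q, hq⟩ := fun e => by
      have := congrArg Cfsg.Agent.Golay.idx e
      rw [Cfsg.Agent.Golay.idx_pt, Cfsg.Agent.Golay.idx_pt] at this
      exact h this
    exact ⟨_, by rw [Finset.card_pair hne], by rw [ev_pair hne, Cfsg.Agent.Golay.idx_pt, Cfsg.Agent.Golay.idx_pt]⟩
  have basis : ∀ n < 11, ∃ S : Finset GolayPt, S.card % 2 = 0 ∧ ev S = 2 ^ n := by
    intro n hn
    obtain ⟨p, hp, q, hq, r, hr, s, hs, e⟩ := isN_span n hn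
    obtain ⟨S, hS, hSe⟩ := pairSet p q hp hq
    obtain ⟨T, hT, hTe⟩ := pairSet r s hr hs
    rcases e with e | e
    · exact ⟨S ∆ T, by rw [card_symmDiff_mod]; omega, by rw [ev_symmDiff, hSe, hTe, e]⟩
    · exact ⟨S, hS, hSe.trans e⟩
  have key : ∀ n ≤ 11, ∀ i < 2 ^ n, ∃ S : Finset GolayPt, S.card % 2 = 0 ∧ ev S = i := by
    intro n
    induction n with
    | zero => intro _ i hi; exact ⟨∅, rfl, by rw [ev_empty, show i = 0 by simpa using hi]⟩
    | succ n ih =>
      intro hn i hi
      by_cases hlt : i < 2 ^ n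
      · exact ih (by omega) i hlt
      · have hb : i ^^^ 2 ^ n < 2 ^ n := by
          refine Nat.lt_pow_two_of_testBit _ fun j hj => ?_
          rw [Nat.testBit_xor, Nat.testBit_two_pow]
          rcases eq_or_lt_of_le hj with rfl | hj'
          · simp only [decide_true, Bool.xor_true, Bool.not_eq_false']
            rw [Nat.testBit_eq_decide_div_mod_eq, decide_eq_true_iff, pow_succ] at *
            have h1 : i / 2 ^ n = 1 := Nat.div_eq_of_lt_le (by omega) (by omega)
            rw [h1]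
          · rw [Nat.testBit_lt_two_pow (lt_of_lt_of_le hi (Nat.pow_le_pow_right (by norm_num) hj'))]
            simp
            omega
        obtain ⟨S, hS, hSe⟩ := ih (by omega) _ hb
        obtain ⟨T, hT, hTe⟩ := basis n (by omega)
        exact ⟨S ∆ T, by rw [card_symmDiff_mod]; omega,
          by rw [ev_symmDiff, hSe, hTe, Nat.xor_assoc, Nat.xor_self, Nat.xor_zero]⟩
  exact key 11 le_rfl

namespace BigCoords

variable {M : Model z P} {B : BigData M} (C : BigCoords B)
include C

/-- The element of a set of points. -/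
def eS (S : Finset GolayPt) : G := C.el (app pairCols (ev S))

theorem eS_lt (S : Finset GolayPt) : app pairCols (ev S) < 2048 := (Orb.pair_bij _ (ev_lt S)).1

theorem eS_mem (S : Finset GolayPt) : C.eS S ∈ B.V := C.el_mem _ (C.eS_lt S)

theorem eS_symmDiff (S T : Finset GolayPt) : C.eS (S ∆ T) = C.eS S * C.eS T := by
  rw [eS, eS, eS, ev_symmDiff, app_xor, C.el_xor _ (C.eS_lt S) _ (C.eS_lt T)]

theorem eS_inj {S T : Finset GolayPt} (h : C.eS S = C.eS T) : ev S = ev T := by
  have h1 := C.el_inj _ (C.eS_lt S) _ (C.eS_lt T) h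
  rw [← (Orb.pair_bij _ (ev_lt S)).2.2.2, ← (Orb.pair_bij _ (ev_lt T)).2.2.2, h1]

theorem eS_empty : C.eS ∅ = 1 := by
  rw [eS, ev_empty, J4Module.app_zero, C.el_zero]

variable (hT : ∀ n < 2048, (Orb.tMask.testBit n = true ↔ n ≠ 0 ∧ ¬ IsConj z (C.el n)))
include hT

theorem isN_iff (S : Finset GolayPt) : isN (ev S) = true ↔ C.eS S ≠ 1 ∧ ¬ IsConj z (C.eS S) := by
  rw [Orb.bridge _ (ev_lt S), hT _ (C.eS_lt S)]
  refine and_congr_left fun _ => ⟨fun h => C.el_ne_one (C.eS_lt S) h, fun h e => h ?_⟩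
  rw [eS, e, C.el_zero]

theorem duad_spec {p q : GolayPt} (h : p ≠ q) : C.eS {p, q} ≠ 1 ∧ ¬ IsConj z (C.eS {p, q}) :=
  (C.isN_iff hT _).1 (pair_isN h)

theorem exists_image {m : G} (hm : m ∈ normalizer (B.V : Set G)) {S : Finset GolayPt} (hS : S.card = 2) :
    ∃ T : Finset GolayPt, T.card = 2 ∧ C.eS T = m * C.eS S * m⁻¹ := by
  obtain ⟨p, q, hpq, rfl⟩ := Finset.card_eq_two.1 hS
  obtain ⟨h1, hn⟩ := C.duad_spec hT hpq
  obtain ⟨n, hn', e⟩ := C.el_surj _ ((Subgroup.mem_normalizer_iff.1 hm _).1 (C.eS_mem {p, q}))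
  obtain ⟨U, -, hU⟩ := even_set_onto _ (Orb.pair_bij n hn').2.1
  have heU : C.eS U = m * C.eS {p, q} * m⁻¹ := by
    rw [← e, eS, hU, (Orb.pair_bij n hn').2.2.1]
  have hN : isN (ev U) = true := (C.isN_iff hT U).2 ⟨by rw [heU]; exact fun h => h1 (conj_eq_one_iff.1 h),
    by rw [heU, isConj_conj_iff]; exact hn⟩
  obtain ⟨T, hTc, hTe⟩ := exists_pair (ev_lt U) hN
  exact ⟨T, hTc, by rw [← heU, eS, eS, hTe]⟩

theorem exists_pi {m : G} (hm : m ∈ normalizer (B.V : Set G)) :
    ∃ π : Equiv.Perm GolayPt, ∀ p q, p ≠ q → m * C.eS {p, q} * m⁻¹ = C.eS {π p, π q} := by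
  classical
  choose f hf2 hfe using fun S hS => C.exists_image hT hm (S := S) hS
  let F : Finset GolayPt → Finset GolayPt := fun S => if h : S.card = 2 then f S h else ∅
  have hF2 : ∀ S, S.card = 2 → (F S).card = 2 := fun S h => by simp [F, h, hf2]
  have hFe : ∀ S, S.card = 2 → C.eS (F S) = m * C.eS S * m⁻¹ := fun S h => by simp [F, h, hfe]
  obtain ⟨π, hπ⟩ := exists_perm F hF2 (fun S T hS hT e => by
    have h := congrArg C.eS e
    rw [hFe S hS, hFe T hT] at h
    exact pair_inj hS hT (C.eS_inj (mul_left_cancel (mul_right_cancel h))))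
    (fun S T hS hT hST => triangle (hF2 S hS) (hF2 T hT) (hF2 _ hST) (by
      rw [← ev_symmDiff]
      apply C.eS_inj
      rw [C.eS_symmDiff, hFe S hS, hFe T hT, hFe _ hST, C.eS_symmDiff]
      group))
  exact ⟨π, fun p q hpq => by rw [← hπ p q hpq, hFe _ (Finset.card_pair hpq)]⟩

omit hT in
theorem pi_even {m : G} {π : Equiv.Perm GolayPt}
    (h : ∀ p q, p ≠ q → m * C.eS {p, q} * m⁻¹ = C.eS {π p, π q}) :
    ∀ S : Finset GolayPt, S.card % 2 = 0 → m * C.eS S * m⁻¹ = C.eS (π • S) := by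
  intro S
  induction S using Finset.strongInduction with
  | _ S ih =>
    intro he
    rcases Nat.eq_zero_or_pos S.card with h0 | h0
    · rw [Finset.card_eq_zero.1 h0, Finset.smul_finset_empty, C.eS_empty]
      group
    obtain ⟨a, ha⟩ := Finset.card_pos.1 h0
    obtain ⟨b, hb⟩ := Finset.card_pos.1 (show 0 < (S.erase a).card by rw [Finset.card_erase_of_mem ha]; omega)
    have hab : a ≠ b := fun e => (Finset.mem_erase.1 hb).1 e.symm
    have hsub : ({a, b} : Finset GolayPt) ⊆ S :=
      Finset.insert_subset ha (Finset.singleton_subset_iff.2 (Finset.mem_erase.1 hb).2)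
    have hc2 : (S \ {a, b}).card + 2 = S.card := by
      have := Finset.card_sdiff_add_card_eq_card hsub
      rwa [Finset.card_pair hab] at this
    have hU : S = ({a, b} : Finset GolayPt) ∆ (S \ {a, b}) := by
      ext x
      simp only [Finset.mem_symmDiff, Finset.mem_sdiff]
      by_cases hx : x ∈ ({a, b} : Finset GolayPt)
      · simp [hx, hsub hx]
      · simp [hx]
    have hlt : S \ {a, b} ⊂ S := (Finset.ssubset_iff_of_subset Finset.sdiff_subset).2
      ⟨a, ha, fun h => (Finset.mem_sdiff.1 h).2 (Finset.mem_insert_self a {b})⟩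
    conv_lhs => rw [hU]
    conv_rhs => rw [hU]
    rw [Finset.smul_finset_symmDiff, C.eS_symmDiff, C.eS_symmDiff, ← ih _ hlt (by omega),
      Finset.smul_finset_insert, Finset.smul_finset_singleton]
    show m * (C.eS {a, b} * C.eS (S \ {a, b})) * m⁻¹ = C.eS {π a, π b} * (m * C.eS (S \ {a, b}) * m⁻¹)
    rw [← h a b hab]
    group

omit hT in
theorem pi_mem {m : G} {π : Equiv.Perm GolayPt}
    (h : ∀ p q, p ≠ q → m * C.eS {p, q} * m⁻¹ = C.eS {π p, π q}) : π ∈ M24 := by
  rw [Cfsg.Agent.Golay.mem_M24_iff]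
  intro S hS
  obtain ⟨he, h0⟩ := ev_supports hS
  refine supports_of_ev (by rw [Finset.card_smul_finset]; exact he) ?_
  have h1 := C.pi_even h S he
  rw [eS, h0, J4Module.app_zero, C.el_zero, mul_one, mul_inv_cancel] at h1
  rw [← ev_empty]
  exact C.eS_inj (h1.symm.trans C.eS_empty.symm)

/-- The action on the points. -/
theorem exists_hom (hcard : Nat.card ↥(normalizer (B.V : Set G)) = 1771 * (2 ^ 21 * 135)) :
    ∃ Φ : ↥(normalizer (B.V : Set G)) →* ↥M24,
      (∀ m p q, p ≠ q → m.1 * C.eS {p, q} * m.1⁻¹ = C.eS {(Φ m).1 p, (Φ m).1 q}) ∧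
        Φ.ker = B.V.subgroupOf (normalizer (B.V : Set G)) ∧ Function.Surjective Φ := by
  set N := normalizer (B.V : Set G) with hN
  choose π hπ using fun m : ↥N => C.exists_pi hT m.2
  have hu : ∀ (m : ↥N) (ρ : Equiv.Perm GolayPt),
      (∀ p q, p ≠ q → m.1 * C.eS {p, q} * m.1⁻¹ = C.eS {ρ p, ρ q}) → π m = ρ := fun m ρ h =>
    perm_unique fun p q hpq => pair_inj (Finset.card_pair ((π m).injective.ne hpq))
      (Finset.card_pair (ρ.injective.ne hpq)) (C.eS_inj ((hπ m p q hpq).symm.trans (h p q hpq)))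
  let Φ : ↥N →* ↥M24 := MonoidHom.mk' (fun m => ⟨π m, C.pi_mem (hπ m)⟩) fun m n =>
    Subtype.ext (hu _ _ fun p q hpq => by
      show m.1 * n.1 * C.eS {p, q} * (m.1 * n.1)⁻¹ = C.eS {π m (π n p), π m (π n q)}
      rw [← hπ m _ _ ((π n).injective.ne hpq), ← hπ n p q hpq]
      group)
  have hker : Φ.ker = B.V.subgroupOf N := by
    ext m
    rw [MonoidHom.mem_ker, mem_subgroupOf, Subtype.ext_iff]
    show π m = 1 ↔ _
    constructor
    · intro h1
      rw [← B.cent, mem_centralizer_iff]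
      intro a ha
      obtain ⟨n, hn, rfl⟩ := C.el_surj a ha
      obtain ⟨S, hS, hSe⟩ := even_set_onto _ (Orb.pair_bij n hn).2.1
      have heq : C.el n = C.eS S := by rw [eS, hSe, (Orb.pair_bij n hn).2.2.1]
      have h2 := C.pi_even (hπ m) S hS
      rw [h1, one_smul] at h2
      rw [heq]
      exact (mul_inv_eq_iff_eq_mul.1 h2).symm
    · intro hm
      refine hu m 1 fun p q _ => ?_
      have h1 : m.1 ∈ centralizer (B.V : Set G) := B.cent.symm ▸ hm
      have hcm : C.eS {p, q} * m.1 = m.1 * C.eS {p, q} := mem_centralizer_iff.1 h1 _ (C.eS_mem _)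
      rw [← hcm, mul_inv_cancel_right]
      rfl
  refine ⟨Φ, fun m p q h => hπ m p q h, hker, ?_⟩
  refine MonoidHom.range_eq_top.1 (Subgroup.eq_top_of_le_card _ ?_)
  have h1 := Subgroup.card_eq_card_quotient_mul_card_subgroup Φ.ker
  rw [Nat.card_congr (QuotientGroup.quotientKerEquivRange Φ).toEquiv, hker,
    Nat.card_congr (subgroupOfEquivOfLe (show B.V ≤ N from le_normalizer)).toEquiv, B.card, hcard] at h1
  rw [Cfsg.Agent.Golay.card_M24]
  omega

/-- The package. -/
theorem exists_pack_eq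
    (hcard : Nat.card ↥(normalizer (B.V : Set G)) = 1771 * (2 ^ 21 * 135))
    (hcent : ∀ t ∈ B.V, t ≠ 1 → t ≠ z → (∀ x : ↥(QG M.Q), (x : G) = t → cls (M.vec x) = 2) →
      centralizer ({z} : Set G) ⊓ centralizer ({t} : Set G) ≤ normalizer (B.V : Set G)) :
    ∃ D : BigPack z B.V, D.eS = C.eS := by
  obtain ⟨Φ, hΦ, hker, hsurj⟩ := C.exists_hom hT hcard
  exact ⟨{
    sq := B.sq
    card := B.card
    z_mem := B.z_mem
    cent := B.cent
    unique := B.unique
    conjugate := B.conjugate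
    fusion := B.fusion
    eS := C.eS
    eS_mem := C.eS_mem
    eS_symmDiff := fun S T _ _ => C.eS_symmDiff S T
    eS_surj := fun a ha => by
      obtain ⟨n, hn, rfl⟩ := C.el_surj a ha
      obtain ⟨S, hS, hSe⟩ := even_set_onto _ (Orb.pair_bij n hn).2.1
      obtain ⟨T, hT4, hcos⟩ := Cfsg.Agent.Golay.exists_light_set S
      obtain ⟨hev, h0⟩ := ev_supports hcos
      rw [card_symmDiff_mod] at hev
      refine ⟨T, Nat.even_iff.2 (by omega), hT4, ?_⟩
      rw [ev_symmDiff, Nat.xor_eq_zero_iff] at h0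
      rw [eS, ← h0, hSe, (Orb.pair_bij n hn).2.2.1]
    eS_eq_one := fun S hS => by
      constructor
      · intro h
        refine supports_of_ev (Nat.even_iff.1 hS) ?_
        rw [← ev_empty]
        exact C.eS_inj (h.trans C.eS_empty.symm)
      · intro h
        rw [eS, (ev_supports h).2, J4Module.app_zero, C.el_zero]
    phi := Φ
    phi_surj := hsurj
    phi_ker := hker
    eS_equiv := fun n S hS => by
      rw [C.pi_even (hΦ n) S (Nat.even_iff.1 hS)]
      rfl
    pair_not_conj := fun S hS => by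
      obtain ⟨p, q, hpq, rfl⟩ := Finset.card_eq_two.1 hS
      exact (C.duad_spec hT hpq).2
    four_conj := fun S hS => by
      by_contra h
      have hne : C.eS S ≠ 1 := fun e => by
        have := Cfsg.Agent.Golay.supp_zero_or_le (supports_of_ev (S := S) (by rw [hS])
          (by rw [← ev_empty]; exact C.eS_inj (e.trans C.eS_empty.symm)))
        rcases this with e' | e'
        · rw [e'] at hS; simp at hS
        · omega
      obtain ⟨T, hTc, hTe⟩ := exists_pair (ev_lt S) ((C.isN_iff hT S).2 ⟨hne, h⟩)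
      have hmod := card_symmDiff_mod S T
      rcases Cfsg.Agent.Golay.supp_zero_or_le (supports_of_ev (S := S ∆ T) (by omega)
          (by rw [ev_symmDiff, hTe, Nat.xor_self])) with e' | e'
      · rw [← Finset.bot_eq_empty, symmDiff_eq_bot] at e'
        rw [e'] at hS
        omega
      · have := (Finset.card_le_card (symmDiff_le_sup (a := S) (b := T))).trans (Finset.card_union_le _ _)
        omega
    cent_pair := fun v hv t ht hvz ht1 htc => by
      obtain ⟨g, hg⟩ := isConj_iff.1 hvz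
      obtain ⟨n, hn, e⟩ := B.fusion z B.z_mem g (hg ▸ hv)
      rw [hg] at e
      set t' := n⁻¹ * t * n with ht'
      have ht'V : t' ∈ B.V := by
        have := (Subgroup.mem_normalizer_iff.1 (inv_mem hn) t).1 ht
        rwa [inv_inv] at this
      have ht'c : ¬ IsConj z t' := fun h => htc (by
        rw [← isConj_conj_iff n⁻¹ t, inv_inv]; exact h)
      have ht'1 : t' ≠ 1 := fun h => ht1 (by
        rw [show t = n * t' * n⁻¹ by rw [ht']; group, h]; group)
      have ht'z : t' ≠ z := fun h => ht'c (h ▸ IsConj.refl _)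
      intro c hc
      have hc1 := mem_centralizer_singleton_iff.1 hc.1
      have hc2 := mem_centralizer_singleton_iff.1 hc.2
      have hmem : n⁻¹ * c * n ∈ normalizer (B.V : Set G) := by
        refine hcent t' ht'V ht'1 ht'z (fun x hx => ?_) ⟨?_, ?_⟩
        · obtain ⟨k, hk, hke⟩ := C.el_surj t' ht'V
          have hk0 : k ≠ 0 := fun e0 => ht'1 (by rw [← hke, e0, C.el_zero])
          have hm := (hT k hk).2 ⟨hk0, hke ▸ ht'c⟩
          have hq : k / 64 % 16 = 0 := (C.el_mem_Q k hk).1 (by rw [hke, ← hx]; exact x.2)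
          rw [C.el_vec k hk x (hx.trans hke.symm)]
          exact Orb.t_cls k hk hm hq
        · refine mem_centralizer_singleton_iff.2 ?_
          calc n⁻¹ * c * n * z = n⁻¹ * (c * (n * z * n⁻¹)) * n := by group
            _ = n⁻¹ * (n * z * n⁻¹ * c) * n := by rw [e, hc1]
            _ = z * (n⁻¹ * c * n) := by group
        · refine mem_centralizer_singleton_iff.2 ?_
          rw [ht']
          calc n⁻¹ * c * n * (n⁻¹ * t * n) = n⁻¹ * (c * t) * n := by group
            _ = n⁻¹ * t * n * (n⁻¹ * c * n) := by rw [hc2]; group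
      have := mul_mem (mul_mem hn hmem) (inv_mem hn)
      rwa [show n * (n⁻¹ * c * n) * n⁻¹ = c by group] at this }, rfl⟩

/-- The package exists. -/
theorem exists_pack
    (hcard : Nat.card ↥(normalizer (B.V : Set G)) = 1771 * (2 ^ 21 * 135))
    (hcent : ∀ t ∈ B.V, t ≠ 1 → t ≠ z → (∀ x : ↥(QG M.Q), (x : G) = t → cls (M.vec x) = 2) →
      centralizer ({z} : Set G) ⊓ centralizer ({t} : Set G) ≤ normalizer (B.V : Set G)) :
    Nonempty (BigPack z B.V) :=
  ⟨(C.exists_pack_eq hT hcard hcent).choose⟩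

end BigCoords

end Cfsg.Agent.JankoFour
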