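import Cfsg.Agent.Lib.JankoFour.TenSplit
import Cfsg.Agent.Lib.JankoFour.Final
import Cfsg.Agent.Lib.JankoFour.Mathieu

/-!
All data on the second abelian subgroup of a simple group of Janko-four type.
-/

set_option autoImplicit false

namespace Cfsg.Agent.JankoFour

open Subgroup
open Ten

variable {G : Type*} [Group G] [Finite G]

theorem exists_ten_data [IsSimpleGroup G] (hG : ¬ IsMulCommutative G) {z : G} {P : Subgroup G}
    (hJ : Cfsg.IsOfJankoFourTypeWith z P) :
    ∃ (M : Model z P) (L : M.TLift) (E : M.Gens), E.s * E.s = 1 ∧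
      ∀ n < 1024, (IsConj z (L.el n) ↔ tDec.testBit n = true) := by
  obtain ⟨M, B, ⟨F⟩⟩ := exists_facts hJ
  obtain ⟨hT, -⟩ := F.coords.classify (B.exists_fused hG)
  obtain ⟨L, hL⟩ := F.coords.exists_ten_coords hT
  obtain ⟨E⟩ := M.exists_gens
  obtain ⟨pk⟩ := F.exists_pack hG
  have pk' : BigPack z M.vG := B.V_eq_vG ▸ pk
  exact ⟨M, L, E, E.s_sq pk'.phi pk'.phi_surj pk'.phi_ker, hL⟩

end Cfsg.Agent.JankoFour
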