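import Cfsg.Agent.Lib.JankoFour.TenNormalizer

/-!
The normaliser of the second abelian subgroup is a split extension by the special linear group of degree five.
-/

set_option autoImplicit false
set_option linter.unusedSectionVars false
set_option linter.style.haveILetI false
set_option maxRecDepth 100000

namespace Cfsg.Agent.JankoFour

open Subgroup
open Ten

namespace Model

variable {G : Type*} [Group G] [Finite G] {z : G} {P : Subgroup G} {M : Model z P} (L : M.TLift)
variable (hL : ∀ n < 1024, (IsConj z (L.el n) ↔ tDec.testBit n = true))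

include hL in
theorem TLift.card_normalizer (E : M.Gens) (hs : E.s * E.s = 1) :
    Nat.card ↥(normalizer (M.tG : Set G)) ≤ 2 ^ 20 * 9765 := by
  have hN : Nat.card ↥(normalizer (M.tG : Set G)) = Nat.card ↥(L.hom hL).range * 1024 := by
    rw [← M.tG_card, ← Nat.card_congr (subgroupOfEquivOfLe (le_normalizer (H := M.tG))).toEquiv, ← L.hom_ker hL,
      ← Subgroup.index_ker (L.hom hL), mul_comm, card_mul_index]
  have h1 : Nat.card ↥(L.hom hL).range ≤ 9999360 := (card_le_card_group _).trans card_SL_le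
  omega

include hL in
/-- A complement to the second abelian subgroup in its normaliser. -/
theorem TLift.exists_complement (E : M.Gens) (hs : E.s * E.s = 1) :
    ∃ K : Subgroup G, K ≤ normalizer (M.tG : Set G) ∧ K ⊓ M.tG = ⊥ ∧ K ⊔ M.tG = normalizer (M.tG : Set G) ∧
      Nonempty (↥K ≃* Matrix.SpecialLinearGroup (Fin 5) (ZMod 2)) := by
  classical
  set N := normalizer (M.tG : Set G) with hN
  set A := E.S0.map (centralizer ({z} : Set G)).subtype with hA
  set T := M.tG ⊔ A with hT
  have hAN : A ≤ N := (map_mono (M.S0_norm E)).trans (M.normalizer_tH_le.trans inf_le_left)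
  have hTN : T ≤ N := sup_le le_normalizer hAN
  have hAV : A ⊓ M.tG = ⊥ := by
    rw [eq_bot_iff]
    rintro x ⟨⟨a, ha, rfl⟩, hx⟩
    rw [M.S0_inf_tH E hs ha (M.mem_tG.1 hx), map_one]
    exact one_mem _
  have hTp : IsPGroup 2 ↥T := by
    refine IsPGroup.to_le (M.syl_isPGroup.map (centralizer ({z} : Set G)).subtype) ?_
    rw [hT, hA, Model.tG, ← Subgroup.map_sup]
    exact map_mono (sup_le M.tH_le (E.S0_le hs))
  haveI : Fact (Nat.Prime 2) := ⟨Nat.prime_two⟩
  obtain ⟨m, hm⟩ := IsPGroup.iff_card.1 hTp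
  have hT20 : 2 ^ 20 ≤ Nat.card ↥T := by
    let f : ↥A × ↥M.tG → ↥T := fun p => ⟨p.1 * p.2, mul_mem (mem_sup_right p.1.2) (mem_sup_left p.2.2)⟩
    have hf : Function.Injective f := by
      rintro ⟨s, a⟩ ⟨s', a'⟩ h
      have h' : (s : G) * a = s' * a' := congrArg Subtype.val h
      have h2 : (s' : G)⁻¹ * s = a' * (a : G)⁻¹ := by
        rw [inv_mul_eq_iff_eq_mul, ← mul_assoc, eq_mul_inv_iff_mul_eq, h']
      have h3 : (s' : G)⁻¹ * s ∈ A ⊓ M.tG :=
        mem_inf.2 ⟨mul_mem (inv_mem s'.2) s.2, h2 ▸ mul_mem a'.2 (inv_mem a.2)⟩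
      rw [hAV, mem_bot] at h3
      obtain rfl : s = s' := Subtype.ext (inv_mul_eq_one.1 h3).symm
      rw [Subtype.ext (mul_left_cancel h')]
    have h := Nat.card_le_card_of_injective f hf
    rw [Nat.card_prod, M.tG_card, hA,
      card_map_of_injective (centralizer ({z} : Set G)).subtype_injective] at h
    have := E.card_S0
    omega
  have hcardN := L.card_normalizer hL E hs
  haveI : (M.tG.subgroupOf N).Normal := normal_in_normalizer
  haveI : IsMulCommutative ↥(M.tG.subgroupOf N) :=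
    ⟨⟨fun a b => Subtype.ext (Subtype.ext (M.tG_comm a.2 b.2))⟩⟩
  have hidx : ¬ 2 ∣ (T.subgroupOf N).index := by
    have h1 := card_mul_index (T.subgroupOf N)
    rw [Nat.card_congr (subgroupOfEquivOfLe hTN).toEquiv, hm] at h1
    have hO := L.card_orbit hL
    have hK := Nat.le_of_dvd Nat.card_pos (M.stab_dvd E hs)
    have hNeq : Nat.card ↥N = 2 ^ 20 * 9765 := by rw [hN]; omega
    rw [hNeq] at h1
    intro ⟨j, hj⟩
    rw [hj, ← mul_assoc, ← pow_succ] at h1
    have hdvd : 2 ^ 21 ∣ 2 ^ 20 * 9765 := by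
      refine dvd_trans (pow_dvd_pow 2 ?_) (Dvd.intro j h1)
      have h2 := (Nat.pow_le_pow_iff_right (show 1 < 2 by norm_num)).1 (hm ▸ hT20)
      omega
    norm_num at hdvd
  have hcop : (Nat.card ↥(M.tG.subgroupOf N)).Coprime (T.subgroupOf N).index := by
    rw [Nat.card_congr (subgroupOfEquivOfLe le_normalizer).toEquiv, M.tG_card,
      show (1024 : ℕ) = 2 ^ 10 by norm_num]
    exact Nat.Coprime.pow_left 10 (Nat.prime_two.coprime_iff_not_dvd.2 hidx)
  obtain ⟨H, hH⟩ := SolvGaschutz.existence (K := M.tG.subgroupOf N) (U := T.subgroupOf N)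
    (fun x hx => mem_sup_left (S := M.tG) (T := A) hx) hcop (A := A.subgroupOf N)
    (fun x hx => mem_sup_right (S := M.tG) (T := A) hx)
    (by
      rw [eq_bot_iff]
      intro x hx
      obtain ⟨hx1, hx2⟩ := mem_inf.1 hx
      have : (x : G) ∈ A ⊓ M.tG := mem_inf.2 ⟨hx1, hx2⟩
      rw [hAV, mem_bot] at this
      exact mem_bot.2 (Subtype.ext this))
    (by
      refine map_injective N.subtype_injective ?_
      rw [Subgroup.map_sup, map_subgroupOf_eq_of_le le_normalizer, map_subgroupOf_eq_of_le hAN,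
        map_subgroupOf_eq_of_le hTN])
  refine ⟨H.map N.subtype, map_subtype_le H, ?_, ?_, ⟨?_⟩⟩
  · have h := congrArg (Subgroup.map N.subtype) hH.disjoint.symm.eq_bot
    rwa [map_inf _ _ _ N.subtype_injective, map_subgroupOf_eq_of_le le_normalizer, Subgroup.map_bot] at h
  · have h := congrArg (Subgroup.map N.subtype) hH.sup_eq_top
    rwa [Subgroup.map_sup, map_subgroupOf_eq_of_le le_normalizer, ← MonoidHom.range_eq_map, range_subtype,
      sup_comm] at h
  · refine ((equivMapOfInjective H N.subtype N.subtype_injective).symm).trans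
      (MulEquiv.ofBijective ((L.hom hL).comp H.subtype) ⟨?_, fun s => ?_⟩)
    · rw [injective_iff_map_eq_one]
      intro h hh
      have hk : (h : ↥N) ∈ (L.hom hL).ker := MonoidHom.mem_ker.2 hh
      rw [L.hom_ker hL] at hk
      have hbot : (h : ↥N) ∈ H ⊓ M.tG.subgroupOf N := mem_inf.2 ⟨h.2, hk⟩
      rw [hH.disjoint.symm.eq_bot, mem_bot] at hbot
      exact Subtype.ext hbot
    · obtain ⟨n, rfl⟩ := L.hom_surjective hL E hs s
      obtain ⟨k, ⟨h, hh⟩, rfl⟩ : ∃ k : ↥(M.tG.subgroupOf N), ∃ h : ↥H, (k : ↥N) * h = n := by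
        obtain ⟨⟨k, h⟩, e⟩ := hH.2 n
        exact ⟨k, h, e⟩
      refine ⟨⟨h, hh⟩, ?_⟩
      have hk : (k : ↥N) ∈ (L.hom hL).ker := by rw [L.hom_ker hL]; exact k.2
      show L.hom hL h = L.hom hL ((k : ↥N) * h)
      rw [map_mul, MonoidHom.mem_ker.1 hk, one_mul]

end Model

end Cfsg.Agent.JankoFour
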