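import Cfsg.Agent.Lib.JankoFour.LargePrimes
import Cfsg.Agent.Lib.JankoFour.SevenLocal
import Cfsg.Agent.Lib.JankoFour.HintoFusion
import Cfsg.Agent.Lib.JankoFour.TenSplit
import Cfsg.Agent.Lib.JankoFour.TenMain
import Cfsg.Agent.Lib.JankoFour.ThreeMain
import Cfsg.Agent.Lib.JankoFour.Final

/-!
The data for the large primes in a simple group of Janko-four type of the given order.
-/

set_option autoImplicit false
set_option linter.style.haveILetI false

namespace Cfsg.Agent.JankoFour

open Subgroup

variable {G : Type*} [Group G] [Finite G]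

/-- A Frobenius group of order 155 in a copy of SL(5,2). -/
theorem exists_frob {K : Subgroup G} (e : ↥K ≃* Matrix.SpecialLinearGroup (Fin 5) (ZMod 2)) :
    ∃ u f : G, orderOf u = 31 ∧ orderOf f = 5 ∧ f * u * f⁻¹ = u ^ 2 := by
  haveI : Fact (Nat.Prime 31) := ⟨by norm_num⟩
  haveI : Fact (Nat.Prime 5) := ⟨by norm_num⟩
  obtain ⟨hs, hf, hfs, hs1, hf1⟩ := Large.frob_spec
  set S : Matrix.SpecialLinearGroup (Fin 5) (ZMod 2) := ⟨Large.singer, hs⟩
  set F : Matrix.SpecialLinearGroup (Fin 5) (ZMod 2) := ⟨Large.frob, hf⟩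
  have hS32 : S ^ 32 = S := by
    refine Subtype.ext ?_
    rw [Matrix.SpecialLinearGroup.coe_pow, show (32 : ℕ) = 2 * 2 * 2 * 2 * 2 from rfl, pow_mul, pow_mul, pow_mul,
      pow_mul]
    simp only [pow_two]
    exact Large.singer_pow
  have hS : orderOf S = 31 := by
    refine orderOf_eq_prime ?_ fun h => hs1 (congrArg Subtype.val h)
    rw [show (32 : ℕ) = 31 + 1 from rfl, pow_succ] at hS32
    exact mul_eq_right.1 hS32
  have hF : orderOf F = 5 := by
    refine orderOf_eq_prime (Subtype.ext ?_) fun h => hf1 (congrArg Subtype.val h)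
    rw [Matrix.SpecialLinearGroup.coe_pow]
    show Large.frob ^ (2 + 2 + 1) = 1
    rw [pow_add, pow_add, pow_one, pow_two]
    exact Large.frob_pow
  have hFS : F * S = S ^ 2 * F := by
    refine Subtype.ext ?_
    rw [pow_two]
    exact hfs
  set φ := K.subtype.comp e.symm.toMonoidHom
  have hi : Function.Injective φ := K.subtype_injective.comp e.symm.injective
  refine ⟨φ S, φ F, by rw [orderOf_injective φ hi, hS], by rw [orderOf_injective φ hi, hF], ?_⟩
  rw [← map_inv, ← map_mul, ← map_mul, ← map_pow, hFS, mul_inv_cancel_right]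

theorem BigData.Facts.nonempty_large_setup [IsSimpleGroup G] (hG : ¬ IsMulCommutative G) {z : G}
    {P : Subgroup G} (hJ : Cfsg.IsOfJankoFourTypeWith z P) {M : Model z P} {B : BigData M} (F : B.Facts)
    (hord : Nat.card G = 86775571046077562880) : Nonempty M.LargeSetup := by
  obtain ⟨S⟩ := F.nonempty_eleven_setup hG hJ hord
  obtain ⟨D⟩ := F.exists_pack hG
  obtain ⟨hT, hcard⟩ := F.coords.classify (B.exists_fused hG)
  have hinto : ∀ t : G, orderOf t = 2 → ∃ g : G, g * t * g⁻¹ ∈ B.V :=
    fun t ht => F.coords.involution_into hT hG hcard ht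
  obtain ⟨Fv⟩ := M.exists_five
  obtain ⟨s, I, hs, -, -, -, -, -, -, -, hc, -⟩ := Fv.seven_core F.coords hT D hinto
  have hfac : (Nat.card G).factorization 7 = 1 := by
    rw [hord, show (86775571046077562880 : ℕ) = 7 * 12396510149439651840 by norm_num,
      Nat.factorization_mul (by norm_num) (by norm_num), Finsupp.add_apply,
      (by norm_num : Nat.Prime 7).factorization_self, Nat.factorization_eq_zero_of_not_dvd (by norm_num)]
  obtain ⟨M', L, E, hEs, hL⟩ := exists_ten_data hG hJ
  obtain ⟨K, -, -, -, ⟨e⟩⟩ := L.exists_complement hL E hEs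
  refine ⟨{
    S := S
    three := fun g hg => one_class_of_pack hJ B D g _ hg ?_
    seven := fun g hg => by rw [card_cent_eq_of_order (by norm_num) hfac hg hs, hc]
    frob := exists_frob e }⟩
  have h : Nat.card ↥(zpowers (M.pElem : G)) = Nat.card ↥P :=
    congrArg (fun K : Subgroup G => Nat.card ↥K) M.p_gen
  rw [Nat.card_zpowers] at h
  exact h.trans M.card_P

theorem exists_large_setup [IsSimpleGroup G] (hG : ¬ IsMulCommutative G) {z : G}
    {P : Subgroup G} (hJ : Cfsg.IsOfJankoFourTypeWith z P) (hord : Nat.card G = 86775571046077562880) :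
    ∃ M : Model z P, Nonempty M.LargeSetup := by
  obtain ⟨M, B, ⟨F⟩⟩ := exists_facts hJ
  exact ⟨M, F.nonempty_large_setup hG hJ hord⟩

end Cfsg.Agent.JankoFour
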