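import Cfsg.Agent.Lib.JankoFour.ClassPrimes
import Cfsg.Agent.Lib.JankoFour.LargeMain

/-!
Classes of elements whose order is divisible by a large prime.
-/

set_option autoImplicit false
set_option linter.unusedSectionVars false
set_option maxRecDepth 100000

namespace Cfsg.Agent.JankoFour.KCount

open Subgroup

/-- The exponents that give the representatives. -/
def expsOf (p : ℕ) : List ℕ := if p = 23 ∨ p = 29 then [1] else if p = 37 then [1, 2, 4] else [1, 3, 9]

theorem exps_ok : ∀ p ∈ [23, 29, 31, 37, 43], (roots p (Large.idx p 1)).card = Large.idx p 1 ∧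
    (∀ a ∈ expsOf p, ¬ p ∣ a) ∧
    (expsOf p).Pairwise (fun a b => a ^ Large.idx p 1 % p ≠ b ^ Large.idx p 1 % p) ∧
    ∀ b < p, b ≠ 0 → ∃ a ∈ expsOf p, a ^ Large.idx p 1 % p = b ^ Large.idx p 1 % p := by
  obtain ⟨e1, e2, e3, e4, e5, -⟩ := Large.idx_spec
  intro p hp
  simp only [List.mem_cons, List.not_mem_nil, or_false] at hp
  rcases hp with rfl | rfl | rfl | rfl | rfl <;> simp only [e1, e2, e3, e4, e5] <;> decide +kernel

variable {G : Type*} [Group G] [Finite G] {z : G} {P : Subgroup G} {M : Model z P}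
  (L : M.LargeSetup) (hord : Nat.card G = 86775571046077562880)
include L hord

/-- The representatives at a large prime, all carrying one class. -/
theorem large_reps {p : ℕ} (hp : p ∈ [23, 29, 31, 37, 43]) :
    ∃ l : List G, OrderReps p l ∧ (l.map sectionCard).sum = (expsOf p).length := by
  have hpp : p.Prime := by fin_cases hp <;> norm_num
  haveI : Fact p.Prime := ⟨hpp⟩
  obtain ⟨w, hw⟩ := exists_prime_orderOf_dvd_card' (G := G) p (by rw [hord]; fin_cases hp <;> norm_num)
  obtain ⟨hC, hN⟩ := L.large_orders hord p hp w hw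
  obtain ⟨hk, hes⟩ := exps_ok p hp
  have hR := prime_reps (c := p) hpp (L.fac_one hord hp) hw hC hN hk hes
  refine ⟨_, hR, ?_⟩
  have hodd : Odd p := hpp.odd_of_ne_two (by rintro rfl; simp at hp)
  have h1 : ∀ x ∈ (expsOf p).map (w ^ ·), sectionCard x = 1 := fun x hx => by
    have hxo := hR.order x hx
    refine sectionCard_one_eq (by rw [hxo]; exact hodd) fun u hu hc => ?_
    obtain ⟨k, hk⟩ := hu
    have hd : orderOf u ∣ p := by
      rw [← (L.large_orders hord p hp x hxo).1]
      exact Subgroup.orderOf_dvd_natCard _ (mem_centralizer_singleton_iff.2 hc)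
    rw [← orderOf_eq_one_iff]
    exact Nat.Coprime.eq_one_of_dvd ((Nat.Coprime.pow_left k (Nat.coprime_two_left.2 hodd)).coprime_dvd_left
      (orderOf_dvd_of_pow_eq_one hk)) hd
  rw [List.map_congr_left h1, List.map_map]
  simp [Function.comp_def]

/-- No other element of odd order has order divisible by a large prime. -/
theorem large_order_eq {x : G} {p : ℕ} (hp : p ∈ [23, 29, 31, 37, 43]) (hx : p ∣ orderOf x) : orderOf x = p := by
  have hpp : p.Prime := by fin_cases hp <;> norm_num
  have hn := (orderOf_pos x).ne'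
  have hw : orderOf (x ^ (orderOf x / p)) = p := by
    rw [orderOf_pow_of_dvd (Nat.div_pos (Nat.le_of_dvd (orderOf_pos x) hx) hpp.pos).ne' (Nat.div_dvd_of_dvd hx),
      Nat.div_div_self hx hn]
  have hd : orderOf x ∣ p := by
    rw [← (L.large_orders hord p hp _ hw).1]
    exact Subgroup.orderOf_dvd_natCard _ (mem_centralizer_singleton_iff.2 (Commute.self_pow x _).eq)
  exact Nat.dvd_antisymm hd hx

end Cfsg.Agent.JankoFour.KCount
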