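import Cfsg.Agent.Lib.JankoFour.ClassPowerChecks
import Cfsg.Agent.Lib.JankoFour.ClassCount

/-!
The classes of 2-elements with the central involution among their powers.
-/

set_option autoImplicit false
set_option linter.unusedSectionVars false
set_option linter.style.haveILetI false
set_option maxRecDepth 100000

namespace Cfsg.Agent.JankoFour

open Subgroup
open Cfsg.Agent.LargeFischer (Ctx QG)
open Cfsg.Agent.J4Module (app)
open Cfsg.Agent.J4Module.Data
open OC KLabel KPower KCount

variable {G : Type*} [Group G] [Finite G] {z : G} {P : Subgroup G}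

namespace KCount

/-- A cyclic group has one involution. -/
theorem invol_unique {u a b : G} (ha : a ∈ zpowers u) (hb : b ∈ zpowers u) (oa : orderOf a = 2)
    (ob : orderOf b = 2) : a = b := by
  by_contra hne
  classical
  haveI := Fintype.ofFinite ↥(zpowers u)
  have hone : ∀ {x : G}, orderOf x = 2 → x ≠ 1 ∧ x * x = 1 := fun {x} h =>
    ⟨fun e => by rw [e, orderOf_one] at h; norm_num at h, by rw [← pow_two, ← h, pow_orderOf_eq_one]⟩
  have hsub : ({⟨1, one_mem _⟩, ⟨a, ha⟩, ⟨b, hb⟩} : Finset ↥(zpowers u)) ⊆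
      Finset.univ.filter fun g => g ^ 2 = 1 := by
    intro g hg
    simp only [Finset.mem_insert, Finset.mem_singleton] at hg
    simp only [Finset.mem_filter, Finset.mem_univ, true_and]
    rcases hg with rfl | rfl | rfl <;> refine Subtype.ext ?_
    · simp
    · simpa [pow_two] using (hone oa).2
    · simpa [pow_two] using (hone ob).2
  have h3 := (Finset.card_le_card hsub).trans (IsCyclic.card_pow_eq_one_le (by norm_num))
  rw [Finset.card_insert_of_notMem (by
      rw [Finset.mem_insert, Finset.mem_singleton]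
      rintro (h | h)
      · exact (hone oa).1 (congrArg Subtype.val h).symm
      · exact (hone ob).1 (congrArg Subtype.val h).symm),
    Finset.card_pair (fun h => hne (congrArg Subtype.val h))] at h3
  norm_num at h3

end KCount

namespace KPower

/-- Every projected vector is in the listed image. -/
theorem proj_spec {j : ℕ} (hj : j < 10) (h0 : j ≠ 0) {v : ℕ} (hv : v < 4096) :
    app (nth [] j transR) v ^^^ v = app (nth [] j projR) v ^^^ app (rM j) (app (nth [] j transR) v) ∧
      app (nth [] j transR) v < 4096 ∧ app (nth [] j projR) v ∈ imgP j := by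
  have hb : ∀ k < 12, _ := proj_basis j hj h0
  refine Coord.bits_induct (N := 12) (p := fun v => app (nth [] j transR) v ^^^ v =
      app (nth [] j projR) v ^^^ app (rM j) (app (nth [] j transR) v) ∧
      app (nth [] j transR) v < 4096 ∧ app (nth [] j projR) v ∈ imgP j) ?_ ?_ hv
  · simp only [J4Module.app_zero, Nat.xor_zero]
    exact ⟨trivial, by norm_num, List.contains_iff_mem.1 (img_closed j hj h0).1⟩
  · intro i hi m _ hm
    have h1 := hb i hi
    simp only [projOK, Bool.and_eq_true, beq_iff_eq, Nat.blt_eq] at h1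
    obtain ⟨e1, l1⟩ := h1
    obtain ⟨e2, l2, m2⟩ := hm
    rw [app_xor, app_xor, app_xor]
    refine ⟨?_, Nat.xor_lt_two_pow (n := 12) l1 l2, List.contains_iff_mem.1 ((img_closed j hj h0).2 _ m2 i hi)⟩
    have shuffle : ∀ a b c d : ℕ, (a ^^^ b) ^^^ (c ^^^ d) = (a ^^^ c) ^^^ (b ^^^ d) := fun a b c d => by
      refine Nat.eq_of_testBit_eq fun k => ?_
      simp only [Nat.testBit_xor]
      cases a.testBit k <;> cases b.testBit k <;> cases c.testBit k <;> cases d.testBit k <;> rfl
    rw [shuffle, e1, e2, shuffle]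

theorem ord_two : ∀ j < 10, nth 0 j ordR ∣ 8 := by decide +kernel

theorem p_pair : app p2C 0 = 0 ∧ app pC 0 = 0 := by decide +kernel

theorem p_cycle : ∀ a < 4096, app pC (app pC (app pC a)) = a ∧ app pC (app pC a) = app p2C a ∧
    app p2C (app p2C a) = app pC a := J4Module.of_chunks 64 (by decide +kernel)

end KPower

namespace Model

variable (M : Model z P)
include M

/-- An element inverting the subgroup of order three acts on canonical elements with a twist. -/
theorem uS_anti {n : ↥(centralizer ({z} : Set G))} (hn : InN (P := P) n) {C : List ℕ} (hC : M.Acts n C)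
    (hCl : C.length = 12) (hanti : mulC C pC = mulC p2C C) {a : ℕ} (ha : a < 4096) (hfix : app C a = a) :
    M.ctx.conjQ n (M.uS a) = M.uS a * M.zb (bbit (app p2C a) (app pC a)) := by
  set p := M.pElem
  have hp3 : p ^ 3 = 1 := Subtype.ext M.p_pow
  have hnp : n * p * n⁻¹ = p * p := by
    obtain ⟨j, hj⟩ := mem_powers_iff_mem_zpowers.2 (show (n : G) * (p : G) * (n : G)⁻¹ ∈ zpowers (p : G) from
      M.p_gen.ge ((mem_normalizer_iff.1 hn (p : G)).1 (M.p_gen.le (mem_zpowers _))))
    have hj' : n * p * n⁻¹ = p ^ j := Subtype.ext hj.symm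
    rw [← Nat.mod_add_div j 3, pow_add, pow_mul, hp3, one_pow, mul_one] at hj'
    have hne : ∀ X, M.Acts (n * p * n⁻¹) X → X.length = 12 → X = p2C := fun X hX hl =>
      M.acts_unique hl (by decide) hX (M.acts_conj hC M.p_acts hanti)
    have h3 := Nat.mod_lt j (show 0 < 3 by norm_num)
    rcases (by omega : j % 3 = 0 ∨ j % 3 = 1 ∨ j % 3 = 2) with e | e | e <;> rw [e] at hj'
    · have := hne unitC (by rw [hj', pow_zero]; exact M.acts_one) rfl
      exact absurd this (by decide +kernel)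
    · have := hne pC (by rw [hj', pow_one]; exact M.p_acts) (by decide)
      exact absurd this (by decide +kernel)
    · rw [hj', pow_two]
  set b := M.aP a
  set a1 := M.ctx.conjQ n b with ha1
  obtain ⟨h3c, hpp, h22⟩ := p_cycle a ha
  have hCp : app C (app pC a) = app p2C a := by rw [← app_mulC, hanti, app_mulC, hfix]
  have v1 : M.vec a1 = app p2C a := by rw [ha1, hC, M.vec_aP ha, hCp]
  set c := M.ctx.conjQ p (M.ctx.conjQ p a1) with hc
  have v2 : M.vec c = app pC a := by
    rw [hc, M.p_acts, M.p_acts, v1, ← hpp, h3c]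
  have hpc : M.ctx.conjQ p c = a1 := by
    rw [hc, ← M.ctx.conjQ_mul, ← M.ctx.conjQ_mul, show p * p * p = p ^ 3 from (pow_three' p).symm, hp3]
    exact Subtype.ext (by simp [Ctx.conjQ])
  have hnb : M.ctx.conjQ n (M.ctx.conjQ p b) = c := by
    rw [← M.ctx.conjQ_mul, show n * p = p * p * n by rw [← hnp]; group, M.ctx.conjQ_mul, M.ctx.conjQ_mul]
  rw [show M.ctx.conjQ n (M.uS a) = M.ctx.conjQ n (b * M.ctx.conjQ p b) from rfl, map_mul, hnb, ← ha1,
    M.uS_eq ha v2, hpc, M.swap a1 c, v1, v2]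

/-- Conjugation by a canonical element over a fixed vector. -/
theorem flip_code {g : ↥(centralizer ({z} : Set G))} {v : ℕ} {R : List ℕ} (hg : M.Code g v R) {a : ℕ}
    (ha : a < 4096) (hfix : app R a = a)
    (hlin : mulC pC R = mulC R pC ∨ mulC R pC = mulC p2C R)
    (hbit : (bbit a v ^^ (if mulC pC R = mulC R pC then false else bbit (app p2C a) (app pC a))) = true) :
    ∃ h : ↥(centralizer ({z} : Set G)), h * g * h⁻¹ = g * M.toH M.zQ := by
  obtain ⟨y, n, hn, hna, hl, hy, rfl⟩ := hg
  set d := if mulC pC R = mulC R pC then false else bbit (app p2C a) (app pC a) with hd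
  have hconj : M.ctx.conjQ n (M.uS a) = M.uS a * M.zb d := by
    by_cases h : mulC pC R = mulC R pC
    · have hnP : (n : G) ∈ centralizer (P : Set G) :=
        M.InN_cent hn (M.lin_K (Code.mem_L0 ⟨y, n, hn, hna, hl, hy, rfl⟩) h) hna
      rw [M.uS_conj hnP hna h ha, hfix, hd, if_pos h]
      simp [zb]
    · rw [M.uS_anti hn hna hl (hlin.resolve_left h) ha hfix, hd, if_neg h]
  set x := M.uS a
  refine ⟨M.toH x, ?_⟩
  have h1 : n * M.toH x * n⁻¹ = M.toH x * M.toH (M.zb d) := by rw [M.toH_conj, hconj, map_mul]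
  have h2 : M.toH x * M.toH y * (M.toH x)⁻¹ = M.toH y * M.toH (M.zb (bbit a v)) := by
    rw [← map_inv, ← map_mul, ← map_mul, ← map_mul]
    congr 1
    rw [M.swap x y, M.uS_vec ha, hy, mul_assoc (y * x), ← M.zb_comm _ x⁻¹, mul_assoc, mul_inv_cancel_left]
  have hzc : ∀ b (q : ↥(centralizer ({z} : Set G))), q * M.toH (M.zb b) = M.toH (M.zb b) * q := by
    intro b q
    cases b
    · simp [zb]
    · simpa [zb] using M.z_fix q
  have hinv : M.toH x * n * (M.toH x)⁻¹ = M.toH (M.zb d) * n := by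
    have hzz : M.toH (M.zb d) * M.toH (M.zb d) = 1 := by rw [← map_mul, M.zb_mul]; simp [zb]
    have h3 : M.toH x = n * M.toH x * n⁻¹ * M.toH (M.zb d) := by rw [h1, mul_assoc, hzz, mul_one]
    calc M.toH x * n * (M.toH x)⁻¹ = n * M.toH x * n⁻¹ * M.toH (M.zb d) * n * (M.toH x)⁻¹ := by rw [← h3]
      _ = n * M.toH x * n⁻¹ * n * M.toH (M.zb d) * (M.toH x)⁻¹ := by
        rw [mul_assoc (n * M.toH x * n⁻¹) (M.toH (M.zb d)) n, ← hzc d n, ← mul_assoc]
      _ = n * (M.toH x * M.toH (M.zb d) * (M.toH x)⁻¹) := by group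
      _ = _ := by rw [hzc d (M.toH x), mul_inv_cancel_right, hzc d n]
  rw [show M.toH x * (M.toH y * n) * (M.toH x)⁻¹ =
    M.toH x * M.toH y * (M.toH x)⁻¹ * (M.toH x * n * (M.toH x)⁻¹) by group, h2, hinv,
    show M.toH y * M.toH (M.zb (bbit a v)) * (M.toH (M.zb d) * n) =
      M.toH y * (M.toH (M.zb (bbit a v)) * M.toH (M.zb d) * n) by group, ← map_mul M.toH, M.zb_mul, hbit,
    ← hzc, mul_assoc]
  simp [zb]

end Model

namespace OCountCtx

variable {M : Model z P} {t : G} (K : OCountCtx M t)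
include K

/-- The test over a representative. -/
theorem zPow_iff {g : ↥(centralizer ({z} : Set G))} {v j : ℕ} (hj : j < 10) (h0 : j ≠ 0)
    (hg : M.Code g v (rM j)) : M.toH M.zQ ∈ zpowers g ↔ zPow j v = true := by
  obtain ⟨hm, hpm, hmin⟩ := ord_ok j hj
  obtain ⟨he, hlt, hLM, h3⟩ := half_ok j hj h0
  obtain ⟨hnz, hzero⟩ := hg.z_power hm hpm hmin
  set m := nth 0 j ordR
  unfold zPow
  by_cases hS : sumV (rM j) v m = 0
  · rw [if_pos (by simp [m] at hS ⊢; exact hS), hzero hS]
    have hm1 : M.Code (g ^ m) 0 unitC := by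
      have := hg.pow m
      rwa [hpm, hS] at this
    have hh := hg.pow (m / 2)
    rw [← hLM] at hh
    have hsplit : g ^ (m / 2) * g ^ (m / 2) = g ^ m := by rw [← pow_add]; congr 1; omega
    have hfix : app (LM (nth 0 j halfR)) (sumV (rM j) v (m / 2)) = sumV (rM j) v (m / 2) := by
      have h1 := hh.mul hh
      rw [hsplit] at h1
      exact (Nat.xor_eq_zero_iff.1 (h1.unique hm1).1).symm
    have hsq := K.table_sq hlt h3 hh hfix
    rw [hsplit] at hsq
    have hm1' : (m != 1) = true := by simp; omega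
    rw [show (nth 0 j ordR != 1) = true from hm1', Bool.true_and]
    constructor
    · intro hz
      by_contra hb
      exact M.z_ne (hz.symm.trans (hsq.2 (by simpa using hb)))
    · intro hb
      rcases hm1.unit_zero with e | e
      · rw [hsq.1 e] at hb
        exact absurd hb (by simp)
      · exact e
  · rw [if_neg (by simp [m] at hS ⊢; exact hS)]
    exact hnz hS

/-- An element with the central involution among its powers is conjugate to one over a representative. -/
theorem z_cover {u : ↥(centralizer ({z} : Set G))} (hu : IsPGroup 2 ↥(zpowers u))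
    (hz : M.toH M.zQ ∈ zpowers u) :
    u = M.toH M.zQ ∨ ∃ r ∈ zReps, ∃ h : ↥(centralizer ({z} : Set G)), M.Code (h * u * h⁻¹) r.2.1 (rM r.1) := by
  obtain ⟨h, v, j, hj, hc⟩ := M.exists_label hu
  set u' := h * u * h⁻¹
  have hzc : ∀ k : ↥(centralizer ({z} : Set G)), ∀ w, M.toH M.zQ ∈ zpowers w →
      M.toH M.zQ ∈ zpowers (k * w * k⁻¹) := by
    rintro k w ⟨i, hi⟩
    refine ⟨i, ?_⟩
    have hi' : w ^ i = M.toH M.zQ := hi
    show (k * w * k⁻¹) ^ i = _
    rw [conj_zpow, hi', M.z_fix k, mul_inv_cancel_right]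
  have hz' := hzc h u hz
  by_cases h0 : j = 0
  · subst h0
    rw [rep_ok.2.2] at hc
    by_cases hv0 : v = 0
    · left
      subst hv0
      have hu' : u' = M.toH M.zQ := by
        rcases hc.unit_zero with e | e
        · rw [show h * u * h⁻¹ = 1 from e, zpowers_one_eq_bot, mem_bot] at hz'
          exact absurd hz' M.z_ne
        · exact e
      calc u = h⁻¹ * u' * h := by show _ = h⁻¹ * (h * u * h⁻¹) * h; group
        _ = _ := by rw [hu', mul_assoc, ← M.z_fix, inv_mul_cancel_left]
    · right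
      obtain ⟨hq1, -⟩ := hc.z_power (m := 1) one_pos (by decide +kernel) (fun i hi h => absurd h (by omega))
      have hs : sumV unitC v 1 = v := by
        show v ^^^ app unitC 0 = v
        rw [J4Module.app_zero, Nat.xor_zero]
      rw [hs] at hq1
      have hq := (hq1 hv0).1 hz'
      obtain ⟨hlen, hr0, -⟩ := reps_shape
      have hmem : zReps.getD 0 (0, 0, 0) ∈ zReps := by
        rw [List.getD_eq_getElem _ _ (by omega)]; exact List.getElem_mem _
      obtain ⟨C, hC, eC⟩ := M.mask_conj (M.cls_mask (k := 2) hc.lt (unit_orbit v hc.lt hq))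
      obtain ⟨k, hk⟩ := M.code_of_pair (show (0 : ℕ) < 4096 by norm_num) hC
      obtain ⟨w, D, hD, -, hDC⟩ := hk.inv_cols
      have hw : w = 0 := by
        have := hD.mul hk
        rw [inv_mul_cancel] at this
        have h1 := (this.unique M.code_one).1
        rwa [J4Module.app_zero, Nat.xor_zero] at h1
      subst hw
      refine ⟨_, hmem, k⁻¹ * h, ?_⟩
      rw [show k⁻¹ * h * u * (k⁻¹ * h)⁻¹ = k⁻¹ * u' * k⁻¹⁻¹ by show _ = k⁻¹ * (h * u * h⁻¹) * _; group, hr0]
      show M.Code _ 1 (rM 0)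
      rw [rep_ok.2.2]
      refine hD.conj hc rfl (by rw [mulC_unitC hD.length, hD.unit_mul]) ?_
      rw [← eC, ← app_mulC, hDC, J4Module.app_zero, Nat.xor_zero, Nat.zero_xor,
        app_unitC _ (J4Module.rep_mem 2).2]
      rfl
  · right
    obtain ⟨e, hlt, hin⟩ := proj_spec hj h0 hc.lt
    set c := app (nth [] j projR) v
    obtain ⟨k, hk⟩ := M.code_of_pair hlt Gen.one
    have hR := rM_InL0 hj
    have hc1 : M.Code (k * u' * k⁻¹) c (rM j) := hk.conj hc (gen_length hR)
      (by rw [mulC_unitC (gen_length hR), unitC_mulC hR fun _ h => h]) (by rw [app_unitC _ hc.lt]; exact e)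
    have hgood := (K.zPow_iff hj h0 hc1).1 (hzc k u' hz')
    have hp := path_ok j hj h0 c hin
    simp only [pathOK, hgood, Bool.not_true, Bool.false_or, Bool.and_eq_true, List.any_eq_true, beq_iff_eq,
      Nat.blt_eq, List.all_eq_true, decide_eq_true_eq] at hp
    obtain ⟨⟨r, hr, hrj⟩, p, hp, ⟨hpc, hwl⟩, hwd⟩ := hp
    rw [← hpc] at hc1
    have hmv := move_ok j hj p hp
    simp only [moveOK, Bool.and_eq_true, beq_iff_eq] at hmv
    have hrv : repOf j = r.2.1 := hrj ▸ (reps_pow r hr).1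
    obtain ⟨q, hq⟩ := M.code_of_pair hwl (Big.wordC_mem hwd)
    obtain ⟨x, hx⟩ := M.code_of_pair (reps_shape.2.2 r hr).2.1 hR
    have hxp : M.Code (q * x * q⁻¹) p.1 (rM j) := hq.conj hx (gen_length hR) hmv.1 (by rw [← hrv]; exact hmv.2)
    refine ⟨r, hr, q⁻¹ * k * h, ?_⟩
    rw [hrj, show q⁻¹ * k * h * u * (q⁻¹ * k * h)⁻¹ = q⁻¹ * (k * u' * k⁻¹) * q by
      show _ = q⁻¹ * (k * (h * u * h⁻¹) * k⁻¹) * q; group]
    rcases hxp.cases hc1 with e | e <;> rw [e]
    · rw [show q⁻¹ * (q * x * q⁻¹) * q = x by group]; exact hx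
    · rw [show q⁻¹ * (q * x * q⁻¹ * M.toH M.zQ) * q = x * (q⁻¹ * (M.toH M.zQ * q)) by group, ← M.z_fix,
        inv_mul_cancel_left]
      exact hx.mul_z

/-- The classes: the central involution and six more. -/
theorem z_classes : ∃ x : Fin 6 → G, (∀ i, TwoEl (x i) ∧ z ∈ zpowers (x i) ∧ x i ≠ z) ∧
    (∀ u : G, TwoEl u → z ∈ zpowers u → IsConj u z ∨ ∃ i, IsConj u (x i)) ∧
    ∀ i j, IsConj (x i) (x j) → i = j := by
  classical
  obtain ⟨hlen, -, hshape⟩ := reps_shape
  let r : Fin 6 → ℕ × ℕ × ℕ := fun i => zReps.get (Fin.cast hlen.symm i)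
  have hr : ∀ i, r i ∈ zReps := fun i => List.get_mem _ _
  have hex : ∀ i, ∃ g, M.Code g (r i).2.1 (rM (r i).1) := fun i =>
    M.code_of_pair (hshape _ (hr i)).2.1 (rM_InL0 (hshape _ (hr i)).1)
  choose g hg using hex
  have hzg : ∀ i, M.toH M.zQ ∈ zpowers (g i) := by
    intro i
    obtain ⟨hj, -, hv0, -⟩ := hshape _ (hr i)
    obtain ⟨-, hz1, hq⟩ := reps_pow _ (hr i)
    by_cases h0 : (r i).1 = 0
    · have hgi := hg i
      rw [h0, rep_ok.2.2] at hgi
      obtain ⟨hq1, -⟩ := hgi.z_power (m := 1) one_pos (by decide +kernel) (fun n hn h => absurd h (by omega))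
      have hs : sumV unitC (r i).2.1 1 = (r i).2.1 := by
        show (r i).2.1 ^^^ app unitC 0 = _
        rw [J4Module.app_zero, Nat.xor_zero]
      rw [hs] at hq1
      exact (hq1 hv0).2 (hq h0)
    · exact (K.zPow_iff hj h0 (hg i)).2 (hz1.resolve_left h0)
  have hne : ∀ i, g i ≠ M.toH M.zQ := fun i e => by
    have h := (hg i).unique (e ▸ M.code_z)
    exact (hshape _ (hr i)).2.2.1 h.1
  have hzpw : ∀ {h u : ↥(centralizer ({z} : Set G))}, IsConj (u : G) ((h * u * h⁻¹ : ↥(centralizer ({z} : Set G))) : G) :=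
    fun {h u} => isConj_iff.2 ⟨(h : G), rfl⟩
  refine ⟨fun i => g i, fun i => ⟨?_, Model.val_mem_zpowers.2 (hzg i), fun e => hne i (Subtype.ext e)⟩, ?_, ?_⟩
  · obtain ⟨hj, -⟩ := hshape _ (hr i)
    obtain ⟨-, hpm, -⟩ := ord_ok _ hj
    set m := nth 0 (r i).1 ordR
    have hm1 := (hg i).pow m
    rw [hpm] at hm1
    obtain ⟨d, hd⟩ := ord_two _ hj
    refine ⟨5, ?_⟩
    have h4 : (g i ^ m) ^ 4 = 1 := by
      rw [show (4 : ℕ) = 2 * 2 from rfl, pow_mul, pow_two (g i ^ m)]
      rcases hm1.unit_sq.1 with e | e <;> rw [e]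
      · rw [one_pow]
      · rw [pow_two, M.zz]
    have : g i ^ 2 ^ 5 = 1 := by
      rw [show (2 : ℕ) ^ 5 = m * 4 * d by rw [mul_comm m 4, mul_assoc, show m * d = 8 from hd.symm]; norm_num,
        pow_mul, pow_mul, h4, one_pow]
    simpa using congrArg Subtype.val this
  · intro u hu hz
    have huz : u * z = z * u := by
      obtain ⟨n, hn⟩ := hz
      rw [← hn]; exact (Commute.self_zpow u n).eq
    set x : ↥(centralizer ({z} : Set G)) := ⟨u, mem_centralizer_singleton_iff.2 huz⟩
    have hx : IsPGroup 2 ↥(zpowers x) := by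
      obtain ⟨n, hn⟩ := hu
      rintro ⟨y, l, rfl⟩
      refine ⟨n, Subtype.ext (Subtype.ext ?_)⟩
      show (u ^ l) ^ 2 ^ n = 1
      rw [← zpow_natCast, ← zpow_mul, mul_comm, zpow_mul, zpow_natCast, hn, one_zpow]
    have hzx : M.toH M.zQ ∈ zpowers x := (Model.val_mem_zpowers (g := M.toH M.zQ) (h := x)).1 hz
    rcases K.z_cover hx hzx with e | ⟨r', hr', h, hh⟩
    · left
      rw [show u = z from congrArg Subtype.val e]
    · right
      obtain ⟨n, hn⟩ := List.get_of_mem hr'
      refine ⟨Fin.cast hlen n, (hzpw (h := h) (u := x)).trans ?_⟩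
      have hgi := hg (Fin.cast hlen n)
      have hrn : r (Fin.cast hlen n) = r' := by
        show zReps.get _ = r'
        rw [← hn]; rfl
      rw [hrn] at hgi
      rcases hgi.cases hh with e | e
      · rw [e]
      · obtain ⟨-, -, -, hflt, hfx⟩ := hshape _ hr'
        obtain ⟨hbit, hlin⟩ := reps_flip _ hr'
        obtain ⟨q, hq⟩ := M.flip_code hgi hflt hfx hlin hbit
        rw [e, ← hq]
        exact (hzpw (h := q) (u := g (Fin.cast hlen n))).symm
  · intro i j hij
    obtain ⟨k, hk⟩ := isConj_iff.1 hij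
    have hzi : z ∈ zpowers (g i : G) := Model.val_mem_zpowers.2 (hzg i)
    have hzj : z ∈ zpowers (g j : G) := Model.val_mem_zpowers.2 (hzg j)
    have hkz : k * z * k⁻¹ = z := by
      refine invol_unique (u := (g j : G)) ?_ hzj (by rw [← MulAut.conj_apply, MulEquiv.orderOf_eq, M.order_z])
        M.order_z
      obtain ⟨n, hn⟩ := hzi
      have hn' : (g i : G) ^ n = z := hn
      refine ⟨n, ?_⟩
      show (g j : G) ^ n = _
      rw [← show k * (g i : G) * k⁻¹ = g j from hk, conj_zpow, hn']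
    set kk : ↥(centralizer ({z} : Set G)) := ⟨k, mem_centralizer_singleton_iff.2 (mul_inv_eq_iff_eq_mul.1 hkz)⟩
    have hkk : kk * g i * kk⁻¹ = g j := Subtype.ext hk
    by_contra hne'
    have hrne : r i ≠ r j := fun e => hne' (by
      have hnd : zReps.Nodup := by decide +kernel
      exact Fin.cast_injective _ ((List.nodup_iff_injective_get.1 hnd) e))
    have hback : kk⁻¹ * g j * kk⁻¹⁻¹ = g i := by rw [← hkk]; group
    have hord : ∀ (a b : Fin 6) (q : ↥(centralizer ({z} : Set G))), q * g a * q⁻¹ = g b →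
        nth 0 (r b).1 ordR ≤ nth 0 (r a).1 ordR := by
      intro a b q hq
      obtain ⟨hja, -⟩ := hshape _ (hr a)
      obtain ⟨hjb, -⟩ := hshape _ (hr b)
      obtain ⟨hma, hpa, -⟩ := ord_ok _ hja
      obtain ⟨-, -, hminb⟩ := ord_ok _ hjb
      set m := nth 0 (r a).1 ordR
      have h1 := (hg a).pow m
      rw [hpa] at h1
      have hQ : q * g a ^ m * q⁻¹ ∈ M.Q := M.normal.conj_mem _ (M.mem_Q _ h1.acts) q
      rw [← conj_pow, hq] at hQ
      have h2 : pw (rM (r b).1) m = unitC :=
        M.acts_unique ((hg b).pow m).length rfl ((hg b).pow m).acts (M.acts_of_mem_Q hQ)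
      by_contra hlt
      exact hminb m (not_le.1 hlt) hma.ne' h2
    have hlin : ∀ (a b : Fin 6) (q : ↥(centralizer ({z} : Set G))), q * g a * q⁻¹ = g b →
        mulC pC (rM (r a).1) = mulC (rM (r a).1) pC → mulC pC (rM (r b).1) = mulC (rM (r b).1) pC := by
      intro a b q hq hla
      obtain ⟨w, A, -, -, hqa⟩ := M.exists_code q
      refine M.lin_carry hqa (M.lin_K (hg a).mem_L0 hla) (hg b).mem_L0 ?_
      have h1 := (hg b).mul hqa
      rw [← hq, inv_mul_cancel_right] at h1
      exact ((hqa.mul (hg a)).unique h1).2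
    rcases reps_apart _ (hr i) _ (hr j) hrne with h | h
    · exact h (le_antisymm (hord j i kk⁻¹ hback) (hord i j kk hkk))
    · exact h (decide_eq_decide.2 ⟨hlin i j kk hkk, hlin j i kk⁻¹ hback⟩)

end OCountCtx

end Cfsg.Agent.JankoFour
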