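import Cfsg.Agent.Lib.JankoFour.TCountMain

/-!
The order and the classes of involutions of a simple group with the involution centraliser of the fourth Janko group.
-/

set_option autoImplicit false

namespace Cfsg.Agent.JankoFour

open Subgroup

variable {G : Type*} [Group G] [Finite G] {z : G} {P : Subgroup G} {M : Model z P} {B : BigData M}

/-- The pack with the coordinates of the large abelian subgroup and a pair as second involution. -/
theorem BigData.Facts.exists_second (F : B.Facts) [IsSimpleGroup G] (hG : ¬ IsMulCommutative G) :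
    ∃ D : BigPack z B.V, D.eS = F.coords.eS ∧ TwoCount z (D.eS TC.duad2) ∧
      orderOf (D.eS TC.duad2) = 2 ∧ ¬ IsConj z (D.eS TC.duad2) ∧
      ∀ g : G, orderOf g = 2 → IsConj g z ∨ IsConj g (D.eS TC.duad2) := by
  obtain ⟨hT, hcard⟩ := F.coords.classify (B.exists_fused hG)
  obtain ⟨D, hD⟩ := F.coords.exists_pack_eq hT hcard F.hcent
  obtain ⟨h1, h2, -, h4⟩ := D.two_classes F hG TC.card_duad2
  exact ⟨D, hD, F.two_count hG hD, h1, h2, h4⟩

/-- The order, given the count inside the centraliser of the first involution. -/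
theorem BigData.Facts.card_eq (F : B.Facts) [IsSimpleGroup G] (hG : ¬ IsMulCommutative G)
    (hone : ∀ D : BigPack z B.V, D.eS = F.coords.eS → OneCount z (D.eS TC.duad2)) :
    Nat.card G = 86775571046077562880 := by
  obtain ⟨D, hD, h2, -, -, -⟩ := F.exists_second hG
  exact card_of_counts F hG D TC.card_duad2 h2 (hone D hD)

/-- Exactly two classes of involutions. -/
theorem exists_two_classes [IsSimpleGroup G] (hG : ¬ IsMulCommutative G) (hJ : Cfsg.IsOfJankoFourTypeAt z) :
    ∃ x y : G, orderOf x = 2 ∧ orderOf y = 2 ∧ ¬ IsConj x y ∧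
      ∀ g : G, orderOf g = 2 → IsConj g x ∨ IsConj g y := by
  obtain ⟨P, hP⟩ := hJ
  obtain ⟨M, B, ⟨F⟩⟩ := exists_facts hP
  obtain ⟨D, -, -, h1, h2, h3⟩ := F.exists_second hG
  exact ⟨z, D.eS TC.duad2, M.order_z, h1, h2, h3⟩

end Cfsg.Agent.JankoFour
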