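import Cfsg.Agent.Lib.JankoFour.ClassPair
import Cfsg.Agent.Lib.JankoFour.ClassPower
import Cfsg.Agent.Lib.JankoFour.Order
import Cfsg.Agent.Lib.JankoFour.OCountMain

/-!
Ten classes of 2-elements.
-/

set_option autoImplicit false
set_option linter.unusedSectionVars false
set_option maxRecDepth 100000

namespace Cfsg.Agent.JankoFour

open Subgroup
open KCount

variable {G : Type*} [Group G] [Finite G] [IsSimpleGroup G] {z : G} {P : Subgroup G} {M : Model z P} {B : BigData M}

/-- The section at the identity. -/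
theorem BigData.Facts.section_one (F : B.Facts) (hG : ¬ IsMulCommutative G) : sectionCard (1 : G) = 10 := by
  classical
  obtain ⟨D, -, h2, ht, hnc, hall⟩ := F.exists_second hG
  set t := D.eS TC.duad2
  obtain ⟨-, -, hc, -⟩ := D.two_classes F hG TC.card_duad2
  have hcomm : commCount t z = 838596 := by
    have hs := commCount_symm z t
    rw [h2.1, M.card_cent, hc] at hs
    omega
  obtain ⟨x, hx, hxcov, hxsep⟩ := (OCountCtx.mk (M := M) ht hnc hall (fun q => (F.cls_class hG q).1)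
    (fun q => (F.cls_class hG q).2) (fun e he => F.e6_not_conj hG he) hcomm).z_classes
  obtain ⟨S⟩ := BigPack.exists_sec (D := D) M
  obtain ⟨hsq, -⟩ := S.x4_sq
  set y := S.x4
  change y * y = t at hsq
  have hz2 : orderOf z = 2 := M.order_z
  have hone : ∀ {g : G}, orderOf g = 2 → g ≠ 1 ∧ g * g = 1 := fun {g} h =>
    ⟨fun e => by rw [e, orderOf_one] at h; norm_num at h, by rw [← pow_two, ← h, pow_orderOf_eq_one]⟩
  have hyt : t ∈ zpowers y := hsq ▸ mul_mem (mem_zpowers y) (mem_zpowers y)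
  -- the involution among the powers decides between the two families
  have hsplit : ∀ {u v : G}, IsConj u v → z ∈ zpowers u → t ∈ zpowers v → False := by
    intro u v huv hzu htv
    obtain ⟨k, hk⟩ := isConj_iff.1 huv
    obtain ⟨n, hn⟩ := hzu
    refine hnc (isConj_iff.2 ⟨k, invol_unique (u := v) ⟨n, ?_⟩ htv
      (by rw [← MulAut.conj_apply, MulEquiv.orderOf_eq, hz2]) ht⟩)
    show v ^ n = k * z * k⁻¹
    rw [← hk, conj_zpow, show u ^ n = z from hn]
  set R : Fin 10 → G := ![1, z, x 0, x 1, x 2, x 3, x 4, x 5, t, y] with hR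
  have hRx : ∀ i : Fin 6, R ⟨i.1 + 2, by omega⟩ = x i := by intro i; fin_cases i <;> rfl
  have hx1 : ∀ i, x i ≠ 1 := fun i e1 => by
    have hzi := (hx i).2.1
    rw [e1, zpowers_one_eq_bot, mem_bot] at hzi
    exact (hone hz2).1 hzi
  have hsep : ∀ i j, IsConj (R i) (R j) → i = j := by
    have h1 : ∀ i, IsConj (1 : G) (R i) → i = 0 := by
      intro i h
      rw [isConj_iff] at h
      obtain ⟨k, hk⟩ := h
      rw [mul_one, mul_inv_cancel] at hk
      fin_cases i <;> first | rfl | skip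
      all_goals exfalso
      · exact (hone hz2).1 hk.symm
      · exact hx1 0 hk.symm
      · exact hx1 1 hk.symm
      · exact hx1 2 hk.symm
      · exact hx1 3 hk.symm
      · exact hx1 4 hk.symm
      · exact hx1 5 hk.symm
      · exact (hone ht).1 hk.symm
      · refine (hone ht).1 ?_
        have hy1 : (1 : G) = y := hk
        rw [← hsq, ← hy1, one_mul]
    -- the involutions against the others
    have hinv : ∀ {g h : G}, IsConj g h → g * g = 1 → h * h = 1 := by
      intro g h hgh hg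
      obtain ⟨k, rfl⟩ := isConj_iff.1 hgh
      rw [show k * g * k⁻¹ * (k * g * k⁻¹) = k * (g * g) * k⁻¹ by group, hg]
      group
    have hxs : ∀ i, x i * x i ≠ 1 := by
      intro i e
      obtain ⟨-, hzi, hne⟩ := hx i
      have h1i : x i ≠ 1 := fun e1 => by
        rw [e1, zpowers_one_eq_bot, mem_bot] at hzi
        exact (hone hz2).1 hzi
      exact hne (invol_unique (mem_zpowers _) hzi (orderOf_eq_prime (by rw [pow_two, e]) h1i) hz2)
    have hys : y * y ≠ 1 := by rw [hsq]; exact (hone ht).1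
    intro i j h
    by_cases hi : i = 0
    · subst hi; exact (h1 j h).symm
    by_cases hj : j = 0
    · subst hj; exact h1 i h.symm
    have kind : ∀ i : Fin 10, i ≠ 0 →
        ((i = 1 ∨ i = 8) ∧ R i * R i = 1) ∨ (∃ n : Fin 6, i.1 = n.1 + 2 ∧ R i = x n) ∨ (i = 9 ∧ R i = y) := by
      intro i hi
      fin_cases i
      · exact absurd rfl hi
      · exact Or.inl ⟨Or.inl rfl, (hone hz2).2⟩
      · exact Or.inr (Or.inl ⟨0, rfl, rfl⟩)
      · exact Or.inr (Or.inl ⟨1, rfl, rfl⟩)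
      · exact Or.inr (Or.inl ⟨2, rfl, rfl⟩)
      · exact Or.inr (Or.inl ⟨3, rfl, rfl⟩)
      · exact Or.inr (Or.inl ⟨4, rfl, rfl⟩)
      · exact Or.inr (Or.inl ⟨5, rfl, rfl⟩)
      · exact Or.inl ⟨Or.inr rfl, (hone ht).2⟩
      · exact Or.inr (Or.inr ⟨rfl, rfl⟩)
    rcases kind i hi with ⟨hi', ei⟩ | ⟨n, hn, ei⟩ | ⟨rfl, ei⟩ <;>
      rcases kind j hj with ⟨hj', ej⟩ | ⟨m, hm, ej⟩ | ⟨rfl, ej⟩
    · rcases hi' with rfl | rfl <;> rcases hj' with rfl | rfl
      · rfl
      · exact absurd h hnc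
      · exact absurd h.symm hnc
      · rfl
    · exact absurd (ej ▸ hinv h ei) (hxs m)
    · exact absurd (ej ▸ hinv h ei) hys
    · exact absurd (ei ▸ hinv h.symm ej) (hxs n)
    · have := hxsep n m (ei ▸ ej ▸ h)
      exact Fin.ext (by rw [hn, hm, this])
    · exact absurd (ei ▸ ej ▸ h) fun h => hsplit h (hx n).2.1 hyt
    · exact absurd (ei ▸ hinv h.symm ej) hys
    · exact absurd (ei ▸ ej ▸ h) fun h => hsplit h.symm (hx m).2.1 hyt
    · rfl
  refine sectionCard_eq (by rw [orderOf_one]; exact odd_one) R (fun i => ⟨?_, by rw [mul_one, one_mul]⟩) ?_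
    fun i j k _ h => hsep i j (isConj_iff.2 ⟨k, h⟩)
  · fin_cases i
    · exact ⟨0, one_pow _⟩
    · exact ⟨1, by rw [pow_one, pow_two]; exact (hone hz2).2⟩
    · exact (hx 0).1
    · exact (hx 1).1
    · exact (hx 2).1
    · exact (hx 3).1
    · exact (hx 4).1
    · exact (hx 5).1
    · exact ⟨1, by rw [pow_one, pow_two]; exact (hone ht).2⟩
    · refine ⟨2, ?_⟩
      show y ^ 2 ^ 2 = 1
      rw [show (2 : ℕ) ^ 2 = 2 * 2 by norm_num, pow_mul, pow_two, pow_two, hsq, (hone ht).2]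
  · intro u hu _
    have fin : ∀ i, IsConj u (R i) → ∃ i, ∃ k, k * (1 : G) = 1 * k ∧ k * u * k⁻¹ = R i := fun i h => by
      obtain ⟨k, hk⟩ := isConj_iff.1 h
      exact ⟨i, k, by rw [mul_one, one_mul], hk⟩
    by_cases hu1 : u = 1
    · exact fin 0 (hu1 ▸ IsConj.refl _)
    obtain ⟨k, hk⟩ := hu
    obtain ⟨e, -, he⟩ := (Nat.dvd_prime_pow Nat.prime_two).1 (orderOf_dvd_of_pow_eq_one hk)
    have hw : orderOf (u ^ (orderOf u / 2)) = 2 := by
      have he0 : e ≠ 0 := fun h => hu1 (orderOf_eq_one_iff.1 (by rw [he, h, pow_zero]))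
      have hd : 2 ∣ orderOf u := he ▸ dvd_pow_self 2 he0
      rw [orderOf_pow_of_dvd (Nat.div_pos (Nat.le_of_dvd (orderOf_pos u) hd) two_pos).ne' (Nat.div_dvd_of_dvd hd),
        Nat.div_div_self hd (orderOf_pos u).ne']
    rcases hall _ hw with h | h <;> obtain ⟨g, hg⟩ := isConj_iff.1 h
    · have hu' : TwoEl (g * u * g⁻¹) := TwoEl.conj (u := u) ⟨k, hk⟩ g
      have hz : z ∈ zpowers (g * u * g⁻¹) := ⟨((orderOf u / 2 : ℕ) : ℤ), by simp only [zpow_natCast, conj_pow, hg]⟩
      have hug : IsConj u (g * u * g⁻¹) := isConj_iff.2 ⟨g, rfl⟩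
      rcases hxcov _ hu' hz with e | ⟨i, e⟩
      · exact fin 1 (hug.trans e)
      · exact fin ⟨i.1 + 2, by omega⟩ (by rw [hRx]; exact hug.trans e)
    · have hu' : TwoEl (g * u * g⁻¹) := TwoEl.conj (u := u) ⟨k, hk⟩ g
      have htm : t ∈ zpowers (g * u * g⁻¹) := ⟨((orderOf u / 2 : ℕ) : ℤ), by simp only [zpow_natCast, conj_pow, hg]⟩
      have hug : IsConj u (g * u * g⁻¹) := isConj_iff.2 ⟨g, rfl⟩
      rcases S.pair_two hu' htm (hone ht).1 with e | e
      · exact fin 8 (hug.trans e)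
      · exact fin 9 (hug.trans e)

end Cfsg.Agent.JankoFour
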