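import Cfsg.Agent.Lib.JankoFour.TCountDefs

/-!
The orders of the products with the representatives are found by the search.
-/

set_option autoImplicit false
set_option maxRecDepth 100000
set_option maxHeartbeats 0
set_option Elab.async false

namespace Cfsg.Agent.JankoFour.TC

open Cfsg.Agent.Golay.Local (idC)

/-- The search finds every order with a given code. -/
def ordOK (s : ℕ) : Bool :=
  Nat.blt 0 (prodN s idC) && invList.all fun e => Nat.blt 0 (prodN s e.1)

theorem ord_id : ordOK idC = true := by decide +kernel

theorem ord_root0 : ordOK (ent 0).1 = true := by decide +kernel

theorem ord_root1 : ordOK (ent 330).1 = true := by decide +kernel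

theorem ord_root2 : ordOK (ent 1485).1 = true := by decide +kernel

end Cfsg.Agent.JankoFour.TC
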