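import Cfsg.Agent.Lib.JankoFour.TCountDefs

/-!
The numbers of partners at the representatives.
-/

set_option autoImplicit false
set_option maxRecDepth 100000
set_option maxHeartbeats 0
set_option Elab.async false

namespace Cfsg.Agent.JankoFour.TC

open Cfsg.Agent.Golay.Local (idC)

theorem val_orbA : gsums idC idP (orbU orbA 0) = (1, 0, 0) := by decide +kernel

theorem val_orbB : gsums idC idP (orbU orbB 0) = (2688, 0, 0) := by decide +kernel

theorem val_root0 : gsums (ent 0).1 (ent 0).2.2.1 0 = (44368, 0, 0) := by decide +kernel

theorem val_root1 : gsums (ent 330).1 (ent 330).2.2.1 0 = (7681, 0, 0) := by decide +kernel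

theorem val_root2 : gsums (ent 1485).1 (ent 1485).2.2.1 0 = (0, 26241, 0) := by decide +kernel

theorem val_root3 : gsums (ent 1485).1 (ent 1485).2.2.1 1479 = (0, 0, 26241) := by decide +kernel

end Cfsg.Agent.JankoFour.TC
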