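import Cfsg.Agent.Lib.JankoFour.TCountFibres
import Cfsg.Agent.Lib.JankoFour.TCountOrders
import Cfsg.Agent.Lib.JankoFour.TCountValues
import Cfsg.Agent.Lib.JankoFour.OrderBase

/-!
The two counts inside the centraliser of the involution of a pair.
-/

set_option autoImplicit false
set_option linter.unusedSectionVars false
set_option maxRecDepth 100000

namespace Cfsg.Agent.JankoFour

open Subgroup
open Cfsg (GolayPt M24)
open Cfsg.Agent.LargeFischer (Ctx QG)
open Cfsg.Agent.LargeFischer.Big (ev pair_inj pairs pp ev_pair mem_pairs ev_lt)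
open Cfsg.Agent.Golay (maskSet toMask imgMask idx idx_lt permOf permOf_mem_M24 spanList)
open Cfsg.Agent.Golay.Local (cmpF sameF idC Code code_permOf sameF_iff code_idC)
open Cfsg.Agent.PermCert (Elt validElt)
open Cfsg.Agent.J4Module (app)
open scoped Pointwise

/-- Conjugates of the second involution whose product with a given element has it among its powers. -/
noncomputable def gCount {G : Type*} [Group G] (t p : G) : ℕ :=
  Nat.card {q : G // IsConj t q ∧ t ∈ zpowers (p * q)}

theorem gCount_conj {G : Type*} [Group G] {t k : G} (hk : k * t * k⁻¹ = t) (p : G) :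
    gCount t (k * p * k⁻¹) = gCount t p := by
  refine (Nat.card_congr (Equiv.subtypeEquiv (MulAut.conj k).toEquiv fun q => and_congr ?_ ?_)).symm
  · exact ⟨fun h => h.trans (isConj_iff.2 ⟨k, rfl⟩),
      fun h => h.trans (isConj_iff.2 ⟨k⁻¹, by simp [mul_assoc]⟩)⟩
  · show _ ↔ t ∈ zpowers (k * p * k⁻¹ * (k * q * k⁻¹))
    rw [conj_mul, mem_zpowers_iff, mem_zpowers_iff]
    refine exists_congr fun n => ?_
    rw [conj_zpow]
    conv_rhs => rhs; rw [← hk]
    rw [mul_left_inj, mul_right_inj]

/-- Pairs as a sum over the first entries. -/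
theorem pairCount_eq_sum {G : Type*} [Group G] [Finite G] [DecidableEq G] {z t : G} (l : List G)
    (hl : l.Nodup) (hmem : ∀ p, p ∈ l ↔ IsConj z p ∧ p * t = t * p)
    (hzero : ∀ p q : G, IsConj z p → IsConj t q → t ∈ zpowers (p * q) → p * t = t * p) :
    pairCount z t t = (l.map (gCount t)).sum := by
  classical
  haveI := Fintype.ofFinite G
  have e : {q : G × G // IsConj z q.1 ∧ IsConj t q.2 ∧ t ∈ zpowers (q.1 * q.2)} ≃
      Σ p : {p : G // p ∈ l}, {q : G // IsConj t q ∧ t ∈ zpowers (p.1 * q)} :=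
    { toFun := fun q => ⟨⟨q.1.1, (hmem _).2 ⟨q.2.1, hzero _ _ q.2.1 q.2.2.1 q.2.2.2⟩⟩, q.1.2, q.2.2⟩
      invFun := fun s => ⟨(s.1.1, s.2.1), ((hmem _).1 s.1.2).1, s.2.2⟩
      left_inv := fun q => rfl
      right_inv := fun s => rfl }
  rw [pairCount, Nat.card_congr e, Nat.card_sigma, ← List.sum_toFinset _ hl]
  exact (Finset.sum_subtype l.toFinset (fun x => by simp) (gCount t)).symm

theorem card_filter_list {α : Type*} [Finite α] (l : List α) (hl : l.Nodup) (P Q : α → Prop)
    [DecidablePred Q] (hmem : ∀ q, q ∈ l ∧ Q q ↔ P q) : Nat.card {q // P q} = l.countP (fun q => decide (Q q)) := by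
  classical
  haveI := Fintype.ofFinite α
  rw [Nat.card_eq_fintype_card, Fintype.card_subtype, List.countP_eq_length_filter,
    ← List.toFinset_card_of_nodup (hl.filter _)]
  congr 1
  ext q
  simp [← hmem q]

theorem orderOf_of_isConj {G : Type*} [Group G] {a b : G} (h : IsConj a b) : orderOf a = orderOf b := by
  obtain ⟨k, rfl⟩ := isConj_iff.1 h
  exact ((MulAut.conj k).orderOf_eq a).symm

namespace TC

/-- The value over an involution. -/
def valI (i : ℕ) : ℕ := if i < 330 then 44368 else if i < 1485 then 7681 else 26241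

/-- The size of the first class over an involution. -/
def lenI (i : ℕ) : ℕ := if i < 1485 then 16 else 32

theorem sums_ok : ((List.range 2871).map lenI).sum = 68112 ∧
    ((List.range 2871).map fun i => lenI i * valI i).sum = 1544188503 - (231 + 1540 * 2688) := by
  decide +kernel

theorem duad2_ev : ev duad2 = 2 := by decide +kernel

end TC

variable {G : Type*} [Group G] [Finite G] {z : G} {P : Subgroup G} {M : Model z P} {B : BigData M}
  {D : BigPack z B.V}

namespace BigPack.Sec

open TC

variable (S : D.Sec)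

theorem evG_two : D.evG 2 = D.eS duad2 := by
  rw [D.eS_eq_evG (by rw [card_duad2]; decide), duad2_ev]

theorem tV_iff {u : ℕ} (hu : u < 2048) (h0 : u ≠ 0) : u ∈ tV ↔ ¬ IsConj z (D.evG u) := by
  constructor
  · intro h
    obtain ⟨⟨a, b⟩, hab, rfl⟩ := List.mem_map.1 h
    obtain ⟨b', hb', ha⟩ := List.mem_flatMap.1 hab
    obtain ⟨a', ha', e⟩ := List.mem_map.1 ha
    simp only [Prod.mk.injEq] at e
    obtain ⟨rfl, rfl⟩ := e
    rw [List.mem_range] at hb' ha'
    have hne : Golay.Local.ptN a' ≠ Golay.Local.ptN b' := fun h => by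
      have := congrArg idx h
      rw [Golay.Local.idx_ptN (ha'.trans hb'), Golay.Local.idx_ptN hb'] at this
      omega
    have hev : pp a' ^^^ pp b' = ev {Golay.Local.ptN a', Golay.Local.ptN b'} := by
      rw [ev_pair hne, Golay.Local.idx_ptN (ha'.trans hb'), Golay.Local.idx_ptN hb']
    rw [hev, ← D.eS_eq_evG (by rw [Finset.card_pair hne]; decide)]
    exact D.pair_not_conj _ (Finset.card_pair hne)
  · intro hz
    obtain ⟨s, hs, e⟩ := D.cocode.exists_duad (D.evG_mem u) (fun h => h0 (D.evG_inj hu (by norm_num)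
      (h.trans D.evG_zero.symm))) hz
    change D.eS s = _ at e
    rw [D.eS_eq_evG (by rw [hs]; decide)] at e
    rw [← D.evG_inj (ev_lt s) hu e]
    obtain ⟨p, q, hpq, rfl⟩ := Finset.card_eq_two.1 hs
    rw [ev_pair hpq]
    rcases Nat.lt_or_gt_of_ne (Cfsg.Agent.Golay.idx_injective.ne hpq) with h | h
    · exact List.mem_map.2 ⟨_, mem_pairs (idx_lt q) h, rfl⟩
    · exact List.mem_map.2 ⟨_, mem_pairs (idx_lt p) h, by rw [Nat.xor_comm]⟩

theorem zV_iff {u : ℕ} : u ∈ zV ↔ u < 2048 ∧ u ≠ 0 ∧ u ∉ tV := by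
  rw [zV, List.mem_filter, List.mem_range, Bool.and_eq_true, Bool.not_eq_true', Bool.not_eq_true',
    ← Bool.not_eq_true, ← Bool.not_eq_true, Nat.beq_eq, maskOf_mem]

theorem el_two : S.el 2 1 = D.eS duad2 := by rw [el_one, evG_two]

/-- Elements of the normaliser commuting with the involution of the pair. -/
theorem commute_iff (u : ℕ) (σ : ↥M24) :
    S.el u σ * D.eS duad2 = D.eS duad2 * S.el u σ ↔ σ • duad2 = duad2 := by
  have hp := S.phi_el u σ
  constructor
  · intro h
    have h1 := D.cocode.image_duad (n := ⟨S.el u σ, S.el_mem u σ⟩) card_duad2 h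
    rw [TwoCent.smul_finset_eq_image, ← hp]
    exact h1
  · intro h
    refine D.cocode.commute_of_image (n := ⟨S.el u σ, S.el_mem u σ⟩) (by rw [card_duad2]; decide) ?_
    rw [TwoCent.smul_finset_eq_image, ← hp] at h
    exact h

theorem el_pow {e f : Elt} (he : validElt 5 24 e = true) (hem : permOf e ∈ M24) (hf : validElt 5 24 f = true)
    (hfm : permOf f ∈ M24) {Ps Pt : ℕ} (hPs : ∀ n, appQ Ps n = app (matC e) n)
    (hPt : ∀ n, appQ Pt n = app (matC f) n) {u w : ℕ} (hu : u < 2048) (hw : w < 2048) (k : ℕ) :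
    (S.el u ⟨permOf e, hem⟩ * S.el w ⟨permOf f, hfm⟩) ^ k =
      S.el (fsum Ps Pt k (u ^^^ appQ Ps w)) ((⟨permOf e, hem⟩ * ⟨permOf f, hfm⟩ : ↥M24) ^ k) := by
  induction k with
  | zero => rw [pow_zero, pow_zero]; exact S.el_zero_one.symm
  | succ k ih =>
    set c := u ^^^ appQ Ps w
    have hc : c < 2048 := Nat.xor_lt_two_pow (n := 11) hu (appQ_lt _ _)
    set g := fsum Ps Pt k c
    have hg : g < 2048 := fsum_lt _ _ _ _ hc
    rw [pow_succ', ih, mul_assoc, S.el_mul hf hfm hw hg, S.el_mul he hem hu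
      (Nat.xor_lt_two_pow (n := 11) hw (map_lt hf hg)), fsum_succ, pow_succ', J4Module.app_xor, ← hPt,
      ← hPs, ← hPs, ← Nat.xor_assoc, mul_assoc]

theorem mem_zpowers_el {e f : Elt} (he : validElt 5 24 e = true) (hem : permOf e ∈ M24)
    (hf : validElt 5 24 f = true) (hfm : permOf f ∈ M24) {Ps Pt : ℕ} (hPs : ∀ n, appQ Ps n = app (matC e) n)
    (hPt : ∀ n, appQ Pt n = app (matC f) n) {u w : ℕ} (hu : u < 2048) (hw : w < 2048)
    (hn : prodN e.1 f.1 ≠ 0) :
    D.eS duad2 ∈ zpowers (S.el u ⟨permOf e, hem⟩ * S.el w ⟨permOf f, hfm⟩) ↔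
      fsum Ps Pt (prodN e.1 f.1) (appQ Ps w) = Nat.xor 2 (fsum Ps Pt (prodN e.1 f.1) u) := by
  set n := prodN e.1 f.1
  set ρ : ↥M24 := ⟨permOf e, hem⟩ * ⟨permOf f, hfm⟩ with hρ
  have hord : orderOf ρ = n := by
    rw [← Subgroup.orderOf_coe]
    exact prodN_spec (code_permOf he) (code_permOf hf) hn
  set X := S.el u ⟨permOf e, hem⟩ * S.el w ⟨permOf f, hfm⟩
  have hc : u ^^^ appQ Ps w < 2048 := Nat.xor_lt_two_pow (n := 11) hu (appQ_lt _ _)
  set F := fsum Ps Pt n (u ^^^ appQ Ps w) with hF
  have hFlt : F < 2048 := fsum_lt _ _ _ _ hc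
  have hXn : X ^ n = D.evG F := by
    rw [S.el_pow he hem hf hfm hPs hPt hu hw, ← hρ, show ρ ^ n = 1 by rw [← hord]; exact pow_orderOf_eq_one ρ,
      el_one]
  have hiff : D.eS duad2 ∈ zpowers X ↔ F = 2 := by
    rw [← evG_two]
    constructor
    · intro hmem
      rw [← mem_powers_iff_mem_zpowers, Submonoid.mem_powers_iff] at hmem
      obtain ⟨k, hk⟩ := hmem
      rw [S.el_pow he hem hf hfm hPs hPt hu hw, ← S.el_one 2] at hk
      have h1 := (S.el_inj (fsum_lt _ _ _ _ hc) (by norm_num) hk).2
      rw [← hρ, ← orderOf_dvd_iff_pow_eq_one, hord] at h1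
      obtain ⟨l, rfl⟩ := h1
      rw [← S.el_pow he hem hf hfm hPs hPt hu hw, S.el_one, pow_mul, hXn] at hk
      rcases Nat.even_or_odd' l with ⟨m, rfl | rfl⟩
      · rw [pow_mul, pow_two, B.sq _ (D.evG_mem F), one_pow, ← D.evG_zero] at hk
        exact absurd (D.evG_inj (by norm_num) (by norm_num) hk) (by norm_num)
      · rw [pow_succ, pow_mul, pow_two, B.sq _ (D.evG_mem F), one_pow, one_mul] at hk
        exact D.evG_inj hFlt (by norm_num) hk
    · intro h
      rw [← h, ← hXn]
      exact pow_mem (mem_zpowers X) n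
  rw [hiff, hF, fsum_xor]
  constructor
  · intro h
    show _ = 2 ^^^ _
    rw [← h, Nat.xor_comm (fsum Ps Pt n u), Nat.xor_assoc, Nat.xor_self, Nat.xor_zero]
  · intro h
    rw [h, show Nat.xor 2 (fsum Ps Pt n u) = 2 ^^^ fsum Ps Pt n u from rfl, Nat.xor_comm 2, ← Nat.xor_assoc,
      Nat.xor_self, Nat.zero_xor]

/-- The conjugates of the second involution in its centraliser. -/
noncomputable def tList (ε : Bool) : List G :=
  tV.map D.evG ++ (List.range 2871).flatMap fun i => (tL ε i).map fun w => S.el w (sig i)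

/-- The conjugates of the first involution in the centraliser. -/
noncomputable def zList (ε : Bool) : List G :=
  zV.map D.evG ++ (List.range 2871).flatMap fun i => (zL ε i).map fun u => S.el u (sig i)

theorem list_nodup {V : List ℕ} (hV : V.Nodup) (hVlt : ∀ u ∈ V, u < 2048) {L : ℕ → List ℕ}
    (hL : ∀ i < 2871, (L i).Nodup ∧ ∀ u ∈ L i, u < 2048) :
    (V.map D.evG ++ (List.range 2871).flatMap fun i => (L i).map fun u => S.el u (sig i)).Nodup := by
  rw [List.nodup_append]
  refine ⟨hV.map_on fun a ha b hb h => D.evG_inj (hVlt a ha) (hVlt b hb) h, ?_, ?_⟩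
  · rw [List.nodup_flatMap]
    refine ⟨fun i hi => ?_, ?_⟩
    · obtain ⟨hn, hlt⟩ := hL i (List.mem_range.1 hi)
      exact hn.map_on fun a ha b hb h => (S.el_inj (hlt a ha) (hlt b hb) h).1
    · refine (List.nodup_range.pairwise_of_forall_ne fun i hi j hj hij x hx hy => ?_)
      obtain ⟨a, ha, rfl⟩ := List.mem_map.1 hx
      obtain ⟨b, hb, e⟩ := List.mem_map.1 hy
      rw [List.mem_range] at hi hj
      exact hij (sig_inj hi hj (S.el_inj ((hL j hj).2 b hb) ((hL i hi).2 a ha) e).2.symm)
  · intro x hx y hy e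
    subst e
    obtain ⟨a, ha, rfl⟩ := List.mem_map.1 hx
    obtain ⟨i, hi, hy⟩ := List.mem_flatMap.1 hy
    obtain ⟨b, hb, e⟩ := List.mem_map.1 hy
    rw [← S.el_one a] at e
    exact (sig_spec (List.mem_range.1 hi)).2.1
      (S.el_inj ((hL i (List.mem_range.1 hi)).2 b hb) (hVlt a ha) e).2

section Lists

variable {ε : Bool} (hfib : ∀ i < 2871, S.Fib (sig i) (spI i) (zL ε i) ∧ (spI i).Nodup)
include hfib

theorem zL_props {i : ℕ} (hi : i < 2871) :
    (zL ε i).Nodup ∧ (tL ε i).Nodup ∧ (∀ u, u ∈ tL ε i ↔ u ∈ spI i ∧ u ∉ zL ε i) ∧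
      (zL ε i).length = lenI i := by
  obtain ⟨-, hnd⟩ := hfib i hi
  have hlen : (spI i).length = 2 ^ (if i < 1485 then 7 else 6) := by
    rw [spI, spanList_length, basI, List.length_map, List.length_range]
  refine ⟨?_, ?_, fun u => ?_, ?_⟩
  · rw [zL]; split_ifs
    · exact hnd.sublist (List.take_sublist _ _)
    · exact hnd.sublist (List.drop_sublist _ _)
  · rw [tL]; split_ifs
    · exact hnd.sublist (List.drop_sublist _ _)
    · exact hnd.sublist (List.take_sublist _ _)
  · rw [tL, zL]; split_ifs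
    · exact mem_drop_iff hnd _ _
    · exact mem_take_iff hnd _ _
  · rw [zL, nD, lenI]
    by_cases h : i < 1485
    · rw [if_pos (show side ε i = true by simp [side, h]), List.length_take, hlen, if_pos h, if_pos h]
      norm_num
    · simp only [if_neg h] at hlen ⊢
      split_ifs <;> simp [hlen]

theorem tList_nodup : (S.tList ε).Nodup :=
  S.list_nodup tV_ok.1 (fun u hu => (tV_ok.2.2 u hu).1) fun i hi =>
    ⟨(S.zL_props hfib hi).2.1, fun u hu => (hfib i hi).1.lt u (((S.zL_props hfib hi).2.2.1 u).1 hu).1⟩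

theorem zList_nodup : (S.zList ε).Nodup :=
  S.list_nodup (List.nodup_range.filter _) (fun u hu => (zV_iff.1 hu).1) fun i hi =>
    ⟨(S.zL_props hfib hi).1, fun u hu => (hfib i hi).1.lt u ((hfib i hi).1.sub u hu)⟩

theorem comm_invol {p : G} (hc : p * D.eS duad2 = D.eS duad2 * p) (h2 : p * p = 1) (h1 : p ≠ 1) :
    (∃ u < 2048, u ≠ 0 ∧ p = D.evG u) ∨ ∃ i < 2871, ∃ u ∈ spI i, p = S.el u (sig i) := by
  obtain ⟨u, hu, σ, rfl⟩ := S.el_surj (D.centralizer_duad_le card_duad2 (mem_centralizer_singleton_iff.2 hc))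
  have hd := (S.commute_iff u σ).1 hc
  have hs : σ * σ = 1 := by
    have h := congrArg D.phi (show (⟨S.el u σ, S.el_mem u σ⟩ : ↥(normalizer (B.V : Set G))) *
      ⟨S.el u σ, S.el_mem u σ⟩ = 1 from Subtype.ext h2)
    rw [map_mul, map_one, S.phi_el] at h
    exact h
  by_cases he : σ = 1
  · subst he
    refine Or.inl ⟨u, hu, fun e => h1 ?_, S.el_one u⟩
    subst e
    exact S.el_zero_one
  · obtain ⟨i, hi, rfl⟩ := sig_surj hs he hd
    exact Or.inr ⟨i, hi, u, ((hfib i hi).1.sq u hu).1 h2, rfl⟩

theorem el_invol {i : ℕ} (hi : i < 2871) {u : ℕ} (hu : u ∈ spI i) :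
    orderOf (S.el u (sig i)) = 2 ∧ S.el u (sig i) * D.eS duad2 = D.eS duad2 * S.el u (sig i) := by
  have hlt := (hfib i hi).1.lt u hu
  refine ⟨orderOf_eq_prime (by rw [pow_two]; exact ((hfib i hi).1.sq u hlt).2 hu) fun h => ?_,
    (S.commute_iff u _).2 (sig_spec hi).2.2⟩
  exact (sig_spec hi).2.1 (S.el_inj hlt (by norm_num) (h.trans S.el_zero_one.symm)).2

theorem zList_mem (F : B.Facts) [IsSimpleGroup G] (hG : ¬ IsMulCommutative G) (p : G) :
    p ∈ S.zList ε ↔ IsConj z p ∧ p * D.eS duad2 = D.eS duad2 * p := by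
  constructor
  · intro hp
    rcases List.mem_append.1 hp with h | h
    · obtain ⟨u, hu, rfl⟩ := List.mem_map.1 h
      obtain ⟨hlt, h0, ht⟩ := zV_iff.1 hu
      refine ⟨?_, ?_⟩
      · by_contra hn
        exact ht ((tV_iff hlt h0).2 hn)
      · rw [← S.el_one]
        exact (S.commute_iff u 1).2 (one_smul _ _)
    · obtain ⟨i, hi, h⟩ := List.mem_flatMap.1 h
      obtain ⟨u, hu, rfl⟩ := List.mem_map.1 h
      rw [List.mem_range] at hi
      have hC := (hfib i hi).1.sub u hu
      exact ⟨((hfib i hi).1.cls u hC).2 hu, (S.el_invol hfib hi hC).2⟩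
  · rintro ⟨hz, hc⟩
    have ho : orderOf p = 2 := by rw [← orderOf_of_isConj hz]; exact M.order_z
    have h1 : p ≠ 1 := fun h => by simp [h] at ho
    have h2 : p * p = 1 := by rw [← pow_two, ← ho, pow_orderOf_eq_one]
    rcases S.comm_invol hfib hc h2 h1 with ⟨u, hu, h0, rfl⟩ | ⟨i, hi, u, hu, rfl⟩
    · refine List.mem_append_left _ (List.mem_map.2 ⟨u, zV_iff.2 ⟨hu, h0, fun ht => ?_⟩, rfl⟩)
      exact (tV_iff hu h0).1 ht hz
    · exact List.mem_append_right _ (List.mem_flatMap.2 ⟨i, List.mem_range.2 hi,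
        List.mem_map.2 ⟨u, ((hfib i hi).1.cls u hu).1 hz, rfl⟩⟩)

theorem tList_mem (F : B.Facts) [IsSimpleGroup G] (hG : ¬ IsMulCommutative G) (q : G) :
    q ∈ S.tList ε ↔ IsConj (D.eS duad2) q ∧ q * D.eS duad2 = D.eS duad2 * q := by
  obtain ⟨ht, hnc, -, hall⟩ := D.two_classes F hG card_duad2
  constructor
  · intro hq
    rcases List.mem_append.1 hq with h | h
    · obtain ⟨u, hu, rfl⟩ := List.mem_map.1 h
      obtain ⟨hlt, h0⟩ := tV_ok.2.2 u hu
      have ho : orderOf (D.evG u) = 2 := orderOf_eq_prime (by rw [pow_two, B.sq _ (D.evG_mem u)])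
        fun h => h0 (D.evG_inj hlt (by norm_num) (h.trans D.evG_zero.symm))
      refine ⟨((hall _ ho).resolve_left fun h => (tV_iff hlt h0).1 hu h.symm).symm, ?_⟩
      rw [← S.el_one]
      exact (S.commute_iff u 1).2 (one_smul _ _)
    · obtain ⟨i, hi, h⟩ := List.mem_flatMap.1 h
      obtain ⟨u, hu, rfl⟩ := List.mem_map.1 h
      rw [List.mem_range] at hi
      obtain ⟨hC, hnz⟩ := ((S.zL_props hfib hi).2.2.1 u).1 hu
      obtain ⟨ho, hcomm⟩ := S.el_invol hfib hi hC
      exact ⟨((hall _ ho).resolve_left fun h => hnz (((hfib i hi).1.cls u hC).1 h.symm)).symm, hcomm⟩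
  · rintro ⟨hq, hc⟩
    have ho : orderOf q = 2 := by rw [← orderOf_of_isConj hq]; exact ht
    have h1 : q ≠ 1 := fun h => by simp [h] at ho
    have h2 : q * q = 1 := by rw [← pow_two, ← ho, pow_orderOf_eq_one]
    have hnz : ¬ IsConj z q := fun h => hnc (h.trans hq.symm)
    rcases S.comm_invol hfib hc h2 h1 with ⟨u, hu, h0, rfl⟩ | ⟨i, hi, u, hu, rfl⟩
    · exact List.mem_append_left _ (List.mem_map.2 ⟨u, (tV_iff hu h0).2 hnz, rfl⟩)
    · exact List.mem_append_right _ (List.mem_flatMap.2 ⟨i, List.mem_range.2 hi, List.mem_map.2 ⟨u,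
        ((S.zL_props hfib hi).2.2.1 u).2 ⟨hu, fun h => hnz (((hfib i hi).1.cls u hu).2 h)⟩, rfl⟩⟩)

omit hfib in
theorem powers_comm {p q : G} (hp : p * p = 1) (hq : q * q = 1) {t : G} (ht : t * t = 1)
    (h : t ∈ zpowers (p * q)) : p * t = t * p ∧ q * t = t * q := by
  obtain ⟨k, rfl⟩ := mem_zpowers_iff.1 h
  have hp' : p⁻¹ = p := inv_eq_of_mul_eq_one_right hp
  have hq' : q⁻¹ = q := inv_eq_of_mul_eq_one_right hq
  have ht' := inv_eq_of_mul_eq_one_right ht
  constructor
  · have h1 : p * (p * q) ^ k * p⁻¹ = (p * q) ^ k := by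
      rw [← conj_zpow, show p * (p * q) * p⁻¹ = (p * q)⁻¹ by rw [mul_inv_rev, hp', hq', ← mul_assoc, hp, one_mul],
        inv_zpow, ht']
    calc p * (p * q) ^ k = p * (p * q) ^ k * p⁻¹ * p := by group
      _ = _ := by rw [h1]
  · have h1 : q * (p * q) ^ k * q⁻¹ = (p * q) ^ k := by
      rw [← conj_zpow, show q * (p * q) * q⁻¹ = (p * q)⁻¹ by rw [mul_inv_rev, hp', hq', mul_assoc, mul_assoc, hq,
        mul_one], inv_zpow, ht']
    calc q * (p * q) ^ k = q * (p * q) ^ k * q⁻¹ * q := by group
      _ = _ := by rw [h1]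

theorem gCount_el (F : B.Facts) [IsSimpleGroup G] (hG : ¬ IsMulCommutative G) {e : Elt}
    (he : validElt 5 24 e = true) (hem : permOf e ∈ M24) {Ps : ℕ} (hPs : ∀ n, appQ Ps n = app (matC e) n)
    (hord : ordOK e.1 = true) {u : ℕ} (hu : u < 2048)
    (hp : S.el u ⟨permOf e, hem⟩ * S.el u ⟨permOf e, hem⟩ = 1) :
    gCount (D.eS duad2) (S.el u ⟨permOf e, hem⟩) = gval e.1 Ps u ε := by
  classical
  obtain ⟨ht, -, -, -⟩ := D.two_classes F hG card_duad2
  have ht2 : D.eS duad2 * D.eS duad2 = 1 := B.sq _ (D.eS_mem _)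
  set p := S.el u ⟨permOf e, hem⟩
  rw [gCount, card_filter_list (S.tList ε) (S.tList_nodup hfib) _ (fun q => D.eS duad2 ∈ zpowers (p * q))
    fun q => by
      rw [S.tList_mem hfib F hG]
      exact ⟨fun h => ⟨h.1.1, h.2⟩, fun h => ⟨⟨h.1, (powers_comm hp (by
        rw [← pow_two, ← ht, orderOf_of_isConj h.1, pow_orderOf_eq_one]) ht2 h.2).2⟩, h.2⟩⟩]
  simp only [ordOK, Bool.and_eq_true, Nat.blt_eq, List.all_eq_true] at hord
  obtain ⟨hord0, hord1⟩ := hord
  obtain ⟨hiv, hia, hic⟩ := idE_ok
  have him := permOf_mem_M24 hiv hia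
  have hidc : ∀ n, appQ idP n = app (matC idE) n := fun n => by rw [appQ_eq, hic]
  have hone : (⟨permOf idE, him⟩ : ↥M24) = 1 :=
    Subtype.ext ((code_permOf hiv).unique code_idC)
  rw [tList, List.countP_append, List.countP_flatMap, List.countP_map, gval, gsums]
  have hV : tV.countP ((fun q => decide (D.eS duad2 ∈ zpowers (p * q))) ∘ D.evG) = cntV e.1 Ps u := by
    rw [cntV, ← List.countP_eq_length_filter]
    refine List.countP_congr fun w hw => ?_
    simp only [Function.comp_apply, decide_eq_true_eq, Nat.beq_eq]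
    have := S.mem_zpowers_el he hem hiv him hPs hidc hu (tV_ok.2.2 w hw).1 (Nat.pos_iff_ne_zero.1 hord0)
    rw [hone, el_one] at this
    exact this
  have hI : ∀ i ∈ List.range 2871, List.countP (fun q => decide (D.eS duad2 ∈ zpowers (p * q)))
      ((tL ε i).map fun w => S.el w (sig i)) =
      if side ε i then (cntE e.1 Ps u (decide (1485 ≤ i)) (ent i)).1 - (cntE e.1 Ps u (decide (1485 ≤ i)) (ent i)).2
      else (cntE e.1 Ps u (decide (1485 ≤ i)) (ent i)).2 := by
    intro i hi
    rw [List.mem_range] at hi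
    obtain ⟨hv, hcol, -⟩ := chk hi
    have hm := perm_mem i hi
    have hcs := cols_eq hv hcol
    have hn : prodN e.1 (ent i).1 ≠ 0 := Nat.pos_iff_ne_zero.1 (hord1 _ (by
      rw [list_ok]; exact List.mem_map.2 ⟨i, List.mem_range.2 hi, rfl⟩))
    set n := prodN e.1 (ent i).1 with hndef
    set f := fun w => fsum Ps (ent i).2.2.1 n (appQ Ps w) with hf
    set tgt := Nat.xor 2 (fsum Ps (ent i).2.2.1 n u) with htgt
    have hcount : List.countP (fun q => decide (D.eS duad2 ∈ zpowers (p * q)))
        ((tL ε i).map fun w => S.el w (sig i)) = ((tL ε i).map f).count tgt := by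
      rw [List.countP_map, List.count, List.countP_map]
      refine List.countP_congr fun w hw => ?_
      have hwlt := (hfib i hi).1.lt w (((S.zL_props hfib hi).2.2.1 w).1 hw).1
      simp only [Function.comp_apply, decide_eq_true_eq, beq_iff_eq]
      rw [sig_eq hi]
      exact S.mem_zpowers_el he hem hv hm hPs hcs hu hwlt hn
    have hmap : (spI i).map f = spanList ((basI i).map f) := spanList_map
      (by simp only [hf, appQ_zero, fsum_zero]) (fun a b => by simp only [hf, appQ_xor, fsum_xor]) _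
    have hb : basI i = (List.range (bif decide (1485 ≤ i) then 6 else 7)).map (fld (ent i).2.1) := by
      rw [basI]
      by_cases h : i < 1485
      · rw [if_pos h, decide_eq_false (by omega)]; rfl
      · rw [if_neg h, decide_eq_true (by omega)]; rfl
    set k := bif decide (1485 ≤ i) then 1 else 3 with hk
    have hfull : (cntE e.1 Ps u (decide (1485 ≤ i)) (ent i)).1 = (spanList ((basI i).map f)).count tgt := by
      rw [← cntR_eq, hb]; rfl
    have hpart : (cntE e.1 Ps u (decide (1485 ≤ i)) (ent i)).2 =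
        ((spanList ((basI i).map f)).take (nD i)).count tgt := by
      have hd : nD i = 2 ^ (((basI i).map f).drop k).length := by
        simp only [nD, hb, hk, List.length_drop, List.length_map, List.length_range]
        by_cases h : i < 1485
        · rw [if_pos h, decide_eq_false (by omega)]; rfl
        · rw [if_neg h, decide_eq_true (by omega)]; rfl
      rw [hd, count_span_take, hb]; rfl
    rw [hcount, tL, hfull, hpart]
    cases side ε i
    · simp only [Bool.false_eq_true, if_false]
      rw [List.map_take, hmap]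
    · simp only [if_true]
      rw [List.map_drop, hmap]
      conv_rhs => lhs; rw [← List.take_append_drop (nD i) (spanList ((basI i).map f)), List.count_append]
      omega
  rw [hV]
  simp only [Function.comp_def]
  rw [List.map_congr_left hI]
  have hsplit : List.range 2871 = List.range' 0 1485 ++ List.range' 1485 1386 := by
    rw [List.range_eq_range', List.range'_append_1]
  rw [hsplit, List.map_append, List.sum_append, list_ok, hsplit, List.map_append]
  have hl : ((List.range' 0 1485).map ent).length = 1485 := by simp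
  rw [List.take_append_of_le_length hl.ge, List.take_of_length_le hl.le,
    List.drop_append_of_le_length hl.ge, List.drop_of_length_le hl.le, List.nil_append]
  simp only [List.map_map]
  rw [Nat.add_assoc]
  refine congrArg _ (congrArg₂ (· + ·) ?_ ?_)
  · refine congrArg List.sum (List.map_congr_left fun i hi => ?_)
    have h : i < 1485 := by have := (List.mem_range'_1.1 hi).2; omega
    simp only [Function.comp_apply, side, decide_eq_true h, Bool.true_or, if_true,
      decide_eq_false (show ¬ 1485 ≤ i by omega)]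
  · have hc : ∀ i ∈ List.range' 1485 1386, decide (i < 1485) = false ∧ decide (1485 ≤ i) = true :=
      fun i hi => by
        have := (List.mem_range'_1.1 hi).1
        exact ⟨decide_eq_false (by omega), decide_eq_true this⟩
    cases ε
    · simp only [Bool.false_eq_true, if_false]
      refine congrArg List.sum (List.map_congr_left fun i hi => ?_)
      simp [Function.comp_apply, side, (hc i hi).1, (hc i hi).2]
    · simp only [if_true]
      refine congrArg List.sum (List.map_congr_left fun i hi => ?_)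
      simp [Function.comp_apply, side, (hc i hi).2]

omit hfib in
/-- Conjugation by the section at a generator fixes the involution of the pair. -/
theorem kk_fix {g : Elt} (hg : validElt 5 24 g = true) (hm : permOf g ∈ M24) (h2 : app (matC g) 2 = 2) :
    S.kk ⟨permOf g, hm⟩ * D.eS duad2 * (S.kk ⟨permOf g, hm⟩)⁻¹ = D.eS duad2 := by
  rw [← evG_two, S.kk_conj hg hm (by norm_num), h2]

theorem gCount_orb (F : B.Facts) [IsSimpleGroup G] (hG : ¬ IsMulCommutative G) {L : List ℕ} {n v : ℕ}
    (hok : ∀ k < n, chkOrb L k = true) (hval : gsums idC idP (orbU L 0) = (v, 0, 0)) :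
    ∀ k < n, gCount (D.eS duad2) (D.evG (orbU L k)) = v := by
  intro k
  induction k using Nat.strong_induction_on with
  | _ k ih =>
    intro hk
    have h := hok k hk
    simp only [chkOrb, Bool.and_eq_true, Bool.or_eq_true, Nat.blt_eq, Nat.beq_eq] at h
    obtain ⟨hlt, h⟩ := h
    rcases h with rfl | ⟨hp, he⟩
    · obtain ⟨hiv, hia, hic⟩ := idE_ok
      have him := permOf_mem_M24 hiv hia
      have hone : (⟨permOf idE, him⟩ : ↥M24) = 1 := Subtype.ext ((code_permOf hiv).unique code_idC)
      have := S.gCount_el hfib F hG hiv him (fun m => by rw [appQ_eq, hic]) ord_id hlt (by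
        rw [hone, el_one]; exact B.sq _ (D.evG_mem _))
      rw [hone, el_one] at this
      rw [this, gval, show (idE : Elt).1 = idC from rfl, hval]
      cases ε <;> rfl
    · set b := orbP L k % 2
      have hb : b < 2 := Nat.mod_lt _ (by norm_num)
      obtain ⟨hgv, hga, -, hg2⟩ := stab_ok _ (genL_mem b hb)
      have hpk := hp.trans hk
      have hpl := hok _ hpk
      simp only [chkOrb, Bool.and_eq_true, Nat.blt_eq] at hpl
      rw [← he, genP_cols b hb, ← S.kk_conj hgv (permOf_mem_M24 hgv hga) hpl.1,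
        gCount_conj (S.kk_fix hgv (permOf_mem_M24 hgv hga) hg2), ih _ hp hpk]

theorem gCount_sig (F : B.Facts) [IsSimpleGroup G] (hG : ¬ IsMulCommutative G) :
    ∀ i < 2871, ∀ u ∈ zL ε i, gCount (D.eS duad2) (S.el u (sig i)) = valI i := by
  intro i
  induction i using Nat.strong_induction_on with
  | _ i ih =>
    intro hi u hu
    obtain ⟨hv, hcol, -, -, -, hor, -, -⟩ := chk hi
    have hm := perm_mem i hi
    obtain ⟨hF, hnd⟩ := hfib i hi
    by_cases e : i = rootI i
    · obtain ⟨r, hr, hrr⟩ := rootI_cases i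
      have hdisp := root_disp r hr
      have hrep := root_rep r hr ε
      rw [← hrr, ← e] at hdisp hrep
      have hd := hrep u hu
      obtain ⟨x, hx, hxe⟩ := List.any_eq_true.1 (hdisp _ hd)
      rw [List.mem_range] at hx
      rw [beq_iff_eq] at hxe
      have hz1 : repZ ε i ∈ zL ε i := by
        rw [repZ]
        have hl := (S.zL_props hfib hi).2.2.2
        rw [List.getD_eq_getElem _ _ (show 0 < (zL ε i).length by rw [hl, lenI]; split_ifs <;> norm_num)]
        exact List.getElem_mem _
      set r0 := repZ ε i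
      have hr0 := hF.lt r0 (hF.sub r0 hz1)
      have hcols : colI i = (List.range 11).map (fld (ent i).2.2.1) := rfl
      have hMx : app (colI i) x = app (matC (eI i)) x := by rw [hcols, ← appQ_eq, cols_eq hv hcol]
      have key : D.evG x * S.el r0 (sig i) * (D.evG x)⁻¹ = S.el u (sig i) := by
        rw [inv_eq_of_mul_eq_one_right (B.sq _ (D.evG_mem x)), ← S.el_one x, sig_eq hi, mul_assoc,
          S.el_mul hv hm hr0 hx, mul_one]
        have hlt : r0 ^^^ app (matC (eI i)) x < 2048 := Nat.xor_lt_two_pow (n := 11) hr0 (map_lt hv hx)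
        rw [el_one, el, el, ← mul_assoc, ← D.evG_xor hx hlt]
        congr 2
        rw [← Nat.xor_assoc, Nat.xor_comm x r0, Nat.xor_assoc, ← hMx, hxe, ← Nat.xor_assoc,
          Nat.xor_comm r0 u, Nat.xor_assoc, Nat.xor_self, Nat.xor_zero]
      rw [← key, gCount_conj (by
        rw [mul_inv_eq_iff_eq_mul, ← evG_two, ← D.evG_xor hx (by norm_num), ← D.evG_xor (by norm_num) hx,
          Nat.xor_comm]), sig_eq hi]
      have hord : ordOK (eI i).1 = true := by
        show ordOK (ent i).1 = true
        rw [e, hrr]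
        interval_cases r
        exacts [ord_root0, ord_root1, ord_root2]
      rw [S.gCount_el hfib F hG hv hm (cols_eq hv hcol) hord hr0 (by
        rw [← sig_eq hi]; exact (hF.sq r0 hr0).2 (hF.sub r0 hz1))]
      show gval (ent i).1 (ent i).2.2.1 r0 ε = valI i
      obtain ⟨r1, r2, r3, r4, r5, r6⟩ := rep_vals
      simp only [r0, gval]
      rw [e, hrr]
      interval_cases r
      · cases ε
        · rw [show roots.getD 0 0 = 0 from rfl, r2, val_root0]; rfl
        · rw [show roots.getD 0 0 = 0 from rfl, r1, val_root0]; rfl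
      · cases ε
        · rw [show roots.getD 1 0 = 330 from rfl, r4, val_root1]; rfl
        · rw [show roots.getD 1 0 = 330 from rfl, r3, val_root1]; rfl
      · cases ε
        · rw [show roots.getD 2 0 = 1485 from rfl, r6, val_root3]; rfl
        · rw [show roots.getD 2 0 = 1485 from rfl, r5, val_root2]; rfl
    · obtain ⟨hp, hroot, -, hbas⟩ := hor.resolve_left e
      have hgm := permOf_mem_M24 (gen_spec i).1 (gen_spec i).2.1
      obtain ⟨hn, -, hs⟩ := same_class hroot
      have hz : zL ε i = (zL ε (parL i)).map (app (matC (genL i))) := by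
        rw [zL, zL, hs ε, hn, spI, spI, hbas, funext (genP_gen i),
          ← spanList_map (J4Module.app_zero _) (J4Module.app_xor _)]
        split_ifs
        · rw [List.map_take]
        · rw [List.map_drop]
      rw [hz] at hu
      obtain ⟨v, hv', rfl⟩ := List.mem_map.1 hu
      have hpi := hp.trans hi
      rw [sig_conj hi e, ← S.conj_el (gen_spec i).1 hgm ((hfib _ hpi).1.lt v ((hfib _ hpi).1.sub v hv')),
        gCount_conj (S.kk_fix (gen_spec i).1 hgm (gen_spec i).2.2.2), ih _ hp hpi v hv', valI, valI]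
      have : (parL i < 330 ↔ i < 330) ∧ (parL i < 1485 ↔ i < 1485) := by
        unfold rootI at hroot
        split_ifs at hroot <;> omega
      simp [this.1, this.2]

omit hfib in
include S in
theorem orbL_perm : orbL.Perm zV := by
  have hm : ∀ u, u ∈ orbL ↔ u ∈ zV := fun u =>
    ⟨fun h => maskOf_mem.1 (List.all_eq_true.1 orb_sub u h),
      fun h => maskOf_mem.1 (List.all_eq_true.1 zV_sub u h)⟩
  have hz : zV.Nodup := List.nodup_range.filter _
  refine ((List.subperm_of_subset hz fun u hu => (hm u).2 hu).perm_of_length_le ?_).symm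
  rw [zV_length, orbL, List.length_append, List.length_map, List.length_map, orbA_ok.1, orbB_ok.1]

theorem orb_list {L : List ℕ} {n v : ℕ} (hlen : L.length = n)
    (h : ∀ k < n, gCount (D.eS duad2) (D.evG (orbU L k)) = v) :
    ((L.map (· / 8192)).map fun u => gCount (D.eS duad2) (D.evG u)).sum = n * v := by
  subst hlen
  rw [List.map_map, List.sum_eq_card_nsmul _ v, List.length_map, smul_eq_mul]
  intro x hx
  obtain ⟨a, ha, rfl⟩ := List.mem_map.1 hx
  obtain ⟨k, hk, rfl⟩ := List.getElem_of_mem ha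
  have hnth : ∀ (k : ℕ) (l : List ℕ) (hk : k < l.length), nth 0 k l = l[k] := by
    intro k
    induction k with
    | zero => intro l hk; cases l with
      | nil => simp at hk
      | cons a l => rfl
    | succ k ih => intro l hk; cases l with
      | nil => simp at hk
      | cons a l => exact ih l (by simpa using hk)
  simp only [Function.comp_apply]
  rw [← h k hk, orbU, hnth k L hk]

theorem two_count (F : B.Facts) [IsSimpleGroup G] (hG : ¬ IsMulCommutative G) : TwoCount z (D.eS duad2) := by
  classical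
  obtain ⟨ht, -, -, -⟩ := D.two_classes F hG card_duad2
  have ht2 : D.eS duad2 * D.eS duad2 = 1 := B.sq _ (D.eS_mem _)
  have hlen : ((List.range 2871).map fun i => (zL ε i).length).sum = 68112 := by
    rw [← sums_ok.1]
    exact congrArg List.sum (List.map_congr_left fun i hi => (S.zL_props hfib (List.mem_range.1 hi)).2.2.2)
  constructor
  · rw [commCount, card_filter_list (S.zList ε) (S.zList_nodup hfib) _ (fun _ => True) fun q => by
      rw [S.zList_mem hfib F hG, and_true]]
    simp only [decide_true, List.countP_true, zList, List.length_append, List.length_map, zV_length,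
      List.length_flatMap, hlen]
  · rw [pairCount_eq_sum (S.zList ε) (S.zList_nodup hfib) (S.zList_mem hfib F hG) fun p q hp hq h =>
      (powers_comm (by rw [← pow_two, ← M.order_z, orderOf_of_isConj hp, pow_orderOf_eq_one])
        (by rw [← pow_two, ← ht, orderOf_of_isConj hq, pow_orderOf_eq_one]) ht2 h).1]
    rw [zList, List.map_append, List.sum_append, List.map_map, List.map_flatMap, List.flatMap_def,
      List.sum_flatten, List.map_map]
    have h1 : (zV.map (gCount (D.eS duad2) ∘ D.evG)).sum = 231 + 1540 * 2688 := by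
      rw [← ((orbL_perm S).map _).sum_eq, orbL, List.map_append, List.sum_append]
      show ((orbA.map (· / 8192)).map fun u => gCount (D.eS duad2) (D.evG u)).sum +
        ((orbB.map (· / 8192)).map fun u => gCount (D.eS duad2) (D.evG u)).sum = _
      rw [S.orb_list hfib orbA_ok.1 (S.gCount_orb hfib F hG orbA_ok.2 val_orbA),
        S.orb_list hfib orbB_ok.1 (S.gCount_orb hfib F hG orbB_ok.2 val_orbB)]
    have h2 : ((List.range 2871).map fun i =>
        (((zL ε i).map fun u => S.el u (sig i)).map (gCount (D.eS duad2))).sum).sum =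
        1544188503 - (231 + 1540 * 2688) := by
      rw [← sums_ok.2]
      refine congrArg List.sum (List.map_congr_left fun i hi => ?_)
      rw [List.mem_range] at hi
      rw [List.map_map, List.sum_eq_card_nsmul _ (valI i), List.length_map, (S.zL_props hfib hi).2.2.2,
        smul_eq_mul]
      intro x hx
      obtain ⟨u, hu, rfl⟩ := List.mem_map.1 hx
      exact S.gCount_sig hfib F hG i hi u hu
    simp only [Function.comp_def] at h1 h2 ⊢
    rw [h1, h2]

end Lists

end BigPack.Sec

/-- The two counts inside the centraliser of the involution of the standard pair. -/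
theorem BigData.Facts.two_count (F : B.Facts) [IsSimpleGroup G] (hG : ¬ IsMulCommutative G)
    (hD : D.eS = F.coords.eS) : TwoCount z (D.eS TC.duad2) := by
  obtain ⟨S⟩ := D.exists_sec M
  obtain ⟨ε, h⟩ := S.fib_sig F hG hD
  exact S.two_count h F hG

end Cfsg.Agent.JankoFour
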