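import Cfsg.Agent.Lib.JankoFour.ClassPairChecks
import Cfsg.Agent.Lib.JankoFour.ClassCount
import Cfsg.Agent.Lib.JankoFour.TCountMain

/-!
The 2-elements with the involution of a pair among their powers: the involution and one class of elements of
order four.
-/

set_option autoImplicit false
set_option linter.unusedSectionVars false
set_option linter.style.haveILetI false
set_option maxRecDepth 100000

namespace Cfsg.Agent.JankoFour

open Subgroup
open Cfsg (GolayPt M24)
open Cfsg.Agent.Golay (permOf permOf_mem_M24 isAutB imgMask)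
open Cfsg.Agent.Golay.Local (cmpF sameF idC Code code_permOf sameF_iff code_idC)
open Cfsg.Agent.PermCert (Elt validElt)
open Cfsg.Agent.J4Module (app)
open KCount
open scoped Pointwise

namespace PairTwo

open TC (nth duad2 smul_duad2)

theorem norm_xor (P a b : ℕ) : normQ P (a ^^^ b) = normQ P a ^^^ normQ P b := by
  have e : ∀ a, normQ P a = a ^^^ TC.appQ P a ^^^ TC.appQ P (TC.appQ P (a ^^^ TC.appQ P a)) := fun a => rfl
  simp only [e, TC.appQ_xor]
  ac_rfl

theorem par_xor (a b : ℕ) : par11 (a ^^^ b) = (par11 a ^^ par11 b) := by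
  unfold par11
  induction ([0, 1, 2, 3, 4, 5, 6, 7, 8, 9, 10] : List ℕ) with
  | nil => rfl
  | cons i l ih =>
    simp only [List.foldr_cons]
    rw [ih, Nat.testBit_xor]
    cases a.testBit i <;> cases b.testBit i <;>
      cases List.foldr (fun i r => a.testBit i ^^ r) false l <;>
      cases List.foldr (fun i r => b.testBit i ^^ r) false l <;> rfl

theorem par_zero : par11 0 = false := by decide

/-- A functional vanishing on the norms of the units vanishes on all norms. -/
theorem par_norm {P f : ℕ} (h : ∀ b < 11, par11 (f &&& normQ P (2 ^ b)) = false) {a : ℕ} (ha : a < 2048) :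
    par11 (f &&& normQ P a) = false := by
  refine Coord.bits_induct (N := 11) (p := fun a => par11 (f &&& normQ P a) = false) ?_ ?_ ha
  · show par11 (f &&& normQ P 0) = false
    have : normQ P 0 = 0 := by simp [normQ, TC.appQ_zero]
    rw [this, Nat.and_zero, par_zero]
  · intro i hi m _ hm
    show par11 (f &&& normQ P (2 ^ i ^^^ m)) = false
    rw [norm_xor, Nat.and_xor_distrib_left, par_xor, h i hi, hm]
    rfl

/-- A generator as an element of the group of the code. -/
noncomputable def genS (k : ℕ) : ↥M24 :=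
  if h : permOf (pG k) ∈ M24 then ⟨permOf (pG k), h⟩ else 1

theorem genS_eq {k : ℕ} (hk : k < 4) :
    genS k = ⟨permOf (pG k), permOf_mem_M24 (gens_ok.2 k hk).1 (gens_ok.2 k hk).2.1⟩ := by rw [genS, dif_pos]

/-- The subgroup generated. -/
noncomputable def sylP : Subgroup ↥M24 := closure (Set.range fun k : Fin 4 => genS k)

theorem sylP_le : sylP ≤ MulAction.stabilizer ↥M24 duad2 := by
  rw [sylP, closure_le]
  rintro _ ⟨k, rfl⟩
  show genS k • duad2 = duad2
  exact smul_duad2 (gens_ok.2 k k.2).1 (gens_ok.2 k k.2).2.2 (by rw [genS_eq k.2])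

/-- Every element of the subgroup is listed. -/
theorem sylP_listed {σ : ↥M24} (h : σ ∈ sylP) : ∃ i < 256, (σ : Equiv.Perm GolayPt) = permOf (pE i) := by
  have hmul : ∀ (k : Fin 4) (σ : ↥M24), (∃ i < 256, (σ : Equiv.Perm GolayPt) = permOf (pE i)) →
      ∃ i < 256, ((genS k * σ : ↥M24) : Equiv.Perm GolayPt) = permOf (pE i) := by
    rintro k σ ⟨i, hi, e⟩
    obtain ⟨j, hj, hs⟩ := List.any_eq_true.1 (closed_ok k k.2 i hi)
    rw [List.mem_range] at hj
    refine ⟨j, hj, ?_⟩
    rw [Subgroup.coe_mul, genS_eq k.2, e]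
    exact (sameF_iff ((code_permOf (gens_ok.2 k k.2).1).cmp (code_permOf (elts_ok i hi).1))
      (code_permOf (elts_ok j hj).1)).1 hs
  have h' : σ ∈ Submonoid.closure (Set.range fun k : Fin 4 => genS k) := by
    rw [sylP, ← Subgroup.mem_toSubmonoid, Subgroup.closure_toSubmonoid_of_finite] at h
    exact h
  induction h' using Submonoid.closure_induction_left with
  | one => exact ⟨0, by norm_num, ((sameF_iff (code_permOf (elts_ok 0 (by norm_num)).1) code_idC).1 tree_ok.1).symm⟩
  | mul_left x hx y hy ih =>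
    obtain ⟨k, rfl⟩ := hx
    refine hmul k y (ih ?_)
    rw [sylP, ← Subgroup.mem_toSubmonoid, Subgroup.closure_toSubmonoid_of_finite]
    exact hy

theorem sylP_reached : ∀ i < 256, ∃ σ ∈ sylP, (σ : Equiv.Perm GolayPt) = permOf (pE i) := by
  intro i
  induction i using Nat.strong_induction_on with
  | _ i ih =>
    intro hi
    by_cases h0 : i = 0
    · exact ⟨1, one_mem _, by rw [h0]; exact ((sameF_iff (code_permOf (elts_ok 0 (by norm_num)).1) code_idC).1 tree_ok.1).symm⟩
    · obtain ⟨hp, hs⟩ := tree_ok.2 i hi h0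
      obtain ⟨σ, hσ, e⟩ := ih _ hp (by omega)
      have hk : nth 0 i pTree % 4 < 4 := Nat.mod_lt _ (by norm_num)
      refine ⟨genS (nth 0 i pTree % 4) * σ, mul_mem (subset_closure ⟨⟨_, hk⟩, rfl⟩) hσ, ?_⟩
      rw [Subgroup.coe_mul, genS_eq hk, e]
      exact (sameF_iff ((code_permOf (gens_ok.2 _ hk).1).cmp (code_permOf (elts_ok _ (by omega)).1))
        (code_permOf (elts_ok i hi).1)).1 hs

theorem pE_inj {i j : ℕ} (hi : i < 256) (hj : j < 256) (h : permOf (pE i) = permOf (pE j)) : i = j := by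
  obtain ⟨r, hr, er⟩ := List.any_eq_true.1 (sort_ok.2 i hi)
  obtain ⟨s, hs, es⟩ := List.any_eq_true.1 (sort_ok.2 j hj)
  rw [List.mem_range] at hr hs
  rw [Nat.beq_eq] at er es
  have hk : cmpF (pE i).1 idC = cmpF (pE j).1 idC :=
    (code_permOf (elts_ok i hi).1).cmpF_congr (h ▸ code_permOf (elts_ok j hj).1) code_idC
  have hmono : ∀ a b, a < b → b < 256 → cmpF (pE (nth 0 a pSort)).1 idC < cmpF (pE (nth 0 b pSort)).1 idC := by
    intro a b hab hb
    induction hab with
    | refl => exact sort_ok.1 a (by omega)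
    | step hle ih => exact (ih (by omega)).trans (sort_ok.1 _ (by omega))
  rcases lt_trichotomy r s with e | e | e
  · have := hmono _ _ e hs; rw [er, es, hk] at this; omega
  · rw [← er, ← es, e]
  · have := hmono _ _ e hr; rw [er, es, hk] at this; omega

theorem card_sylP : Nat.card ↥sylP = 256 := by
  classical
  choose f hf hfe using fun i : Fin 256 => sylP_reached i i.2
  have hb : Function.Bijective (fun i : Fin 256 => (⟨f i, hf i⟩ : ↥sylP)) := by
    constructor
    · intro a b e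
      refine Fin.ext (pE_inj a.2 b.2 ?_)
      rw [← hfe, ← hfe, show f a = f b from congrArg Subtype.val e]
    · rintro ⟨σ, hσ⟩
      obtain ⟨i, hi, e⟩ := sylP_listed hσ
      exact ⟨⟨i, hi⟩, Subtype.ext (Subtype.ext ((hfe ⟨i, hi⟩).trans e.symm))⟩
  rw [← Nat.card_eq_of_bijective _ hb, Nat.card_fin]

theorem card_stab_duad : Nat.card ↥(MulAction.stabilizer ↥M24 duad2) = 887040 := by
  classical
  have ho : Nat.card ↑(MulAction.orbit ↥M24 duad2) = 276 := by
    have e : ↑(MulAction.orbit ↥M24 duad2) ≃ {d : Finset GolayPt // d.card = 2} :=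
      { toFun := fun d => ⟨d.1, by
          obtain ⟨g, hg⟩ := d.2
          rw [← hg]
          exact (Finset.card_smul_finset g duad2).trans TC.card_duad2⟩
        invFun := fun d => ⟨d.1, by
          obtain ⟨g, hg⟩ := TC.exists_map_pair d.2
          exact ⟨g⁻¹, by rw [← hg]; exact inv_smul_smul g d.1⟩⟩
        left_inv := fun d => rfl
        right_inv := fun d => rfl }
    rw [Nat.card_congr e, Nat.card_eq_fintype_card, Fintype.card_finset_len,
      show Fintype.card GolayPt = 24 from rfl]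
    decide
  have h := Nat.card_congr (MulAction.orbitProdStabilizerEquivGroup ↥M24 duad2)
  rw [Nat.card_prod, ho, Golay.card_M24] at h
  omega

/-- An element of order dividing four fixing the pair is conjugate there to a listed one. -/
theorem exists_conj_listed {τ : ↥M24} (hd : τ • duad2 = duad2) (h4 : τ ^ 4 = 1) :
    ∃ ρ : ↥M24, ρ • duad2 = duad2 ∧ ∃ i < 256, ((ρ * τ * ρ⁻¹ : ↥M24) : Equiv.Perm GolayPt) = permOf (pE i) := by
  haveI : Fact (Nat.Prime 2) := ⟨Nat.prime_two⟩
  set A := MulAction.stabilizer ↥M24 duad2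
  have hfac : (Nat.card ↥A).factorization 2 = 8 := by
    rw [card_stab_duad, show 887040 = 2 ^ 8 * 3465 by norm_num, Nat.factorization_mul (by norm_num) (by norm_num),
      Finsupp.add_apply, Nat.Prime.factorization_pow Nat.prime_two, Finsupp.single_eq_same,
      Nat.factorization_eq_zero_of_not_dvd (by norm_num)]
  let T : Sylow 2 ↥A := Sylow.ofCard (sylP.subgroupOf A) (by
    rw [Nat.card_congr (subgroupOfEquivOfLe sylP_le).toEquiv, card_sylP, hfac]; norm_num)
  set x : ↥A := ⟨τ, hd⟩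
  have hp : IsPGroup 2 ↥(zpowers x) := by
    rintro ⟨y, i, rfl⟩
    refine ⟨2, Subtype.ext ?_⟩
    show (x ^ i) ^ 2 ^ 2 = 1
    have : x ^ (2 ^ 2) = 1 := Subtype.ext (by simpa using h4)
    rw [← zpow_natCast, ← zpow_mul, mul_comm, zpow_mul, zpow_natCast, this, one_zpow]
  obtain ⟨R, hR⟩ := hp.exists_le_sylow
  obtain ⟨g, hg⟩ := MulAction.exists_smul_eq ↥A R T
  refine ⟨g, g.2, sylP_listed ?_⟩
  have hm : g * x * g⁻¹ ∈ ((g • R : Sylow 2 ↥A) : Subgroup ↥A) := by
    rw [Sylow.coe_subgroup_smul, Subgroup.mem_pointwise_smul_iff_inv_smul_mem]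
    show (MulAut.conj g)⁻¹ (MulAut.conj g x) ∈ (R : Subgroup ↥A)
    rw [MulAut.inv_apply_self]
    exact hR (mem_zpowers x)
  rw [hg] at hm
  exact hm

end PairTwo

variable {G : Type*} [Group G] [Finite G] {z : G} {P : Subgroup G} {M : Model z P} {B : BigData M}
  {D : BigPack z B.V}

namespace BigPack.Sec

open TC (nth duad2 appQ matC matP ent eI sig sig_eq sig_conj sig_surj rootI parL genL)
open PairTwo

variable (S : D.Sec)

/-- Conjugation by a lift of an element fixing the pair fixes its involution. -/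
theorem kk_fix_smul {ρ : ↥M24} (h : ρ • duad2 = duad2) : S.kk ρ * D.eS duad2 = D.eS duad2 * S.kk ρ := by
  have := (S.commute_iff 0 ρ).2 h
  rwa [el, D.evG_zero, one_mul] at this

theorem kk_carry (ρ : ↥M24) {u : ℕ} (τ : ↥M24) :
    ∃ v < 2048, S.kk ρ * S.el u τ * (S.kk ρ)⁻¹ = S.el v (ρ * τ * ρ⁻¹) := by
  have hm : S.kk ρ * S.el u τ * (S.kk ρ)⁻¹ ∈ normalizer (B.V : Set G) :=
    mul_mem (mul_mem (S.mem ρ) (S.el_mem u τ)) (inv_mem (S.mem ρ))
  obtain ⟨v, hv, σ, e⟩ := S.el_surj hm
  refine ⟨v, hv, ?_⟩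
  have h1 : D.phi ⟨_, hm⟩ = ρ * τ * ρ⁻¹ := by
    have : (⟨_, hm⟩ : ↥(normalizer (B.V : Set G))) =
        ⟨S.kk ρ, S.mem ρ⟩ * ⟨S.el u τ, S.el_mem u τ⟩ * ⟨S.kk ρ, S.mem ρ⟩⁻¹ := Subtype.ext rfl
    rw [this, map_mul, map_mul, map_inv, S.sect, S.phi_el]
  have h2 := S.phi_el v σ
  rw [show (⟨S.el v σ, S.el_mem v σ⟩ : ↥(normalizer (B.V : Set G))) = ⟨_, hm⟩ from Subtype.ext e, h1] at h2
  rw [h2, e]

theorem el_sq_of {e : Elt} (he : validElt 5 24 e = true) (hm : permOf e ∈ M24) {u : ℕ} (hu : u < 2048) :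
    S.el u ⟨permOf e, hm⟩ * S.el u ⟨permOf e, hm⟩ =
      S.el (u ^^^ appQ (matP e) u) (⟨permOf e, hm⟩ * ⟨permOf e, hm⟩) := by
  rw [S.el_mul he hm hu hu, TC.cols_eq he rfl]

include S in
/-- No element has the involution of the pair as fourth power. -/
theorem pow_four_ne {y : G} (hy : y * D.eS duad2 = D.eS duad2 * y) : y ^ 4 ≠ D.eS duad2 := by
  intro h4
  have hyN : y ∈ normalizer (B.V : Set G) := D.centralizer_duad_le TC.card_duad2 (mem_centralizer_singleton_iff.2 hy)
  obtain ⟨a, -, τ, rfl⟩ := S.el_surj hyN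
  have hd := (S.commute_iff a τ).1 hy
  have hτ : τ ^ 4 = 1 := by
    have h1 : D.phi (⟨S.el a τ, S.el_mem a τ⟩ ^ 4) = D.phi ⟨D.eS duad2, le_normalizer (D.eS_mem _)⟩ :=
      congrArg D.phi (Subtype.ext h4)
    rw [map_pow, S.phi_el] at h1
    rw [h1]
    exact MonoidHom.mem_ker.1 (by rw [D.phi_ker, mem_subgroupOf]; exact D.eS_mem _)
  obtain ⟨ρ, hρ, i, hi, e⟩ := exists_conj_listed hd hτ
  obtain ⟨v, hv, hconj⟩ := S.kk_carry ρ (u := a) τ
  obtain ⟨hev, hcol⟩ := elts_ok i hi
  have hem : permOf (pE i) ∈ M24 := e ▸ (ρ * τ * ρ⁻¹).2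
  have hw : S.el v ⟨permOf (pE i), hem⟩ ^ 4 = S.el 2 1 := by
    rw [show (⟨permOf (pE i), hem⟩ : ↥M24) = ρ * τ * ρ⁻¹ from Subtype.ext e.symm, ← hconj, conj_pow, h4,
      S.kk_fix_smul hρ, mul_inv_cancel_right, el_two]
  set σ : ↥M24 := ⟨permOf (pE i), hem⟩
  set c := v ^^^ appQ (matP (pE i)) v
  have hc : c < 2048 := Nat.xor_lt_two_pow (n := 11) hv (TC.appQ_lt _ _)
  obtain ⟨b, hb, hsq⟩ : ∃ b, b = c ^^^ appQ (matP (pE i)) (appQ (matP (pE i)) c) ∧
      S.el v σ ^ 4 = S.el b (σ * σ * (σ * σ)) := by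
    refine ⟨_, rfl, ?_⟩
    have h2 : ∀ w < 2048, S.kk σ * D.evG w * (S.kk σ)⁻¹ = D.evG (appQ (matP (pE i)) w) := fun w hw => by
      rw [S.kk_conj hev hem hw, TC.cols_eq hev rfl]
    have hP : appQ (matP (pE i)) c < 2048 := TC.appQ_lt _ _
    rw [show (4 : ℕ) = 2 * 2 from rfl, pow_mul, pow_two, pow_two, S.el_sq_of hev hem hv, el, el, map_mul,
      D.evG_xor hc (TC.appQ_lt _ _), ← h2 _ hP, ← h2 _ hc, map_mul, map_mul]
    show D.evG c * (S.kk σ * S.kk σ) * (D.evG c * (S.kk σ * S.kk σ)) = _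
    group
    simp only [zpow_two, mul_assoc]
  rw [hw] at hsq
  obtain ⟨e2, e1⟩ := S.el_inj (by norm_num) (hb ▸ Nat.xor_lt_two_pow (n := 11) hc (TC.appQ_lt _ _)) hsq
  have hav := avoid_ok i hi
  have hid : sameF (cmpF (cmpF (pE i).1 (pE i).1) (cmpF (pE i).1 (pE i).1)) idC = true :=
    (sameF_iff (((code_permOf hev).cmp (code_permOf hev)).cmp ((code_permOf hev).cmp (code_permOf hev))) code_idC).2
      (congrArg Subtype.val e1).symm
  simp only [avoidOK, hid, Bool.not_true, Bool.false_or, Bool.and_eq_true, List.all_eq_true, List.mem_range,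
    Bool.not_eq_true'] at hav
  have hn : b = normQ (matP (pE i)) v := hb
  have hz := par_norm (P := matP (pE i)) (f := nth 0 i pFun) (fun k hk => hcol ▸ hav.2 k hk) hv
  rw [← hn, ← e2] at hz
  have h1 := hav.1
  rw [show Nat.land (nth 0 i pFun) 2 = nth 0 i pFun &&& 2 from rfl, hz] at h1
  exact Bool.false_ne_true h1

theorem sig_root : ∀ i < 2871, ∃ ρ : ↥M24, ρ • duad2 = duad2 ∧ ρ * sig i * ρ⁻¹ = sig (rootI i) := by
  intro i
  induction i using Nat.strong_induction_on with
  | _ i ih =>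
    intro hi
    by_cases hn : i = rootI i
    · exact ⟨1, one_smul _ _, by rw [one_mul, inv_one, mul_one, ← hn]⟩
    · obtain ⟨-, -, -, -, -, hor, -, -⟩ := TC.chk hi
      obtain ⟨hp, hr, -, -⟩ := hor.resolve_left hn
      obtain ⟨ρ, hρ, e⟩ := ih _ hp (hp.trans hi)
      obtain ⟨hgv, hga, h3, -⟩ := TC.gen_spec i
      set g : ↥M24 := ⟨permOf (genL i), permOf_mem_M24 hgv hga⟩
      have hg : g • duad2 = duad2 := TC.smul_duad2 hgv h3 rfl
      refine ⟨ρ * g⁻¹, by rw [mul_smul, inv_smul_eq_iff.2 hg.symm, hρ], ?_⟩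
      rw [sig_conj hi hn, ← hr, ← e]
      show ρ * g⁻¹ * (g * sig (parL i) * g⁻¹) * (ρ * g⁻¹)⁻¹ = _
      group

/-- The representative of order four. -/
noncomputable def x4 : G := S.el fourRep (sig 0)

theorem x4_sq : S.x4 * S.x4 = D.eS duad2 ∧ S.x4 * D.eS duad2 = D.eS duad2 * S.x4 := by
  obtain ⟨hv, hP, -⟩ := TC.chk (show 0 < 2871 by norm_num)
  have hsq : S.x4 * S.x4 = D.eS duad2 := by
    have h := S.el_sq_of (u := fourRep) hv (TC.perm_mem 0 (by norm_num)) rep_ok.1
    rw [← sig_eq (by norm_num), (TC.sig_spec (show 0 < 2871 by norm_num)).1, ← hP,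
      show fourRep ^^^ appQ (ent 0).2.2.1 fourRep = 2 from rep_ok.2, el_two] at h
    exact h
  exact ⟨hsq, by rw [← hsq, mul_assoc]⟩

/-- The classes of 2-elements with the involution of the pair among their powers. -/
theorem pair_two {u : G} (hu : TwoEl u) (ht : D.eS duad2 ∈ zpowers u) (htone : D.eS duad2 ≠ 1) :
    IsConj u (D.eS duad2) ∨ IsConj u S.x4 := by
  classical
  obtain ⟨k, hk⟩ := hu
  have hcomm : u * D.eS duad2 = D.eS duad2 * u := by
    obtain ⟨i, hi⟩ := ht
    rw [← hi]; exact (Commute.self_zpow u i).eq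
  have ht2 : orderOf (D.eS duad2) = 2 := by
    haveI : Fact (Nat.Prime 2) := ⟨Nat.prime_two⟩
    exact orderOf_eq_prime (by rw [pow_two, D.sq _ (D.eS_mem _)]) htone
  obtain ⟨e, -, he⟩ := (Nat.dvd_prime_pow Nat.prime_two).1 (orderOf_dvd_of_pow_eq_one hk)
  have huniq : ∀ g ∈ zpowers u, g * g = 1 → g ≠ 1 → g = D.eS duad2 := by
    intro g hg h2 h1
    by_contra hne
    haveI := Fintype.ofFinite ↥(zpowers u)
    have hsub : ({⟨1, one_mem _⟩, ⟨g, hg⟩, ⟨D.eS duad2, ht⟩} : Finset ↥(zpowers u)) ⊆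
        Finset.univ.filter fun a => a ^ 2 = 1 := by
      intro a ha
      simp only [Finset.mem_insert, Finset.mem_singleton] at ha
      simp only [Finset.mem_filter, Finset.mem_univ, true_and]
      rcases ha with rfl | rfl | rfl <;> refine Subtype.ext ?_
      · simp
      · simpa [pow_two] using h2
      · simpa [pow_two] using D.sq _ (D.eS_mem duad2)
    have h3 := (Finset.card_le_card hsub).trans (IsCyclic.card_pow_eq_one_le (by norm_num))
    rw [Finset.card_insert_of_notMem (by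
      rw [Finset.mem_insert, Finset.mem_singleton]
      rintro (h | h)
      · exact h1 (congrArg Subtype.val h).symm
      · exact htone (congrArg Subtype.val h).symm),
      Finset.card_pair (fun h => hne (congrArg Subtype.val h))] at h3
    norm_num at h3
  rcases e with _ | _ | _ | e
  · simp only [pow_zero, orderOf_eq_one_iff] at he
    subst he
    rw [zpowers_one_eq_bot, mem_bot] at ht
    exact absurd ht htone
  · left
    have hu2 : u * u = 1 := by
      rw [← pow_two, show (2 : ℕ) = 2 ^ 1 by norm_num, ← he, pow_orderOf_eq_one]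
    have hu1 : u ≠ 1 := fun h => by rw [h, orderOf_one] at he; norm_num at he
    rw [huniq u (mem_zpowers u) hu2 hu1]
  · right
    have hu4 : orderOf u = 4 := by rw [he]; norm_num
    have hsq : u * u = D.eS duad2 := by
      refine huniq _ (mul_mem (mem_zpowers u) (mem_zpowers u)) ?_ ?_
      · rw [← pow_two, ← pow_two, ← pow_mul, show 2 * 2 = orderOf u from hu4.symm, pow_orderOf_eq_one]
      · rw [← pow_two]
        intro h
        have := orderOf_dvd_of_pow_eq_one h
        rw [hu4] at this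
        norm_num at this
    obtain ⟨a, ha, τ, hel⟩ := S.el_surj (D.centralizer_duad_le TC.card_duad2 (mem_centralizer_singleton_iff.2 hcomm))
    rw [← hel] at hsq hcomm
    have hd := (S.commute_iff a τ).1 hcomm
    have hτ : τ * τ = 1 := by
      have h1 := congrArg D.phi (Subtype.ext hsq : (⟨S.el a τ, S.el_mem a τ⟩ * ⟨S.el a τ, S.el_mem a τ⟩ :
        ↥(normalizer (B.V : Set G))) = ⟨D.eS duad2, le_normalizer (D.eS_mem _)⟩)
      rw [map_mul, S.phi_el] at h1
      rw [h1]
      exact MonoidHom.mem_ker.1 (by rw [D.phi_ker, mem_subgroupOf]; exact D.eS_mem _)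
    have hτ1 : τ ≠ 1 := by
      rintro rfl
      rw [el_one, D.sq _ (D.evG_mem a)] at hsq
      exact htone hsq.symm
    obtain ⟨i, hi, rfl⟩ := sig_surj hτ hτ1 hd
    obtain ⟨ρ, hρ, e⟩ := sig_root i hi
    obtain ⟨w, hw, hconj⟩ := S.kk_carry ρ (u := a) (sig i)
    rw [e] at hconj
    obtain ⟨r, hr, hrr⟩ := TC.rootI_cases i
    have hroot : rootI i < 2871 := by
      unfold TC.rootI; split_ifs <;> norm_num
    obtain ⟨hv, hP, -⟩ := TC.chk hroot
    have hwsol : w ^^^ appQ (ent (rootI i)).2.2.1 w = 2 := by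
      have h := S.el_sq_of (u := w) hv (TC.perm_mem _ hroot) hw
      rw [← sig_eq hroot, (TC.sig_spec hroot).1, ← hP, ← hconj,
        show S.kk ρ * S.el a (sig i) * (S.kk ρ)⁻¹ * (S.kk ρ * S.el a (sig i) * (S.kk ρ)⁻¹) =
          S.kk ρ * (S.el a (sig i) * S.el a (sig i)) * (S.kk ρ)⁻¹ by group, hsq, S.kk_fix_smul hρ,
        mul_inv_cancel_right, ← el_two] at h
      exact (S.el_inj (by norm_num) (Nat.xor_lt_two_pow (n := 11) hw (TC.appQ_lt _ _)) h).1.symm
    have h0 : rootI i = 0 := by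
      unfold TC.rootI at hwsol ⊢
      obtain ⟨n1, n2⟩ := none_ok w hw
      split_ifs at hwsol ⊢
      · rfl
      · rw [show Nat.xor w _ = _ from hwsol] at n1; simp at n1
      · rw [show Nat.xor w _ = _ from hwsol] at n2; simp at n2
    rw [h0] at hconj hwsol hv hP
    have hs := sol_ok w hw
    simp only [solOK, show Nat.xor w (appQ (ent 0).2.2.1 w) = 2 from hwsol, Nat.beq_refl, Bool.not_true,
      Bool.false_or, List.any_eq_true, Bool.and_eq_true, decide_eq_true_eq, Nat.beq_eq] at hs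
    obtain ⟨en, -, ⟨-, h8⟩, heq⟩ := hs
    obtain ⟨hmv, hma, hm3, hmc⟩ := move_ok _ h8
    set g := nth (0, 0) (en / 4194304) fourMove
    set b := en / 2048 % 2048
    have hb : b < 2048 := Nat.mod_lt _ (by norm_num)
    have hgm := permOf_mem_M24 hmv hma
    have hgs : (⟨permOf g, hgm⟩ : ↥M24) * sig 0 * (⟨permOf g, hgm⟩ : ↥M24)⁻¹ = sig 0 := by
      rw [mul_inv_eq_iff_eq_mul, sig_eq (by norm_num : 0 < 2871)]
      exact Subtype.ext ((sameF_iff ((code_permOf hmv).cmp (code_permOf hv))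
        ((code_permOf hv).cmp (code_permOf hmv))).1 hmc)
    have h1 := S.conj_el hmv hgm rep_ok.1 (sig 0)
    rw [hgs, ← TC.cols_eq hmv rfl] at h1
    set y := appQ (matP g) fourRep
    have hy : y < 2048 := TC.appQ_lt _ _
    have hP' : appQ (ent 0).2.2.1 b < 2048 := TC.appQ_lt _ _
    have h2 : D.evG b * S.el w (sig 0) * (D.evG b)⁻¹ = S.el y (sig 0) := by
      have hk := S.kk_conj hv (TC.perm_mem 0 (by norm_num)) hb
      rw [← sig_eq (by norm_num : 0 < 2871), ← TC.cols_eq hv hP] at hk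
      have hinv : ∀ n, (D.evG n)⁻¹ = D.evG n := fun n => inv_eq_of_mul_eq_one_right (D.sq _ (D.evG_mem n))
      have hy' : y = b ^^^ w ^^^ appQ (ent 0).2.2.1 b := by
        have he : Nat.xor w y = Nat.xor b (appQ (ent 0).2.2.1 b) := heq
        calc y = w ^^^ (w ^^^ y) := by rw [← Nat.xor_assoc, Nat.xor_self, Nat.zero_xor]
          _ = _ := by rw [show w ^^^ y = b ^^^ appQ (ent 0).2.2.1 b from he, ← Nat.xor_assoc, Nat.xor_comm w b]
      rw [el, el, hy', D.evG_xor (Nat.xor_lt_two_pow (n := 11) hb hw) hP', D.evG_xor hb hw, ← hk, hinv]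
      group
    have c1 : IsConj u (S.el w (sig 0)) := isConj_iff.2 ⟨S.kk ρ, by rw [← hel, hconj]⟩
    exact (c1.trans (isConj_iff.2 ⟨_, h2⟩)).trans (IsConj.symm (isConj_iff.2 ⟨_, h1⟩))
  · exfalso
    set y := u ^ 2 ^ e
    have hy : orderOf y = 8 := by
      rw [orderOf_pow' _ (by positivity), he, Nat.gcd_eq_right (pow_dvd_pow 2 (by omega)),
        Nat.pow_div (by omega) (by norm_num), show e + 1 + 1 + 1 - e = 3 by omega]
    have hy4 : y ^ 4 = D.eS duad2 := by
      refine huniq _ (pow_mem (pow_mem (mem_zpowers u) _) _) ?_ ?_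
      · rw [← pow_two, ← pow_mul, show 4 * 2 = orderOf y from hy.symm, pow_orderOf_eq_one]
      · intro h
        have := orderOf_dvd_of_pow_eq_one h
        rw [hy] at this
        norm_num at this
    exact S.pow_four_ne (Commute.pow_left (show Commute u (D.eS duad2) from hcomm) _).eq hy4

end BigPack.Sec

end Cfsg.Agent.JankoFour
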