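import Cfsg.Agent.Lib.JankoFour.OrderClasses
import Cfsg.Agent.Lib.Golay.Local.ClassTools

/-!
The normaliser of the large abelian subgroup as a semidirect product on coordinates of the cocode.
-/

set_option autoImplicit false
set_option linter.unusedSectionVars false
set_option maxRecDepth 100000

namespace Cfsg.Agent.JankoFour

open Subgroup
open Cfsg (GolayPt M24)
open Cfsg.Agent.Golay (maskSet toMask toMask_maskSet imgMask imgMask_xor maskSet_imgMask)
open Cfsg.Agent.Golay (permOf card_maskSet imgMask_zero)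
open Cfsg.Agent.PermCert (Elt validElt)
open Cfsg.Agent.LargeFischer.Big (ev psi psi_xor ev_symmDiff ev_lt supports_of_ev card_symmDiff_mod)
open Cfsg.Agent.J4Module (app of_chunks)
open scoped symmDiff Pointwise

namespace TC

/-- Masks of even sets whose coordinates are the unit vectors. -/
def setCols : List ℕ := [39, 3, 5, 474, 567, 1811, 2215, 1055, 48, 144, 1040]

/-- An even set with the given coordinates, as a mask. -/
def liftM (u : ℕ) : ℕ := app setCols u

theorem liftM_spec : ∀ u < 2048, liftM u < 2 ^ 24 ∧ Cfsg.Agent.Golay.popCount (liftM u) 24 % 2 = 0 ∧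
    psi (liftM u) = u :=
  of_chunks 32 (by decide +kernel)

/-- The set of an element of the coordinates. -/
def liftS (u : ℕ) : Finset GolayPt := maskSet (liftM u)

theorem ev_liftS {u : ℕ} (hu : u < 2048) : ev (liftS u) = u := by
  rw [ev, liftS, toMask_maskSet (liftM_spec u hu).1, (liftM_spec u hu).2.2]

theorem even_liftS {u : ℕ} (hu : u < 2048) : Even (liftS u).card := by
  rw [Nat.even_iff, liftS, card_maskSet]
  exact (liftM_spec u hu).2.1

/-- The columns of a coded permutation. -/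
def matC (e : Elt) : List ℕ := setCols.map fun m => psi (imgMask e m)

theorem app_map {f : ℕ → ℕ} (h0 : f 0 = 0) (hx : ∀ a b, f (a ^^^ b) = f a ^^^ f b) :
    ∀ (l : List ℕ) (n : ℕ), app (l.map f) n = f (app l n)
  | [], n => by simp [app, h0]
  | c :: cs, n => by
    simp only [List.map_cons, app]
    rw [app_map h0 hx cs, hx]
    split_ifs <;> simp [h0]

theorem ev_smul {e : Elt} (he : validElt 5 24 e = true) {u : ℕ} (hu : u < 2048) :
    ev (permOf e • liftS u) = app (matC e) u := by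
  have hlt : imgMask e (liftM u) < 2 ^ 24 := Cfsg.Agent.Golay.mkMask_lt _ _
  rw [ev, liftS, maskSet_imgMask he, toMask_maskSet hlt, matC, app_map ?_ ?_, ← liftM]
  · rw [imgMask_zero]; decide +kernel
  · intro a b
    rw [imgMask_xor, psi_xor]

end TC

variable {G : Type*} [Group G] [Finite G] {z : G} {V : Subgroup G}

namespace BigPack

variable (D : BigPack z V)

/-- The element with given coordinates. -/
noncomputable def evG (u : ℕ) : G := D.eS (TC.liftS u)

theorem evG_mem (u : ℕ) : D.evG u ∈ V := D.eS_mem _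

theorem eS_eq_evG {S : Finset GolayPt} (hS : Even S.card) : D.eS S = D.evG (ev S) := by
  have hl := TC.even_liftS (ev_lt S)
  have he : (S ∆ TC.liftS (ev S)).card % 2 = 0 := by
    rw [card_symmDiff_mod, Nat.add_mod, Nat.even_iff.1 hS, Nat.even_iff.1 hl]
  have h1 := (D.eS_eq_one _ (Nat.even_iff.2 he)).2 (supports_of_ev he (by
    rw [ev_symmDiff, TC.ev_liftS (ev_lt S), Nat.xor_self]))
  rw [D.eS_symmDiff _ _ hS hl, mul_eq_one_iff_eq_inv] at h1
  rw [h1, inv_eq_of_mul_eq_one_right (D.sq _ (D.eS_mem _))]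
  rfl

theorem evG_xor {u v : ℕ} (hu : u < 2048) (hv : v < 2048) : D.evG (u ^^^ v) = D.evG u * D.evG v := by
  have he : Even (TC.liftS u ∆ TC.liftS v).card := by
    rw [Nat.even_iff, card_symmDiff_mod, Nat.add_mod, Nat.even_iff.1 (TC.even_liftS hu),
      Nat.even_iff.1 (TC.even_liftS hv)]
  rw [evG, evG, evG, ← D.eS_symmDiff _ _ (TC.even_liftS hu) (TC.even_liftS hv), D.eS_eq_evG he, evG,
    ev_symmDiff, TC.ev_liftS hu, TC.ev_liftS hv]

theorem evG_zero : D.evG 0 = 1 := by
  have h := D.evG_xor (show 0 < 2048 by norm_num) (show 0 < 2048 by norm_num)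
  rw [Nat.xor_self] at h
  exact left_eq_mul.1 h

theorem evG_surj {a : G} (ha : a ∈ V) : ∃ u < 2048, D.evG u = a := by
  obtain ⟨S, hS, -, rfl⟩ := D.eS_surj a ha
  exact ⟨ev S, ev_lt S, (D.eS_eq_evG hS).symm⟩

theorem evG_inj {u v : ℕ} (hu : u < 2048) (hv : v < 2048) (h : D.evG u = D.evG v) : u = v := by
  classical
  haveI := Fintype.ofFinite G
  have hsurj : Function.Surjective (fun n : Fin 2048 => (⟨D.evG n, D.evG_mem n⟩ : ↥V)) := fun a => by
    obtain ⟨n, hn, e⟩ := D.evG_surj a.2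
    exact ⟨⟨n, hn⟩, Subtype.ext e⟩
  have hinj := (hsurj.bijective_of_nat_card_le (by rw [D.card, Nat.card_fin])).1
  exact congrArg Fin.val (@hinj ⟨u, hu⟩ ⟨v, hv⟩ (Subtype.ext h))

/-- A complement as a section of the action on the points. -/
structure Sec (D : BigPack z V) where
  kk : ↥M24 →* G
  mem : ∀ σ, kk σ ∈ normalizer (V : Set G)
  sect : ∀ σ, D.phi ⟨kk σ, mem σ⟩ = σ

theorem exists_sec {P : Subgroup G} (M : Model z P) : Nonempty D.Sec := by
  obtain ⟨K, hKN, hKV, hsup, -⟩ := exists_complement M D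
  let f : ↥K →* ↥M24 := D.phi.comp (Subgroup.inclusion hKN)
  have hf : Function.Bijective f := by
    constructor
    · rw [injective_iff_map_eq_one]
      intro k hk
      have h1 : (Subgroup.inclusion hKN k) ∈ D.phi.ker := MonoidHom.mem_ker.2 hk
      rw [D.phi_ker, mem_subgroupOf] at h1
      exact Subtype.ext (mem_bot.1 (hKV ▸ mem_inf.2 ⟨k.2, h1⟩))
    · intro m
      obtain ⟨n, rfl⟩ := D.phi_surj m
      have hn : (n : G) ∈ (((K ⊔ V : Subgroup G)) : Set G) := by rw [hsup]; exact n.2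
      rw [coe_mul_of_left_le_normalizer_right K V hKN] at hn
      obtain ⟨k, hk, v, hv, hkv⟩ := hn
      refine ⟨⟨k, hk⟩, ?_⟩
      have hvk : (⟨v, le_normalizer hv⟩ : ↥(normalizer (V : Set G))) ∈ D.phi.ker := by
        rw [D.phi_ker, mem_subgroupOf]; exact hv
      have hnkv : n = (Subgroup.inclusion hKN ⟨k, hk⟩) * ⟨v, le_normalizer hv⟩ := Subtype.ext hkv.symm
      show D.phi _ = _
      rw [hnkv, map_mul, MonoidHom.mem_ker.1 hvk, mul_one]
  let F := MulEquiv.ofBijective f hf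
  exact ⟨⟨K.subtype.comp F.symm.toMonoidHom, fun σ => hKN (F.symm σ).2, fun σ => F.apply_symm_apply σ⟩⟩

namespace Sec

variable {D} (S : D.Sec)

/-- The element with given coordinates and permutation. -/
noncomputable def el (u : ℕ) (σ : ↥M24) : G := D.evG u * S.kk σ

theorem el_mem (u : ℕ) (σ : ↥M24) : S.el u σ ∈ normalizer (V : Set G) :=
  mul_mem (le_normalizer (D.evG_mem u)) (S.mem σ)

theorem phi_el (u : ℕ) (σ : ↥M24) : D.phi ⟨S.el u σ, S.el_mem u σ⟩ = σ := by
  have h : (⟨D.evG u, le_normalizer (D.evG_mem u)⟩ : ↥(normalizer (V : Set G))) ∈ D.phi.ker := by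
    rw [D.phi_ker, mem_subgroupOf]; exact D.evG_mem u
  rw [show (⟨S.el u σ, S.el_mem u σ⟩ : ↥(normalizer (V : Set G))) =
    ⟨D.evG u, le_normalizer (D.evG_mem u)⟩ * ⟨S.kk σ, S.mem σ⟩ from rfl, map_mul, MonoidHom.mem_ker.1 h,
    one_mul, S.sect]

theorem el_inj {u v : ℕ} (hu : u < 2048) (hv : v < 2048) {σ τ : ↥M24} (h : S.el u σ = S.el v τ) :
    u = v ∧ σ = τ := by
  have hs : σ = τ := by rw [← S.phi_el u σ, ← S.phi_el v τ]; exact congrArg D.phi (Subtype.ext h)
  subst hs
  exact ⟨D.evG_inj hu hv (mul_right_cancel h), rfl⟩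

theorem el_surj {n : G} (hn : n ∈ normalizer (V : Set G)) : ∃ u < 2048, ∃ σ, S.el u σ = n := by
  set σ := D.phi ⟨n, hn⟩
  have hv : n * (S.kk σ)⁻¹ ∈ V := by
    have h : (⟨n, hn⟩ : ↥(normalizer (V : Set G))) * ⟨S.kk σ, S.mem σ⟩⁻¹ ∈ D.phi.ker := by
      rw [MonoidHom.mem_ker, map_mul, map_inv, S.sect]
      exact mul_inv_cancel _
    rwa [D.phi_ker, mem_subgroupOf] at h
  obtain ⟨u, hu, e⟩ := D.evG_surj hv
  exact ⟨u, hu, σ, by rw [el, e, inv_mul_cancel_right]⟩

theorem kk_conj {e : Elt} (he : validElt 5 24 e = true) (hm : permOf e ∈ M24) {u : ℕ} (hu : u < 2048) :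
    S.kk ⟨permOf e, hm⟩ * D.evG u * (S.kk ⟨permOf e, hm⟩)⁻¹ = D.evG (app (TC.matC e) u) := by
  have h := D.eS_equiv ⟨_, S.mem ⟨permOf e, hm⟩⟩ (TC.liftS u) (TC.even_liftS hu)
  rw [S.sect] at h
  refine h.trans ?_
  rw [D.eS_eq_evG (by rw [Finset.card_image_of_injective _ (permOf e).injective]; exact TC.even_liftS hu),
    ← TC.ev_smul he hu]
  rfl

theorem el_mul {e : Elt} (he : validElt 5 24 e = true) (hm : permOf e ∈ M24) {u w : ℕ} (hu : u < 2048)
    (hw : w < 2048) (τ : ↥M24) :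
    S.el u ⟨permOf e, hm⟩ * S.el w τ = S.el (u ^^^ app (TC.matC e) w) (⟨permOf e, hm⟩ * τ) := by
  have hlt : app (TC.matC e) w < 2048 := by rw [← TC.ev_smul he hw]; exact ev_lt _
  rw [el, el, el, D.evG_xor hu hlt, ← S.kk_conj he hm hw, map_mul]
  group

end Sec

end BigPack

end Cfsg.Agent.JankoFour
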