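import Cfsg.Agent.Lib.JankoFour.TCountDefs
import Cfsg.Agent.Lib.JankoFour.TCountSetup

/-!
Correctness of the fast computable functions of the count inside the centraliser of a pair.
-/

set_option autoImplicit false
set_option maxRecDepth 100000

namespace Cfsg.Agent.JankoFour.TC

open Cfsg.Agent.J4Module (app)
open Cfsg.Agent.PermCert (Elt validElt)
open Cfsg.Agent.Golay (spanList imgMask imgMask_xor imgMask_zero maskSet toMask toMask_maskSet maskSet_imgMask idx idx_lt permOf idx_permOf)
open Cfsg.Agent.Golay.Local (cmpF sameF idC Code sameF_iff code_idC ptN idx_ptN g5_eq)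
open Cfsg.Agent.LargeFischer.Big (ev psi psi_xor ev_lt ev_single pp)
open Cfsg (GolayPt M24)
open scoped Pointwise

theorem tb_mul (n k X : ℕ) :
    (Nat.mul (tb n k) X) % 2 ^ 11 = if n / 2 ^ k % 2 = 1 then X % 2 ^ 11 else 0 := by
  show (n >>> k % 2 * X) % 2 ^ 11 = _
  rw [Nat.shiftRight_eq_div_pow]
  rcases Nat.mod_two_eq_zero_or_one (n / 2 ^ k) with h | h <;> simp [h]

theorem appQ_eq (P n : ℕ) : appQ P n = app ((List.range 11).map (fld P)) n := by
  have hx : ∀ a b : ℕ, (Nat.xor a b) % 2 ^ 11 = a % 2 ^ 11 ^^^ b % 2 ^ 11 := fun a b => Nat.xor_mod_two_pow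
  show _ % 2 ^ 11 = _
  have hs : ∀ a b : ℕ, Nat.shiftRight a b = a / 2 ^ b := fun a b => Nat.shiftRight_eq_div_pow a b
  simp only [hx, tb_mul, hs]
  rw [show List.range 11 = [0, 1, 2, 3, 4, 5, 6, 7, 8, 9, 10] from rfl]
  simp only [List.map_cons, List.map_nil, app, fld, Nat.div_div_eq_div_mul, Nat.reducePow, Nat.reduceMul,
    Nat.div_one, Nat.xor_zero, Nat.shiftRight_eq_div_pow]

theorem fld_pack : ∀ l : List ℕ, (∀ x ∈ l, x < 2048) →
    (List.range l.length).map (fld (l.foldr (fun c a => c + 2048 * a) 0)) = l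
  | [], _ => rfl
  | c :: l, h => by
    have hc := h c List.mem_cons_self
    have ih := fld_pack l fun x hx => h x (List.mem_cons_of_mem _ hx)
    rw [List.length_cons, List.range_succ_eq_map, List.map_cons, List.map_map, List.foldr_cons]
    congr 1
    · simp [fld, Nat.mul_mod_right, Nat.add_mul_mod_self_left, Nat.mod_eq_of_lt hc]
    · conv_rhs => rw [← ih]
      refine List.map_congr_left fun i _ => ?_
      simp only [fld, Function.comp_apply]
      rw [show 2 ^ (11 * i.succ) = 2048 * 2 ^ (11 * i) by rw [Nat.mul_succ, pow_add]; ring,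
        ← Nat.div_div_eq_div_mul, Nat.add_mul_div_left _ _ (by norm_num : 0 < 2048), Nat.div_eq_of_lt hc,
        Nat.zero_add]

theorem psi_single : ∀ q < 24, psi (2 ^ q) = pp q := by decide +kernel

theorem setPts_mask : setPts.map (fun l => l.foldr (fun p a => 2 ^ p ^^^ a) 0) = setCols ∧
    ∀ l ∈ setPts, ∀ p ∈ l, p < 24 := by decide +kernel

theorem single_img {e : Elt} (he : validElt 5 24 e = true) {p : ℕ} (hp : p < 24) :
    psi (imgMask e (2 ^ p)) = pp (Cfsg.Agent.Golay.Local.g5 e.1 p) := by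
  have hs : maskSet (2 ^ p) = ({ptN p} : Finset GolayPt) := by
    ext q
    rw [Cfsg.Agent.Golay.mem_maskSet, Nat.testBit_two_pow, decide_eq_true_eq, Finset.mem_singleton]
    exact ⟨fun h => by rw [h, Cfsg.Agent.Golay.Local.ptN_idx], fun h => by rw [h, idx_ptN hp]⟩
  have h := maskSet_imgMask he (2 ^ p)
  rw [hs, Finset.smul_finset_singleton] at h
  have h2 := ev_single (permOf e (ptN p))
  rw [ev, show ({permOf e (ptN p)} : Finset GolayPt) = {permOf e • ptN p} from rfl, h,
    toMask_maskSet (show imgMask e (2 ^ p) < 2 ^ 24 from Cfsg.Agent.Golay.mkMask_lt _ _), idx_permOf he,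
    idx_ptN hp] at h2
  exact h2

theorem matC_eq {e : Elt} (he : validElt 5 24 e = true) : matC e = matF e := by
  rw [matC, matF, ← setPts_mask.1, List.map_map]
  refine List.map_congr_left fun l hl => ?_
  have hl' := setPts_mask.2 l hl
  clear hl
  induction l with
  | nil => simp only [Function.comp_apply, List.foldr_nil, imgMask_zero]; decide +kernel
  | cons p l ih =>
    simp only [Function.comp_apply, List.foldr_cons] at ih ⊢
    rw [imgMask_xor, psi_xor, single_img he (hl' p List.mem_cons_self),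
      ih fun x hx => hl' x (List.mem_cons_of_mem _ hx)]
    rfl

theorem cols_eq {e : Elt} (he : validElt 5 24 e = true) {P : ℕ} (hP : P = matP e) (n : ℕ) :
    appQ P n = app (matC e) n := by
  rw [appQ_eq, hP, matP]
  congr 1
  rw [← matC_eq he]
  refine fld_pack _ fun x hx => ?_
  obtain ⟨m, -, rfl⟩ := List.mem_map.1 hx
  have h : psi (imgMask e m) = ev (maskSet (imgMask e m)) := by
    rw [ev, toMask_maskSet (show imgMask e m < 2 ^ 24 from Cfsg.Agent.Golay.mkMask_lt _ _)]
  rw [h]
  exact ev_lt _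

theorem appQ_xor (P a b : ℕ) : appQ P (a ^^^ b) = appQ P a ^^^ appQ P b := by
  simp only [appQ_eq, J4Module.app_xor]

theorem appQ_zero (P : ℕ) : appQ P 0 = 0 := by rw [appQ_eq, J4Module.app_zero]

theorem appQ_lt (P n : ℕ) : appQ P n < 2048 := Nat.mod_lt _ (by norm_num)

theorem fsum_succ (Ps Pt k c : ℕ) : fsum Ps Pt (k + 1) c = c ^^^ appQ Ps (appQ Pt (fsum Ps Pt k c)) := rfl

theorem fsum_xor (Ps Pt : ℕ) : ∀ k a b, fsum Ps Pt k (a ^^^ b) = fsum Ps Pt k a ^^^ fsum Ps Pt k b
  | 0, _, _ => show (0 : ℕ) = 0 ^^^ 0 from rfl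
  | k + 1, a, b => by
    simp only [fsum_succ, fsum_xor Ps Pt k a b, appQ_xor]
    ac_rfl

theorem fsum_zero (Ps Pt : ℕ) : ∀ k, fsum Ps Pt k 0 = 0
  | 0 => rfl
  | k + 1 => by rw [fsum_succ, fsum_zero Ps Pt k, appQ_zero, appQ_zero, Nat.xor_zero]

theorem fsum_lt (Ps Pt : ℕ) : ∀ k c, c < 2048 → fsum Ps Pt k c < 2048
  | 0, _, _ => by norm_num [fsum]
  | k + 1, c, hc => by
    rw [fsum_succ]
    exact Nat.xor_lt_two_pow (n := 11) hc (appQ_lt _ _)

theorem cntR_eq : ∀ (l : List ℕ) (t : ℕ), cntR l t = (spanList l).count t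
  | [], t => by
    show (bif Nat.beq t 0 then 1 else 0) = [0].count t
    cases t with
    | zero => rfl
    | succ n => simp [show Nat.beq (n + 1) 0 = false from rfl]
  | b :: l, t => by
    show Nat.add (cntR l t) (cntR l (Nat.xor t b)) = _
    rw [spanList, List.count_append, cntR_eq l, cntR_eq l]
    congr 1
    have h := List.count_map_of_injective (spanList l) (fun x => b ^^^ x)
      (fun x y h => by simpa [← Nat.xor_assoc] using congrArg (b ^^^ ·) h) (t ^^^ b)
    show List.count (t ^^^ b) _ = _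
    rw [← h]
    congr 1
    show b ^^^ (t ^^^ b) = t
    rw [Nat.xor_comm t b, ← Nat.xor_assoc, Nat.xor_self, Nat.zero_xor]

theorem spanList_map {f : ℕ → ℕ} (h0 : f 0 = 0) (hx : ∀ a b, f (a ^^^ b) = f a ^^^ f b) :
    ∀ l : List ℕ, (spanList l).map f = spanList (l.map f)
  | [] => by simp [spanList, h0]
  | b :: l => by
    simp only [List.map_cons, spanList, List.map_append, ← spanList_map h0 hx l, List.map_map]
    congr 1
    exact List.map_congr_left fun x _ => hx b x

theorem spanList_length : ∀ l : List ℕ, (spanList l).length = 2 ^ l.length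
  | [] => rfl
  | b :: l => by simp [spanList, spanList_length l, pow_succ, two_mul, Nat.mul_comm]

theorem spanList_take : ∀ (e d : List ℕ), (spanList (e ++ d)).take (2 ^ d.length) = spanList d
  | [], d => by rw [List.nil_append, ← spanList_length, List.take_length]
  | b :: e, d => by
    rw [List.cons_append, spanList, List.take_append_of_le_length, spanList_take e d]
    rw [spanList_length, List.length_append]
    exact Nat.pow_le_pow_right (by norm_num) (Nat.le_add_left _ _)

theorem count_span_take (l : List ℕ) (k : ℕ) (t : ℕ) :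
    ((spanList l).take (2 ^ (l.drop k).length)).count t = cntR (l.drop k) t := by
  conv_lhs => rw [show spanList l = spanList (l.take k ++ l.drop k) by rw [List.take_append_drop]]
  rw [spanList_take, cntR_eq]

theorem findN_spec {r : ℕ} {ρ : Equiv.Perm GolayPt} (hr : Code r ρ) :
    ∀ (fuel p k : ℕ), 0 < k → Code p (ρ ^ k) → (∀ i, i < k → 0 < i → ρ ^ i ≠ 1) →
      findN r fuel p k ≠ 0 → orderOf ρ = findN r fuel p k := by
  intro fuel
  induction fuel with
  | zero => intro p k _ _ _ h; exact absurd rfl h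
  | succ f ih =>
    intro p k hk hp hlt h
    rw [findN] at h ⊢
    by_cases he : sameF p idC = true
    · rw [if_pos he]
      exact (orderOf_eq_iff hk).2 ⟨(sameF_iff hp code_idC).1 he, hlt⟩
    · rw [if_neg he] at h ⊢
      refine ih _ _ (Nat.succ_pos _) (by rw [pow_succ']; exact hr.cmp hp) (fun i hi h0 => ?_) h
      rcases Nat.lt_succ_iff_lt_or_eq.1 hi with hi' | rfl
      · exact hlt i hi' h0
      · exact fun e => he ((sameF_iff hp code_idC).2 e)

theorem prodN_spec {s t : ℕ} {σ τ : Equiv.Perm GolayPt} (hs : Code s σ) (ht : Code t τ)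
    (h : prodN s t ≠ 0) : orderOf (σ * τ) = prodN s t :=
  findN_spec (hs.cmp ht) 30 _ 1 one_pos (by rw [pow_one]; exact hs.cmp ht) (fun i hi h0 => by omega) h

end Cfsg.Agent.JankoFour.TC
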