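import Cfsg.Agent.Lib.JankoFour.ClassPairData
import Cfsg.Agent.Lib.JankoFour.TCountFast

/-!
Checks for the 2-elements of the centraliser of a pair.
-/

set_option autoImplicit false
set_option maxHeartbeats 0
set_option maxRecDepth 100000
set_option Elab.async false

namespace Cfsg.Agent.JankoFour.PairTwo

open Cfsg.Agent.PermCert (Elt validElt)
open Cfsg.Agent.Golay (isAutB imgMask)
open Cfsg.Agent.Golay.Local (cmpF sameF idC)
open TC (nth appQ matP ent)

/-- A generator. -/
def pG (k : ℕ) : Elt := nth (0, 0) k pGens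

/-- An element of the subgroup. -/
def pE (i : ℕ) : Elt := nth (0, 0) i pElts

/-- The norm of a coordinate for an element of order dividing four. -/
def normQ (P a : ℕ) : ℕ := Nat.xor (Nat.xor a (appQ P a)) (appQ P (appQ P (Nat.xor a (appQ P a))))

/-- The parity of the eleven bits. -/
def par11 (n : ℕ) : Bool :=
  [0, 1, 2, 3, 4, 5, 6, 7, 8, 9, 10].foldr (fun i r => xor (n.testBit i) r) false

/-- The norms avoid the pair. -/
def avoidOK (i : ℕ) : Bool :=
  let c2 := cmpF (pE i).1 (pE i).1
  !(sameF (cmpF c2 c2) idC) || (par11 (Nat.land (nth 0 i pFun) 2) &&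
    (List.range 11).all fun b => !par11 (Nat.land (nth 0 i pFun) (normQ (nth 0 i pCols) (2 ^ b))))

theorem gens_ok : pGens.length = 4 ∧ ∀ k < 4, validElt 5 24 (pG k) = true ∧ isAutB (pG k) = true ∧
    imgMask (pG k) 3 = 3 := by decide +kernel

theorem elts_ok : ∀ i < 256, validElt 5 24 (pE i) = true ∧ nth 0 i pCols = matP (pE i) := by decide +kernel

theorem tree_ok : sameF (pE 0).1 idC = true ∧ ∀ i < 256, i ≠ 0 → nth 0 i pTree / 4 < i ∧
    sameF (cmpF (pG (nth 0 i pTree % 4)).1 (pE (nth 0 i pTree / 4)).1) (pE i).1 = true := by decide +kernel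

theorem closed_ok : ∀ k < 4, ∀ i < 256,
    (List.range 256).any (fun j => sameF (cmpF (pG k).1 (pE i).1) (pE j).1) = true := by decide +kernel

theorem sort_ok : (∀ r < 255, cmpF (pE (nth 0 r pSort)).1 idC < cmpF (pE (nth 0 (r + 1) pSort)).1 idC) ∧
    ∀ i < 256, (List.range 256).any (fun r => Nat.beq (nth 0 r pSort) i) = true := by decide +kernel

theorem avoid_ok : ∀ i < 256, avoidOK i = true := by decide +kernel

theorem move_ok : ∀ k < 8, validElt 5 24 (nth (0, 0) k fourMove) = true ∧ isAutB (nth (0, 0) k fourMove) = true ∧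
    imgMask (nth (0, 0) k fourMove) 3 = 3 ∧
    sameF (cmpF (nth (0, 0) k fourMove).1 (ent 0).1) (cmpF (ent 0).1 (nth (0, 0) k fourMove).1) = true := by
  decide +kernel

theorem rep_ok : fourRep < 2048 ∧ Nat.xor fourRep (appQ (ent 0).2.2.1 fourRep) = 2 := by decide +kernel

/-- A solution is carried to the representative. -/
def solOK (w : ℕ) : Bool :=
  !(Nat.beq (Nat.xor w (appQ (ent 0).2.2.1 w)) 2) || fourTab.any fun e =>
    Nat.beq (e % 2048) w && (e / 4194304 < 8 : Bool) &&
      Nat.beq (Nat.xor w (appQ (matP (nth (0, 0) (e / 4194304) fourMove)) fourRep))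
        (Nat.xor (e / 2048 % 2048) (appQ (ent 0).2.2.1 (e / 2048 % 2048)))

theorem sol_ok : ∀ w < 2048, solOK w = true := by decide +kernel

theorem none_ok : ∀ w < 2048, Nat.beq (Nat.xor w (appQ (ent 330).2.2.1 w)) 2 = false ∧
    Nat.beq (Nat.xor w (appQ (ent 1485).2.2.1 w)) 2 = false := by decide +kernel

end Cfsg.Agent.JankoFour.PairTwo
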