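import Cfsg.Agent.Lib.JankoFour.OCountClasses

/-!
The test for one pair of involutions of different classes agrees with the group.
-/

set_option autoImplicit false
set_option linter.unusedSectionVars false
set_option linter.style.haveILetI false
set_option maxRecDepth 100000

namespace Cfsg.Agent.JankoFour

open Subgroup
open Cfsg.Agent.LargeFischer (Ctx QG)
open Cfsg.Agent.J4Module (app)
open Cfsg.Agent.J4Module.Data
open OC

variable {G : Type*} [Group G] [Finite G] {z : G} {P : Subgroup G}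

theorem OC.powers_spec {r : Root} (h : powersOK r = true) :
    0 < r.Ps.length ∧ pw (unp r.K) r.Ps.length = unitC ∧
      (∀ i < r.Ps.length, i ≠ 0 → pw (unp r.K) i ≠ unitC) ∧
      (∀ i < r.Ps.length, unp (r.Ps.getD i 0) = pw (unp r.K) i) ∧
      r.F = prefX r.Ps r.Ps.length ∧ r.H = prefX r.Ps (r.Ps.length / 2) ∧
      (r.Ps.length % 2 = 0 → r.half < 6304 ∧ LM r.half = pw (unp r.K) (r.Ps.length / 2) ∧ tagT r.half ≠ 3 ∧
        r.inn = (tagT r.half == 0)) := by
  simp only [powersOK, Bool.and_eq_true, Bool.or_eq_true, decide_eq_true_eq, beq_iff_eq, List.all_eq_true,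
    List.mem_range, bne_iff_ne] at h
  obtain ⟨⟨⟨⟨⟨hm, h0⟩, hstep⟩, hF⟩, hH⟩, hhalf⟩ := h
  have hu : unp (pkC unitC) = unitC := by decide +kernel
  have hpw : ∀ i < r.Ps.length, unp (r.Ps.getD i 0) = pw (unp r.K) i := by
    intro i hi
    induction i with
    | zero => rw [h0, hu]; rfl
    | succ i ih =>
      have h1 := (hstep i (by omega)).1
      rw [if_pos hi] at h1
      rw [← h1, unp_mulP, ih (by omega)]
      rfl
  refine ⟨hm, ?_, fun i hi hi0 => ?_, hpw, hF.symm, hH.symm, fun he => ?_⟩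
  · obtain ⟨k, hk⟩ : ∃ k, r.Ps.length = k + 1 := ⟨r.Ps.length - 1, by omega⟩
    have h1 := (hstep k (by omega)).1
    rw [if_neg (by omega)] at h1
    rw [hk]
    show mulC (unp r.K) (pw (unp r.K) k) = unitC
    rw [← hpw k (by omega), ← unp_mulP, h1, hu]
  · rw [← hpw i hi]
    exact ((hstep i hi).2).resolve_left hi0
  · obtain ⟨⟨⟨a, b⟩, c⟩, d⟩ := hhalf.resolve_left (by omega)
    exact ⟨a, by rw [b, hpw _ (Nat.div_lt_self hm (by norm_num))], c, d⟩

namespace OCountCtx

variable {M : Model z P} {t : G} (K : OCountCtx M t)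
include K

theorem outer_sq {k : ℕ} (hk : k = 1 ∨ k = 2) {g : ↥(centralizer ({z} : Set G))} {v : ℕ}
    (hg : M.Code g v (repM k)) (hfix : app (repM k) v = v) : g * g = 1 := by
  obtain ⟨e, he, hv⟩ : ∃ e < 4096, v = app (repM k) e ^^^ e := by
    rcases hk with rfl | rfl
    · obtain ⟨p, hp, rfl⟩ := List.mem_map.1 (List.contains_iff_mem.1 (cover_J v hg.lt hfix))
      exact ⟨_, dispJ_spec p hp⟩
    · obtain ⟨p, hp, rfl⟩ := List.mem_map.1 (List.contains_iff_mem.1 (cover_S v hg.lt hfix))
      exact ⟨_, dispS_spec p hp⟩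
  have hne : M.sumPt (clsInd t) 0 (repM k) ≠ 0 := by
    obtain ⟨-, -, ⟨h1, -⟩, ⟨h2, -⟩⟩ := K.class_values
    rcases hk with rfl | rfl <;> omega
  obtain ⟨x, hx⟩ := M.code_of_pair (show (0 : ℕ) < 4096 by norm_num) (repM_InL0 k)
  have hx2 : x * x = 1 := by
    by_contra hn
    exact hne (K.pt_zero (Or.inl rfl) hx hn)
  obtain ⟨h, hh⟩ := M.code_of_pair he Gen.one
  have hc := hh.conj hx (gen_length (repM_InL0 k))
    (by rw [mulC_unitC (gen_length (repM_InL0 k)), unitC_mulC (repM_InL0 k) fun _ h => h]) (v' := v)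
    (by rw [J4Module.app_zero, Nat.xor_zero, hv, Nat.xor_comm (app (repM k) e) e, Nat.xor_assoc, Nat.xor_self,
      Nat.xor_zero])
  have hh2 : h * x * h⁻¹ * (h * x * h⁻¹) = 1 := by
    rw [show h * x * h⁻¹ * (h * x * h⁻¹) = h * (x * x) * h⁻¹ by group, hx2, mul_one, mul_inv_cancel]
  rcases hc.cases hg with e | e <;> rw [e]
  · exact hh2
  · rw [K.sq_mul_z, hh2]

/-- The square of an element over an involution of the table. -/
theorem table_sq {i : ℕ} (hi : i < 6304) (htag : tagT i ≠ 3) {g : ↥(centralizer ({z} : Set G))} {v : ℕ}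
    (hg : M.Code g v (LM i)) (hfix : app (LM i) v = v) :
    g * g = 1 ↔ ((tagT i == 0) && qbit v) = false := by
  obtain ⟨h4, -⟩ := tree_reach hi
  obtain ⟨-, h, T, hh, eT⟩ := Model.LM_lift (M := M) hi
  obtain ⟨u, D, hD, hTD, hDT⟩ := hh.inv_cols
  have hu : u = 0 := by
    have := hh.mul hD
    rw [mul_inv_cancel] at this
    have h1 := (this.unique M.code_one).1
    rw [Nat.zero_xor] at h1
    have h2 := congrArg (app D) h1
    rw [← app_mulC, hDT, app_unitC _ hD.lt, J4Module.app_zero] at h2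
    exact h2
  subst hu
  have e1 : mulC D (LM i) = mulC (repM (tagT i)) D := by
    calc mulC D (LM i) = mulC D (mulC (LM i) (mulC T D)) := by rw [hTD, mulC_unitC (length_LM i)]
      _ = mulC D (mulC (mulC T (repM (tagT i))) D) := by rw [eT, mulC_assoc]
      _ = mulC (mulC (mulC D T) (repM (tagT i))) D := by simp only [mulC_assoc]
      _ = _ := by rw [hDT, unitC_mulC (repM_InL0 _) fun _ h => h]
  have hg' := hD.conj hg (gen_length (repM_InL0 _)) e1 (v' := app D v) (by simp)
  have hfix' : app (repM (tagT i)) (app D v) = app D v := by rw [← app_mulC, ← e1, app_mulC, hfix]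
  have hsq : h⁻¹ * g * h⁻¹⁻¹ * (h⁻¹ * g * h⁻¹⁻¹) = 1 ↔ g * g = 1 := by
    rw [show h⁻¹ * g * h⁻¹⁻¹ * (h⁻¹ * g * h⁻¹⁻¹) = h⁻¹ * (g * g) * h⁻¹⁻¹ by group, conj_eq_one_iff]
  rw [← hsq]
  obtain ⟨y, hy⟩ := M.vec_surj v hg.lt
  have hq : qbit (app D v) = qbit v := by rw [← hy, Model.qbit_acts hD.acts y]
  obtain h0 | h1 | h2 : tagT i = 0 ∨ tagT i = 1 ∨ tagT i = 2 := by omega
  · rw [h0] at hg' hfix'
    rw [hg'.hex_sq hfix', hq, h0]
    simp
  · rw [h1] at hg' hfix'
    rw [h1]
    simpa using K.outer_sq (Or.inl rfl) hg' hfix'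
  · rw [h2] at hg' hfix'
    rw [h2]
    simpa using K.outer_sq (Or.inr rfl) hg' hfix'

/-- The test agrees with the group. -/
theorem good_iff {x y : ↥(centralizer ({z} : Set G))} {v w : ℕ} {C D : List ℕ} (hx : M.Code x v C)
    (hy : M.Code y w D) (hxz : clsInd z x ≠ 0) (hyt : clsInd t y ≠ 0) {r : Root} (hr : powersOK r = true)
    (hK : unp r.K = mulC C D) :
    M.toH M.zQ ∈ zpowers (x * y) ↔ goodV r.Ps.length r.F r.H r.inn (v ^^^ app C w) = true := by
  obtain ⟨hm, hpm, hmin, hpw, hF, hH, hhalf⟩ := powers_spec hr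
  have hxy := hx.mul hy
  rw [← hK] at hxy
  set c := v ^^^ app C w
  set m := r.Ps.length
  obtain ⟨hnz, hzero⟩ := hxy.z_power hm hpm hmin
  have hS : app (unp r.F) c = sumV (unp r.K) c m := by rw [hF]; exact app_prefX hxy.lt m hpw
  unfold goodV
  rw [hS]
  by_cases h0 : sumV (unp r.K) c m = 0
  · rw [if_pos (by simp [h0]), hzero h0]
    have hm1 : M.Code ((x * y) ^ m) 0 unitC := by
      have := hxy.pow m
      rwa [hpm, h0] at this
    rcases Nat.mod_two_eq_zero_or_one m with he | ho
    · obtain ⟨hlt, hLM, h3, hinn⟩ := hhalf he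
      have hh := hxy.pow (m / 2)
      rw [← hLM] at hh
      have hsplit : (x * y) ^ (m / 2) * (x * y) ^ (m / 2) = (x * y) ^ m := by
        rw [← pow_add]; congr 1; omega
      have hfix : app (LM r.half) (sumV (unp r.K) c (m / 2)) = sumV (unp r.K) c (m / 2) := by
        have h1 := hh.mul hh
        rw [hsplit] at h1
        exact (Nat.xor_eq_zero_iff.1 (h1.unique hm1).1).symm
      have hsq := K.table_sq hlt h3 hh hfix
      rw [hsplit] at hsq
      rw [hH, app_prefX hxy.lt (m / 2) (fun l hl => hpw l (by omega)), hinn,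
        show (m % 2 == 1) = false by simp [he], Bool.false_or]
      constructor
      · intro hz
        by_contra hb
        exact M.z_ne (hz.symm.trans (hsq.2 (by simpa using hb)))
      · intro hb
        rcases hm1.unit_zero with e | e
        · rw [hsq.1 e] at hb
          exact absurd hb (by simp)
        · exact e
    · refine iff_of_true ?_ (by simp [ho])
      rcases hm1.unit_zero with e | e
      · exfalso
        have hne : ¬ IsConj (x : G) (y : G) := fun h => by
          have hz' : IsConj z (x : G) := by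
            by_contra hn; exact hxz (if_neg hn)
          have ht' : IsConj t (y : G) := by
            by_contra hn; exact hyt (if_neg hn)
          exact K.hzt ((hz'.trans h).trans ht'.symm)
        refine hne (conj_of_odd (congrArg Subtype.val (K.ind_sq (Or.inr rfl) hxz).1)
          (congrArg Subtype.val (K.ind_sq (Or.inl rfl) hyt).1) (Nat.odd_iff.2 ho) ?_)
        have := congrArg Subtype.val e
        simpa using this
      · exact e
  · rw [if_neg (by simp [h0])]
    exact hnz h0

end OCountCtx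

end Cfsg.Agent.JankoFour
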