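import Cfsg.Agent.Lib.JankoFour.ClassPowerData
import Cfsg.Agent.Lib.JankoFour.ClassLabel
import Cfsg.Agent.Lib.JankoFour.OCountGood

/-!
Checks for the 2-elements with the central involution among their powers.
-/

set_option autoImplicit false
set_option maxRecDepth 100000
set_option maxHeartbeats 0
set_option Elab.async false

namespace Cfsg.Agent.JankoFour.KPower

open Cfsg.Agent.J4Module (app of_chunks)
open Cfsg.Agent.J4Module.Data
open KLabel OC

/-- An entry. -/
def nth {α : Type} (d : α) (n : ℕ) : List α → α :=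
  Nat.rec (fun l => l.headD d) (fun _ r l => r l.tail) n

/-- The test over a representative: the central involution is a power. -/
def zPow (j v : ℕ) : Bool :=
  if sumV (rM j) v (nth 0 j ordR) == 0 then
    (nth 0 j ordR != 1) && ((tagT (nth 0 j halfR) == 0) && qbit (sumV (rM j) v (nth 0 j ordR / 2)))
  else qbit (sumV (rM j) v (nth 0 j ordR))

/-- The projection is a translation. -/
def projOK (j v : ℕ) : Bool :=
  app (nth [] j transR) v ^^^ v == app (nth [] j projR) v ^^^ app (rM j) (app (nth [] j transR) v) &&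
    Nat.blt (app (nth [] j transR) v) 4096

/-- The representative over a class. -/
def repOf (j : ℕ) : ℕ := ((zReps.filter fun r => r.1 == j).headD (0, 0, 0)).2.1

/-- The image of the projection. -/
def imgP (j : ℕ) : List ℕ :=
  (nth [] j projR).foldl (fun L g => if L.contains g then L else L ++ L.map (g ^^^ ·)) [0]

/-- A projected vector passing the test is reached from the representative. -/
def pathOK (j c : ℕ) : Bool :=
  !(zPow j c) ||
    (zReps.any (fun r => r.1 == j) && (nth [] j pathR).any fun e =>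
      e.1 == c && Nat.blt e.2.1 4096 && e.2.2.all (fun k => (k < 5 : Bool)))

/-- A path. -/
def moveOK (j : ℕ) (e : ℕ × ℕ × List ℕ) : Bool :=
  mulC (Big.wordC e.2.2) (rM j) == mulC (rM j) (Big.wordC e.2.2) &&
    e.2.1 ^^^ app (Big.wordC e.2.2) (repOf j) == e.1 ^^^ app (rM j) e.2.1

theorem ord_ok : ∀ j < 10, 0 < nth 0 j ordR ∧ pw (rM j) (nth 0 j ordR) = unitC ∧
    (∀ i < nth 0 j ordR, i ≠ 0 → pw (rM j) i ≠ unitC) := by decide +kernel

theorem half_ok : ∀ j < 10, j ≠ 0 → nth 0 j ordR % 2 = 0 ∧ nth 0 j halfR < 6304 ∧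
    LM (nth 0 j halfR) = pw (rM j) (nth 0 j ordR / 2) ∧ tagT (nth 0 j halfR) ≠ 3 := by decide +kernel

theorem proj_basis : ∀ j < 10, j ≠ 0 → ∀ k < 12, projOK j (2 ^ k) = true := by decide +kernel

theorem img_closed : ∀ j < 10, j ≠ 0 → (imgP j).contains 0 = true ∧
    ∀ c ∈ imgP j, ∀ k < 12, (imgP j).contains (app (nth [] j projR) (2 ^ k) ^^^ c) = true := by decide +kernel

theorem path_ok : ∀ j < 10, j ≠ 0 → ∀ c ∈ imgP j, pathOK j c = true := by decide +kernel

theorem move_ok : ∀ j < 10, ∀ e ∈ nth [] j pathR, moveOK j e = true := by decide +kernel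

theorem unit_orbit : ∀ v < 4096, qbit v = true → cls v = 3 := of_chunks 64 (by decide +kernel)

theorem reps_shape : zReps.length = 6 ∧ zReps.getD 0 (0, 0, 0) = (0, 1, (zReps.getD 0 (0, 0, 0)).2.2) ∧
    ∀ r ∈ zReps, r.1 < 10 ∧ r.2.1 < 4096 ∧ r.2.1 ≠ 0 ∧ r.2.2 < 4096 ∧ app (rM r.1) r.2.2 = r.2.2 := by decide +kernel

theorem reps_pow : ∀ r ∈ zReps, repOf r.1 = r.2.1 ∧ (r.1 = 0 ∨ zPow r.1 r.2.1 = true) ∧
    (r.1 = 0 → qbit r.2.1 = true) := by decide +kernel

theorem reps_flip : ∀ r ∈ zReps,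
    ((bbit r.2.2 r.2.1 ^^ (if mulC pC (rM r.1) = mulC (rM r.1) pC then false
      else bbit (app p2C r.2.2) (app pC r.2.2))) = true) ∧
    (mulC pC (rM r.1) = mulC (rM r.1) pC ∨ mulC (rM r.1) pC = mulC p2C (rM r.1)) := by decide +kernel

theorem reps_apart : ∀ r ∈ zReps, ∀ s ∈ zReps, r ≠ s →
    nth 0 r.1 ordR ≠ nth 0 s.1 ordR ∨
      decide (mulC pC (rM r.1) = mulC (rM r.1) pC) ≠ decide (mulC pC (rM s.1) = mulC (rM s.1) pC) := by decide +kernel

end Cfsg.Agent.JankoFour.KPower
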