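/-!
Data for the 2-elements with the central involution among their powers: orders, involutions of the table, a
projection modulo the commutators, and paths to the representatives.
-/

namespace Cfsg.Agent.JankoFour.KPower

/-- The order of each representative. -/
def ordR : List Nat :=
  [1, 2, 2, 8, 4, 4, 4, 8, 4, 2]

/-- The position of its involution in the table. -/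
def halfR : List Nat :=
  [0, 1669, 5153, 3027, 1041, 1669, 1041, 3027, 3027, 1806]

/-- The translations of the projection. -/
def transR : List (List Nat) :=
  [[], [0, 0, 0, 0, 0, 0, 4, 0, 16, 128, 0, 156], [0, 1, 0, 0, 0, 0, 144, 0, 44, 152, 4, 28],
   [0, 0, 983, 123, 982, 373, 839, 494, 47, 627, 660, 693], [0, 0, 0, 0, 1, 161, 401, 425, 302, 55, 29, 141],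
   [0, 0, 0, 90, 0, 1, 453, 462, 285, 150, 22, 323], [0, 0, 174, 0, 0, 175, 148, 22, 187, 232, 230, 87],
   [0, 0, 66, 52, 854, 801, 370, 527, 443, 790, 911, 90], [0, 0, 0, 257, 0, 340, 66, 22, 19, 449, 212, 344],
   [0, 0, 80, 48, 0, 0, 0, 0, 163, 227, 81, 209]]

/-- The projection. -/
def projR : List (List Nat) :=
  [[], [1, 2, 4, 8, 16, 32, 36, 128, 48, 160, 1024, 1056], [1, 0, 4, 8, 16, 32, 36, 128, 160, 48, 188, 40],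
   [1, 2, 1, 0, 0, 1, 0, 0, 1, 1, 2, 3], [1, 2, 4, 8, 15, 4, 0, 15, 14, 14, 10, 11],
   [1, 2, 4, 5, 16, 1, 5, 16, 17, 17, 2, 3], [1, 2, 1, 8, 16, 11, 10, 26, 17, 27, 10, 11],
   [1, 2, 1, 0, 2, 1, 0, 2, 3, 3, 2, 3], [1, 2, 4, 5, 16, 1, 5, 16, 17, 17, 2, 3],
   [1, 2, 1, 2, 16, 32, 64, 128, 224, 112, 208, 176]]

/-- The representatives with their classes and moving translations. -/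
def zReps : List (Nat × Nat × Nat) :=
  [(0, 1, 2), (1, 1, 2), (2, 1, 1212), (4, 10, 100), (7, 1, 1242), (8, 4, 33)]

/-- Paths over the class 1. -/
def path1 : List (Nat × Nat × List Nat) :=
  [(1, 0, []), (2, 0, [3]), (3, 0, [4, 3, 4]), (32, 0, [1, 0, 2, 0, 1, 0, 0, 0, 0, 0, 0, 0, 0, 0, 0, 4]),
   (1180, 16, [0, 2, 0, 0, 2, 0, 1, 1, 1, 1, 2, 2, 2, 1, 1, 1, 1]),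
   (1212, 28, [0, 2, 0, 0, 2, 1, 0, 0, 0, 0, 0, 0, 0, 0, 0, 0, 4, 2, 2, 2])]

/-- Paths over the class 2. -/
def path2 : List (Nat × Nat × List Nat) :=
  [(1, 0, []),
   (4, 160, [0, 0, 1, 1, 1, 1, 2, 2, 2, 0, 1, 0, 2, 3, 3, 4, 0, 0, 0, 0, 0, 0, 0, 0, 0, 0, 2, 2, 2]),
   (9, 136, [0, 2, 1, 0, 2, 3, 0, 1, 1, 1, 1, 0, 0, 0, 0, 0, 0, 0, 0, 0, 0, 4, 2, 2, 2, 2, 2, 2, 2, 0, 1, 2, 4, 0, 3, 3, 3, 3, 1, 1, 1, 1, 2, 2, 2]),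
   (12, 44, [2, 2, 2, 0, 1, 0, 2, 3, 3, 4, 0, 0, 0, 0, 0, 0, 0, 0, 0, 0, 2, 2, 2, 2, 0, 1, 2, 4, 0, 3, 3, 3, 3, 1, 1, 1, 1, 2, 2, 2]),
   (16, 36, [4, 0, 4, 1, 1, 1, 1, 1, 1, 1, 1, 2, 2, 2, 0, 1, 0, 2, 3, 3, 4, 0, 0, 0, 0, 0, 0, 0, 0, 0, 0, 2, 2, 2]),
   (21, 144, [0, 2, 0, 1, 0, 2, 2, 2, 0, 0, 0, 0, 0, 0, 0, 0, 0, 0, 2, 2, 2]),
   (24, 164, [0, 2, 0, 1, 2, 0, 2, 2, 2, 2, 2, 2, 0, 0, 0, 0, 0, 0, 0, 0, 0, 0, 4, 2, 2, 2]),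
   (29, 24, [2, 1, 0, 0, 1, 2, 0, 0, 0, 0, 0, 0, 0, 0, 0, 0, 4, 2, 2, 2, 1, 1, 1, 1, 2, 2, 2, 2, 2, 2, 0, 1, 0, 2, 3, 3, 4, 0, 0, 0, 0, 0, 0, 0, 0, 0, 0, 2, 2, 2]),
   (32, 0, [2, 2, 0, 2, 4, 0, 2, 1, 1, 1, 1, 0, 0, 0, 0, 0, 0, 0, 0, 0, 0, 2, 2, 2, 1, 1, 1, 1, 2, 0, 1, 2, 4, 0, 3, 3, 3, 3, 1, 1, 1, 1, 2, 2, 2]),
   (37, 129, [2, 1, 0, 0, 1, 2, 0, 0, 0, 0, 0, 0, 0, 0, 0, 0, 4, 2, 2, 2, 1, 1, 1, 1, 2, 2, 2]),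
   (40, 160, [2, 2, 2, 0, 1, 0, 2, 3, 3, 4, 0, 0, 0, 0, 0, 0, 0, 0, 0, 0, 2, 2, 2, 0, 2, 0, 1, 0, 2, 2, 2, 0, 0, 0, 0, 0, 0, 0, 0, 0, 0, 2, 2, 2]),
   (45, 1, [1, 2, 2, 0, 1, 2, 0, 0, 0, 0, 0, 0, 0, 0, 0, 0, 2, 2, 2, 2, 2, 2, 1, 1, 1, 1, 2, 0, 1, 2, 4, 0, 3, 3, 3, 3, 1, 1, 1, 1, 2, 2, 2]),
   (49, 52, [0, 2, 2, 1, 0, 4, 2, 4, 0, 0, 0, 0, 0, 0, 0, 0, 0, 0, 4, 2, 2, 2, 1, 1, 1, 1, 2, 0, 1, 2, 4, 0, 3, 3, 3, 3, 1, 1, 1, 1, 2, 2, 2]),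
   (52, 164, [2, 2, 0, 2, 4, 0, 2, 1, 1, 1, 1, 0, 0, 0, 0, 0, 0, 0, 0, 0, 0, 2, 2, 2, 1, 1, 1, 1]),
   (57, 188, [1, 2, 0, 1, 2, 1, 0, 2, 4, 0, 0, 0, 0, 0, 0, 0, 0, 0, 0, 2, 2, 2, 2, 2, 2, 2, 0, 1, 2, 4, 0, 3, 3, 3, 3, 1, 1, 1, 1, 2, 2, 2]),
   (60, 24, [2, 0, 1, 2, 4, 0, 3, 3, 3, 3, 1, 1, 1, 1, 2, 2, 2, 2, 0, 1, 2, 4, 0, 3, 3, 3, 3, 1, 1, 1, 1, 2, 2, 2]),
   (128, 8, [2, 2, 2, 0, 1, 0, 2, 3, 3, 4, 0, 0, 0, 0, 0, 0, 0, 0, 0, 0, 2, 2, 2]),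
   (133, 169, [4, 0, 4, 1, 1, 1, 1, 1, 1, 1, 1, 2, 0, 1, 2, 4, 0, 3, 3, 3, 3, 1, 1, 1, 1, 2, 2, 2]),
   (136, 0, [2, 1, 0, 0, 1, 2, 0, 0, 0, 0, 0, 0, 0, 0, 0, 0, 4, 2, 2, 2, 1, 1, 1, 1, 2, 2, 2, 2, 0, 1, 2, 4, 0, 3, 3, 3, 3, 1, 1, 1, 1, 2, 2, 2]),
   (141, 41, [2, 1, 4, 0, 3, 2, 2, 2, 1, 1, 1, 1, 0, 0, 0, 0, 0, 0, 0, 0, 0, 0, 2, 2, 2]),
   (145, 45, [1, 2, 0, 1, 2, 1, 0, 2, 4, 0, 0, 0, 0, 0, 0, 0, 0, 0, 0, 2, 2, 2, 2, 2, 2]),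
   (148, 24, [0, 2, 1, 0, 2, 3, 0, 1, 1, 1, 1, 0, 0, 0, 0, 0, 0, 0, 0, 0, 0, 4, 2, 2, 2, 2, 2, 2, 2, 1, 4, 0, 3, 2, 2, 2, 1, 1, 1, 1, 0, 0, 0, 0, 0, 0, 0, 0, 0, 0, 2, 2, 2]),
   (153, 173, [0, 2, 2, 1, 0, 4, 2, 4, 0, 0, 0, 0, 0, 0, 0, 0, 0, 0, 4, 2, 2, 2, 1, 1, 1, 1]),
   (156, 144, [0, 2, 0, 1, 0, 2, 2, 2, 0, 0, 0, 0, 0, 0, 0, 0, 0, 0, 2, 2, 2, 0, 2, 0, 1, 0, 2, 2, 2, 0, 0, 0, 0, 0, 0, 0, 0, 0, 0, 2, 2, 2]),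
   (161, 41, [0, 2, 1, 0, 2, 3, 0, 1, 1, 1, 1, 0, 0, 0, 0, 0, 0, 0, 0, 0, 0, 4, 2, 2, 2, 2, 2, 2]),
   (164, 44, [1, 2, 2, 0, 1, 2, 0, 0, 0, 0, 0, 0, 0, 0, 0, 0, 2, 2, 2, 2, 2, 2, 1, 1, 1, 1]),
   (169, 169, [0, 0, 1, 1, 1, 1, 2, 0, 1, 2, 4, 0, 3, 3, 3, 3, 1, 1, 1, 1, 2, 2, 2]),
   (172, 164, [1, 2, 0, 1, 2, 1, 0, 2, 4, 0, 0, 0, 0, 0, 0, 0, 0, 0, 0, 2, 2, 2, 2, 2, 2, 2, 2, 2, 0, 1, 0, 2, 3, 3, 4, 0, 0, 0, 0, 0, 0, 0, 0, 0, 0, 2, 2, 2]),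
   (176, 12, [0, 2, 0, 1, 2, 0, 2, 2, 2, 2, 2, 2, 0, 0, 0, 0, 0, 0, 0, 0, 0, 0, 4, 2, 2, 2, 0, 2, 0, 1, 0, 2, 2, 2, 0, 0, 0, 0, 0, 0, 0, 0, 0, 0, 2, 2, 2]),
   (181, 173, [2, 0, 1, 2, 4, 0, 3, 3, 3, 3, 1, 1, 1, 1, 2, 2, 2]),
   (184, 52, [2, 1, 4, 0, 3, 2, 2, 2, 1, 1, 1, 1, 0, 0, 0, 0, 0, 0, 0, 0, 0, 0, 2, 2, 2, 2, 1, 4, 0, 3, 2, 2, 2, 1, 1, 1, 1, 0, 0, 0, 0, 0, 0, 0, 0, 0, 0, 2, 2, 2]),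
   (189, 144, [0, 2, 1, 0, 2, 3, 0, 1, 1, 1, 1, 0, 0, 0, 0, 0, 0, 0, 0, 0, 0, 4, 2, 2, 2, 2, 2, 2, 2, 2, 2, 0, 1, 0, 2, 3, 3, 4, 0, 0, 0, 0, 0, 0, 0, 0, 0, 0, 2, 2, 2])]

/-- Paths over the class 4. -/
def path4 : List (Nat × Nat × List Nat) :=
  [(10, 0, []),
   (15, 408, [0, 1, 2, 2, 3, 4, 0, 4, 1, 1, 1, 1, 2, 2, 2, 2, 2, 2, 0, 0, 0, 0, 0, 0, 0, 0, 0, 0, 4, 1, 1, 1, 1])]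

/-- Paths over the class 7. -/
def path7 : List (Nat × Nat × List Nat) :=
  [(1, 0, []),
   (3, 0, [2, 2, 0, 2, 2, 0, 4, 3, 1, 1, 1, 1, 0, 0, 0, 0, 0, 0, 0, 0, 0, 0, 1, 1, 1, 1, 2, 2, 2, 2, 2, 2])]

/-- Paths over the class 8. -/
def path8 : List (Nat × Nat × List Nat) :=
  [(4, 0, []),
   (6, 138, [1, 0, 2, 0, 0, 2, 2, 0, 1, 2, 2, 2, 0, 0, 0, 0, 0, 0, 0, 0, 0, 0, 4, 2, 2, 2, 2, 2, 2, 2, 2, 2]),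
   (17, 19, [0, 1, 4, 0, 4, 0, 0, 0, 0, 0, 0, 0, 0, 0, 0, 4, 1, 1, 1, 1]),
   (18, 345, [1, 2, 1, 3, 1, 1, 1, 1, 2, 2, 2, 1, 1, 1, 1]), (22, 345, [4, 3, 4]),
   (23, 18, [0, 2, 1, 2, 4, 0, 4, 2, 2, 2, 1, 1, 1, 1, 0, 0, 0, 0, 0, 0, 0, 0, 0, 0, 2, 2, 2, 2, 2, 2, 1, 1, 1, 1])]

/-- The paths by class. -/
def pathR : List (List (Nat × Nat × List Nat)) :=
  [[], path1, path2, [], path4, [], [], path7, path8, []]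

end Cfsg.Agent.JankoFour.KPower
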