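import Cfsg.Agent.Lib.JankoFour.ClassPrimes

/-!
Classes of elements of order divisible by seven, from a centraliser that is a direct product with the symmetric
group of degree five.
-/

set_option autoImplicit false
set_option linter.unusedSectionVars false
set_option maxRecDepth 100000

namespace Cfsg.Agent.JankoFour.KCount

open Subgroup

abbrev S5 : Type := Equiv.Perm (Fin 5)

/-- An element of order three. -/
def yThree : S5 := Equiv.swap 0 1 * Equiv.swap 1 2

/-- An element of order five. -/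
def yFive : S5 := Equiv.swap 0 1 * Equiv.swap 1 2 * Equiv.swap 2 3 * Equiv.swap 3 4

/-- The 2-elements up to conjugation. -/
def rTwo : Fin 4 → S5 :=
  ![1, Equiv.swap 0 1, Equiv.swap 0 1 * Equiv.swap 2 3, Equiv.swap 0 1 * Equiv.swap 1 2 * Equiv.swap 2 3]

/-- The 2-elements commuting with the element of order three. -/
def rThree : Fin 2 → S5 := ![1, Equiv.swap 3 4]

theorem rTwo_ok : (∀ i, rTwo i ^ 8 = 1) ∧ (∀ x : S5, x ^ 8 = 1 → ∃ i, IsConj x (rTwo i)) ∧
    ∀ i j, IsConj (rTwo i) (rTwo j) → i = j := by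
  decide +kernel

theorem rThree_ok : (∀ i, rThree i ^ 8 = 1 ∧ rThree i * yThree = yThree * rThree i) ∧
    (∀ x : S5, x ^ 8 = 1 → x * yThree = yThree * x → ∃ i : Fin 2, x = rThree i) ∧
    ∀ i j, IsConj (rThree i) (rThree j) → i = j := by
  decide +kernel

theorem five_ok : ∀ x : S5, x ^ 8 = 1 → x * yFive = yFive * x → x = 1 := by decide +kernel

theorem odd_three : ∀ x : S5, x ^ 3 = 1 → x ≠ 1 → IsConj x yThree := by decide +kernel

theorem odd_five : ∀ x : S5, x ^ 5 = 1 → x ≠ 1 → IsConj x yFive := by decide +kernel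

theorem odd_orders : ∀ x : S5, x ^ 15 = 1 → x ^ 3 = 1 ∨ x ^ 5 = 1 := by decide +kernel

variable {G : Type*} [Group G] [Finite G]

/-- An element of order seven with centraliser the product with a copy of the symmetric group. -/
structure SevenData (s : G) (ι : S5 →* G) : Prop where
  order : orderOf s = 7
  inj : Function.Injective ι
  comm : ∀ x, s * ι x = ι x * s
  gen : ∀ g, g * s = s * g → ∃ (i : ℕ) (x : S5), g = s ^ i * ι x
  disj : ∀ (i : ℕ) (x : S5), s ^ i * ι x = 1 → x = 1

theorem exists_seven_data {s : G} {I : Subgroup G} (hs : orderOf s = 7) (hIs : ∀ i ∈ I, s * i = i * s)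
    (hd : zpowers s ⊓ I = ⊥) (hsup : zpowers s ⊔ I = centralizer ({s} : Set G)) (ψ : ↥I ≃* S5) :
    ∃ ι : S5 →* G, SevenData s ι := by
  refine ⟨I.subtype.comp ψ.symm.toMonoidHom, hs, I.subtype_injective.comp ψ.symm.injective,
    fun x => hIs _ (ψ.symm x).2, fun g hg => ?_, fun i x h => ?_⟩
  · have hle : zpowers s ≤ normalizer (I : Set G) := zpowers_le.2 (by
      rw [mem_normalizer_iff]
      intro y
      constructor
      · intro hy; rw [hIs y hy, mul_inv_cancel_right]; exact hy
      · intro hy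
        have h := hIs _ hy
        have h2 : s * y * s⁻¹ = y := mul_left_cancel (h.trans (inv_mul_cancel_right (s * y) s))
        rwa [h2] at hy)
    have hgs : g ∈ ((zpowers s ⊔ I : Subgroup G) : Set G) := by
      rw [hsup]; exact mem_centralizer_singleton_iff.2 hg
    rw [coe_mul_of_left_le_normalizer_right _ _ hle] at hgs
    obtain ⟨a, ha, b, hb, rfl⟩ := hgs
    obtain ⟨i, rfl⟩ := mem_powers_iff_mem_zpowers.2 ha
    exact ⟨i, ψ ⟨b, hb⟩, by simp⟩
  · have hmem : s ^ i ∈ zpowers s ⊓ I := by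
      refine ⟨pow_mem (mem_zpowers s) i, ?_⟩
      rw [eq_inv_of_mul_eq_one_left h]
      exact I.inv_mem (ψ.symm x).2
    rw [hd, mem_bot] at hmem
    rw [hmem, one_mul] at h
    exact (I.subtype_injective.comp ψ.symm.injective) (h.trans (map_one (I.subtype.comp ψ.symm.toMonoidHom)).symm)

namespace SevenData

variable {s : G} {ι : S5 →* G} (S : SevenData s ι)
include S

theorem pow {a : ℕ} (ha : ¬ 7 ∣ a) : SevenData (s ^ a) ι := by
  have hco : Nat.Coprime 7 a := (by norm_num : Nat.Prime 7).coprime_iff_not_dvd.2 ha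
  have hz : ∀ g : G, g * s ^ a = s ^ a * g → g * s = s * g := fun g h => by
    obtain ⟨b, hb⟩ := exists_pow_eq_self_of_coprime (x := s) (n := a) (by rw [S.order]; exact hco.symm)
    have := (show Commute g (s ^ a) from h).pow_right b
    rwa [hb] at this
  refine ⟨by rw [Nat.Coprime.orderOf_pow (by rw [S.order]; exact hco), S.order], S.inj,
    fun x => ((show Commute s (ι x) from S.comm x).pow_left a).eq, fun g hg => ?_, fun i x h => ?_⟩
  · obtain ⟨i, x, rfl⟩ := S.gen g (hz g hg)
    obtain ⟨b, hb⟩ := exists_pow_eq_self_of_coprime (x := s) (n := a) (by rw [S.order]; exact hco.symm)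
    exact ⟨b * i, x, by rw [pow_mul, hb]⟩
  · exact S.disj (a * i) x (by rwa [pow_mul])

theorem comm_pow (i : ℕ) (x : S5) : Commute (s ^ i) (ι x) := (show Commute s (ι x) from S.comm x).pow_left i

theorem order_mul {q : ℕ} (hq : Nat.Coprime 7 q) {y : S5} (hy : orderOf y = q) : orderOf (s * ι y) = 7 * q := by
  have hι : orderOf (ι y) = q := by rw [orderOf_injective ι S.inj, hy]
  rw [(show Commute s (ι y) from S.comm y).orderOf_mul_eq_mul_orderOf_of_coprime (by rw [S.order, hι]; exact hq),
    S.order, hι]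

/-- Commuting with the product is commuting with both. -/
theorem commute_iff {y : S5} (hy : y ^ 15 = 1) (g : G) :
    g * (s * ι y) = s * ι y * g ↔ g * s = s * g ∧ g * ι y = ι y * g := by
  constructor
  · intro h
    have h15 : (s * ι y) ^ 15 = s := by
      rw [(show Commute s (ι y) from S.comm y).mul_pow, ← map_pow, hy, map_one, mul_one, ← pow_mod_orderOf,
        S.order, show 15 % 7 = 1 from rfl, pow_one]
    have h1 := (show Commute g (s * ι y) from h).pow_right 15
    rw [h15] at h1
    refine ⟨h1, ?_⟩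
    have h2 := h1.inv_right.mul_right (show Commute g (s * ι y) from h)
    rwa [inv_mul_cancel_left] at h2
  · rintro ⟨h1, h2⟩
    exact ((show Commute g s from h1).mul_right h2).eq

theorem two_part {u : G} (hu : TwoEl u) (hs : u * s = s * u) : ∃ x : S5, x ^ 8 = 1 ∧ u = ι x := by
  obtain ⟨i, x, rfl⟩ := S.gen u hs
  obtain ⟨k, hk⟩ := hu
  rw [(S.comm_pow i x).mul_pow, ← map_pow, ← pow_mul] at hk
  have hx := S.disj _ _ hk
  have hi : 7 ∣ i := by
    rw [hx, map_one, mul_one] at hk
    have := orderOf_dvd_of_pow_eq_one hk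
    rw [S.order] at this
    exact ((Nat.Coprime.pow_right k (by norm_num : Nat.Coprime 7 2)).dvd_of_dvd_mul_right this)
  refine ⟨x, orderOf_dvd_iff_pow_eq_one.1 ?_, ?_⟩
  · have h1 := orderOf_dvd_of_pow_eq_one hx
    obtain ⟨j, -, hj⟩ := (Nat.dvd_prime_pow Nat.prime_two).1 h1
    have h2 := orderOf_dvd_natCard x
    rw [Nat.card_perm, Nat.card_fin, show Nat.factorial 5 = 2 ^ 3 * 15 from rfl, hj] at h2
    rw [hj]
    exact (Nat.Coprime.pow_left j (by norm_num : Nat.Coprime 2 15)).dvd_of_dvd_mul_right h2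
  · obtain ⟨l, rfl⟩ := hi
    rw [pow_mul, show s ^ 7 = 1 by rw [← S.order]; exact pow_orderOf_eq_one s, one_pow, one_mul]

/-- The section over the product, from the classes in the small group. -/
theorem section_eq {y : S5} (hy : y ^ 15 = 1) (hodd : Odd (orderOf (s * ι y))) {n : ℕ} (r : Fin n → S5)
    (h1 : ∀ i, r i ^ 8 = 1 ∧ r i * y = y * r i)
    (h2 : ∀ x : S5, x ^ 8 = 1 → x * y = y * x → ∃ i, ∃ k, k * y = y * k ∧ k * x * k⁻¹ = r i)
    (h3 : ∀ i j, IsConj (r i) (r j) → i = j) : sectionCard (s * ι y) = n := by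
  refine sectionCard_eq hodd (fun i => ι (r i))
    (fun i => ⟨⟨3, by rw [← map_pow, show 2 ^ 3 = 8 from rfl, (h1 i).1, map_one]⟩, ?_⟩) ?_ ?_
  · exact (S.commute_iff hy _).2 ⟨(S.comm _).symm, by rw [← map_mul, (h1 i).2, map_mul]⟩
  · intro u hu hc
    obtain ⟨hs, hyu⟩ := (S.commute_iff hy u).1 hc
    obtain ⟨x, hx, rfl⟩ := S.two_part hu hs
    obtain ⟨i, k, hk, e⟩ := h2 x hx (S.inj (by rw [map_mul, map_mul]; exact hyu))
    exact ⟨i, ι k, (S.commute_iff hy _).2 ⟨(S.comm _).symm, by rw [← map_mul, hk, map_mul]⟩,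
      by rw [← map_mul, ← map_inv, ← map_mul, e]⟩
  · intro i j g hg e
    obtain ⟨hs, -⟩ := (S.commute_iff hy g).1 hg
    obtain ⟨l, k, rfl⟩ := S.gen g hs
    refine h3 i j (isConj_iff.2 ⟨k, S.inj ?_⟩)
    rw [← e, show s ^ l * ι k * ι (r i) * (s ^ l * ι k)⁻¹ = s ^ l * (ι k * ι (r i) * (ι k)⁻¹) * (s ^ l)⁻¹ by group,
      ← map_mul, ← map_inv, ← map_mul, (S.comm_pow l _).eq, mul_inv_cancel_right]

theorem section_seven : sectionCard s = 4 := by
  have h := S.section_eq (y := 1) (one_pow _) (by rw [map_one, mul_one, S.order]; decide) rTwo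
    (fun i => ⟨rTwo_ok.1 i, by rw [one_mul, mul_one]⟩)
    (fun x hx _ => by
      obtain ⟨i, hi⟩ := rTwo_ok.2.1 x hx
      obtain ⟨k, hk⟩ := isConj_iff.1 hi
      exact ⟨i, k, by rw [one_mul, mul_one], hk⟩) rTwo_ok.2.2
  rwa [map_one, mul_one] at h

theorem section_three : sectionCard (s * ι yThree) = 2 :=
  S.section_eq (by decide +kernel)
    (by rw [S.order_mul (q := 3) (by norm_num) (orderOf_eq_prime (hp := ⟨by norm_num⟩)
      (by decide +kernel) (by decide +kernel))]; decide)
    rThree rThree_ok.1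
    (fun x hx hc => by
      obtain ⟨i, hi⟩ := rThree_ok.2.1 x hx hc
      exact ⟨i, 1, by rw [one_mul, mul_one], by rw [hi]; group⟩) rThree_ok.2.2

theorem section_five : sectionCard (s * ι yFive) = 1 :=
  S.section_eq (by decide +kernel)
    (by rw [S.order_mul (q := 5) (by norm_num) (orderOf_eq_prime (hp := ⟨by norm_num⟩)
      (by decide +kernel) (by decide +kernel))]; decide)
    (fun _ : Fin 1 => 1) (fun _ => ⟨one_pow _, by rw [one_mul, mul_one]⟩)
    (fun x hx hc => ⟨0, 1, by rw [one_mul, mul_one], by rw [five_ok x hx hc]; group⟩)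
    fun i j _ => Subsingleton.elim i j

omit S in
theorem sum_two {a b : G} {n : ℕ} (ha : sectionCard a = n) (hb : sectionCard b = n) :
    ([a, b].map sectionCard).sum = 2 * n := by
  simp [ha, hb]; omega

/-- The orders divisible by seven. -/
theorem order_cases (h7 : OrderReps 7 [s, s ^ 3]) {x : G} (hodd : Odd (orderOf x)) (hx : 7 ∣ orderOf x) :
    orderOf x = 7 ∨ orderOf x = 21 ∨ orderOf x = 35 := by
  obtain ⟨w, hw, hc⟩ := h7.cover (x ^ (orderOf x / 7)) (by
    rw [orderOf_pow_of_dvd (Nat.div_pos (Nat.le_of_dvd (orderOf_pos x) hx) (by norm_num)).ne' (Nat.div_dvd_of_dvd hx),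
      Nat.div_div_self hx (orderOf_pos x).ne'])
  obtain ⟨k, hk⟩ := isConj_iff.1 hc
  set x' := k * x * k⁻¹ with hx'
  have ho : orderOf x' = orderOf x := (MulAut.conj k).orderOf_eq x
  have hpow : x' ^ (orderOf x / 7) = w := by rw [hx', conj_pow, hk]
  have hcw : x' * w = w * x' := by rw [← hpow]; exact (Commute.self_pow x' _).eq
  have hcs : x' * s = s * x' := by
    simp only [List.mem_cons, List.not_mem_nil, or_false] at hw
    rcases hw with rfl | rfl
    · exact hcw
    · have h5 : (s ^ 3) ^ 5 = s := by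
        rw [← pow_mul, ← pow_mod_orderOf, S.order, show 3 * 5 % 7 = 1 from rfl, pow_one]
      have := (show Commute x' (s ^ 3) from hcw).pow_right 5
      rwa [h5] at this
  obtain ⟨i, y, he⟩ := S.gen x' hcs
  have hod : Odd (orderOf y) := by
    refine Odd.of_dvd_nat hodd (orderOf_dvd_of_pow_eq_one ?_)
    have h := pow_orderOf_eq_one x'
    rw [ho, he, (S.comm_pow i y).mul_pow, ← map_pow, ← pow_mul] at h
    exact S.disj _ _ h
  have h15 : orderOf y ∣ 15 := by
    have h2 := orderOf_dvd_natCard y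
    rw [Nat.card_perm, Nat.card_fin, show Nat.factorial 5 = 2 ^ 3 * 15 from rfl] at h2
    exact (Nat.Coprime.pow_right 3 (Nat.coprime_two_right.2 hod)).dvd_of_dvd_mul_left h2
  have hd : orderOf x ∣ 21 ∨ orderOf x ∣ 35 := by
    rw [← ho, he]
    rcases odd_orders y (orderOf_dvd_iff_pow_eq_one.1 h15) with h | h
    · left
      refine orderOf_dvd_of_pow_eq_one ?_
      rw [(S.comm_pow i y).mul_pow, ← map_pow, show (21 : ℕ) = 3 * 7 from rfl, pow_mul y, h, one_pow, map_one,
        mul_one, ← pow_mul, ← pow_mod_orderOf, S.order, show i * (3 * 7) % 7 = 0 by omega, pow_zero]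
    · right
      refine orderOf_dvd_of_pow_eq_one ?_
      rw [(S.comm_pow i y).mul_pow, ← map_pow, show (35 : ℕ) = 5 * 7 from rfl, pow_mul y, h, one_pow, map_one,
        mul_one, ← pow_mul, ← pow_mod_orderOf, S.order, show i * (5 * 7) % 7 = 0 by omega, pow_zero]
  have hpos := orderOf_pos x
  rcases hd with h | h <;>
  · have hle := Nat.le_of_dvd (by norm_num) h
    interval_cases orderOf x <;> omega

/-- Representatives at the two composite orders. -/
theorem reps_mul (h7 : OrderReps 7 [s, s ^ 3]) {q : ℕ} (hq : q = 3 ∨ q = 5) {y : S5} (hy : orderOf y = q)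
    (hall : ∀ x : S5, x ^ q = 1 → x ≠ 1 → IsConj x y) : OrderReps (7 * q) [s * ι y, s ^ 3 * ι y] := by
  have hco : Nat.Coprime 7 q := by rcases hq with rfl | rfl <;> norm_num
  have hq15 : q ∣ 15 := by rcases hq with rfl | rfl <;> norm_num
  have hy15 : y ^ 15 = 1 := orderOf_dvd_iff_pow_eq_one.1 (hy ▸ hq15)
  have hS : ∀ w ∈ [s, s ^ 3], SevenData w ι := fun w hw => by
    simp only [List.mem_cons, List.not_mem_nil, or_false] at hw
    rcases hw with rfl | rfl
    · exact S
    · exact S.pow (by norm_num)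
  have h15 : ∀ w ∈ [s, s ^ 3], (w * ι y) ^ 15 = w := fun w hw => by
    rw [(show Commute w (ι y) from (hS w hw).comm y).mul_pow, ← map_pow, hy15, map_one, mul_one,
      ← pow_mod_orderOf, (hS w hw).order, show 15 % 7 = 1 from rfl, pow_one]
  refine ⟨fun w hw => ?_, fun x hx => ?_, ?_⟩
  · simp only [List.mem_cons, List.not_mem_nil, or_false] at hw
    rcases hw with rfl | rfl
    · exact S.order_mul hco hy
    · exact (S.pow (by norm_num)).order_mul hco hy
  · have ho : orderOf (x ^ 15) = 7 := by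
      rw [orderOf_pow, hx]; rcases hq with rfl | rfl <;> rfl
    obtain ⟨w, hw, hc⟩ := h7.cover _ ho
    obtain ⟨k, hk⟩ := isConj_iff.1 hc
    set x' := k * x * k⁻¹ with hx'
    have hox : orderOf x' = 7 * q := by rw [hx', ← MulAut.conj_apply, MulEquiv.orderOf_eq, hx]
    have hp15 : x' ^ 15 = w := by rw [hx', conj_pow, hk]
    obtain ⟨i, y', he⟩ := (hS w hw).gen x' (by rw [← hp15]; exact (Commute.self_pow x' _).eq)
    have hy' : y' ^ q = 1 := by
      have h := pow_orderOf_eq_one x'
      rw [hox, he, ((hS w hw).comm_pow i y').mul_pow, ← map_pow, ← pow_mul] at h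
      have h2 := (hS w hw).disj _ _ h
      refine orderOf_dvd_iff_pow_eq_one.1 ?_
      have h3 := orderOf_dvd_natCard y'
      rw [Nat.card_perm, Nat.card_fin] at h3
      have h4 : Nat.Coprime (orderOf y') 7 := (Nat.Coprime.coprime_dvd_left h3 (by norm_num [Nat.factorial]))
      exact h4.dvd_of_dvd_mul_left (orderOf_dvd_of_pow_eq_one h2)
    have hy1 : y' ≠ 1 := fun e => by
      rw [e, map_one, mul_one] at he
      have : orderOf x' ∣ 7 := by
        refine orderOf_dvd_of_pow_eq_one ?_
        rw [he, ← pow_mul, mul_comm, pow_mul, show w ^ 7 = 1 by rw [← (hS w hw).order]; exact pow_orderOf_eq_one w,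
          one_pow]
      rw [hox] at this
      rcases hq with rfl | rfl <;> norm_num at this
    have hwi : w ^ i = w := by
      have h15' : y' ^ 15 = 1 := by
        obtain ⟨c, hc⟩ := hq15; rw [hc, pow_mul, hy', one_pow]
      rw [he, ((hS w hw).comm_pow i y').mul_pow, ← map_pow, h15', map_one, mul_one, ← pow_mul, ← pow_mod_orderOf,
        (hS w hw).order, Nat.mul_mod, show 15 % 7 = 1 from rfl, mul_one, Nat.mod_mod, ← (hS w hw).order,
        pow_mod_orderOf] at hp15
      exact hp15
    obtain ⟨m, hm⟩ := isConj_iff.1 (hall y' hy' hy1)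
    refine ⟨w * ι y, ?_, isConj_iff.2 ⟨ι m * k, ?_⟩⟩
    · simp only [List.mem_cons, List.not_mem_nil, or_false] at hw ⊢
      rcases hw with rfl | rfl
      · exact Or.inl rfl
      · exact Or.inr rfl
    · calc ι m * k * x * (ι m * k)⁻¹ = ι m * x' * (ι m)⁻¹ := by rw [hx']; group
        _ = w * (ι m * ι y' * (ι m)⁻¹) := by
          rw [he, hwi, ← mul_assoc, ← ((hS w hw).comm m)]; group
        _ = _ := by rw [← map_mul, ← map_inv, ← map_mul, hm]
  · have h := h7.apart
    simp only [List.pairwise_cons, List.mem_singleton, forall_eq, List.not_mem_nil, false_implies, implies_true,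
      List.Pairwise.nil, and_true] at h ⊢
    intro e
    obtain ⟨k, hk⟩ := isConj_iff.1 e
    refine h (isConj_iff.2 ⟨k, ?_⟩)
    have h2 := congrArg (· ^ 15) hk
    simp only [conj_pow, h15 s (by simp), h15 (s ^ 3) (by simp)] at h2
    exact h2

end SevenData

end Cfsg.Agent.JankoFour.KCount
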