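import Cfsg.Agent.Lib.JankoFour.ClassThreeChecks
import Cfsg.Agent.Lib.JankoFour.ClassCount
import Cfsg.Agent.Lib.JankoFour.TCountMain

/-!
The classes of 2-elements in the centraliser of an element of order three, from five pairs of candidates and a
Sylow 2-subgroup in coordinates.
-/

set_option autoImplicit false
set_option linter.unusedSectionVars false
set_option linter.style.haveILetI false
set_option maxRecDepth 100000

namespace Cfsg.Agent.JankoFour

open Subgroup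
open Cfsg (GolayPt M24)
open Cfsg.Agent.Golay (permOf permOf_mem_M24 isAutB)
open Cfsg.Agent.Golay.Local (cmpF sameF idC Code code_permOf sameF_iff code_idC)
open Cfsg.Agent.PermCert (Elt validElt)
open Cfsg.Agent.J4Module (app)
open KCount
open scoped Pointwise

namespace KCount

/-- A power of odd exponent which is a 2-element. -/
theorem exists_odd_pow {G : Type*} [Group G] [Finite G] (k : G) : ∃ m : ℕ, Odd m ∧ TwoEl (k ^ m) := by
  obtain ⟨a, m, hm, hk⟩ := Nat.exists_eq_two_pow_mul_odd (orderOf_pos k).ne'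
  exact ⟨m, hm, a, by rw [← pow_mul, mul_comm, ← hk, pow_orderOf_eq_one]⟩

/-- An element moved to its product with a central involution is moved so inside any Sylow 2-subgroup, up to
conjugacy. -/
theorem exists_swap_sylow {G : Type*} [Group G] [Finite G] {T X : Subgroup G} (hT : T ≤ X) {e : ℕ}
    (hcard : Nat.card ↥T = 2 ^ e) (hfac : (Nat.card ↥X).factorization 2 = e) {x k c : G} (hx : x ∈ X) (hk : k ∈ X)
    (hc : c ∈ X) (hxe : TwoEl x) (hc2 : c * c = 1) (hcc : ∀ g ∈ X, g * c = c * g) (h : k * x * k⁻¹ = x * c) :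
    ∃ h' ∈ X, ∃ k' ∈ T, h' * x * h'⁻¹ ∈ T ∧ k' * (h' * x * h'⁻¹) * k'⁻¹ = h' * x * h'⁻¹ * c := by
  haveI : Fact (Nat.Prime 2) := ⟨Nat.prime_two⟩
  obtain ⟨m, hm, hk2⟩ := exists_odd_pow k
  have hpow : ∀ j : ℕ, k ^ j * x * (k ^ j)⁻¹ = x * c ^ j := by
    intro j
    induction j with
    | zero => simp
    | succ j ih =>
      rw [pow_succ' k, show k * k ^ j * x * (k * k ^ j)⁻¹ = k * (k ^ j * x * (k ^ j)⁻¹) * k⁻¹ by group, ih,
        show k * (x * c ^ j) * k⁻¹ = k * x * k⁻¹ * (k * c ^ j * k⁻¹) by group, h,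
        ((show Commute k c from hcc k hk).pow_right j).eq, mul_inv_cancel_right, mul_assoc, ← pow_succ']
  have hcm : c ^ m = c := by
    obtain ⟨i, rfl⟩ := hm
    rw [pow_succ, pow_mul, pow_two, hc2, one_pow, one_mul]
  set u := k ^ m with hu
  have hu' : u * x * u⁻¹ = x * c := by rw [hu, hpow, hcm]
  have huX : u ∈ X := pow_mem hk m
  have hp : ∀ g : G, TwoEl g → IsPGroup 2 ↥(zpowers g) := by
    rintro g ⟨n, hn⟩ ⟨y, i, rfl⟩
    refine ⟨n, Subtype.ext ?_⟩
    show (g ^ i) ^ 2 ^ n = 1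
    rw [← zpow_natCast, ← zpow_mul, mul_comm, zpow_mul, zpow_natCast, hn, one_zpow]
  set A := zpowers c ⊔ zpowers x
  have hA : IsPGroup 2 ↥A := by
    refine (hp c ⟨1, by rw [pow_one, pow_two, hc2]⟩).to_sup_of_normal_left' (hp x hxe) ?_
    rw [zpowers_le, mem_normalizer_iff]
    intro g
    constructor
    · rintro ⟨i, rfl⟩
      refine ⟨i, ?_⟩
      show c ^ i = x * c ^ i * x⁻¹
      rw [((show Commute x c from hcc x hx).zpow_right i).eq, mul_inv_cancel_right]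
    · rintro ⟨i, hi⟩
      refine ⟨i, ?_⟩
      show c ^ i = g
      have hxc := ((show Commute x c from hcc x hx).zpow_right i).eq
      have hi' : c ^ i = x * g * x⁻¹ := hi
      calc c ^ i = x⁻¹ * (x * c ^ i) := by group
        _ = x⁻¹ * (c ^ i * x) := by rw [hxc]
        _ = g := by rw [hi']; group
  have huA : zpowers u ≤ normalizer (A : Set G) := by
    classical
    haveI := Fintype.ofFinite G
    have hle : A.map (MulAut.conj u).toMonoidHom ≤ A := by
      rw [Subgroup.map_sup, sup_le_iff]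
      constructor <;> rw [MonoidHom.map_zpowers, zpowers_le]
      · show u * c * u⁻¹ ∈ A
        rw [hcc u huX, mul_inv_cancel_right]
        exact mem_sup_left (mem_zpowers c)
      · show u * x * u⁻¹ ∈ A
        rw [hu']
        exact mul_mem (mem_sup_right (mem_zpowers x)) (mem_sup_left (mem_zpowers c))
    rw [zpowers_le]
    exact mem_normalizer_fintype fun a ha => hle ⟨a, ha, rfl⟩
  have hR : IsPGroup 2 ↥(A ⊔ zpowers u) := hA.to_sup_of_normal_left' (hp u hk2) huA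
  have hRX : A ⊔ zpowers u ≤ X := sup_le (sup_le (zpowers_le.2 hc) (zpowers_le.2 hx)) (zpowers_le.2 huX)
  obtain ⟨Q, hQ⟩ := (hR.of_equiv (subgroupOfEquivOfLe hRX).symm).exists_le_sylow
  let S : Sylow 2 ↥X := Sylow.ofCard (T.subgroupOf X) (by
    rw [Nat.card_congr (subgroupOfEquivOfLe hT).toEquiv, hcard, hfac])
  obtain ⟨g, hg⟩ := MulAction.exists_smul_eq ↥X Q S
  have hin : ∀ y : G, y ∈ A ⊔ zpowers u → (g : G) * y * (g : G)⁻¹ ∈ T := fun y hy => by
    have h1 : g * ⟨y, hRX hy⟩ * g⁻¹ ∈ T.subgroupOf X := by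
      have : g * ⟨y, hRX hy⟩ * g⁻¹ ∈ (g • Q : Sylow 2 ↥X) := by
        show _ ∈ ((g • Q : Sylow 2 ↥X) : Subgroup ↥X)
        rw [Sylow.coe_subgroup_smul, Subgroup.mem_pointwise_smul_iff_inv_smul_mem]
        show (MulAut.conj g)⁻¹ (MulAut.conj g ⟨y, hRX hy⟩) ∈ (Q : Subgroup ↥X)
        rw [MulAut.inv_apply_self]
        exact hQ hy
      rw [hg] at this
      exact this
    exact h1
  refine ⟨g, g.2, _, hin u (mem_sup_right (mem_zpowers u)), hin x (mem_sup_left (mem_sup_right (mem_zpowers x))), ?_⟩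
  rw [show (g : G) * u * (g : G)⁻¹ * ((g : G) * x * (g : G)⁻¹) * ((g : G) * u * (g : G)⁻¹)⁻¹ =
    (g : G) * (u * x * u⁻¹) * (g : G)⁻¹ by group, hu',
    show (g : G) * (x * c) * (g : G)⁻¹ = (g : G) * x * ((g : G)⁻¹ * ((g : G) * c)) * (g : G)⁻¹ by group,
    hcc g g.2]
  group

end KCount

namespace ThreeTwo

open Classical in
/-- A permutation of the subgroup, as an element of the group of the code. -/
noncomputable def sS (i : ℕ) : ↥M24 := if h : permOf (sE i) ∈ M24 then ⟨permOf (sE i), h⟩ else 1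

theorem sS_eq {i : ℕ} (hi : i < 8) : sS i = ⟨permOf (sE i), permOf_mem_M24 (syl_ok i hi).1 (syl_ok i hi).2.1⟩ := by
  rw [sS, dif_pos]

/-- The element of order three. -/
noncomputable def piS : ↥M24 := ⟨permOf piE, permOf_mem_M24 pi_ok.1 pi_ok.2.1⟩

theorem sS_zero : sS 0 = 1 := by
  rw [sS_eq (by norm_num)]
  exact Subtype.ext ((sameF_iff (code_permOf (syl_ok 0 (by norm_num)).1) code_idC).1 syl_one)

theorem sS_mul {i j : ℕ} (hi : i < 8) (hj : j < 8) : sS i * sS j = sS (sTab i j) := by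
  rw [sS_eq hi, sS_eq hj, sS_eq (tab_ok i hi j hj).1]
  exact Subtype.ext ((sameF_iff ((code_permOf (syl_ok i hi).1).cmp (code_permOf (syl_ok j hj).1))
    (code_permOf (syl_ok _ (tab_ok i hi j hj).1).1)).1 (tab_ok i hi j hj).2)

theorem sS_inj {i j : ℕ} (hi : i < 8) (hj : j < 8) (h : sS i = sS j) : i = j := by
  rw [sS_eq hi, sS_eq hj] at h
  exact syl_inj i hi j hj ((sameF_iff (code_permOf (syl_ok i hi).1) (code_permOf (syl_ok j hj).1)).2
    (congrArg Subtype.val h))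

theorem sS_comm {i : ℕ} (hi : i < 8) : sS i * piS = piS * sS i := by
  rw [sS_eq hi, piS]
  exact Subtype.ext ((sameF_iff ((code_permOf (syl_ok i hi).1).cmp (code_permOf pi_ok.1))
    ((code_permOf pi_ok.1).cmp (code_permOf (syl_ok i hi).1))).1 (syl_ok i hi).2.2)

/-- A coordinate and an index. -/
def Valid (x : ℕ × ℕ) : Prop := x.1 ∈ fixU ∧ x.2 < 8

theorem valid_elT {a : ℕ} (ha : a < 256) : Valid (elT a) := by
  refine ⟨?_, by show a / 32 < 8; omega⟩
  have key : ∀ b < 32, TC.nth 0 b fixU ∈ fixU := by decide +kernel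
  exact key _ (Nat.mod_lt _ (by norm_num))

theorem exists_index {x : ℕ × ℕ} (hx : Valid x) : ∃ a < 256, elT a = x := by
  have key : ∀ u ∈ fixU, ∃ b < 32, TC.nth 0 b fixU = u := by decide +kernel
  obtain ⟨b, hb, e⟩ := key _ hx.1
  obtain ⟨-, h8⟩ := hx
  refine ⟨32 * x.2 + b, by omega, Prod.ext ?_ ?_⟩
  · show TC.nth 0 ((32 * x.2 + b) % 32) fixU = x.1
    rw [Nat.mul_add_mod, Nat.mod_eq_of_lt hb, e]
  · show (32 * x.2 + b) / 32 = x.2
    omega

theorem valid_mul {x y : ℕ × ℕ} (hx : Valid x) (hy : Valid y) : Valid (mulT x y) :=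
  ⟨fix_closed _ hx.2 _ hx.1 _ hy.1, (tab_ok _ hx.2 _ hy.2).1⟩

theorem valid_zT : Valid zT := valid_elT (by norm_num)

theorem eqT_iff {x y : ℕ × ℕ} : eqT x y = true ↔ x = y := by
  simp [eqT, Nat.beq_eq, Prod.ext_iff]

end ThreeTwo

variable {G : Type*} [Group G] [Finite G] {z : G} {P : Subgroup G} {M : Model z P} {B : BigData M}
  {D : BigPack z B.V}

namespace BigPack.Sec

open ThreeTwo

variable (S : D.Sec)

/-- The element of given coordinates. -/
noncomputable def eX (x : ℕ × ℕ) : G := S.el x.1 (sS x.2)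

/-- The element of order three. -/
noncomputable def p0 : G := S.kk piS

/-- The central involution of its centraliser. -/
noncomputable def z0 : G := S.eX zT

theorem eX_one : S.eX (0, 0) = 1 := by rw [eX, sS_zero, el_zero_one]

theorem eX_mul {x y : ℕ × ℕ} (hx : Valid x) (hy : Valid y) : S.eX x * S.eX y = S.eX (mulT x y) := by
  obtain ⟨hx1, hx2⟩ := hx
  have h := S.el_mul (syl_ok _ hx2).1 (permOf_mem_M24 (syl_ok _ hx2).1 (syl_ok _ hx2).2.1)
    (fix_lt _ hx1).1 (fix_lt _ hy.1).1 (sS y.2)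
  rw [← sS_eq hx2, ← TC.cols_eq (syl_ok _ hx2).1 (cols_ok _ hx2), sS_mul hx2 hy.2] at h
  exact h

theorem eX_inj {x y : ℕ × ℕ} (hx : Valid x) (hy : Valid y) (h : S.eX x = S.eX y) : x = y := by
  obtain ⟨a, b⟩ := S.el_inj (fix_lt _ hx.1).1 (fix_lt _ hy.1).1 h
  exact Prod.ext a (sS_inj hx.2 hy.2 b)

theorem p0_order : orderOf S.p0 = 3 := by
  haveI : Fact (Nat.Prime 3) := ⟨Nat.prime_three⟩
  refine orderOf_eq_prime ?_ fun h => ?_
  · rw [p0, ← map_pow, show piS ^ 3 = 1 from ?_, map_one]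
    refine Subtype.ext ?_
    rw [SubmonoidClass.coe_pow, pow_succ', pow_two]
    exact (sameF_iff ((code_permOf pi_ok.1).cmp ((code_permOf pi_ok.1).cmp (code_permOf pi_ok.1))) code_idC).1
      pi_ok.2.2.2
  · have h1 : piS = 1 := by
      have := S.phi_el 0 piS
      rw [← this]
      have he : S.el 0 piS = 1 := by rw [el, D.evG_zero, one_mul]; exact h
      refine (congrArg D.phi (Subtype.ext he : (⟨S.el 0 piS, S.el_mem 0 piS⟩ : ↥(normalizer (B.V : Set G))) = 1)).trans ?_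
      exact map_one _
    have := (sameF_iff (code_permOf pi_ok.1) code_idC).2 (congrArg Subtype.val h1)
    rw [pi_ok.2.2.1] at this
    simp at this

theorem fix_comm {u : ℕ} (hu : u ∈ fixU) : S.p0 * D.evG u * S.p0⁻¹ = D.evG u := by
  obtain ⟨hlt, hfix⟩ := fix_lt u hu
  rw [p0, piS, S.kk_conj pi_ok.1 _ hlt, ← TC.cols_eq pi_ok.1 rfl, hfix]

theorem eX_comm {x : ℕ × ℕ} (hx : Valid x) : S.eX x * S.p0 = S.p0 * S.eX x := by
  rw [eX, el, mul_assoc, p0, ← map_mul, sS_comm hx.2, map_mul, ← mul_assoc, ← mul_assoc]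
  congr 1
  exact (mul_inv_eq_iff_eq_mul.1 (S.fix_comm hx.1)).symm

/-- The Sylow 2-subgroup. -/
noncomputable def sylT : Subgroup G where
  carrier := {g | ∃ x, Valid x ∧ S.eX x = g}
  one_mem' := ⟨(0, 0), fix_shape.2.2.1 ▸ valid_elT (show (0 : ℕ) < 256 by norm_num), S.eX_one⟩
  mul_mem' := by
    rintro _ _ ⟨x, hx, rfl⟩ ⟨y, hy, rfl⟩
    exact ⟨_, valid_mul hx hy, (S.eX_mul hx hy).symm⟩
  inv_mem' := by
    rintro _ ⟨x, hx, rfl⟩
    have hpow : ∀ n : ℕ, ∃ y, Valid y ∧ S.eX y = S.eX x ^ (n + 1) := by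
      intro n
      induction n with
      | zero => exact ⟨x, hx, (pow_one _).symm⟩
      | succ n ih =>
        obtain ⟨y, hy, e⟩ := ih
        exact ⟨_, valid_mul hy hx, by rw [← S.eX_mul hy hx, e, ← pow_succ]⟩
    obtain ⟨y, hy, e⟩ := hpow (2 * orderOf (S.eX x) - 2)
    refine ⟨y, hy, e.trans (eq_inv_of_mul_eq_one_left ?_)⟩
    rw [← pow_succ, show 2 * orderOf (S.eX x) - 2 + 1 + 1 = orderOf (S.eX x) * 2 by
      have := orderOf_pos (S.eX x); omega, pow_mul, pow_orderOf_eq_one, one_pow]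

theorem sylT_le : S.sylT ≤ centralizer ({S.p0} : Set G) := by
  rintro _ ⟨x, hx, rfl⟩
  exact mem_centralizer_singleton_iff.2 (S.eX_comm hx)

theorem mem_sylT {g : G} (hg : g ∈ S.sylT) : ∃ a < 256, S.eX (elT a) = g := by
  obtain ⟨x, hx, rfl⟩ := hg
  obtain ⟨a, ha, rfl⟩ := exists_index hx
  exact ⟨a, ha, rfl⟩

theorem elT_mem {a : ℕ} (ha : a < 256) : S.eX (elT a) ∈ S.sylT := ⟨_, valid_elT ha, rfl⟩

theorem card_sylT : Nat.card ↥S.sylT = 2 ^ 8 := by
  have hf : Function.Bijective (fun a : Fin 256 => (⟨S.eX (elT a), S.elT_mem a.2⟩ : ↥S.sylT)) := by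
    constructor
    · intro a b h
      have e := S.eX_inj (valid_elT a.2) (valid_elT b.2) (congrArg Subtype.val h)
      have h1 := congrArg Prod.snd e
      have h2 := congrArg Prod.fst e
      simp only [elT] at h1 h2
      have key : ∀ b < 32, ∀ c < 32, TC.nth 0 b fixU = TC.nth 0 c fixU → b = c := by decide +kernel
      have h3 := key _ (Nat.mod_lt _ (by norm_num)) _ (Nat.mod_lt _ (by norm_num)) h2
      exact Fin.ext (by omega)
    · rintro ⟨g, hg⟩
      obtain ⟨a, ha, e⟩ := S.mem_sylT hg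
      exact ⟨⟨a, ha⟩, Subtype.ext e⟩
  rw [← Nat.card_eq_of_bijective _ hf, Nat.card_fin]
  norm_num

theorem eX_sq {x : ℕ × ℕ} (hx : Valid x) : S.eX x * S.eX x = S.eX (sqT x) := S.eX_mul hx hx

theorem evG_eX {x : ℕ × ℕ} (h : x.2 = 0) : S.eX x = D.evG x.1 := by rw [eX, h, sS_zero, el_one]

/-- The conjugates of the representatives are told apart by their squares. -/
structure Kind (a b : Prop) (g : G) : Prop where
  four : g * g * (g * g) = 1 ↔ a
  conj : IsConj z (g * g) ↔ b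

theorem swap_kind {x k : G} (hx : x ∈ S.sylT) (hk : k ∈ S.sylT) (h : k * x * k⁻¹ = x * S.z0) :
    x * x * (x * x) = 1 ∧ x * x ≠ 1 ∧ ¬ IsConj z (x * x) := by
  obtain ⟨a, ha, rfl⟩ := S.mem_sylT hx
  obtain ⟨b, hb, rfl⟩ := S.mem_sylT hk
  have hxv := valid_elT ha
  have hbv := valid_elT hb
  have he : mulT (elT b) (elT a) = mulT (mulT (elT a) zT) (elT b) := by
    refine S.eX_inj (valid_mul hbv hxv) (valid_mul (valid_mul hxv valid_zT) hbv) ?_
    rw [← S.eX_mul hbv hxv, ← S.eX_mul (valid_mul hxv valid_zT) hbv, ← S.eX_mul hxv valid_zT]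
    exact mul_inv_eq_iff_eq_mul.1 h
  have hc := List.all_eq_true.1 (swap_ok a ha) b (List.mem_range.2 hb)
  rw [Bool.or_eq_true, Bool.not_eq_true', eqT_iff.2 he] at hc
  simp only [Bool.true_eq_false, false_or, Bool.and_eq_true, eqT_iff, Bool.not_eq_true', Nat.beq_eq,
    List.contains_iff_mem] at hc
  obtain ⟨⟨⟨h4, h2⟩, hs⟩, ht⟩ := hc
  have hsq := valid_mul hxv hxv
  rw [S.eX_sq hxv]
  refine ⟨?_, fun e => ?_, ?_⟩
  · rw [S.eX_sq (show Valid (sqT (elT a)) from hsq), h4, eX_one]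
  · rw [← S.eX_one] at e
    have := S.eX_inj hsq (fix_shape.2.2.1 ▸ valid_elT (show (0 : ℕ) < 256 by norm_num)) e
    rw [eqT_iff.2 this] at h2
    simp at h2
  · rw [S.evG_eX hs]
    refine (tV_iff (D := D) (fix_lt _ hsq.1).1 ?_).1 ht
    intro e0
    have : sqT (elT a) = (0, 0) := Prod.ext e0 hs
    rw [eqT_iff.2 this] at h2
    simp at h2

theorem isCentral_of {a : ℕ} (ha : a < 256) (h2 : S.eX (elT a) * S.eX (elT a) = 1)
    (hc : ∀ g, g * S.p0 = S.p0 * g → g * S.eX (elT a) = S.eX (elT a) * g) : isCentral a = true := by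
  have hv := valid_elT ha
  rw [isCentral_iff]
  refine ⟨eqT_iff.2 ?_, fun b hb => eqT_iff.2 ?_, fun g hg => ?_⟩
  · refine S.eX_inj (valid_mul hv hv) (fix_shape.2.2.1 ▸ valid_elT (show (0 : ℕ) < 256 by norm_num)) ?_
    rw [← S.eX_mul hv hv, eX_one]
    exact h2
  · refine S.eX_inj (valid_mul hv (valid_elT hb)) (valid_mul (valid_elT hb) hv) ?_
    rw [← S.eX_mul hv (valid_elT hb), ← S.eX_mul (valid_elT hb) hv]
    exact (hc _ (S.eX_comm (valid_elT hb))).symm
  · obtain ⟨hgv, hga, hgc⟩ := cen_ok g hg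
    have hgm := permOf_mem_M24 hgv hga
    have hgp : S.kk ⟨permOf g, hgm⟩ * S.p0 = S.p0 * S.kk ⟨permOf g, hgm⟩ := by
      rw [p0, ← map_mul, ← map_mul]
      refine congrArg S.kk (Subtype.ext ?_)
      exact ((sameF_iff ((code_permOf hgv).cmp (code_permOf pi_ok.1))
        ((code_permOf pi_ok.1).cmp (code_permOf hgv))).1 hgc)
    have hlt := (fix_lt _ hv.1).1
    have h1 := S.conj_el hgv hgm hlt (sS (elT a).2)
    have hc := hc _ hgp
    unfold eX at hc
    rw [hc, mul_inv_cancel_right] at h1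
    obtain ⟨e1, e2⟩ := S.el_inj hlt (map_lt hgv hlt) h1
    refine ⟨by rw [Nat.beq_eq, TC.cols_eq hgv rfl]; exact e1.symm, ?_⟩
    refine (sameF_iff ((code_permOf hgv).cmp (code_permOf (syl_ok _ hv.2).1))
      ((code_permOf (syl_ok _ hv.2).1).cmp (code_permOf hgv))).2 ?_
    have e3 := congrArg Subtype.val e2
    rw [sS_eq hv.2] at e3
    simp only [Subgroup.coe_mul, Subgroup.coe_inv] at e3
    exact eq_mul_inv_iff_mul_eq.1 e3 |>.symm

/-- The section over the element of order three. -/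
theorem section_three (hX : Nat.card ↥(centralizer ({S.p0} : Set G)) = 2661120) {z1 : G} (hz : orderOf z1 = 2)
    (hz1 : z1 * S.p0 = S.p0 * z1) (hzc : ∀ g, g * S.p0 = S.p0 * g → g * z1 = z1 * g) (r : Fin 5 → G)
    (hcov : ∀ u, TwoEl u → u * S.p0 = S.p0 * u →
      ∃ j, ∃ k, k * S.p0 = S.p0 * k ∧ (k * u * k⁻¹ = r j ∨ k * u * k⁻¹ = r j * z1)) :
    sectionCard S.p0 = 9 := by
  classical
  haveI : Fact (Nat.Prime 2) := ⟨Nat.prime_two⟩
  set X := centralizer ({S.p0} : Set G)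
  have hm : ∀ g : G, g ∈ X ↔ g * S.p0 = S.p0 * g := fun g => mem_centralizer_singleton_iff
  have hfac : (Nat.card ↥X).factorization 2 = 8 := by
    rw [hX, show 2661120 = 2 ^ 8 * 10395 by norm_num, Nat.factorization_mul (by norm_num) (by norm_num),
      Finsupp.add_apply, Nat.Prime.factorization_pow Nat.prime_two, Finsupp.single_eq_same,
      Nat.factorization_eq_zero_of_not_dvd (by norm_num)]
  have hz11 : z1 * z1 = 1 := by rw [← pow_two, ← hz, pow_orderOf_eq_one]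
  have hz10 : z1 = S.z0 := by
    let T' : Sylow 2 ↥X := Sylow.ofCard (S.sylT.subgroupOf X) (by
      rw [Nat.card_congr (subgroupOfEquivOfLe S.sylT_le).toEquiv, S.card_sylT, hfac])
    have hpz : IsPGroup 2 ↥(zpowers (⟨z1, (hm z1).2 hz1⟩ : ↥X)) :=
      IsPGroup.of_card (n := 1) (by rw [Nat.card_zpowers, Subgroup.orderOf_mk, hz, pow_one])
    obtain ⟨Q, hQ⟩ := hpz.exists_le_sylow
    obtain ⟨g, hg⟩ := MulAction.exists_smul_eq ↥X Q T'
    have hmem : z1 ∈ S.sylT := by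
      have h1 : g * ⟨z1, (hm z1).2 hz1⟩ * g⁻¹ ∈ ((g • Q : Sylow 2 ↥X) : Subgroup ↥X) := by
        rw [Sylow.coe_subgroup_smul, Subgroup.mem_pointwise_smul_iff_inv_smul_mem]
        show (MulAut.conj g)⁻¹ (MulAut.conj g ⟨z1, (hm z1).2 hz1⟩) ∈ (Q : Subgroup ↥X)
        rw [MulAut.inv_apply_self]
        exact hQ (mem_zpowers _)
      rw [hg] at h1
      have h2 : (g : G) * z1 * (g : G)⁻¹ ∈ S.sylT := h1
      rwa [hzc g ((hm _).1 g.2), mul_inv_cancel_right] at h2
    obtain ⟨a, ha, rfl⟩ := S.mem_sylT hmem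
    have hv := valid_elT ha
    rcases central_ok a ha (S.isCentral_of ha hz11 hzc) with rfl | rfl
    · rw [fix_shape.2.2.1, eX_one, orderOf_one] at hz
      norm_num at hz
    · rfl
  subst hz10
  obtain ⟨h1a, h1b, h1c, ⟨h33, h33s, h33n, h33t⟩, ⟨h36, h36s, h36n, h36t⟩, ⟨h97, h97'⟩, hwit⟩ := rep_ok
  set x2 := S.eX (elT 1) with hx2
  set x4 := S.eX (elT 33) with hx4
  set y4 := S.eX (elT 36) with hy4
  set x8 := S.eX (elT 97) with hx8
  have v1 := valid_elT (show 1 < 256 by norm_num)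
  have v33 := valid_elT (show 33 < 256 by norm_num)
  have v36 := valid_elT (show 36 < 256 by norm_num)
  have v97 := valid_elT (show 97 < 256 by norm_num)
  have v0 : Valid (0, 0) := fix_shape.2.2.1 ▸ valid_elT (show (0 : ℕ) < 256 by norm_num)
  have e2 : x2 * x2 = 1 := by rw [hx2, S.eX_sq v1, h1a, eX_one]
  have e4 : x4 * x4 * (x4 * x4) = 1 ∧ x4 * x4 ≠ 1 ∧ IsConj z (x4 * x4) := by
    rw [hx4, S.eX_sq v33]
    refine ⟨by rw [S.eX_sq (valid_mul v33 v33 : Valid (sqT (elT 33))), h33, eX_one], fun e => h33n ?_, ?_⟩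
    · exact congrArg Prod.fst (S.eX_inj (valid_mul v33 v33 : Valid (sqT (elT 33))) v0 (e.trans S.eX_one.symm))
    · rw [S.evG_eX h33s]
      by_contra hn
      have := (tV_iff (D := D) (fix_lt _ (valid_mul v33 v33).1).1 h33n).2 hn
      rw [← List.contains_iff_mem, h33t] at this
      simp at this
  have f4 : y4 * y4 * (y4 * y4) = 1 ∧ y4 * y4 ≠ 1 ∧ ¬ IsConj z (y4 * y4) := by
    rw [hy4, S.eX_sq v36]
    refine ⟨by rw [S.eX_sq (valid_mul v36 v36 : Valid (sqT (elT 36))), h36, eX_one], fun e => h36n ?_, ?_⟩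
    · exact congrArg Prod.fst (S.eX_inj (valid_mul v36 v36 : Valid (sqT (elT 36))) v0 (e.trans S.eX_one.symm))
    · rw [S.evG_eX h36s]
      exact (tV_iff (D := D) (fix_lt _ (valid_mul v36 v36).1).1 h36n).1 (List.contains_iff_mem.1 h36t)
  have e8 : x8 * x8 * (x8 * x8) ≠ 1 ∧ x8 ^ 2 ^ 3 = 1 := by
    have hs2 : Valid (sqT (elT 97)) := valid_mul v97 v97
    have hs4 : Valid (sqT (sqT (elT 97))) := valid_mul hs2 hs2
    rw [hx8]
    refine ⟨fun e => h97 (S.eX_inj hs4 v0 ?_), ?_⟩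
    · rw [eX_one, ← S.eX_sq hs2, ← S.eX_sq v97]; exact e
    · rw [show ((2 : ℕ) ^ 3) = 2 * 2 * 2 by norm_num, pow_mul, pow_mul, pow_two, pow_two, pow_two, S.eX_sq v97,
        S.eX_sq hs2, S.eX_sq hs4, h97', eX_one]
  have hz0 : orderOf S.z0 = 2 := hz
  have hzs : S.z0 * S.z0 = 1 := hz11
  have hzne : S.z0 ≠ 1 := fun e => by rw [e, orderOf_one] at hz0; norm_num at hz0
  have hcm : ∀ a < 256, S.eX (elT a) ∈ X := fun a ha => S.sylT_le (S.elT_mem ha)
  have hflip : ∃ k ∈ X, k * y4 * k⁻¹ = y4 * S.z0 := by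
    refine ⟨_, hcm 129 (by norm_num), mul_inv_eq_iff_eq_mul.2 ?_⟩
    have v129 := valid_elT (show 129 < 256 by norm_num)
    rw [hy4, z0, S.eX_mul v129 v36, S.eX_mul v36 valid_zT, S.eX_mul (valid_mul v36 valid_zT) v129, hwit]
  set R : Fin 9 → G := ![1, S.z0, x2, x2 * S.z0, x4, x4 * S.z0, y4, x8, x8 * S.z0] with hR
  have htwo : ∀ g : G, (g * g * (g * g) = 1 ∨ g ^ 2 ^ 3 = 1) → TwoEl g := fun g h => h.elim
    (fun h => ⟨2, by rw [show (2 : ℕ) ^ 2 = 2 * 2 by norm_num, pow_mul, pow_two, pow_two]; exact h⟩)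
    (fun h => ⟨3, h⟩)
  have hsqz : ∀ g ∈ X, g * S.z0 * (g * S.z0) = g * g := fun g hg => by
    rw [mul_assoc, ← mul_assoc S.z0, ← hzc g ((hm g).1 hg), mul_assoc g S.z0 S.z0, hzs, mul_one]
  have g2 := hcm 1 (by norm_num)
  have g33 := hcm 33 (by norm_num)
  have g36 := hcm 36 (by norm_num)
  have g97 := hcm 97 (by norm_num)
  rw [← hx2] at g2
  rw [← hx4] at g33
  rw [← hy4] at g36
  rw [← hx8] at g97
  have hzX : S.z0 ∈ X := (hm _).2 hz1
  have hr : ∀ i, TwoEl (R i) ∧ R i ∈ X := by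
    intro i
    fin_cases i
    · exact ⟨⟨0, one_pow _⟩, one_mem _⟩
    · exact ⟨⟨1, by rw [pow_one, pow_two]; exact hzs⟩, hzX⟩
    · exact ⟨⟨1, by rw [pow_one, pow_two]; exact e2⟩, g2⟩
    · exact ⟨⟨1, by rw [pow_one, pow_two]; exact (hsqz x2 g2).trans e2⟩, mul_mem g2 hzX⟩
    · exact ⟨htwo _ (Or.inl e4.1), g33⟩
    · exact ⟨htwo _ (Or.inl (by show x4 * S.z0 * (x4 * S.z0) * (x4 * S.z0 * (x4 * S.z0)) = 1; rw [hsqz x4 g33]; exact e4.1)), mul_mem g33 hzX⟩
    · exact ⟨htwo _ (Or.inl f4.1), g36⟩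
    · exact ⟨htwo _ (Or.inr e8.2), g97⟩
    · refine ⟨htwo _ (Or.inr ?_), mul_mem g97 hzX⟩
      show (x8 * S.z0) ^ 2 ^ 3 = 1
      rw [(show Commute x8 S.z0 from hzc _ ((hm _).1 g97)).mul_pow, e8.2, one_mul,
        show (2 : ℕ) ^ 3 = 2 * 4 by norm_num, pow_mul, pow_two, hzs, one_pow]
  have hno : ∀ x ∈ X, TwoEl x → (x * x * (x * x) = 1 → x * x = 1 ∨ IsConj z (x * x)) →
      ∀ k ∈ X, k * x * k⁻¹ ≠ x * S.z0 := by
    intro x hx hxe hkind k hk h
    obtain ⟨g, hg, k', hk', hxT, h'⟩ := exists_swap_sylow S.sylT_le S.card_sylT hfac hx hk hzX hxe hzs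
      (fun g hg => hzc g ((hm g).1 hg)) h
    obtain ⟨a, b, c⟩ := S.swap_kind hxT hk' h'
    have es : g * x * g⁻¹ * (g * x * g⁻¹) = g * (x * x) * g⁻¹ := by group
    rw [es] at a b c
    have a' : x * x * (x * x) = 1 := by
      rw [show g * (x * x) * g⁻¹ * (g * (x * x) * g⁻¹) = g * (x * x * (x * x)) * g⁻¹ by group, conj_eq_one_iff] at a
      exact a
    rcases hkind a' with e | e
    · exact b (by rw [e]; group)
    · exact c (e.trans (isConj_iff.2 ⟨g, rfl⟩))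
  have hsep : ∀ i j, ∀ k ∈ X, k * R i * k⁻¹ = R j → i = j := by
    have nz2 : x2 * S.z0 ≠ 1 := fun e => h1b (S.eX_inj v1 valid_zT (by
      rw [← hx2, show S.eX zT = S.z0 from rfl, eq_mul_inv_of_mul_eq e, one_mul,
        inv_eq_of_mul_eq_one_right hzs]))
    have ne2 : x2 ≠ 1 := fun e => h1c (S.eX_inj v1 v0 (by rw [eX_one]; exact e))
    have hinv : ∀ k g : G, ((k * g * k⁻¹) * (k * g * k⁻¹) = 1 ↔ g * g = 1) ∧
        ((k * g * k⁻¹) * (k * g * k⁻¹) * ((k * g * k⁻¹) * (k * g * k⁻¹)) = 1 ↔ g * g * (g * g) = 1) ∧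
        (IsConj z ((k * g * k⁻¹) * (k * g * k⁻¹)) ↔ IsConj z (g * g)) := fun k g => by
      have e : k * g * k⁻¹ * (k * g * k⁻¹) = k * (g * g) * k⁻¹ := by group
      rw [e, conj_eq_one_iff, show k * (g * g) * k⁻¹ * (k * (g * g) * k⁻¹) = k * (g * g * (g * g)) * k⁻¹ by group,
        conj_eq_one_iff]
      exact ⟨Iff.rfl, Iff.rfl, ⟨fun h => h.trans (isConj_iff.2 ⟨k⁻¹, by group⟩),
        fun h => h.trans (isConj_iff.2 ⟨k, rfl⟩)⟩⟩
    -- a number telling the representatives apart up to the central involution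
    let κ : G → ℕ := fun g => if g = 1 ∨ g = S.z0 then 0 else if g * g = 1 then 1
      else if g * g * (g * g) ≠ 1 then 2 else if IsConj z (g * g) then 3 else 4
    have hκ : ∀ k ∈ X, ∀ g, κ (k * g * k⁻¹) = κ g := fun k hk g => by
      obtain ⟨a, b, c⟩ := hinv k g
      have d : (k * g * k⁻¹ = 1 ∨ k * g * k⁻¹ = S.z0) ↔ (g = 1 ∨ g = S.z0) := by
        refine or_congr conj_eq_one_iff ⟨fun e => ?_, fun e => ?_⟩
        · have := mul_inv_eq_iff_eq_mul.1 e
          rw [← hzc k ((hm k).1 hk)] at this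
          exact mul_left_cancel this
        · rw [e, hzc k ((hm k).1 hk), mul_inv_cancel_right]
      simp only [κ, d, a, b, c, ne_eq]
    have k2 : κ x2 = 1 := by
      simp only [κ]; rw [if_neg, if_pos e2]
      rintro (e | e)
      · exact ne2 e
      · exact nz2 (by rw [e, hzs])
    have nsq : ∀ g, g * g ≠ 1 → ¬ (g = 1 ∨ g = S.z0) := fun g h => by
      rintro (rfl | rfl)
      · exact h (one_mul 1)
      · exact h hzs
    have k4 : κ x4 = 3 := by
      simp only [κ]; rw [if_neg (nsq _ e4.2.1), if_neg e4.2.1, if_neg (not_not.2 e4.1), if_pos e4.2.2]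
    have l4 : κ y4 = 4 := by
      simp only [κ]; rw [if_neg (nsq _ f4.2.1), if_neg f4.2.1, if_neg (not_not.2 f4.1), if_neg f4.2.2]
    have k8 : κ x8 = 2 := by
      have hn : x8 * x8 ≠ 1 := fun e => e8.1 (by rw [e, mul_one])
      simp only [κ]; rw [if_neg (nsq _ hn), if_neg hn, if_pos e8.1]
    have hmulz : ∀ g ∈ X, κ (g * S.z0) = κ g := fun g hg => by
      have d : (g * S.z0 = 1 ∨ g * S.z0 = S.z0) ↔ (g = 1 ∨ g = S.z0) := by
        constructor
        · rintro (e | e)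
          · exact Or.inr (by rw [eq_inv_of_mul_eq_one_left e, inv_eq_of_mul_eq_one_right hzs])
          · exact Or.inl (mul_eq_right.1 e)
        · rintro (rfl | rfl)
          · exact Or.inr (one_mul _)
          · exact Or.inl hzs
      simp only [κ, d, hsqz g hg]
    have kk : ∀ i, κ (R i) = (![0, 0, 1, 1, 3, 3, 4, 2, 2] : Fin 9 → ℕ) i := by
      intro i
      fin_cases i
      · exact if_pos (Or.inl rfl)
      · exact if_pos (Or.inr rfl)
      · exact k2
      · exact (hmulz _ g2).trans k2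
      · exact k4
      · exact (hmulz _ g33).trans k4
      · exact l4
      · exact k8
      · exact (hmulz _ g97).trans k8
    have hno' : ∀ i, i ∈ ({0, 2, 4, 7} : Finset (Fin 9)) → ∀ k ∈ X, k * R i * k⁻¹ ≠ R i * S.z0 := by
      intro i hi k hk h
      fin_cases i <;> simp at hi
      · refine hno 1 (one_mem _) ⟨0, one_pow _⟩ (fun _ => Or.inl (one_mul 1)) k hk h
      · exact hno x2 g2 ⟨1, by rw [pow_one, pow_two, e2]⟩ (fun _ => Or.inl e2) k hk h
      · exact hno x4 g33 (htwo _ (Or.inl e4.1)) (fun _ => Or.inr e4.2.2) k hk h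
      · exact hno x8 g97 (htwo _ (Or.inr e8.2)) (fun e => absurd e e8.1) k hk h
    intro i j k hk h
    have hij := (hκ k hk (R i)).symm.trans (congrArg κ h)
    rw [kk, kk] at hij
    have hback : k⁻¹ * R j * k⁻¹⁻¹ = R i := by rw [← h]; group
    fin_cases i <;> fin_cases j <;> first | rfl | (simp at hij) | skip
    · exact absurd (h.trans (one_mul S.z0).symm) (hno' 0 (by simp) k hk)
    · exact absurd (hback.trans (one_mul S.z0).symm) (hno' 0 (by simp) k⁻¹ (inv_mem hk))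
    · exact absurd h (hno' 2 (by simp) k hk)
    · exact absurd hback (hno' 2 (by simp) k⁻¹ (inv_mem hk))
    · exact absurd h (hno' 4 (by simp) k hk)
    · exact absurd hback (hno' 4 (by simp) k⁻¹ (inv_mem hk))
    · exact absurd h (hno' 7 (by simp) k hk)
    · exact absurd hback (hno' 7 (by simp) k⁻¹ (inv_mem hk))
  refine sectionCard_eq (by rw [S.p0_order]; decide) R (fun i => ⟨(hr i).1, (hm _).1 (hr i).2⟩) ?_
    fun i j k hk h => hsep i j k ((hm k).2 hk) h
  -- the ten candidates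
  let c : Fin 5 × Bool → G := fun q => if q.2 then r q.1 * S.z0 else r q.1
  have hc : ∀ u, TwoEl u → u ∈ X → ∃ q, ∃ k ∈ X, k * u * k⁻¹ = c q := by
    intro u hu huX
    obtain ⟨j, k, hk, e | e⟩ := hcov u hu ((hm u).1 huX)
    · exact ⟨(j, false), k, (hm k).2 hk, by simp [c, e]⟩
    · exact ⟨(j, true), k, (hm k).2 hk, by simp [c, e]⟩
  choose q kq hkq hq using fun i => hc (R i) (hr i).1 (hr i).2
  have hzk : ∀ k ∈ X, ∀ g, k * (g * S.z0) * k⁻¹ = k * g * k⁻¹ * S.z0 := fun k hk g => by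
    rw [show k * g * k⁻¹ * S.z0 = k * g * (k⁻¹ * S.z0) by group, hzc k⁻¹ ((hm _).1 (inv_mem hk))]
    group
  have hqinj : Function.Injective q := fun i j h => hsep i j ((kq j)⁻¹ * kq i) (mul_mem (inv_mem (hkq j)) (hkq i)) (by
    rw [show (kq j)⁻¹ * kq i * R i * ((kq j)⁻¹ * kq i)⁻¹ = (kq j)⁻¹ * (kq i * R i * (kq i)⁻¹) * kq j by group,
      hq, h, ← hq j]
    group)
  obtain ⟨k6, hk6, hflip'⟩ := hflip
  have hpart : ∀ i, q i ≠ ((q 6).1, !(q 6).2) := fun i h => by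
    have e6 : kq i * R i * (kq i)⁻¹ = (kq 6 * k6) * R 6 * (kq 6 * k6)⁻¹ := by
      rw [show kq 6 * k6 * R 6 * (kq 6 * k6)⁻¹ = kq 6 * (k6 * R 6 * k6⁻¹) * (kq 6)⁻¹ by group,
        show k6 * R 6 * k6⁻¹ = R 6 * S.z0 from hflip', hzk _ (hkq 6), hq, hq, h]
      rcases hb : (q 6).2 with _ | _
      · simp [c, hb]
      · simp [c, hb, mul_assoc, hzs]
    have := hsep i 6 ((kq 6 * k6)⁻¹ * kq i) (mul_mem (inv_mem (mul_mem (hkq 6) hk6)) (hkq i)) (by
      rw [show (kq 6 * k6)⁻¹ * kq i * R i * ((kq 6 * k6)⁻¹ * kq i)⁻¹ =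
        (kq 6 * k6)⁻¹ * (kq i * R i * (kq i)⁻¹) * (kq 6 * k6) by group, e6]
      group)
    subst this
    have := congrArg Prod.snd h
    simp at this
  have hall : ∀ x, ∃ i, q i = x ∨ x = ((q 6).1, !(q 6).2) := by
    intro x
    by_contra hn
    push Not at hn
    have hsub : Finset.univ.image q ⊆ (Finset.univ.erase x).erase ((q 6).1, !(q 6).2) := fun y hy => by
      obtain ⟨i, -, rfl⟩ := Finset.mem_image.1 hy
      simp only [Finset.mem_erase, Finset.mem_univ, and_true]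
      exact ⟨hpart i, (hn i).1⟩
    have := Finset.card_le_card hsub
    rw [Finset.card_image_of_injective _ hqinj, Finset.card_erase_of_mem, Finset.card_erase_of_mem
      (Finset.mem_univ _)] at this
    · simp at this
    · exact Finset.mem_erase.2 ⟨fun e => (hn 0).2 e.symm, Finset.mem_univ _⟩
  intro u hu hup
  obtain ⟨x, k, hk, e⟩ := hc u hu ((hm u).2 hup)
  obtain ⟨i, h | h⟩ := hall x
  · refine ⟨i, (kq i)⁻¹ * k, (hm _).1 (mul_mem (inv_mem (hkq i)) hk), ?_⟩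
    rw [show (kq i)⁻¹ * k * u * ((kq i)⁻¹ * k)⁻¹ = (kq i)⁻¹ * (k * u * k⁻¹) * kq i by group, e, ← h, ← hq]
    group
  · refine ⟨6, (kq 6 * k6)⁻¹ * k, (hm _).1 (mul_mem (inv_mem (mul_mem (hkq 6) hk6)) hk), ?_⟩
    have hc6 : c x = kq 6 * k6 * R 6 * (kq 6 * k6)⁻¹ := by
      rw [show kq 6 * k6 * R 6 * (kq 6 * k6)⁻¹ = kq 6 * (k6 * R 6 * k6⁻¹) * (kq 6)⁻¹ by group,
        show k6 * R 6 * k6⁻¹ = R 6 * S.z0 from hflip', hzk _ (hkq 6), hq, h]
      rcases hb : (q 6).2 with _ | _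
      · simp [c, hb]
      · simp [c, hb, mul_assoc, hzs]
    rw [show (kq 6 * k6)⁻¹ * k * u * ((kq 6 * k6)⁻¹ * k)⁻¹ = (kq 6 * k6)⁻¹ * (k * u * k⁻¹) * (kq 6 * k6) by group,
      e, hc6]
    group

end BigPack.Sec

end Cfsg.Agent.JankoFour
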