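import Cfsg.Agent.Lib.JankoFour.ClassThreeData
import Cfsg.Agent.Lib.JankoFour.TCountFast

/-!
Checks for the Sylow 2-subgroup of the centraliser of an element of order three.
-/

set_option autoImplicit false
set_option maxHeartbeats 0
set_option maxRecDepth 100000
set_option Elab.async false

namespace Cfsg.Agent.JankoFour.ThreeTwo

open Cfsg.Agent.PermCert (Elt validElt)
open Cfsg.Agent.Golay (isAutB)
open Cfsg.Agent.Golay.Local (cmpF sameF idC)
open TC (nth appQ matP)

/-- An element of the subgroup of the permutations. -/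
def sE (i : ℕ) : Elt := nth (0, 0) i sylE

/-- Its packed columns. -/
def sP (i : ℕ) : ℕ := nth 0 i sylP

/-- A product of permutations. -/
def sTab (i j : ℕ) : ℕ := nth 0 j (nth [] i sylT)

/-- An element by its index. -/
def elT (a : ℕ) : ℕ × ℕ := (nth 0 (a % 32) fixU, a / 32)

/-- The product of two elements. -/
def mulT (x y : ℕ × ℕ) : ℕ × ℕ := (Nat.xor x.1 (appQ (sP x.2) y.1), sTab x.2 y.2)

/-- Equality of two elements. -/
def eqT (x y : ℕ × ℕ) : Bool := Nat.beq x.1 y.1 && Nat.beq x.2 y.2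

/-- The central involution. -/
def zT : ℕ × ℕ := elT 3

/-- The square. -/
abbrev sqT (x : ℕ × ℕ) : ℕ × ℕ := mulT x x

/-- An element conjugate to its product with the central involution has order four and its square is in the
second class of involutions. -/
def swapOK (a : ℕ) : Bool :=
  let x := elT a
  let xz := mulT x zT
  let good := eqT (sqT (sqT x)) (0, 0) && !eqT (sqT x) (0, 0) && Nat.beq (sqT x).2 0 &&
    TC.tV.contains (sqT x).1
  (List.range 256).all fun b => !eqT (mulT (elT b) x) (mulT xz (elT b)) || good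

theorem pi_ok : validElt 5 24 piE = true ∧ isAutB piE = true ∧ sameF piE.1 idC = false ∧
    sameF (cmpF piE.1 (cmpF piE.1 piE.1)) idC = true := by decide +kernel

theorem cen_ok : ∀ g ∈ cenE, validElt 5 24 g = true ∧ isAutB g = true ∧
    sameF (cmpF g.1 piE.1) (cmpF piE.1 g.1) = true := by decide +kernel

theorem syl_ok : ∀ i < 8, validElt 5 24 (sE i) = true ∧ isAutB (sE i) = true ∧
    sameF (cmpF (sE i).1 piE.1) (cmpF piE.1 (sE i).1) = true := by decide +kernel

theorem cols_ok : ∀ i < 8, sP i = matP (sE i) := by decide +kernel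

theorem tab_ok : ∀ i < 8, ∀ j < 8, sTab i j < 8 ∧ sameF (cmpF (sE i).1 (sE j).1) (sE (sTab i j)).1 = true := by
  decide +kernel

theorem syl_one : sameF (sE 0).1 idC = true := by decide +kernel

theorem syl_inj : ∀ i < 8, ∀ j < 8, sameF (sE i).1 (sE j).1 = true → i = j := by decide +kernel

theorem fix_lt : ∀ u ∈ fixU, u < 2048 ∧ appQ (matP piE) u = u := by decide +kernel

theorem fix_shape : fixU.length = 32 ∧ fixU.Nodup ∧ elT 0 = (0, 0) ∧ zT = (236, 0) := by decide +kernel

theorem fix_closed : ∀ i < 8, ∀ u ∈ fixU, ∀ v ∈ fixU, Nat.xor u (appQ (sP i) v) ∈ fixU := by decide +kernel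

theorem swap_ok : ∀ a < 256, swapOK a = true := by decide +kernel

/-- An involution central in the subgroup and fixed by the generators of the centraliser. -/
def isCentral (a : ℕ) : Bool :=
  eqT (sqT (elT a)) (0, 0) && ((List.range 256).all fun b => eqT (mulT (elT a) (elT b)) (mulT (elT b) (elT a))) &&
    (cenE.all fun g => Nat.beq (appQ (matP g) (elT a).1) (elT a).1 &&
      sameF (cmpF g.1 (sE (elT a).2).1) (cmpF (sE (elT a).2).1 g.1))

theorem central_ok : ∀ a < 256, isCentral a = true → a = 0 ∨ a = 3 := by decide +kernel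

theorem isCentral_iff (a : ℕ) : isCentral a = true ↔ eqT (sqT (elT a)) (0, 0) = true ∧
    (∀ b < 256, eqT (mulT (elT a) (elT b)) (mulT (elT b) (elT a)) = true) ∧
    ∀ g ∈ cenE, Nat.beq (appQ (matP g) (elT a).1) (elT a).1 = true ∧
      sameF (cmpF g.1 (sE (elT a).2).1) (cmpF (sE (elT a).2).1 g.1) = true := by
  unfold isCentral
  simp only [Bool.and_eq_true, List.all_eq_true, List.mem_range, and_assoc]

theorem rep_ok : sqT (elT 1) = (0, 0) ∧ elT 1 ≠ zT ∧ elT 1 ≠ (0, 0) ∧
    (sqT (sqT (elT 33)) = (0, 0) ∧ (sqT (elT 33)).2 = 0 ∧ (sqT (elT 33)).1 ≠ 0 ∧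
      TC.tV.contains (sqT (elT 33)).1 = false) ∧
    (sqT (sqT (elT 36)) = (0, 0) ∧ (sqT (elT 36)).2 = 0 ∧ (sqT (elT 36)).1 ≠ 0 ∧
      TC.tV.contains (sqT (elT 36)).1 = true) ∧
    (sqT (sqT (elT 97)) ≠ (0, 0) ∧ sqT (sqT (sqT (elT 97))) = (0, 0)) ∧
    mulT (elT 129) (elT 36) = mulT (mulT (elT 36) zT) (elT 129) := by decide +kernel

end Cfsg.Agent.JankoFour.ThreeTwo
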