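import Cfsg.Agent.Lib.JankoFour.TCountDefs

/-!
An element of order three of the group of the code, elements centralising it, and a Sylow 2-subgroup of the
centraliser in the semidirect product.
-/

namespace Cfsg.Agent.JankoFour.ThreeTwo

open Cfsg.Agent.PermCert (Elt)

/-- The element of order three. -/
def piE : Elt :=
  (8706760679286882406486341748898889, 401373962166929818281374252548883959)

/-- Elements generating its centraliser. -/
def cenE : List Elt :=
  [(733680689578710148074110156376489032, 299475177363633218168700177283646963),
   (465608166066529850101987840402398636, 525969121275222256597585236448300259),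
   (301860673531414852814912327147072627, 522155431685407619273170530951285987)]

/-- A Sylow 2-subgroup of the centraliser. -/
def sylE : List Elt :=
  [(984818244535754528103549039458486304, 984818244535754528103549039458486304),
   (969790242334956570868356858214261280, 969790242334956570868356858214261280),
   (652498530552941933865989141370610689, 652498530552941933865989141370610689),
   (637481945988918731853044851179953569, 762104553206415702150805662269613073),
   (803655920409846859806155684635641901, 803655920409846859806155684635641901),
   (818645884427284368752805590327206445, 818645884427284368752805590327206445),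
   (762104553206415702150805662269613073, 637481945988918731853044851179953569),
   (777105934860627966319703459014745521, 777105934860627966319703459014745521)]

/-- Its multiplication table. -/
def sylT : List (List ℕ) :=
  [[0, 1, 2, 3, 4, 5, 6, 7], [1, 0, 6, 7, 5, 4, 2, 3], [2, 3, 0, 1, 6, 7, 4, 5], [3, 2, 4, 5, 7, 6, 0, 1],
   [4, 5, 3, 2, 0, 1, 7, 6], [5, 4, 7, 6, 1, 0, 3, 2], [6, 7, 1, 0, 2, 3, 5, 4], [7, 6, 5, 4, 3, 2, 1, 0]]

/-- Packed columns of its elements. -/
def sylP : List ℕ :=
  [1329552593586084350528447794605199361, 1329552683036856021692289657533270723,
   1040601146883497601409646405236035603, 1040601463790240804776243473871242736,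
   1329888204166955273161904335802565619, 1329888293603661935853371646539274545,
   1040265942626119337767801244573142208, 1040266259530169138726726459043944739]

/-- The coordinates fixed by the element of order three. -/
def fixU : List ℕ :=
  [0, 64, 172, 236, 256, 320, 428, 492, 545, 609, 653, 717, 801, 865, 909, 973, 1024, 1088, 1196, 1260, 1280,
   1344, 1452, 1516, 1569, 1633, 1677, 1741, 1825, 1889, 1933, 1997]

end Cfsg.Agent.JankoFour.ThreeTwo
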