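import Cfsg.Agent.Lib.JankoFour.ClassThree
import Cfsg.Agent.Lib.JankoFour.ClassLabel
import Cfsg.Agent.Lib.JankoFour.ClassPrimes
import Cfsg.Agent.Lib.JankoFour.ThreeMain

/-!
Nine classes lie over the element of order three, and no element has order nine.
-/

set_option autoImplicit false
set_option linter.unusedSectionVars false
set_option linter.style.haveILetI false
set_option maxRecDepth 100000

namespace Cfsg.Agent.JankoFour

open Subgroup
open KCount KLabel
open scoped Pointwise

variable {G : Type*} [Group G] [Finite G] [IsSimpleGroup G] {z : G} {P : Subgroup G} {M : Model z P}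
  {B : BigData M}

/-- The centraliser of the subgroup of order three. -/
theorem card_cent_three (hJ : Cfsg.IsOfJankoFourTypeWith z P) (D : BigPack z B.V) :
    Nat.card ↥(centralizer (P : Set G)) = 2661120 ∧ centralizer (P : Set G) ≤ centralizer ({z} : Set G) := by
  obtain ⟨-, -, h6, ⟨e⟩, hN⟩ := order_three_of_pack hJ B D
  have hle : centralizer (P : Set G) ≤ centralizer ({z} : Set G) := (centralizer_le_normalizer _).trans hN
  rw [inf_eq_right.2 hle] at h6 e
  refine ⟨?_, hle⟩
  rw [Subgroup.card_eq_card_quotient_mul_card_subgroup (center ↥(centralizer (P : Set G))), h6,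
    Nat.card_congr e.toEquiv, Golay.card_sporM22]

namespace BigData

/-- The section over the elements of order three. -/
theorem section_three (hJ : Cfsg.IsOfJankoFourTypeWith z P) (D : BigPack z B.V) :
    ∃ w : G, OrderReps 3 [w] ∧ sectionCard w = 9 := by
  obtain ⟨S⟩ := BigPack.exists_sec (D := D) M
  obtain ⟨hcard, hle⟩ := card_cent_three hJ D
  have hone := one_class_of_pack hJ B D
  have hp : orderOf (M.pElem : G) = 3 := by rw [← Nat.card_zpowers, M.p_gen, M.card_P]
  obtain ⟨g, hg⟩ := isConj_iff.1 (hone _ _ hp S.p0_order)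
  refine ⟨S.p0, ⟨fun w hw => by rw [List.mem_singleton.1 hw]; exact S.p0_order,
    fun x hx => ⟨_, List.mem_singleton_self _, hone x _ hx S.p0_order⟩, List.pairwise_singleton _ _⟩, ?_⟩
  have hP : ∀ a : G, a ∈ centralizer (P : Set G) ↔ a * (M.pElem : G) = M.pElem * a := by
    intro a
    constructor
    · intro ha
      exact (mem_centralizer_iff.1 ha _ (show (M.pElem : G) ∈ P from M.p_gen.le (mem_zpowers _))).symm
    · intro ha
      rw [mem_centralizer_iff]
      intro b hb
      rw [SetLike.mem_coe, ← M.p_gen] at hb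
      obtain ⟨i, rfl⟩ := hb
      exact ((show Commute a (M.pElem : G) from ha).zpow_right i).eq.symm
  have htr : ∀ a : G, a * S.p0 = S.p0 * a ↔ g⁻¹ * a * g ∈ centralizer (P : Set G) := by
    intro a
    rw [hP, ← hg]
    constructor <;> intro h
    · calc g⁻¹ * a * g * M.pElem = g⁻¹ * (a * (g * M.pElem * g⁻¹)) * g := by group
        _ = _ := by rw [h]; group
    · calc a * (g * M.pElem * g⁻¹) = g * (g⁻¹ * a * g * M.pElem) * g⁻¹ := by group
        _ = _ := by rw [h]; group
  have hzP : z ∈ centralizer (P : Set G) :=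
    (hP z).2 (mem_centralizer_singleton_iff.1 M.pElem.2).symm
  have hlin : ∀ l : Fin 5, ∃ c : ↥(centralizer ({z} : Set G)),
      M.Code c 0 (rM (linCls.getD l 0)) ∧ (c : G) ∈ centralizer (P : Set G) := by
    intro l
    obtain ⟨hl, hp', -⟩ := out_ok.2 l l.2
    have hK := M.lin_K (rM_InL0 hl) hp'
    obtain ⟨c, hcP, hca⟩ := M.cent_elem _ hK
    exact ⟨c, ⟨1, c, Model.InN.of_cent hcP, hca, gen_length (rM_InL0 hl), M.vec_one, by rw [map_one, one_mul]⟩, hcP⟩
  choose c hc hcP using hlin
  have hX : Nat.card ↥(centralizer ({S.p0} : Set G)) = 2661120 := by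
    rw [← hcard]
    exact Nat.card_congr
      { toFun := fun a => ⟨g⁻¹ * a * g, (htr _).1 (mem_centralizer_singleton_iff.1 a.2)⟩
        invFun := fun a => ⟨g * a * g⁻¹, mem_centralizer_singleton_iff.2 ((htr _).2 (by
          rw [show g⁻¹ * (g * (a : G) * g⁻¹) * g = a by group]; exact a.2))⟩
        left_inv := fun a => Subtype.ext (by group)
        right_inv := fun a => Subtype.ext (by group) }
  refine S.section_three hX (z1 := g * z * g⁻¹) ?_ ?_ ?_ (fun l => g * (c l : G) * g⁻¹) ?_
  · rw [← MulAut.conj_apply, MulEquiv.orderOf_eq, M.order_z]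
  · rw [htr, show g⁻¹ * (g * z * g⁻¹) * g = z by group]
    exact hzP
  · intro a ha
    have h := mem_centralizer_singleton_iff.1 (hle ((htr a).1 ha))
    calc a * (g * z * g⁻¹) = g * (g⁻¹ * a * g * z) * g⁻¹ := by group
      _ = _ := by rw [h]; group
  · intro u hu hup
    have huP := (htr u).1 hup
    set x : ↥(centralizer ({z} : Set G)) := ⟨g⁻¹ * u * g, hle huP⟩
    have hx : IsPGroup 2 ↥(zpowers x) := by
      obtain ⟨n, hn⟩ := hu
      rintro ⟨y, i, rfl⟩
      refine ⟨n, Subtype.ext (Subtype.ext ?_)⟩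
      show ((g⁻¹ * u * g) ^ i) ^ 2 ^ n = 1
      rw [← zpow_natCast, ← zpow_mul, mul_comm, zpow_mul, zpow_natCast]
      have : (g⁻¹ * u * g⁻¹⁻¹) ^ 2 ^ n = g⁻¹ * u ^ 2 ^ n * g⁻¹⁻¹ := conj_pow
      rw [inv_inv, hn] at this
      rw [this]
      group
    obtain ⟨k, hkP, l, hl, hkc⟩ := M.exists_label_cent hx huP
    refine ⟨⟨l, hl⟩, g * (k : G) * g⁻¹, (htr _).2 ?_, ?_⟩
    · rw [show g⁻¹ * (g * (k : G) * g⁻¹) * g = k by group]; exact hkP
    · rw [show g * (k : G) * g⁻¹ * u * (g * (k : G) * g⁻¹)⁻¹ = g * (k * (g⁻¹ * u * g) * (k : G)⁻¹) * g⁻¹ by group]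
      rcases (hc ⟨l, hl⟩).cases hkc with e | e
      · left
        rw [← e]
        rfl
      · right
        rw [show g * (c ⟨l, hl⟩ : G) * g⁻¹ * (g * z * g⁻¹) = g * ((c ⟨l, hl⟩ : G) * z) * g⁻¹ by group,
          show (c ⟨l, hl⟩ : G) * z = ((c ⟨l, hl⟩ * M.toH M.zQ : ↥(centralizer ({z} : Set G))) : G) from rfl, ← e]
        rfl

/-- No element has order nine. -/
theorem order_ne_nine (hJ : Cfsg.IsOfJankoFourTypeWith z P) (D : BigPack z B.V)
    (hord : Nat.card G = 86775571046077562880) (x : G) : orderOf x ≠ 9 := by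
  intro hx
  haveI : Fact (Nat.Prime 3) := ⟨Nat.prime_three⟩
  obtain ⟨hcard, hle⟩ := card_cent_three hJ D
  have hfG : (Nat.card G).factorization 3 = 3 := by
    rw [hord, show 86775571046077562880 = 3 ^ 3 * 3213910038743613440 by norm_num,
      Nat.factorization_mul (by norm_num) (by norm_num), Finsupp.add_apply,
      Nat.Prime.factorization_pow Nat.prime_three, Finsupp.single_eq_same,
      Nat.factorization_eq_zero_of_not_dvd (by norm_num)]
  have h27 : 3 ^ 3 ∣ Nat.card ↥(centralizer ({z} : Set G)) :=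
    (show 3 ^ 3 ∣ Nat.card ↥(centralizer (P : Set G)) by rw [hcard]; norm_num).trans (Subgroup.card_dvd_of_le hle)
  obtain ⟨R₀, hR₀⟩ := Sylow.exists_subgroup_card_pow_prime 3 h27
  let R : Sylow 3 G := Sylow.ofCard (R₀.map (centralizer ({z} : Set G)).subtype) (by
    rw [card_map_of_injective (subtype_injective _), hR₀, hfG])
  obtain ⟨-, -, hexp, -⟩ := sylow_three_of_pack hJ B D R (map_subtype_le _)
  obtain ⟨T, hT⟩ := (IsPGroup.of_card (n := 2) (by rw [Nat.card_zpowers, hx]; norm_num) :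
    IsPGroup 3 ↥(zpowers x)).exists_le_sylow
  obtain ⟨g, hg⟩ := MulAction.exists_smul_eq G T R
  have hmem : g * x * g⁻¹ ∈ (R : Subgroup G) := by
    rw [← hg, Sylow.coe_subgroup_smul, Subgroup.mem_pointwise_smul_iff_inv_smul_mem]
    show (MulAut.conj g)⁻¹ (MulAut.conj g x) ∈ (T : Subgroup G)
    rw [MulAut.inv_apply_self]
    exact hT (mem_zpowers x)
  have h3 := Monoid.pow_exponent_eq_one (⟨g * x * g⁻¹, hmem⟩ : ↥(R : Subgroup G))
  rw [hexp] at h3
  have h3' : (g * x * g⁻¹) ^ 3 = 1 := congrArg Subtype.val h3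
  rw [conj_pow, conj_eq_one_iff] at h3'
  have := orderOf_dvd_of_pow_eq_one h3'
  rw [hx] at this
  norm_num at this

end BigData

end Cfsg.Agent.JankoFour
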