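import Cfsg.Agent.Lib.JankoFour.ClassOne
import Cfsg.Agent.Lib.JankoFour.ClassThreeMain
import Cfsg.Agent.Lib.JankoFour.ClassLarge
import Cfsg.Agent.Lib.JankoFour.ClassSeven
import Cfsg.Agent.Lib.JankoFour.ClassFiveMain
import Cfsg.Agent.Lib.JankoFour.ClassEleven

/-!
Sixty-two classes.
-/

set_option autoImplicit false
set_option linter.unusedSectionVars false
set_option linter.style.haveILetI false
set_option maxRecDepth 100000

namespace Cfsg.Agent.JankoFour

open Subgroup
open KCount
open scoped Pointwise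

namespace KCount

/-- The odd orders. -/
def oddOrders : List ℕ := [1, 3, 5, 7, 11, 15, 21, 23, 29, 31, 33, 35, 37, 43]

theorem oddOrders_ok : oddOrders.Nodup ∧ ∀ o ∈ oddOrders, Odd o := by decide +kernel

theorem seven_exps : (roots 7 3).card = 3 ∧ ((∀ a ∈ [1, 3], ¬ 7 ∣ a) ∧
    ([1, 3].Pairwise fun a b => a ^ 3 % 7 ≠ b ^ 3 % 7) ∧
    ∀ b < 7, b ≠ 0 → ∃ a ∈ [1, 3], a ^ 3 % 7 = b ^ 3 % 7) := by decide +kernel

end KCount

variable {G : Type*} [Group G] [Finite G] [IsSimpleGroup G] {z : G} {P : Subgroup G}

/-- The number of classes. -/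
theorem BigData.Facts.card_conjClasses {M : Model z P} {B : BigData M} (F : B.Facts) (hG : ¬ IsMulCommutative G)
    (hJ : Cfsg.IsOfJankoFourTypeWith z P) : Nat.card (ConjClasses G) = 62 := by
  classical
  have hord : Nat.card G = 86775571046077562880 := F.card_eq hG fun D _ => BigData.one_count F hG D TC.card_duad2
  obtain ⟨L⟩ := F.nonempty_large_setup hG hJ hord
  have S := L.S
  obtain ⟨D, hD, -, ht, hnc, hall⟩ := F.exists_second hG
  obtain ⟨hT, hcard⟩ := F.coords.classify (B.exists_fused hG)
  have hfacp : ∀ p ∈ [5, 7], (Nat.card G).factorization p = 1 := by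
    intro p hp
    rw [hord]
    simp only [List.mem_cons, List.not_mem_nil, or_false] at hp
    rcases hp with rfl | rfl
    · rw [show (86775571046077562880 : ℕ) = 5 * 17355114209215512576 by norm_num,
        Nat.factorization_mul (by norm_num) (by norm_num), Finsupp.add_apply,
        (by norm_num : Nat.Prime 5).factorization_self, Nat.factorization_eq_zero_of_not_dvd (by norm_num)]
    · rw [show (86775571046077562880 : ℕ) = 7 * 12396510149439651840 by norm_num,
        Nat.factorization_mul (by norm_num) (by norm_num), Finsupp.add_apply,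
        (by norm_num : Nat.Prime 7).factorization_self, Nat.factorization_eq_zero_of_not_dvd (by norm_num)]
  have hfac5 := hfacp 5 (by simp)
  have hC3 := S.cent_three
  have hN3 := (order_three_of_pack hJ B D).2.2.2.2
  -- five and fifteen
  obtain ⟨Fv⟩ := M.exists_five
  have r5 := Fv.reps_five F.coords hT D hfac5
  have r15 := Fv.reps_fifteen F.coords hT D hfac5
  have s5 := Fv.section_five F.coords hT D
  have s15 := Fv.section_fifteen hC3
  -- seven
  obtain ⟨s, I, hs, -, -, hIs, hd, hsup, ⟨ψ⟩, -, hc7, hn7, -⟩ :=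
    Fv.seven_core F.coords hT D fun g hg => F.coords.involution_into hT hG hcard hg
  obtain ⟨ι, T7⟩ := exists_seven_data hs hIs hd hsup ψ
  have r7 : OrderReps 7 [s, s ^ 3] := by
    have h := prime_reps (p := 7) (k := 3) (c := 840) (by norm_num) (hfacp 7 (by simp)) hs hc7
      (by rw [hn7]) seven_exps.1 (es := [1, 3]) seven_exps.2
    simpa using h
  have T7' := T7.pow (a := 3) (by norm_num)
  have r21 := T7.reps_mul r7 (q := 3) (Or.inl rfl) (y := yThree) (orderOf_eq_prime (by decide +kernel) (by decide +kernel)) odd_three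
  have r35 : OrderReps 35 [s * ι yFive, s ^ 3 * ι yFive] :=
    haveI : Fact (Nat.Prime 5) := ⟨by norm_num⟩
    T7.reps_mul r7 (q := 5) (Or.inr rfl) (y := yFive) (orderOf_eq_prime (by decide +kernel) (by decide +kernel)) odd_five
  -- three
  obtain ⟨w3, r3, s3⟩ := BigData.section_three (B := B) hJ D
  have hp3 : orderOf (M.pElem : G) = 3 := by rw [← Nat.card_zpowers, M.p_gen, M.card_P]
  have hone : ∀ g : G, orderOf g = 3 → IsConj g (M.pElem : G) := fun g hg => one_class_of_pack hJ B D g _ hg hp3
  -- eleven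
  obtain ⟨y, hy, hy3, t, hto, htnc, hty⟩ := S.other
  have hne : ¬ IsConj (S.F.c : G) y := fun h => hy3 (by rw [← card_cent_of_isConj h, S.card_X]; norm_num)
  have h4 : ¬ 4 ∣ Nat.card ↥(centralizer ({y} : Set G)) := by
    rcases hall t hto with h | h
    · exact absurd h.symm htnc
    obtain ⟨k, hk⟩ := isConj_iff.1 h
    have := D.not_four_dvd TC.card_duad2 (y := k * y * k⁻¹) (by rw [← MulAut.conj_apply, MulEquiv.orderOf_eq, hy])
      (by rw [← hk, conj_mul, conj_mul, hty])
    rwa [← card_cent_of_isConj (show IsConj y (k * y * k⁻¹) from isConj_iff.2 ⟨k, rfl⟩)] at this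
  have r11 := S.reps_eleven hord hy hne
  have s11 : sectionCard y = 2 := section_two (by rw [hy]; decide) hto hty h4
  have s11c := S.section_center hord
  have r33 := S.reps_thirty_three hord hone hN3
  have s33 : ∀ b, b % 3 ≠ 0 → sectionCard ((S.F.c : G) * (M.pElem : G) ^ b) = 2 := fun b hb =>
    S.F.section_thirty_three hC3 hb
  -- the large primes
  obtain ⟨l23, r23, s23⟩ := large_reps L hord (p := 23) (by simp)
  obtain ⟨l29, r29, s29⟩ := large_reps L hord (p := 29) (by simp)
  obtain ⟨l31, r31, s31⟩ := large_reps L hord (p := 31) (by simp)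
  obtain ⟨l37, r37, s37⟩ := large_reps L hord (p := 37) (by simp)
  obtain ⟨l43, r43, s43⟩ := large_reps L hord (p := 43) (by simp)
  let Lr : ℕ → List G := fun o =>
    if o = 1 then [1] else if o = 3 then [w3] else if o = 5 then [(Fv.c : G)] else if o = 7 then [s, s ^ 3]
    else if o = 11 then [(S.F.c : G), y] else if o = 15 then [(Fv.c : G) * M.pElem]
    else if o = 21 then [s * ι yThree, s ^ 3 * ι yThree] else if o = 23 then l23 else if o = 29 then l29
    else if o = 31 then l31 else if o = 33 then [(S.F.c : G) * (M.pElem : G) ^ 1, (S.F.c : G) * (M.pElem : G) ^ 2]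
    else if o = 35 then [s * ι yFive, s ^ 3 * ι yFive] else if o = 37 then l37 else l43
  rw [card_classes_list oddOrders oddOrders_ok.1 oddOrders_ok.2 Lr ?_ ?_]
  · have hx : sectionCard (1 : G) = 10 := F.section_one hG
    simp only [oddOrders, Lr, List.map_cons, List.map_nil, List.sum_cons, List.sum_nil, Nat.reduceEqDiff, if_false,
      if_true, hx, s3, s5, s15, T7.section_seven, T7'.section_seven, s11, s11c, T7.section_three, T7'.section_three,
      T7.section_five, T7'.section_five, s23, s29, s31, s37, s43, s33 1 (by norm_num), s33 2 (by norm_num),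
      expsOf]
    norm_num
  · intro o ho
    simp only [oddOrders, List.mem_cons, List.not_mem_nil, or_false] at ho
    rcases ho with rfl | rfl | rfl | rfl | rfl | rfl | rfl | rfl | rfl | rfl | rfl | rfl | rfl | rfl <;>
      simp only [Lr, Nat.reduceEqDiff, if_false, if_true]
    · exact ⟨fun w hw => by rw [List.mem_singleton.1 hw, orderOf_one],
        fun x hx => ⟨1, List.mem_singleton_self _, by rw [orderOf_eq_one_iff.1 hx]⟩, List.pairwise_singleton _ _⟩
    all_goals assumption
  · intro x hodd
    by_cases hbig : ∃ p ∈ [23, 29, 31, 37, 43], p ∣ orderOf x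
    · obtain ⟨p, hp, hd⟩ := hbig
      rw [large_order_eq L hord hp hd]
      simp only [List.mem_cons, List.not_mem_nil, or_false] at hp
      rcases hp with rfl | rfl | rfl | rfl | rfl <;> simp [oddOrders]
    push Not at hbig
    by_cases h7 : 7 ∣ orderOf x
    · rcases T7.order_cases r7 hodd h7 with e | e | e <;> simp [oddOrders, e]
    by_cases h5 : 5 ∣ orderOf x
    · rcases Fv.order_cases_five F.coords hT D hfac5 hodd h5 (fun h => absurd h h7) with e | e | e <;>
        simp [oddOrders, e]
    have hpw : ∀ m, m ∣ orderOf x → orderOf (x ^ (orderOf x / m)) = m := fun m hm => by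
      have hm0 : m ≠ 0 := fun h => (orderOf_pos x).ne' (zero_dvd_iff.1 (h ▸ hm))
      rw [orderOf_pow_of_dvd (Nat.div_pos (Nat.le_of_dvd (orderOf_pos x) hm) (Nat.pos_of_ne_zero hm0)).ne'
        (Nat.div_dvd_of_dvd hm), Nat.div_div_self hm (orderOf_pos x).ne']
    have h9 : ¬ 9 ∣ orderOf x := fun h => BigData.order_ne_nine (B := B) hJ D hord _ (hpw 9 h)
    have h121 : ¬ 121 ∣ orderOf x := fun h => by
      haveI : Fact (Nat.Prime 11) := ⟨by norm_num⟩
      set g := x ^ (orderOf x / 121)
      have hg : orderOf g = 121 := hpw 121 h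
      obtain ⟨U, hU⟩ := S.K.exists_sylow S.card_O S.card_X hord S.other
      obtain ⟨V, hV⟩ := (IsPGroup.of_card (n := 2) (by rw [Nat.card_zpowers, hg]; norm_num) :
        IsPGroup 11 ↥(zpowers g)).exists_le_sylow
      obtain ⟨k, hk⟩ := MulAction.exists_smul_eq G V U
      have hmem : k * g * k⁻¹ ∈ S.K.O := by
        rw [← hU, ← hk, Sylow.coe_subgroup_smul, Subgroup.mem_pointwise_smul_iff_inv_smul_mem]
        show (MulAut.conj k)⁻¹ (MulAut.conj k g) ∈ (V : Subgroup G)
        rw [MulAut.inv_apply_self]
        exact hV (mem_zpowers g)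
      have h11 := S.K.pow_eleven S.card_O S.card_X hord S.other hmem
      rw [conj_pow, conj_eq_one_iff] at h11
      have := orderOf_dvd_of_pow_eq_one h11
      rw [hg] at this
      norm_num at this
    have hdvd : orderOf x ∣ 3 ^ 3 * 11 ^ 3 := by
      have hd := orderOf_dvd_natCard x
      rw [hord, show (86775571046077562880 : ℕ) = 2 ^ 21 * (5 * 7 * 23 * 29 * 31 * 37 * 43) * (3 ^ 3 * 11 ^ 3) by
        norm_num] at hd
      refine Nat.Coprime.dvd_of_dvd_mul_left (Nat.Coprime.mul_right ?_ ?_) hd
      · exact Nat.Coprime.pow_right _ (Nat.coprime_two_right.2 hodd)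
      · have hc : ∀ p : ℕ, p.Prime → ¬ p ∣ orderOf x → Nat.Coprime (orderOf x) p := fun p hp h =>
          (hp.coprime_iff_not_dvd.2 h).symm
        simp only [List.forall_mem_cons, List.not_mem_nil, IsEmpty.forall_iff, implies_true, and_true] at hbig
        obtain ⟨a, b, c, d, e⟩ := hbig
        exact (((((((hc 5 (by norm_num) h5).mul_right (hc 7 (by norm_num) h7)).mul_right
          (hc 23 (by norm_num) a)).mul_right (hc 29 (by norm_num) b)).mul_right (hc 31 (by norm_num) c)).mul_right
            (hc 37 (by norm_num) d)).mul_right (hc 43 (by norm_num) e))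
    have key : ∀ n ∈ (3 ^ 3 * 11 ^ 3).divisors, ¬ 9 ∣ n → ¬ 121 ∣ n → n ∈ oddOrders := by
      intro n hn a b
      rw [Nat.divisors_mul, Nat.divisors_prime_pow (by norm_num : Nat.Prime 3),
        Nat.divisors_prime_pow (by norm_num : Nat.Prime 11)] at hn
      obtain ⟨u, hu, v, hv, rfl⟩ := Finset.mem_mul.1 hn
      simp only [Finset.mem_map, Finset.mem_range, Function.Embedding.coeFn_mk] at hu hv
      obtain ⟨i, hi, rfl⟩ := hu
      obtain ⟨j, hj, rfl⟩ := hv
      interval_cases i <;> interval_cases j <;>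
        first | (norm_num at a; done) | (norm_num at b; done) | simp [oddOrders]
    exact key _ (Nat.mem_divisors.2 ⟨hdvd, by norm_num⟩) h9 h121

end Cfsg.Agent.JankoFour
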