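import Cfsg.Agent.Lib.JankoFour.HintoInner
import Cfsg.Agent.Lib.JankoFour.CoordChecks

/-!
The canonical element of the extraspecial subgroup over a vector: a product of an element with its conjugate
by the generator of P.
-/

set_option autoImplicit false
set_option linter.unusedSectionVars false

namespace Cfsg.Agent.JankoFour

open Subgroup
open Cfsg.Agent.LargeFischer (Ctx QG)
open Cfsg.Agent.J4Module (app)
open Cfsg.Agent.J4Module.Data
open Big Coord

namespace Model

variable {G : Type*} [Group G] [Finite G] {z : G} {P : Subgroup G} (M : Model z P)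

/-- The central involution or the identity. -/
def zb (b : Bool) : ↥(QG M.Q) := if b = true then M.zQ else 1

theorem zQ_comm (x : ↥(QG M.Q)) : x * M.zQ = M.zQ * x := Subtype.ext (M.ctx.xs.comm x.2)

theorem zQ_sq : M.zQ * M.zQ = 1 := Subtype.ext M.ctx.xs.sq

theorem zb_comm (b : Bool) (x : ↥(QG M.Q)) : x * M.zb b = M.zb b * x := by
  cases b
  · simp [zb]
  · exact M.zQ_comm x

theorem zb_mul (a b : Bool) : M.zb a * M.zb b = M.zb (a ^^ b) := by
  cases a <;> cases b <;> simp [zb, M.zQ_sq]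

theorem vec_zb (b : Bool) : M.vec (M.zb b) = 0 := by
  cases b
  · exact M.vec_one
  · exact M.vec_z

theorem conjQ_zQ (c : ↥(centralizer ({z} : Set G))) : M.ctx.conjQ c M.zQ = M.zQ := Subtype.ext (by
  show c.1 * z * c.1⁻¹ = z
  rw [mem_centralizer_singleton_iff.1 c.2, mul_inv_cancel_right])

theorem swap (x y : ↥(QG M.Q)) : x * y = y * x * M.zb (bbit (M.vec x) (M.vec y)) := by
  cases h : bbit (M.vec x) (M.vec y)
  · simp [zb, show x * y = y * x from Subtype.ext ((M.comm_iff x y).2 h)]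
  · rcases M.ctx.xs.conj_cases x.2 y.2 with e | e
    · have := (M.comm_iff x y).1 (mul_inv_eq_iff_eq_mul.1 e)
      simp [h] at this
    · have e' : x * y * x⁻¹ = y * M.zQ := Subtype.ext e
      rw [show M.zb true = M.zQ by simp [zb], mul_inv_eq_iff_eq_mul.1 e', mul_assoc, ← M.zQ_comm x, mul_assoc]

/-- A preimage of the image of a vector under the scalar. -/
noncomputable def aP (v : ℕ) : ↥(QG M.Q) :=
  open Classical in if h : ∃ x, M.vec x = app pC v then h.choose else 1

/-- The canonical element over a vector. -/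
noncomputable def uS (v : ℕ) : ↥(QG M.Q) := M.aP v * M.ctx.conjQ M.pElem (M.aP v)

theorem vec_aP {v : ℕ} (_hv : v < 4096) : M.vec (M.aP v) = app pC v := by
  have h : ∃ x, M.vec x = app pC v := M.vec_surj _ (pC_lt v)
  rw [aP, dif_pos h]
  exact h.choose_spec

theorem uS_eq {v : ℕ} (hv : v < 4096) {a : ↥(QG M.Q)} (ha : M.vec a = app pC v) :
    M.uS v = a * M.ctx.conjQ M.pElem a := by
  rcases M.vec_eq_iff.1 (ha.trans (M.vec_aP hv).symm) with e | e
  · rw [uS, show M.aP v = a from Subtype.ext e]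
  · rw [uS, show M.aP v = a * M.zQ from Subtype.ext e, map_mul, M.conjQ_zQ,
      show a * M.zQ * (M.ctx.conjQ M.pElem a * M.zQ) = a * (M.zQ * M.ctx.conjQ M.pElem a) * M.zQ by group,
      ← M.zQ_comm, ← mul_assoc, mul_assoc _ M.zQ, M.zQ_sq, mul_one]

theorem uS_vec {v : ℕ} (hv : v < 4096) : M.vec (M.uS v) = v := by
  rw [uS, M.vec_mul, M.p_acts, M.vec_aP hv]
  exact p_sum v hv

theorem uS_zero : M.uS 0 = 1 := by
  rw [M.uS_eq (by norm_num) (a := 1) (by rw [M.vec_one]; decide +kernel), map_one, one_mul]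

theorem uS_mul {v w : ℕ} (hv : v < 4096) (hw : w < 4096) :
    M.uS v * M.uS w = M.uS (v ^^^ w) * M.zb (bbit (p2 v) (app pC w)) := by
  set a := M.aP v with ha
  set c := M.aP w with hc
  have hac : M.vec (a * c) = app pC (v ^^^ w) := by rw [M.vec_mul, M.vec_aP hv, M.vec_aP hw, app_xor]
  rw [M.uS_eq (Nat.xor_lt_two_pow (n := 12) hv hw) hac, uS, uS, ← ha, ← hc, map_mul]
  set pa := M.ctx.conjQ M.pElem a with hpa
  set pc := M.ctx.conjQ M.pElem c with hpc
  have hb : bbit (p2 v) (app pC w) = bbit (M.vec pa) (M.vec c) := by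
    rw [hpa, M.p_acts, M.vec_aP hv, M.vec_aP hw]
    rfl
  rw [hb, show a * pa * (c * pc) = a * (pa * c) * pc by group, M.swap pa c,
    show a * (c * pa * M.zb (bbit (M.vec pa) (M.vec c))) * pc =
      a * c * pa * (M.zb (bbit (M.vec pa) (M.vec c)) * pc) by group, ← M.zb_comm]
  group

theorem uS_inv {v : ℕ} (hv : v < 4096) : (M.uS v)⁻¹ = M.uS v * M.zb (bbit (p2 v) (app pC v)) := by
  refine inv_eq_of_mul_eq_one_right ?_
  rw [← mul_assoc, M.uS_mul hv hv, Nat.xor_self, M.uS_zero, one_mul, M.zb_mul, Bool.xor_self]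
  simp [zb]

theorem p_fix_cent {c : ↥(centralizer ({z} : Set G))} (hc : (c : G) ∈ centralizer (P : Set G))
    (x : ↥(QG M.Q)) : M.ctx.conjQ c (M.ctx.conjQ M.pElem x) = M.ctx.conjQ M.pElem (M.ctx.conjQ c x) := by
  rw [← M.ctx.conjQ_mul, M.p_fix hc, M.ctx.conjQ_mul]

/-- An element centralising P carries canonical elements to canonical elements. -/
theorem uS_conj {c : ↥(centralizer ({z} : Set G))} (hc : (c : G) ∈ centralizer (P : Set G)) {C : List ℕ}
    (hcC : M.Acts c C) (hcomm : mulC pC C = mulC C pC) {v : ℕ} (hv : v < 4096) :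
    M.ctx.conjQ c (M.uS v) = M.uS (app C v) := by
  have hlt : app C v < 4096 := by
    obtain ⟨x, rfl⟩ := M.vec_surj v hv
    rw [← hcC]
    exact M.vec_lt _
  rw [uS, map_mul, M.p_fix_cent hc]
  refine (M.uS_eq hlt ?_).symm
  rw [hcC, M.vec_aP hv, ← app_mulC, ← app_mulC, hcomm]

theorem pElem_cent : (M.pElem : G) ∈ centralizer (P : Set G) := by
  refine mem_centralizer_iff.2 fun g hg => ?_
  obtain ⟨j, rfl⟩ := mem_zpowers_iff.1 (M.p_gen.ge hg)
  exact ((Commute.refl (M.pElem : G)).zpow_left j).eq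

/-- Conjugation of a canonical element by an element of the extraspecial subgroup. -/
theorem uS_shift (x : ↥(QG M.Q)) {w : ℕ} (hw : w < 4096) :
    x * M.uS w * x⁻¹ = M.uS w * M.zb (bbit (M.vec x) w) := by
  rw [M.swap x (M.uS w), M.uS_vec hw, mul_assoc (M.uS w), M.zb_comm, ← mul_assoc, mul_inv_cancel_right]

/-- The elements of the hexad space are represented additively. -/
theorem uS_add {a b : ℕ} (ha : a < 64) (hb : b < 64) :
    M.uS (bigW.getD (a ^^^ b) 0) = M.uS (bigW.getD a 0) * M.uS (bigW.getD b 0) := by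
  obtain ⟨hl, hlt, hxor, -⟩ := bigW_spec
  have h : ∀ n < 64, bigW.getD n 0 < 4096 := fun n hn => hlt _ (by
    rw [List.getD_eq_getElem _ _ (show n < bigW.length by omega)]; exact List.getElem_mem _)
  rw [M.uS_mul (h a ha) (h b hb), hxor a ha b hb, bigW_add a ha b hb]
  simp [zb]

end Model

end Cfsg.Agent.JankoFour
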