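import Cfsg.Agent.Lib.Golay.Index276
import Cfsg.Agent.Lib.Golay.Local.Cents
import Cfsg.Agent.Lib.Golay.M24
import Mathlib.GroupTheory.Sylow

/-!
Facts on the group of the code used at the prime eleven: elements of order eleven are self-centralising and the
Sylow 2-subgroups are not abelian.
-/

set_option autoImplicit false
set_option linter.style.haveILetI false

namespace Cfsg.Agent.JankoFour.ElevenM24

open Cfsg Cfsg.Agent.Golay Cfsg.Agent.Golay.Local

theorem cent_pow_twentytwo {x c : ↥M24} (hx : orderOf x = 11) (hc : c * x = x * c) : c ^ 22 = 1 := by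
  classical
  haveI : Fact (Nat.Prime 11) := ⟨by norm_num⟩
  set F := Finset.univ.filter fun p : GolayPt => x • p = p with hF
  have hFcard : F.card = 2 := Index276.fixed_card hx (Or.inl rfl)
  have hcomm : ∀ (k : ℕ) (p : GolayPt), c • x ^ k • p = x ^ k • c • p := fun k p => by
    rw [← mul_smul, ← mul_smul, (Commute.pow_right hc k).eq]
  have hstep : ∀ p : GolayPt, ∃ i, c • c • p = x ^ i • p := by
    intro p
    by_cases hp : x • p = p
    · refine ⟨0, ?_⟩
      rw [pow_zero, one_smul]
      have hm : ∀ r ∈ F, c • r ∈ F := fun r hr => by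
        rw [hF, Finset.mem_filter] at hr ⊢
        refine ⟨Finset.mem_univ _, ?_⟩
        rw [← mul_smul, ← hc, mul_smul, hr.2]
      have hpF : p ∈ F := Finset.mem_filter.2 ⟨Finset.mem_univ _, hp⟩
      obtain ⟨a, b, hab, he⟩ := Finset.card_eq_two.1 hFcard
      have h1 := hm p hpF
      have h2 := hm _ h1
      have hne : ∀ r : GolayPt, c • r = p → r ≠ p → c • p ≠ p := fun r hr hrp h =>
        hrp (MulAction.injective c (hr.trans h.symm))
      rw [he, Finset.mem_insert, Finset.mem_singleton] at hpF h1 h2
      rcases hpF with rfl | rfl <;> rcases h1 with h1 | h1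
      · rw [h1, h1]
      · rcases h2 with h2 | h2
        · exact h2
        · rw [h1] at h2
          exact absurd (MulAction.injective c (h1.trans h2.symm)) hab
      · rcases h2 with h2 | h2
        · rw [h1] at h2
          exact absurd (MulAction.injective c (h1.trans h2.symm)) hab.symm
        · exact h2
      · rw [h1, h1]
    · set O : GolayPt → Finset GolayPt := fun r => (Finset.range 11).image fun i => x ^ i • r with hO
      have hx11 : x ^ 11 = 1 := by rw [← hx, pow_orderOf_eq_one]
      have hmem : ∀ r s, s ∈ O r ↔ ∃ i : ℕ, s = x ^ i • r := fun r s => by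
        simp only [hO, Finset.mem_image, Finset.mem_range]
        exact ⟨fun ⟨i, _, e⟩ => ⟨i, e.symm⟩, fun ⟨i, e⟩ => ⟨i % 11, Nat.mod_lt _ (by norm_num), by
          rw [e, ← hx, pow_mod_orderOf]⟩⟩
      have hmove : ∀ r, x • r ≠ r → O r ⊆ Fᶜ ∧ (O r).card = 11 := by
        intro r hr
        have hfix : ∀ i, 0 < i → i < 11 → x ^ i • r ≠ r := by
          intro i h0 hi h
          obtain ⟨m, -, hm⟩ := Nat.exists_mul_mod_eq_one_of_coprime
            (((by norm_num : Nat.Prime 11).coprime_iff_not_dvd.2 (Nat.not_dvd_of_pos_of_lt h0 hi)).symm) (by norm_num)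
          refine hr ?_
          have h' : ∀ n : ℕ, (x ^ i) ^ n • r = r := fun n => by
            induction n with
            | zero => rw [pow_zero, one_smul]
            | succ n ih => rw [pow_succ, mul_smul, h, ih]
          have := h' m
          rwa [← pow_mul, ← pow_mod_orderOf, hx, hm, pow_one] at this
        refine ⟨fun s hs => ?_, ?_⟩
        · obtain ⟨i, rfl⟩ := (hmem r s).1 hs
          rw [Finset.mem_compl, hF, Finset.mem_filter]
          refine fun h => hr ?_
          have := h.2
          rw [← mul_smul, ← pow_succ', pow_succ, mul_smul] at this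
          exact MulAction.injective _ this
        · rw [hO, Finset.card_image_of_injOn, Finset.card_range]
          intro i hi j hj e
          simp only [Finset.coe_range, Set.mem_Iio] at hi hj
          simp only at e
          by_contra hne
          rcases Nat.lt_or_gt_of_ne hne with h | h
          · refine hfix (j - i) (by omega) (by omega) (MulAction.injective (x ^ i) ?_)
            show x ^ i • x ^ (j - i) • r = x ^ i • r
            rw [← mul_smul, ← pow_add, Nat.add_sub_cancel' h.le, e]
          · refine hfix (i - j) (by omega) (by omega) (MulAction.injective (x ^ j) ?_)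
            show x ^ j • x ^ (i - j) • r = x ^ j • r
            rw [← mul_smul, ← pow_add, Nat.add_sub_cancel' h.le, e]
      have hx1 : ∀ r : GolayPt, c • x • r = x • c • r := fun r => by
        have := hcomm 1 r
        rwa [pow_one] at this
      have hcp : x • c • p ≠ c • p := fun h => hp (MulAction.injective c ((hx1 p).trans h))
      have hccp : x • c • c • p ≠ c • c • p := fun h => hcp (MulAction.injective c ((hx1 _).trans h))
      by_cases h1 : c • p ∈ O p
      · obtain ⟨i, hi⟩ := (hmem _ _).1 h1
        exact ⟨i + i, by rw [hi, hcomm, hi, ← mul_smul, ← pow_add]⟩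
      have hdis : Disjoint (O p) (O (c • p)) := by
        rw [Finset.disjoint_left]
        intro s hs hs'
        obtain ⟨i, rfl⟩ := (hmem _ _).1 hs
        obtain ⟨j, hj⟩ := (hmem _ _).1 hs'
        refine h1 ((hmem _ _).2 ⟨(11 - j % 11) + i, ?_⟩)
        rw [pow_add, mul_smul, hj, ← mul_smul, ← pow_add, ← pow_mod_orderOf, hx,
          show (11 - j % 11 + j) % 11 = 0 by omega, pow_zero, one_smul]
      have hun : O p ∪ O (c • p) = Fᶜ := by
        refine Finset.eq_of_subset_of_card_le (Finset.union_subset (hmove p hp).1 (hmove _ hcp).1) ?_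
        rw [Finset.card_union_of_disjoint hdis, (hmove p hp).2, (hmove _ hcp).2, Finset.card_compl, hFcard,
          Index276.card_pts]
      have h2 : c • c • p ∈ O p ∪ O (c • p) := by
        rw [hun, Finset.mem_compl, hF, Finset.mem_filter]
        exact fun h => hccp h.2
      rcases Finset.mem_union.1 h2 with h | h
      · exact (hmem _ _).1 h
      · obtain ⟨i, hi⟩ := (hmem _ _).1 h
        rw [← hcomm] at hi
        exact absurd ((hmem _ _).2 ⟨i, MulAction.injective c hi⟩) h1
  refine Subtype.ext (Equiv.ext fun p => ?_)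
  obtain ⟨i, hi⟩ := hstep p
  have hcx : ∀ n : ℕ, (c * c) ^ n • p = x ^ (n * i) • p := by
    intro n
    induction n with
    | zero => simp
    | succ n ih =>
      rw [pow_succ', mul_smul, ih, mul_smul, hcomm, hcomm, hi, ← mul_smul, ← pow_add]
      congr 2
      ring
  have h := hcx 11
  rw [pow_mul x, show x ^ 11 = 1 by rw [← hx, pow_orderOf_eq_one], one_pow, one_smul, ← pow_two, ← pow_mul] at h
  exact h

/-- An element of order eleven is self-centralising. -/
theorem card_centralizer {x : ↥M24} (hx : orderOf x = 11) :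
    Nat.card ↥(Subgroup.centralizer ({x} : Set ↥M24)) = 11 := by
  classical
  haveI : Fact (Nat.Prime 11) := ⟨by norm_num⟩
  haveI : Fact (Nat.Prime 2) := ⟨Nat.prime_two⟩
  set C := Subgroup.centralizer ({x} : Set ↥M24)
  have hxC : x ∈ C := Subgroup.mem_centralizer_singleton_iff.2 rfl
  have h11 : 11 ∣ Nat.card ↥C := hx ▸ Subgroup.orderOf_dvd_natCard C hxC
  have hM : Nat.card ↥C ∣ 244823040 := card_M24 ▸ Subgroup.card_subgroup_dvd_card C
  have h2 : ¬ 2 ∣ Nat.card ↥C := by
    intro h
    obtain ⟨⟨c, hc⟩, ho⟩ := exists_prime_orderOf_dvd_card' (G := ↥C) 2 h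
    rw [Subgroup.orderOf_mk] at ho
    have hcx : c * x = x * c := Subgroup.mem_centralizer_singleton_iff.1 hc
    obtain ⟨k, hk, hkc⟩ := class2 c.2 (by rw [Subgroup.orderOf_coe]; exact ho)
    set x' : Equiv.Perm GolayPt := k⁻¹ * (x : Equiv.Perm GolayPt) * k with hx'
    have hxM : x' ∈ M24 := mul_mem (mul_mem (inv_mem hk) x.2) hk
    have hox' : orderOf x' = 11 := by
      have h1 := (MulAut.conj k⁻¹).orderOf_eq (x : Equiv.Perm GolayPt)
      simp only [MulAut.conj_apply, inv_inv] at h1
      rw [hx', h1, Subgroup.orderOf_coe, hx]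
    have hcx' : (c : Equiv.Perm GolayPt) * x = x * c := congrArg Subtype.val hcx
    have tr : ∀ R : Equiv.Perm GolayPt, (c : Equiv.Perm GolayPt) = k * R * k⁻¹ → x' * R = R * x' := fun R e => by
      rw [e] at hcx'
      rw [hx', show k⁻¹ * (x : Equiv.Perm GolayPt) * k * R = k⁻¹ * ((x : Equiv.Perm GolayPt) * (k * R * k⁻¹)) * k by group,
        ← hcx']
      group
    rcases hkc with e | e
    · have hcomm := tr _ e
      have hF := Index276.fixed_card (q := 11) (x := (⟨x', hxM⟩ : ↥M24))
        (by rw [← Subgroup.orderOf_coe]; exact hox') (Or.inl rfl)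
      set A := Finset.univ.filter fun p => R2A p = p with hA
      have hinv : ∀ p, (⟨x', hxM⟩ : ↥M24) • p ∈ A ↔ p ∈ A := by
        intro p
        simp only [hA, Finset.mem_filter, Finset.mem_univ, true_and]
        have e' : R2A (x' p) = x' (R2A p) := by
          rw [← Equiv.Perm.mul_apply, ← hcomm, Equiv.Perm.mul_apply]
        show R2A (x' p) = x' p ↔ _
        rw [e', x'.injective.eq_iff]
      have h := Index276.modEq_fixed (q := 11) (x := (⟨x', hxM⟩ : ↥M24))
        (Subtype.ext (by rw [Subgroup.coe_pow, ← hox', pow_orderOf_eq_one]; rfl)) hinv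
      rw [card_fixed_R2A, Nat.ModEq] at h
      have hle : (A.filter fun p => (⟨x', hxM⟩ : ↥M24) • p = p).card ≤ 2 :=
        (Finset.card_le_card (Finset.filter_subset_filter _ (Finset.subset_univ _))).trans hF.le
      omega
    · have hmem : x' ∈ C2B := C2B_upper hxM (tr _ e)
      have := Subgroup.orderOf_dvd_natCard _ hmem
      rw [hox', card_C2B] at this
      norm_num at this
  obtain ⟨m, hm⟩ := h11
  by_contra hne
  have hm1 : m ≠ 1 := by rintro rfl; exact hne (by omega)
  obtain ⟨q, hq, hqm⟩ := Nat.exists_prime_and_dvd hm1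
  have hq11 : q ≠ 11 := by
    rintro rfl
    have := Dvd.dvd.trans (mul_dvd_mul_left 11 hqm) (hm ▸ hM)
    norm_num at this
  haveI := Fact.mk hq
  obtain ⟨⟨c, hc⟩, ho⟩ := exists_prime_orderOf_dvd_card' (G := ↥C) q (hm ▸ dvd_mul_of_dvd_right hqm 11)
  rw [Subgroup.orderOf_mk] at ho
  have h22 := orderOf_dvd_of_pow_eq_one (cent_pow_twentytwo hx (Subgroup.mem_centralizer_singleton_iff.1 hc))
  rw [ho, show (22 : ℕ) = 2 * 11 by norm_num] at h22
  rcases hq.dvd_mul.1 h22 with h | h
  · exact h2 ((Nat.prime_dvd_prime_iff_eq hq Nat.prime_two).1 h ▸ hm ▸ dvd_mul_of_dvd_right hqm 11)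
  · exact hq11 ((Nat.prime_dvd_prime_iff_eq hq (by norm_num)).1 h)

/-- There is no abelian subgroup of order 1024. -/
theorem not_abelian_sylow (A : Subgroup ↥M24) (hA : Nat.card ↥A = 2 ^ 10) :
    ¬ ∀ a ∈ A, ∀ b ∈ A, a * b = b * a := by
  intro hab
  haveI : Fact (Nat.Prime 2) := ⟨Nat.prime_two⟩
  have hfac : (Nat.card ↥M24).factorization 2 = 10 := by rw [card_M24]; exact factorization_M24.1
  let SA : Sylow 2 ↥M24 := Sylow.ofCard A (by rw [hA, hfac])
  set r : ↥M24 := ⟨R2B, reps_spec.2.1.2⟩ with hr
  have hro : orderOf r = 2 := by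
    rw [← Subgroup.orderOf_coe]
    exact orderOf_eq_prime facts.2.1.1 facts.2.1.2.1
  obtain ⟨S, hS⟩ := IsPGroup.exists_le_sylow (P := Subgroup.zpowers r)
    (IsPGroup.of_card (n := 1) (by rw [Nat.card_zpowers, hro, pow_one] : Nat.card ↥(Subgroup.zpowers r) = 2 ^ 1))
  obtain ⟨g, hg⟩ := MulAction.exists_smul_eq ↥M24 SA S
  have hle : (S : Subgroup ↥M24).map M24.subtype ≤ C2B := by
    rintro _ ⟨s, hs, rfl⟩
    have hr' : r ∈ (S : Subgroup ↥M24) := hS (Subgroup.mem_zpowers r)
    rw [← hg] at hs hr'
    obtain ⟨a, ha, e1⟩ := hs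
    obtain ⟨b, hb, e2⟩ := hr'
    refine C2B_upper s.2 ?_
    refine congrArg Subtype.val (show s * r = r * s from ?_)
    rw [← e1, ← e2]
    simp only [MulDistribMulAction.toMonoidEnd_apply, MulDistribMulAction.toMonoidHom_apply]
    rw [← smul_mul', ← smul_mul', hab a ha b hb]
  have h := Subgroup.card_dvd_of_le hle
  rw [Subgroup.card_map_of_injective M24.subtype_injective, Sylow.card_eq_multiplicity, hfac, card_C2B] at h
  norm_num at h

end Cfsg.Agent.JankoFour.ElevenM24
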