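import Cfsg.Agent.Lib.JankoFour.FusedBase
import Cfsg.Agent.Lib.JankoFour.BigData

/-!
A conjugate of the involution commuting with it, under the assumption that the involution is not fused inside
the extraspecial subgroup.
-/

set_option autoImplicit false
set_option linter.unusedSectionVars false
set_option maxRecDepth 20000

namespace Cfsg.Agent.JankoFour

open Subgroup
open Cfsg.Agent.LargeFischer (Ctx QG)
open Cfsg.Agent.J4Module (app elemI oneC compC fixMask)
open Cfsg.Agent.J4Module.Data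

variable {G : Type*} [Group G] [Finite G] {z : G} {P : Subgroup G}

/-- Every 2-subgroup of the centraliser can be moved to act by members of the table of the Sylow subgroup. -/
def SylowTransport (M : Model z P) : Prop :=
  ∀ T : Subgroup G, T ≤ centralizer ({z} : Set G) → IsPGroup 2 ↥T →
    ∃ h : ↥(centralizer ({z} : Set G)), ∀ a : ↥(centralizer ({z} : Set G)), (a : G) ∈ T →
      ∃ C ∈ sylow, M.Acts (h * a * h⁻¹) C

theorem tab_len {C : List ℕ} (h : C ∈ sylow) : C.length = 12 := (sylow_coset C h).1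

theorem mulC_tab_len {A B : List ℕ} (h : B.length = 12) : (mulC A B).length = 12 := by
  rw [mulC, List.length_map, h]

namespace Model

variable (M : Model z P)
include M

theorem conj_E {c a : G} (hc : c ∈ centralizer ({z} : Set G)) (ha : a ∈ QG M.Q) : c * a * c⁻¹ ∈ QG M.Q :=
  LargeExtra.conj_mem (M.ctx.xs.norm hc) ha

theorem conj_E' {c a : G} (hc : c ∈ centralizer ({z} : Set G)) (ha : a ∈ QG M.Q) : c⁻¹ * a * c ∈ QG M.Q := by
  simpa using M.conj_E (inv_mem hc) ha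

omit M in
theorem comm_z {c : G} (hc : c ∈ centralizer ({z} : Set G)) : c * z = z * c := mem_centralizer_singleton_iff.1 hc

theorem card_E : Nat.card ↥(QG M.Q) = 8192 := M.ctx.card

theorem order_z : orderOf z = 2 :=
  orderOf_eq_prime (by rw [pow_two]; exact M.z_sq) M.ctx.xs.ne_one

/-- The assumption: no conjugate of the involution other than itself is in the extraspecial subgroup. -/
def Weak : Prop := ∀ g : G, g * z * g⁻¹ ∈ QG M.Q → g * z * g⁻¹ = z

/-- The conjugate of the extraspecial subgroup. -/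
abbrev EU (g : G) : Subgroup G := (QG M.Q).map (MulAut.conj g).toMonoidHom

theorem mem_EU {g a : G} : a ∈ M.EU g ↔ g⁻¹ * a * g ∈ QG M.Q := by
  constructor
  · rintro ⟨e, he, rfl⟩
    simpa [mul_assoc] using he
  · intro h
    exact ⟨_, h, by simp [mul_assoc]⟩

theorem u_mem_EU (g : G) : g * z * g⁻¹ ∈ M.EU g := M.mem_EU.2 (by simpa [mul_assoc] using M.z_mem)

theorem EU_comm {g a : G} (ha : a ∈ M.EU g) : a * (g * z * g⁻¹) = g * z * g⁻¹ * a := by
  obtain ⟨e, he, rfl⟩ := ha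
  show g * e * g⁻¹ * (g * z * g⁻¹) = g * z * g⁻¹ * (g * e * g⁻¹)
  rw [show g * e * g⁻¹ * (g * z * g⁻¹) = g * (e * z) * g⁻¹ by group, ← M.z_comm he]
  group

theorem EU_norm {g a e : G} (ha : a ∈ M.EU g) (he : e * (g * z * g⁻¹) = g * z * g⁻¹ * e) :
    e * a * e⁻¹ ∈ M.EU g := by
  rw [M.mem_EU] at ha ⊢
  have hc : g⁻¹ * e * g ∈ centralizer ({z} : Set G) := by
    rw [mem_centralizer_singleton_iff]
    calc g⁻¹ * e * g * z = g⁻¹ * (e * (g * z * g⁻¹)) * g := by group
      _ = z * (g⁻¹ * e * g) := by rw [he]; group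
  have h := M.conj_E hc ha
  rwa [show g⁻¹ * (e * a * e⁻¹) * g = g⁻¹ * e * g * (g⁻¹ * a * g) * (g⁻¹ * e * g)⁻¹ by group]

theorem EU_pgroup (g : G) : IsPGroup 2 ↥(M.EU g) :=
  IsPGroup.of_card (n := 13) (by
    rw [card_map_of_injective (MulAut.conj g).injective, M.card_E]; norm_num)

theorem sq_cases' {a : G} (ha : a ∈ QG M.Q) : a * a = 1 ∨ a * a = z := M.ctx.xs.sq_cases ha

theorem comm_cases {a b : G} (ha : a ∈ QG M.Q) (hb : b ∈ QG M.Q) :
    a * b * a⁻¹ * b⁻¹ = 1 ∨ a * b * a⁻¹ * b⁻¹ = z := by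
  rcases M.ctx.xs.conj_cases ha hb with e | e
  · exact Or.inl (by rw [e, mul_inv_cancel])
  · exact Or.inr (by rw [e, mul_assoc, M.z_comm (inv_mem hb), ← mul_assoc, mul_inv_cancel, one_mul])

/-- The data of a commuting conjugate. -/
structure Moved (g : G) : Prop where
  mem : g * z * g⁻¹ ∈ centralizer ({z} : Set G)
  ne : g * z * g⁻¹ ≠ z

variable {g : G}

omit M in
theorem u_sq (hz : z * z = 1) : g * z * g⁻¹ * (g * z * g⁻¹) = 1 := by
  rw [show g * z * g⁻¹ * (g * z * g⁻¹) = g * (z * z) * g⁻¹ by group, hz, mul_one, mul_inv_cancel]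

theorem Moved.not_mem (hW : M.Weak) (hm : Moved (z := z) g) : g * z * g⁻¹ ∉ QG M.Q :=
  fun h => hm.ne (hW g h)

theorem Moved.z_not_mem (hW : M.Weak) (hm : Moved (z := z) g) : z ∉ M.EU g := by
  intro h
  rw [M.mem_EU] at h
  have h' := hW g⁻¹ (by simpa using h)
  apply hm.ne
  calc g * z * g⁻¹ = g * (g⁻¹ * z * g⁻¹⁻¹) * g⁻¹ := by rw [h']
    _ = z := by group

theorem Moved.d_sq (hW : M.Weak) (hm : Moved (z := z) g) {d : G} (h1 : d ∈ QG M.Q) (h2 : d ∈ M.EU g) :
    d * d = 1 :=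
  (M.sq_cases' h1).resolve_right fun e => hm.z_not_mem M hW (Eq.subst (motive := fun y => y ∈ M.EU g) e (mul_mem h2 h2))

/-- Commutators with the part of the extraspecial subgroup commuting with u. -/
theorem Moved.comm_mem {a e : G} (ha : a ∈ centralizer ({z} : Set G)) (ha' : a ∈ M.EU g)
    (he : e ∈ QG M.Q) (heu : e * (g * z * g⁻¹) = g * z * g⁻¹ * e) :
    a * e * a⁻¹ * e⁻¹ ∈ QG M.Q ∧ a * e * a⁻¹ * e⁻¹ ∈ M.EU g := by
  refine ⟨mul_mem (M.conj_E ha he) (inv_mem he), ?_⟩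
  rw [show a * e * a⁻¹ * e⁻¹ = a * (e * a⁻¹ * e⁻¹) by group]
  exact mul_mem ha' (M.EU_norm (inv_mem ha') heu)

theorem Moved.d_comm (hW : M.Weak) (hm : Moved (z := z) g) {d e : G} (h1 : d ∈ QG M.Q) (h2 : d ∈ M.EU g)
    (he : e ∈ QG M.Q) (heu : e * (g * z * g⁻¹) = g * z * g⁻¹ * e) : d * e = e * d := by
  have h3 := (Moved.comm_mem M (M.mem_H h1) h2 he heu).2
  rcases M.comm_cases h1 he with e1 | e1
  · rwa [mul_inv_eq_one, mul_inv_eq_iff_eq_mul] at e1
  · exact absurd (e1 ▸ h3) (hm.z_not_mem M hW)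

/-- No element of E moves u inside its translate by D. -/
theorem Moved.not_shift (hW : M.Weak) {d a : G} (h2 : d ∈ M.EU g) (hd : d ≠ 1)
    (h : g * z * g⁻¹ * a * (g * z * g⁻¹)⁻¹ * a⁻¹ = d) : False := by
  set u := g * z * g⁻¹ with hu
  have huu : u⁻¹ = u := inv_eq_of_mul_eq_one_right (u_sq M.z_sq)
  have e : a * u * a⁻¹ = u * d := by
    rw [← h, huu, show u * (u * a * u * a⁻¹) = u * u * (a * u * a⁻¹) by group, u_sq M.z_sq, one_mul]
  have hmem : g⁻¹ * (u * d) * g ∈ QG M.Q := M.mem_EU.1 (mul_mem (M.u_mem_EU g) h2)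
  have hc : g⁻¹ * (u * d) * g = (g⁻¹ * a * g) * z * (g⁻¹ * a * g)⁻¹ := by
    rw [← e, hu]; group
  have h0 := hW _ (hc ▸ hmem)
  rw [← hc] at h0
  apply hd
  have h1 : u * d = u := by
    rw [hu]
    calc g * z * g⁻¹ * d = g * (g⁻¹ * (g * z * g⁻¹ * d) * g) * g⁻¹ := by group
      _ = g * z * g⁻¹ := by rw [← hu, h0]
  exact mul_eq_left.1 h1

variable (hu : g * z * g⁻¹ ∈ centralizer ({z} : Set G))
variable {X : List ℕ} (hX : M.Acts ⟨g * z * g⁻¹, hu⟩ X)

include hX in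
theorem shift_cases {d a : ↥(QG M.Q)} (h : M.vec d = app X (M.vec a) ^^^ M.vec a) :
    g * z * g⁻¹ * a * (g * z * g⁻¹)⁻¹ * (a : G)⁻¹ = d ∨
      g * z * g⁻¹ * a * (g * z * g⁻¹)⁻¹ * (a : G)⁻¹ = d * z := by
  rw [← hX a, ← M.vec_inv a, ← M.vec_mul] at h
  exact M.eq_or_mul_z h

include hX in
theorem shift_eq (hW : M.Weak) {d a : ↥(QG M.Q)} (h2 : (d : G) ∈ M.EU g) (hd : (d : G) ≠ 1)
    (h : M.vec d = app X (M.vec a) ^^^ M.vec a) :
    g * z * g⁻¹ * a * (g * z * g⁻¹)⁻¹ * (a : G)⁻¹ = d * z :=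
  (M.shift_cases hu hX h).resolve_left (Moved.not_shift M hW h2 hd)

include hX in
/-- A displaced vector lying in D forces all lifts of fixed vectors to commute with u. -/
theorem full_of_shift (hW : M.Weak) {d a : ↥(QG M.Q)} (h2 : (d : G) ∈ M.EU g) (hd : (d : G) ≠ 1)
    (h : M.vec d = app X (M.vec a) ^^^ M.vec a) {w : ↥(QG M.Q)} (hw : app X (M.vec w) = M.vec w) :
    g * z * g⁻¹ * w = w * (g * z * g⁻¹) := by
  by_contra hne
  set u := g * z * g⁻¹ with hudef
  have hw' : u * (w : G) * u⁻¹ = w * z :=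
    (M.fix_cases hX hw).resolve_left fun e => hne (mul_inv_eq_iff_eq_mul.1 e)
  have ha := M.shift_eq hu hX hW h2 hd h
  rw [← hudef] at ha
  refine Moved.not_shift M hW h2 hd (a := (a : G) * w) ?_
  rw [← hudef]
  have ha' : u * (a : G) * u⁻¹ = d * z * a := by rw [← ha]; group
  rw [show u * ((a : G) * w) * u⁻¹ * ((a : G) * w)⁻¹ = (u * a * u⁻¹) * (u * w * u⁻¹) * (w : G)⁻¹ * (a : G)⁻¹ by group,
    hw', ha', mul_assoc ((d : G) * z * a), mul_assoc (w : G), M.z_comm (inv_mem w.2), ← mul_assoc (w : G),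
    mul_inv_cancel, one_mul, show (d : G) * z * a * z * (a : G)⁻¹ = d * z * (a * z * (a : G)⁻¹) by group,
    ← M.z_comm a.2, mul_inv_cancel_right, mul_assoc, M.z_sq, mul_one]

/-- The elements of the conjugate subgroup centralising z. -/
abbrev AU (g : G) : Subgroup G := centralizer ({z} : Set G) ⊓ M.EU g

theorem AU_pgroup (g : G) : IsPGroup 2 ↥(M.AU g) := (M.EU_pgroup g).to_le inf_le_right

theorem card_AU (hu : g * z * g⁻¹ ∈ centralizer ({z} : Set G)) : 64 ≤ Nat.card ↥(M.AU g) := by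
  set t := g⁻¹ * z * g with ht
  have hc := mem_centralizer_singleton_iff.1 hu
  have htm : t ∈ centralizer ({z} : Set G) := by
    rw [mem_centralizer_singleton_iff]
    calc t * z = g⁻¹ * (z * (g * z * g⁻¹)) * g := by rw [ht]; group
      _ = z * t := by rw [← hc, ht]; group
  obtain ⟨C, hC, hCt⟩ := M.exists_cols ⟨t, htm⟩
  have h2 : (⟨t, htm⟩ : ↥(centralizer ({z} : Set G))) * ⟨t, htm⟩ = 1 := Subtype.ext (by
    show t * t = 1
    rw [ht, show g⁻¹ * z * g * (g⁻¹ * z * g) = g⁻¹ * (z * z) * g by group, M.z_sq, mul_one, inv_mul_cancel])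
  have hinv := M.invol_app hCt (h2 ▸ one_mem _)
  have h1 := (invol_fix (fun n hn => (hinv n hn).1) fun n hn => (hinv n hn).2).1
  have h3 : (fixF C).card ≤ 2 * (M.commF C t).card := M.card_commF hCt
  have h4 : 2 * (M.commF C t).card ≤ Nat.card ↥(QG M.Q ⊓ centralizer ({t} : Set G)) :=
    M.card_centralizer_ge (c := ⟨t, htm⟩)
  have hle : (QG M.Q ⊓ centralizer ({t} : Set G)).map (MulAut.conj g).toMonoidHom ≤ M.AU g := by
    rintro _ ⟨e, ⟨he, hec⟩, rfl⟩
    refine ⟨?_, mem_map_of_mem _ he⟩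
    have hec' := mem_centralizer_singleton_iff.1 hec
    show g * e * g⁻¹ ∈ centralizer ({z} : Set G)
    rw [mem_centralizer_singleton_iff]
    calc g * e * g⁻¹ * z = g * (e * t) * g⁻¹ := by rw [ht]; group
      _ = z * (g * e * g⁻¹) := by rw [hec', ht]; group
  have h5 := Nat.le_of_dvd Nat.card_pos (card_dvd_of_le hle)
  rw [card_map_of_injective (MulAut.conj g).injective] at h5
  omega

end Model

end Cfsg.Agent.JankoFour
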