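import Cfsg.Agent.Lib.JankoFour.OrbitBase
import Cfsg.Agent.Lib.JankoFour.FusedPair
import Cfsg.Agent.Lib.Small.SylowToolkit
import Mathlib.GroupTheory.Sylow

/-!
Elements of order 241 or 89 in the normaliser of the large abelian subgroup, and the case of a single
transitive hyperplane.
-/

set_option autoImplicit false
set_option linter.unusedSectionVars false
set_option linter.style.haveILetI false
set_option maxRecDepth 100000

namespace Cfsg.Agent.JankoFour

open Subgroup
open Cfsg.Agent.LargeFischer (QG)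
open Cfsg.Agent.J4Module (app elemI)
open Cfsg.Agent.J4Module.Data

variable {G : Type*} [Group G] [Finite G] {z : G} {P : Subgroup G}

/-- A subgroup normalised by an element of prime order is congruent to its centralised part. -/
theorem card_fixed_modEq {p : ℕ} [Fact p.Prime] {g : G} (hg : orderOf g = p) {K : Subgroup G}
    (hK : g ∈ normalizer (K : Set G)) :
    Nat.card ↥(K ⊓ centralizer ({g} : Set G) : Subgroup G) % p = Nat.card ↥K % p := by
  have hmem : ∀ x ∈ zpowers g, ∀ k ∈ K, x * k * x⁻¹ ∈ K := fun x hx k hk =>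
    (Subgroup.mem_normalizer_iff.1 (zpowers_le.2 hK hx) k).1 hk
  letI act : MulAction ↥(zpowers g) ↥K :=
    { smul := fun x k => ⟨x.1 * k.1 * x.1⁻¹, hmem x.1 x.2 k.1 k.2⟩
      one_smul := fun k => Subtype.ext (show (1 : G) * k.1 * 1⁻¹ = k.1 by group)
      mul_smul := fun x y k => Subtype.ext (show (x.1 * y.1) * k.1 * (x.1 * y.1)⁻¹ =
        x.1 * (y.1 * k.1 * y.1⁻¹) * x.1⁻¹ by group) }
  have hp : IsPGroup p ↥(zpowers g) := IsPGroup.of_card (n := 1) (by rw [Nat.card_zpowers, hg, pow_one])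
  refine Eq.trans (congrArg (· % p) ?_) (hp.card_modEq_card_fixedPoints ↥K).symm
  refine Nat.card_congr
    { toFun := fun k => ⟨⟨k.1, k.2.1⟩, fun x => Subtype.ext ?_⟩
      invFun := fun k => ⟨k.1.1, k.1.2, mem_centralizer_singleton_iff.2 ?_⟩
      left_inv := fun k => rfl
      right_inv := fun k => rfl }
  · obtain ⟨i, hi⟩ := x.2
    have hc : Commute g k.1 := (mem_centralizer_singleton_iff.1 k.2.2).symm
    show x.1 * k.1 * x.1⁻¹ = k.1
    rw [← hi]
    exact mul_inv_eq_iff_eq_mul.2 (hc.zpow_left i).eq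
  · have h : g * k.1.1 * g⁻¹ = k.1.1 := congrArg Subtype.val (k.2 ⟨g, mem_zpowers g⟩)
    exact (mul_inv_eq_iff_eq_mul.1 h).symm

namespace BigCoords

variable {M : Model z P} {B : BigData M} (C : BigCoords B)
include C

theorem sub_pow {K : Subgroup G} (hK : K ≤ B.V) : ∃ k ≤ 11, Nat.card ↥K = 2 ^ k := by
  have h := card_dvd_of_le hK
  rw [B.card, show (2048 : ℕ) = 2 ^ 11 by norm_num] at h
  exact (Nat.dvd_prime_pow Nat.prime_two).1 h

theorem not_centralizes {p : ℕ} [Fact p.Prime] (hp : p ≠ 2) {g : G} (hg : orderOf g = p) :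
    ¬ B.V ≤ centralizer ({g} : Set G) := by
  intro h
  have hgV : g ∈ B.V := by
    rw [← B.cent, mem_centralizer_iff]
    exact fun a ha => mem_centralizer_singleton_iff.1 (h ha)
  have h2 : orderOf g ∣ 2 := orderOf_dvd_of_pow_eq_one (by rw [pow_two]; exact B.sq g hgV)
  rw [hg, Nat.prime_dvd_prime_iff_eq Fact.out Nat.prime_two] at h2
  exact hp h2

theorem not_241 (h : Nat.card ↥(normalizer (B.V : Set G)) = 241 * (2 ^ 21 * 135)) : False := by
  haveI : Fact (Nat.Prime 241) := ⟨by norm_num⟩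
  obtain ⟨g, hg⟩ := exists_prime_orderOf_dvd_card' 241 (h ▸ Dvd.intro _ rfl)
  rw [← orderOf_coe] at hg
  have hmod := card_fixed_modEq hg (K := B.V) g.2
  obtain ⟨k, hk, e⟩ := C.sub_pow (K := B.V ⊓ centralizer ({(g : G)} : Set G)) inf_le_left
  rw [e, B.card] at hmod
  have h11 := (Orb.pow_mod k hk).1 hmod
  subst h11
  refine C.not_centralizes (by norm_num) hg ?_
  have hle : B.V ⊓ centralizer ({(g : G)} : Set G) = B.V :=
    eq_of_le_of_card_ge inf_le_left (by rw [e, B.card]; norm_num)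
  exact hle.ge.trans inf_le_right

theorem not_89 (h : Nat.card ↥(normalizer (B.V : Set G)) = 2047 * (2 ^ 21 * 135)) : False := by
  classical
  haveI : Fact (Nat.Prime 89) := ⟨by norm_num⟩
  set N := normalizer (B.V : Set G) with hN
  obtain ⟨g, hg⟩ := exists_prime_orderOf_dvd_card' (G := ↥N) 89 (by rw [h]; norm_num)
  have hgG : orderOf (g : G) = 89 := by rw [orderOf_coe, hg]
  -- no non-identity element of V commutes with g
  have hfix : B.V ⊓ centralizer ({(g : G)} : Set G) = ⊥ := by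
    obtain ⟨k, hk, e⟩ := C.sub_pow (K := B.V ⊓ centralizer ({(g : G)} : Set G)) inf_le_left
    have hmod := card_fixed_modEq hgG (K := B.V) g.2
    rw [e, B.card] at hmod
    rcases (Orb.pow_mod k hk).2.2 hmod with rfl | rfl
    · exact Subgroup.eq_bot_of_card_eq _ e
    · refine absurd ?_ (C.not_centralizes (by norm_num) hgG)
      have hle : B.V ⊓ centralizer ({(g : G)} : Set G) = B.V :=
        eq_of_le_of_card_ge inf_le_left (by rw [e, B.card]; norm_num)
      exact hle.ge.trans inf_le_right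
  set Z : Subgroup ↥N := centralizer ((zpowers g : Subgroup ↥N) : Set ↥N) with hZ
  have hfree : ∀ c : ↥N, c ∈ Z → ∀ a ∈ B.V, a ≠ 1 → (c : G) * a * (c : G)⁻¹ = a → c = 1 := by
    intro c hc a ha hne hca
    have hcg : (c : G) * g = g * c :=
      congrArg Subtype.val ((mem_centralizer_iff.1 hc g (mem_zpowers g)).symm)
    set K := B.V ⊓ centralizer ({(c : G)} : Set G) with hK
    have hgn : (g : G) ∈ normalizer (K : Set G) := by
      refine mem_normalizer_fintype fun x hx => ?_
      have hx2 := mem_centralizer_singleton_iff.1 hx.2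
      refine mem_inf.2 ⟨(Subgroup.mem_normalizer_iff.1 g.2 x).1 hx.1, mem_centralizer_singleton_iff.2 ?_⟩
      calc (g : G) * x * (g : G)⁻¹ * c = g * x * ((g : G)⁻¹ * (c * g)) * (g : G)⁻¹ := by group
        _ = g * (x * c) * (g : G)⁻¹ := by rw [hcg]; group
        _ = (g * c) * x * (g : G)⁻¹ := by rw [hx2]; group
        _ = c * (g * x * (g : G)⁻¹) := by rw [← hcg]; group
    have hbot : K ⊓ centralizer ({(g : G)} : Set G) = ⊥ := by
      rw [eq_bot_iff, ← hfix]
      exact inf_le_inf_right _ inf_le_left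
    have hmod := card_fixed_modEq hgG hgn
    rw [hbot, Subgroup.card_bot] at hmod
    obtain ⟨k, hk, e⟩ := C.sub_pow (K := K) inf_le_left
    rw [e] at hmod
    rcases (Orb.pow_mod k hk).2.1 hmod.symm with rfl | rfl
    · exfalso
      have haK : a ∈ K := ⟨ha, mem_centralizer_singleton_iff.2 (mul_inv_eq_iff_eq_mul.1 hca).symm⟩
      rw [Subgroup.eq_bot_of_card_eq K e, mem_bot] at haK
      exact hne haK
    · have hKV : K = B.V := eq_of_le_of_card_ge inf_le_left (by rw [e, B.card]; norm_num)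
      have hcV : (c : G) ∈ B.V := by
        rw [← B.cent, mem_centralizer_iff]
        exact fun x hx => mem_centralizer_singleton_iff.1 (hKV.symm ▸ hx : x ∈ K).2
      have : (c : G) ∈ B.V ⊓ centralizer ({(g : G)} : Set G) := ⟨hcV, mem_centralizer_singleton_iff.2 hcg⟩
      rw [hfix, mem_bot] at this
      exact Subtype.ext this
  have hZ2047 : Nat.card ↥Z ∣ 2047 := by
    let X := {a : ↥B.V // a ≠ 1}
    letI act : MulAction ↥Z X :=
      { smul := fun c a => ⟨⟨(c.1 : G) * a.1.1 * (c.1 : G)⁻¹, (Subgroup.mem_normalizer_iff.1 c.1.2 a.1.1).1 a.1.2⟩,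
          fun e => a.2 (Subtype.ext (conj_eq_one_iff.1 (congrArg Subtype.val e)))⟩
        one_smul := fun a => Subtype.ext (Subtype.ext (show (1 : G) * a.1.1 * 1⁻¹ = a.1.1 by group))
        mul_smul := fun c d a => Subtype.ext (Subtype.ext (show (c.1 : G) * d.1 * a.1.1 * ((c.1 : G) * d.1)⁻¹ =
          (c.1 : G) * ((d.1 : G) * a.1.1 * (d.1 : G)⁻¹) * (c.1 : G)⁻¹ by group)) }
    have hX : Nat.card X = 2047 := by
      letI := Fintype.ofFinite ↥B.V
      rw [Nat.card_eq_fintype_card, Fintype.card_subtype_compl, Fintype.card_subtype_eq,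
        ← Nat.card_eq_fintype_card, B.card]
    rw [← hX, Nat.card_congr (MulAction.selfEquivSigmaOrbitsQuotientStabilizer ↥Z X)]
    letI := Fintype.ofFinite (Quotient (MulAction.orbitRel ↥Z X))
    rw [Nat.card_sigma]
    refine Finset.dvd_sum fun ω _ => ?_
    have hst : MulAction.stabilizer ↥Z ω.out = ⊥ := by
      rw [eq_bot_iff]
      intro c hc
      exact mem_bot.2 (Subtype.ext (hfree c.1 c.2 _ ω.out.1.2 (fun e => ω.out.2 (Subtype.ext e))
        (congrArg (fun a : X => (a.1 : G)) hc)))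
    rw [hst, Nat.card_congr QuotientGroup.quotientBot.toEquiv]
  -- the Sylow count
  have hS : Nat.card ↥(zpowers g) = 89 ^ (Nat.card ↥N).factorization 89 := by
    rw [Nat.card_zpowers, hg, h, show 2047 * (2 ^ 21 * 135) = 89 * (23 * (2 ^ 21 * 135)) by norm_num,
      Nat.factorization_mul (by norm_num) (by norm_num), Finsupp.add_apply,
      Nat.Prime.factorization_self (by norm_num), Nat.factorization_eq_zero_of_not_dvd (by norm_num), pow_one]
  set S : Sylow 89 ↥N := Sylow.ofCard (zpowers g) hS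
  have hmodS := card_sylow_modEq_one 89 ↥N
  rw [S.card_eq_index_normalizer] at hmodS
  set NS := normalizer ((S : Subgroup ↥N) : Set ↥N) with hNS
  have hidx := NS.card_mul_index
  rw [h] at hidx
  have hdiv : Nat.card ↥NS ∣ Nat.card ↥Z * 88 := by
    have := Small.card_normalizer_dvd (p := 89) (zpowers g) (by rw [Nat.card_zpowers, hg])
    exact this
  have hZNS : Nat.card ↥Z ∣ Nat.card ↥NS := card_dvd_of_le (centralizer_le_normalizer _)
  have h89 : 89 ∣ Nat.card ↥Z := by
    rw [← hg, ← Nat.card_zpowers]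
    refine card_dvd_of_le (zpowers_le.2 (mem_centralizer_iff.2 fun x hx => ?_))
    obtain ⟨i, rfl⟩ := hx
    exact ((Commute.refl g).zpow_left i).eq
  obtain ⟨j, hj⟩ := hZNS
  rw [hj] at hdiv hidx
  have hj88 : j ∣ 88 := Nat.dvd_of_mul_dvd_mul_left Nat.card_pos hdiv
  have hmod1 : NS.index % 89 = 1 := hmodS
  have hpos : 0 < j := Nat.pos_of_ne_zero fun e => by
    rw [e] at hj88
    norm_num at hj88
  obtain ⟨a, ha⟩ := h89
  have ha23 : a ∣ 23 := by
    have := hZ2047
    rw [ha, show (2047 : ℕ) = 89 * 23 by norm_num] at this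
    exact Nat.dvd_of_mul_dvd_mul_left (by norm_num) this
  rw [ha] at hidx
  rcases (Nat.dvd_prime (by norm_num : Nat.Prime 23)).1 ha23 with rfl | rfl
  all_goals
    have hj8 : j ∈ Nat.divisors 88 := Nat.mem_divisors.2 ⟨hj88, by norm_num⟩
    rw [show Nat.divisors 88 = {1, 2, 4, 8, 11, 22, 44, 88} from by decide +kernel] at hj8
    simp only [Finset.mem_insert, Finset.mem_singleton] at hj8
    rcases hj8 with rfl | rfl | rfl | rfl | rfl | rfl | rfl | rfl <;> norm_num at hidx <;> omega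

theorem E_normalizes (q : ↥(QG M.Q)) : (q : G) ∈ normalizer (B.V : Set G) := by
  refine mem_normalizer_fintype fun c hc => ?_
  set c' : ↥(centralizer ({z} : Set G)) := ⟨c, B.le_cent hc⟩
  obtain ⟨i, hi, hci⟩ := B.img c' hc
  have he : (q : G) * c * (q : G)⁻¹ * c⁻¹ ∈ QG M.Q := by
    rw [show (q : G) * c * (q : G)⁻¹ * c⁻¹ = q * (c * (q : G)⁻¹ * c⁻¹) by group]
    exact mul_mem q.2 (M.conj_E (B.le_cent hc) (inv_mem q.2))
  have hV : (q : G) * c * (q : G)⁻¹ * c⁻¹ ∈ B.V := by
    refine (B.inf_Q ⟨_, he⟩).2 ?_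
    have hv : M.vec ⟨_, he⟩ = M.vec q ^^^ app (elemI i) (M.vec q) := by
      rw [← hci q, ← M.vec_inv (M.ctx.conjQ c' q), ← M.vec_mul]
      exact congrArg M.vec (Subtype.ext (show (q : G) * c * (q : G)⁻¹ * c⁻¹ = q * (c * q * c⁻¹)⁻¹ by group))
    refine hex_perp _ (M.vec_lt _) fun b hb => ?_
    obtain ⟨x, hx⟩ := M.vec_surj b (hex_basis.2.1 b hb).1
    have hxV : (x : G) ∈ B.V := (B.inf_Q x).2 (hx ▸ (hex_basis.2.1 b hb).2)
    have hfix : app (elemI i) (M.vec x) = M.vec x := by
      refine M.fixed_of_conj hci (show (c : G) * x = x * c from ?_)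
      have h1 : x.1 ∈ centralizer (B.V : Set G) := B.cent.symm ▸ hxV
      exact mem_centralizer_iff.1 h1 c hc
    have h3 := M.bbit_app hci (M.vec_lt q) (M.vec_lt x)
    rw [hfix] at h3
    rw [hv, ← hx, M.bbit_xor (M.vec_lt _) (hci q ▸ M.vec_lt _) (M.vec_lt _), h3]
    exact Bool.xor_self _
  have := mul_mem hV hc
  rwa [inv_mul_cancel_right] at this

end BigCoords

end Cfsg.Agent.JankoFour
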