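import Cfsg.Agent.Lib.JankoFour.TwoCentralizerMain
import Cfsg.Agent.Lib.JankoFour.ElevenMathieu
import Cfsg.Agent.Lib.JankoFour.OrbitExclude
import Mathlib.GroupTheory.Transfer

/-!
Elements of order eleven in the normaliser of the large abelian subgroup: their centraliser there, and the odd
normal complement in their centraliser.
-/

set_option autoImplicit false
set_option linter.unusedSectionVars false
set_option linter.style.haveILetI false

namespace Cfsg.Agent.JankoFour

open Subgroup
open Cfsg (GolayPt M24)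

variable {G : Type*} [Group G] [Finite G]

/-- An involution in a group of order not divisible by four has an odd normal complement. -/
theorem exists_odd_complement {X : Subgroup G} {t : G} (htX : t ∈ X) (ht : orderOf t = 2)
    (h4 : ¬ 4 ∣ Nat.card ↥X) :
    ∃ O : Subgroup G, O ≤ X ∧ Nat.card ↥X = 2 * Nat.card ↥O ∧ Odd (Nat.card ↥O) ∧
      ∀ c ∈ X, Odd (orderOf c) → c ∈ O := by
  classical
  haveI : Fact (Nat.Prime 2) := ⟨Nat.prime_two⟩
  have h2 : 2 ∣ Nat.card ↥X := ht ▸ Subgroup.orderOf_dvd_natCard X htX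
  obtain ⟨S⟩ : Nonempty (Sylow 2 ↥X) := inferInstance
  obtain ⟨k, hk⟩ := S.2.exists_card_eq
  have hk1 : k = 1 := by
    have hd : 2 ^ k ∣ Nat.card ↥X := hk ▸ card_subgroup_dvd_card _
    refine le_antisymm ?_ ?_
    · by_contra hc
      exact h4 ((pow_dvd_pow 2 (show 2 ≤ k by omega)).trans hd)
    · refine Nat.pos_of_ne_zero fun h0 => ?_
      have := S.dvd_card_of_dvd_card h2
      rw [hk, h0] at this
      norm_num at this
  have hcyc : IsCyclic ↥(S : Subgroup ↥X) := isCyclic_of_prime_card (p := 2) (by rw [hk, hk1, pow_one])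
  have hP := IsCyclic.normalizer_le_centralizer ((Nat.minFac_eq_two_iff _).2 h2) hcyc
  set K := (MonoidHom.transferSylow S hP).ker
  have hc := (MonoidHom.ker_transferSylow_isComplement' S hP).card_mul_card
  rw [hk, hk1, pow_one] at hc
  have hodd : Odd (Nat.card ↥K) := by
    rw [Nat.odd_iff]
    by_contra h
    refine h4 ?_
    rw [← hc]
    exact mul_dvd_mul (show 2 ∣ Nat.card ↥K by omega) dvd_rfl
  refine ⟨K.map X.subtype, map_subtype_le _, ?_, ?_, fun c hc' ho => ⟨⟨c, hc'⟩, ?_, rfl⟩⟩
  · rw [card_map_of_injective X.subtype_injective, ← hc, mul_comm]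
  · rwa [card_map_of_injective X.subtype_injective]
  · show MonoidHom.transferSylow S hP ⟨c, hc'⟩ = 1
    refine orderOf_eq_one_iff.1 (Nat.eq_one_of_dvd_coprimes ((Nat.coprime_two_right.2 ho).symm) ?_ ?_)
    · exact (_root_.orderOf_dvd_natCard _).trans (by rw [hk, hk1, pow_one])
    · exact (orderOf_map_dvd _ _).trans (by rw [Subgroup.orderOf_mk])

namespace BigPack

variable {z : G} {V : Subgroup G} (D : BigPack z V)
include D

theorem comm_V {a b : G} (ha : a ∈ V) (hb : b ∈ V) : a * b = b * a := D.cocode.comm ha hb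

theorem card_normalizer_eq : Nat.card ↥(normalizer (V : Set G)) = 2048 * 244823040 := by
  have h := Subgroup.card_eq_card_quotient_mul_card_subgroup D.phi.ker
  rw [Nat.card_congr (QuotientGroup.quotientKerEquivOfSurjective D.phi D.phi_surj).toEquiv, Golay.card_M24,
    D.phi_ker, Nat.card_congr (subgroupOfEquivOfLe (le_normalizer : V ≤ normalizer (V : Set G))).toEquiv,
    D.card] at h
  rw [h, mul_comm]

theorem phi_eq_one {n : ↥(normalizer (V : Set G))} : D.phi n = 1 ↔ (n : G) ∈ V := by
  rw [← MonoidHom.mem_ker, D.phi_ker, mem_subgroupOf]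

theorem not_mem_V {y : G} {q : ℕ} [Fact q.Prime] (hy : orderOf y = q) (hq : q ≠ 2) : y ∉ V := fun h => by
  have h2 : orderOf y ∣ 2 := orderOf_dvd_of_pow_eq_one (by rw [pow_two]; exact D.sq y h)
  rw [hy, Nat.prime_dvd_prime_iff_eq Fact.out Nat.prime_two] at h2
  exact hq h2

theorem card_sub_V {K : Subgroup G} (hK : K ≤ V) : ∃ k ≤ 11, Nat.card ↥K = 2 ^ k := by
  have h := card_dvd_of_le hK
  rw [D.card, show (2048 : ℕ) = 2 ^ 11 by norm_num] at h
  exact (Nat.dvd_prime_pow Nat.prime_two).1 h

theorem orderOf_phi {y : G} (hy : orderOf y = 11) (hyN : y ∈ normalizer (V : Set G)) :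
    orderOf (D.phi ⟨y, hyN⟩) = 11 := by
  haveI : Fact (Nat.Prime 11) := ⟨by norm_num⟩
  refine orderOf_eq_prime ?_ fun h => D.not_mem_V hy (by norm_num) (D.phi_eq_one.1 h)
  rw [← map_pow, show (⟨y, hyN⟩ : ↥(normalizer (V : Set G))) ^ 11 = 1 from
    Subtype.ext (by rw [Subgroup.coe_pow, ← hy, pow_orderOf_eq_one]; rfl), map_one]

/-- An element of order eleven centralises a subgroup of order two of the subgroup. -/
theorem card_fix_eleven {y : G} (hy : orderOf y = 11) (hyN : y ∈ normalizer (V : Set G)) :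
    Nat.card ↥(V ⊓ centralizer ({y} : Set G) : Subgroup G) = 2 := by
  haveI : Fact (Nat.Prime 11) := ⟨by norm_num⟩
  have hmod := card_fixed_modEq hy (K := V) hyN
  obtain ⟨k, hk, e⟩ := D.card_sub_V (K := V ⊓ centralizer ({y} : Set G)) inf_le_left
  rw [e, D.card] at hmod
  interval_cases k <;> try norm_num at hmod
  · exact e
  · exfalso
    have hle : V ⊓ centralizer ({y} : Set G) = V := eq_of_le_of_card_ge inf_le_left (by rw [e, D.card]; norm_num)
    refine D.not_mem_V hy (by norm_num) ?_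
    rw [← D.cent, mem_centralizer_iff]
    exact fun a ha => mem_centralizer_singleton_iff.1 ((hle.ge.trans inf_le_right) ha)

theorem fix_eleven_cases {y t : G} (hy : orderOf y = 11) (hyN : y ∈ normalizer (V : Set G)) (htV : t ∈ V)
    (ht1 : t ≠ 1) (hty : t * y = y * t) {v : G} (hv : v ∈ V) (hvy : v * y = y * v) : v = 1 ∨ v = t := by
  classical
  set K := V ⊓ centralizer ({y} : Set G) with hK
  by_contra hc
  push Not at hc
  have hmem : ∀ w ∈ V, w * y = y * w → w ∈ K := fun w hw h => mem_inf.2 ⟨hw, mem_centralizer_singleton_iff.2 h⟩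
  have h3 : 3 ≤ Nat.card ↥K := by
    have := Nat.card_le_card_of_injective
      (![(⟨1, one_mem K⟩ : ↥K), ⟨t, hmem t htV hty⟩, ⟨v, hmem v hv hvy⟩]) (by
        intro i j h
        fin_cases i <;> fin_cases j <;> first | rfl |
          simp [Subtype.ext_iff, ht1, ht1.symm, hc.1, hc.1.symm, hc.2, hc.2.symm] at h)
    simpa using this
  rw [hK, D.card_fix_eleven hy hyN] at h3
  omega

/-- The centraliser of such an element in the normaliser has order twenty-two. -/
theorem cent_eleven_cases {y t : G} (hy : orderOf y = 11) (hyN : y ∈ normalizer (V : Set G)) (htV : t ∈ V)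
    (ht1 : t ≠ 1) (hty : t * y = y * t) {n : G} (hn : n ∈ normalizer (V : Set G)) (hny : n * y = y * n) :
    ∃ i : ℕ, n = y ^ i ∨ n = t * y ^ i := by
  classical
  set yN : ↥(normalizer (V : Set G)) := ⟨y, hyN⟩
  set nN : ↥(normalizer (V : Set G)) := ⟨n, hn⟩
  have ho := D.orderOf_phi hy hyN
  set C := centralizer ({D.phi yN} : Set ↥M24)
  have hC : C = zpowers (D.phi yN) := (eq_of_le_of_card_ge
    (zpowers_le.2 (mem_centralizer_singleton_iff.2 rfl))
    (by rw [ElevenM24.card_centralizer ho, Nat.card_zpowers, ho])).symm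
  have hmem : D.phi nN ∈ C := mem_centralizer_singleton_iff.2 (by
    rw [← map_mul, ← map_mul]; exact congrArg D.phi (Subtype.ext hny))
  rw [hC, ← mem_powers_iff_mem_zpowers] at hmem
  obtain ⟨i, hi⟩ := hmem
  have hv : n * (y ^ i)⁻¹ ∈ V := by
    have h1 : D.phi (nN * (yN ^ i)⁻¹) = 1 := by
      rw [map_mul, map_inv, map_pow, ← (hi : D.phi yN ^ i = D.phi nN), mul_inv_cancel]
    exact D.phi_eq_one.1 h1
  refine ⟨i, ?_⟩
  rcases D.fix_eleven_cases hy hyN htV ht1 hty hv
    (((show Commute n y from hny).mul_left ((Commute.refl y).pow_left i).inv_left).eq) with h | h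
  · exact Or.inl (mul_inv_eq_one.1 h)
  · exact Or.inr (mul_inv_eq_iff_eq_mul.1 h)

/-- An element of odd order there is a power. -/
theorem cent_eleven_odd {y t : G} (hy : orderOf y = 11) (hyN : y ∈ normalizer (V : Set G)) (htV : t ∈ V)
    (ht1 : t ≠ 1) (hty : t * y = y * t) {n : G} (hn : n ∈ normalizer (V : Set G)) (hny : n * y = y * n)
    (ho : Odd (orderOf n)) : n ∈ zpowers y := by
  obtain ⟨i, h | h⟩ := D.cent_eleven_cases hy hyN htV ht1 hty hn hny
  · rw [h]; exact pow_mem (mem_zpowers y) i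
  exfalso
  obtain ⟨m, hm⟩ := ho
  have hc : Commute t (y ^ i) := (show Commute t y from hty).pow_right i
  have h2 : n ^ (2 * (11 * m) + 11) = t := by
    rw [h, hc.mul_pow, pow_add, pow_mul, pow_two, D.sq t htV, one_pow, one_mul, ← pow_mul,
      show (i * (2 * (11 * m) + 11)) = 11 * (i * (2 * m + 1)) by ring, pow_mul, ← hy, pow_orderOf_eq_one,
      one_pow, mul_one, show orderOf y = 2 * 5 + 1 from hy, pow_add, pow_mul, pow_two, D.sq t htV, one_pow,
      one_mul, pow_one]
  rw [show 2 * (11 * m) + 11 = 11 * orderOf n by omega, mul_comm, pow_mul, pow_orderOf_eq_one, one_pow] at h2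
  exact ht1 h2.symm

/-- An involution there is the given one. -/
theorem cent_eleven_invol {y t : G} (hy : orderOf y = 11) (hyN : y ∈ normalizer (V : Set G)) (htV : t ∈ V)
    (ht1 : t ≠ 1) (hty : t * y = y * t) {n : G} (hn : n ∈ normalizer (V : Set G)) (hny : n * y = y * n)
    (h2 : n * n = 1) (hn1 : n ≠ 1) : n = t := by
  obtain ⟨i, h | h⟩ := D.cent_eleven_cases hy hyN htV ht1 hty hn hny
  · exfalso
    refine hn1 (orderOf_eq_one_iff.1 (Nat.eq_one_of_dvd_coprimes (show Nat.Coprime 2 11 by norm_num)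
      (orderOf_dvd_of_pow_eq_one (by rw [pow_two, h2])) ?_))
    rw [h]
    exact hy ▸ orderOf_pow_dvd i
  · have hc : Commute t (y ^ i) := (show Commute t y from hty).pow_right i
    rw [h] at h2
    rw [show t * y ^ i * (t * y ^ i) = (t * y ^ i) ^ 2 from (pow_two _).symm, hc.mul_pow, pow_two, D.sq t htV,
      one_mul, ← pow_mul] at h2
    have hd := orderOf_dvd_of_pow_eq_one h2
    rw [hy] at hd
    rcases (by norm_num : Nat.Prime 11).dvd_mul.1 hd with hd | hd
    · obtain ⟨j, rfl⟩ := hd
      rw [h, pow_mul, ← hy, pow_orderOf_eq_one, one_pow, mul_one]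
    · norm_num at hd

end BigPack

end Cfsg.Agent.JankoFour
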