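import Cfsg.Agent.Lib.JankoFour.ElevenFull

/-!
The odd core of the centraliser of the element of order eleven is a Sylow subgroup of order 1331.
-/

set_option autoImplicit false
set_option linter.unusedSectionVars false
set_option linter.style.haveILetI false

namespace Cfsg.Agent.JankoFour

open Subgroup

variable {G : Type*} [Group G] [Finite G] {z : G} {P : Subgroup G} {M : Model z P} {F : M.Eleven}

namespace Model.Eleven.Core

variable (K : F.Core)
include K

/-- The part of the core at a prime other than eleven. -/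
def part {p : ℕ} (hp : p.Prime) (hp11 : p ≠ 11) : Subgroup G where
  carrier := {r | r ∈ K.O ∧ ∃ k, r ^ p ^ k = 1}
  one_mem' := ⟨one_mem _, 0, one_pow _⟩
  mul_mem' := fun {a b} ⟨ha, i, hi⟩ ⟨hb, j, hj⟩ => ⟨mul_mem ha hb, i + j, by
    rw [(show Commute a b from (K.prime_central hp hp11 ha hb hi).symm).mul_pow, pow_add,
      pow_mul, hi, one_pow, one_mul, mul_comm, pow_mul, hj, one_pow]⟩
  inv_mem' := fun {a} ⟨ha, i, hi⟩ => ⟨inv_mem ha, i, by rw [inv_pow, hi, inv_one]⟩

theorem part_isPGroup {p : ℕ} (hp : p.Prime) (hp11 : p ≠ 11) : IsPGroup p ↥(K.part hp hp11) := fun r => by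
  obtain ⟨k, hk⟩ := r.2.2
  exact ⟨k, Subtype.ext (by rw [SubmonoidClass.coe_pow]; exact hk)⟩

theorem part_conj {p : ℕ} (hp : p.Prime) (hp11 : p ≠ 11) {g r : G}
    (hg : g ∈ centralizer ({(F.c : G)} : Set G)) (hr : r ∈ K.part hp hp11) : g * r * g⁻¹ ∈ K.part hp hp11 :=
  ⟨K.conj_mem g hg r hr.1, hr.2.choose, by rw [conj_pow, hr.2.choose_spec]; group⟩

theorem part_small {p : ℕ} (hp : p.Prime) (hp11 : p ≠ 11) {r : G} (hr : r ∈ K.part hp hp11)
    (hrx : r ∈ zpowers (F.c : G)) : r = 1 := by
  obtain ⟨k, hk⟩ := hr.2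
  refine orderOf_eq_one_iff.1 (Nat.eq_one_of_dvd_coprimes
    (((Nat.coprime_primes hp (by norm_num : Nat.Prime 11)).2 hp11).pow_left k) (orderOf_dvd_of_pow_eq_one hk) ?_)
  exact F.order' ▸ orderOf_dvd_of_mem_zpowers hrx

theorem not_three (D : BigData M) (B : BigPack z D.V) : ¬ 3 ∣ Nat.card ↥K.O := by
  intro h
  haveI : Fact (Nat.Prime 3) := ⟨Nat.prime_three⟩
  obtain ⟨⟨r, hrO⟩, hr⟩ := exists_prime_orderOf_dvd_card' 3 h
  rw [Subgroup.orderOf_mk] at hr
  set R := K.part Nat.prime_three (by norm_num : (3 : ℕ) ≠ 11)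
  have hrR : r ∈ R := ⟨hrO, 1, by rw [pow_one, ← hr, pow_orderOf_eq_one]⟩
  have hp3 : orderOf (M.pElem : G) = 3 := by
    rw [← Nat.card_zpowers]
    exact (congrArg (fun Q : Subgroup G => Nat.card ↥Q) M.p_gen).trans M.card_P
  have hpX : (M.pElem : G) ∈ centralizer ({(F.c : G)} : Set G) := mem_centralizer_singleton_iff.2 F.p_comm
  have hn : (M.pElem : G) ∈ normalizer (R : Set G) := mem_normalizer_fintype fun a ha => K.part_conj _ _ hpX ha
  have hmod := card_fixed_modEq hp3 (K := R) hn
  obtain ⟨k, hk⟩ := IsPGroup.iff_card.1 (K.part_isPGroup Nat.prime_three (by norm_num : (3 : ℕ) ≠ 11))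
  have hk0 : k ≠ 0 := fun e => by
    have h1 : Nat.card ↥R = 1 := by rw [hk, e, pow_zero]
    have := Subgroup.orderOf_dvd_natCard R hrR
    rw [hr, h1] at this
    norm_num at this
  rw [hk, Nat.mod_eq_zero_of_dvd (dvd_pow_self 3 hk0)] at hmod
  have hne : R ⊓ centralizer ({(M.pElem : G)} : Set G) ≠ ⊥ := fun e => by
    rw [e, Subgroup.card_bot] at hmod; norm_num at hmod
  obtain ⟨⟨a, ha⟩, ha1'⟩ := (Subgroup.ne_bot_iff_exists_ne_one).1 hne
  have ha1 : a ≠ 1 := fun e => ha1' (Subtype.ext e)
  have haP : a ∈ centralizer (P : Set G) := by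
    rw [← M.p_gen, Subgroup.zpowers_eq_closure, Subgroup.centralizer_closure]
    exact ha.2
  have haz : a * z = z * a := mem_centralizer_singleton_iff.1 (D.centP_le B haP)
  exact ha1 (K.part_small _ _ ha.1 (K.inf a ha.1.1 haz))

theorem not_prime (D : BigData M) (B : BigPack z D.V) (hord : Nat.card G = 86775571046077562880) {p : ℕ}
    (hp : p.Prime) (hp11 : p ≠ 11) : ¬ p ∣ Nat.card ↥K.O := by
  intro h
  have h2 : p ≠ 2 := by
    rintro rfl
    have := K.odd
    rw [Nat.odd_iff] at this
    omega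
  have h3 : p ≠ 3 := fun e => K.not_three D B (e ▸ h)
  haveI := Fact.mk hp
  obtain ⟨⟨r, hrO⟩, hr⟩ := exists_prime_orderOf_dvd_card' p h
  rw [Subgroup.orderOf_mk] at hr
  set R := K.part hp hp11
  have hrR : r ∈ R := ⟨hrO, 1, by rw [pow_one, ← hr, pow_orderOf_eq_one]⟩
  obtain ⟨k, hk⟩ := IsPGroup.iff_card.1 (K.part_isPGroup hp hp11)
  have hk1 : k ≤ 1 := by
    by_contra hc
    have hd : p ^ 2 ∣ Nat.card G := (pow_dvd_pow p (by omega : 2 ≤ k)).trans (hk ▸ card_subgroup_dvd_card R)
    rw [hord, show (86775571046077562880 : ℕ) = 2 ^ 21 * 3 ^ 3 * 11 ^ 3 * (5 * 7 * 23 * 29 * 31 * 37 * 43) by norm_num] at hd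
    have hc1 : Nat.Coprime (p ^ 2) (2 ^ 21 * 3 ^ 3 * 11 ^ 3) := by
      refine (((Nat.Coprime.pow _ _ ((Nat.coprime_primes hp Nat.prime_two).2 h2)).mul_right
        (Nat.Coprime.pow _ _ ((Nat.coprime_primes hp Nat.prime_three).2 h3))).mul_right
        (Nat.Coprime.pow _ _ ((Nat.coprime_primes hp (by norm_num)).2 hp11)))
    have hd2 := hc1.dvd_of_dvd_mul_left hd
    have hp' : p = 5 ∨ p = 7 ∨ p = 23 ∨ p = 29 ∨ p = 31 ∨ p = 37 ∨ p = 43 := by
      have h1 := (dvd_pow_self p two_ne_zero).trans hd2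
      rcases hp.dvd_mul.1 h1 with h1 | h1
      · rcases hp.dvd_mul.1 h1 with h1 | h1
        · rcases hp.dvd_mul.1 h1 with h1 | h1
          · rcases hp.dvd_mul.1 h1 with h1 | h1
            · rcases hp.dvd_mul.1 h1 with h1 | h1
              · rcases hp.dvd_mul.1 h1 with h1 | h1
                · exact Or.inl ((Nat.prime_dvd_prime_iff_eq hp (by norm_num)).1 h1)
                · exact Or.inr (Or.inl ((Nat.prime_dvd_prime_iff_eq hp (by norm_num)).1 h1))
              · exact Or.inr (Or.inr (Or.inl ((Nat.prime_dvd_prime_iff_eq hp (by norm_num)).1 h1)))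
            · exact Or.inr (Or.inr (Or.inr (Or.inl ((Nat.prime_dvd_prime_iff_eq hp (by norm_num)).1 h1))))
          · exact Or.inr (Or.inr (Or.inr (Or.inr (Or.inl ((Nat.prime_dvd_prime_iff_eq hp (by norm_num)).1 h1)))))
        · exact Or.inr (Or.inr (Or.inr (Or.inr (Or.inr (Or.inl ((Nat.prime_dvd_prime_iff_eq hp (by norm_num)).1 h1))))))
      · exact Or.inr (Or.inr (Or.inr (Or.inr (Or.inr (Or.inr ((Nat.prime_dvd_prime_iff_eq hp (by norm_num)).1 h1))))))
    rcases hp' with rfl | rfl | rfl | rfl | rfl | rfl | rfl <;> norm_num at hd2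
  have hgen : ∀ w ∈ R, ∃ i : ℤ, w = r ^ i := by
    intro w hw
    have hle : zpowers r = R := eq_of_le_of_card_ge (zpowers_le.2 hrR) (by
      rw [hk, Nat.card_zpowers, hr]
      exact (Nat.pow_le_pow_right hp.pos hk1).trans (pow_one p).le)
    obtain ⟨i, hi⟩ := (hle.ge hw)
    exact ⟨i, hi.symm⟩
  refine K.not_cyclic_image hrO (fun hc => ?_) fun q hq => ?_
  · rw [K.part_small hp hp11 hrR hc, orderOf_one] at hr
    exact hp.one_lt.ne hr
  · obtain ⟨i, hi⟩ := hgen _ (K.part_conj hp hp11 (F.eight_le hq).1 hrR)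
    exact ⟨i, 1, one_mem _, by rw [hi, mul_one]⟩

/-- The core has order 1331. -/
theorem card_O (D : BigData M) (B : BigPack z D.V) (hord : Nat.card G = 86775571046077562880) :
    Nat.card ↥K.O = 11 ^ 3 := by
  haveI : Fact (Nat.Prime 11) := ⟨by norm_num⟩
  have hpow : ∃ k, Nat.card ↥K.O = 11 ^ k := by
    refine ⟨(Nat.card ↥K.O).factorization 11, ?_⟩
    refine Nat.eq_pow_of_factorization_eq_single Nat.card_pos.ne' ?_
    ext p
    by_cases hp : p = 11
    · subst hp; simp
    · rw [Finsupp.single_eq_of_ne hp]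
      by_cases hpp : p.Prime
      · exact Nat.factorization_eq_zero_of_not_dvd (K.not_prime D B hord hpp hp)
      · exact Nat.factorization_eq_zero_of_not_prime _ hpp
  obtain ⟨k, hk⟩ := hpow
  have hk3 : k ≤ 3 := by
    by_contra hc
    have hd := (pow_dvd_pow 11 (by omega : 4 ≤ k)).trans (hk ▸ card_subgroup_dvd_card K.O)
    rw [hord] at hd
    norm_num at hd
  have hk1 : 1 ≤ k := by
    have := Subgroup.orderOf_dvd_natCard K.O K.mem
    rw [F.order', hk] at this
    by_contra hc
    rw [show k = 0 by omega] at this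
    norm_num at this
  obtain rfl | rfl | rfl : k = 1 ∨ k = 2 ∨ k = 3 := by omega
  · exfalso
    -- a Sylow subgroup supplies more of the centraliser
    set X := centralizer ({(F.c : G)} : Set G)
    have hX : Nat.card ↥X = 264 := by
      have := K.card_centralizer
      rw [hk] at this
      change Nat.card ↥X * 11 = 11 ^ 1 * 264 at this
      omega
    obtain ⟨U, hU⟩ := IsPGroup.exists_le_sylow (P := zpowers (F.c : G))
      (IsPGroup.of_card (n := 1) (by rw [Nat.card_zpowers, F.order', pow_one]))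
    obtain ⟨e, he⟩ := IsPGroup.iff_card.1 U.2
    have he3 : e = 3 := by
      have h := Sylow.card_eq_multiplicity U
      rw [he, hord] at h
      have h' := Nat.pow_right_injective (by norm_num : 2 ≤ 11) h
      rw [h', show (86775571046077562880 : ℕ) = 11 ^ 3 * 65195770883604480 by norm_num,
        Nat.factorization_mul (by norm_num) (by norm_num), Finsupp.add_apply,
        Nat.Prime.factorization_pow (by norm_num), Finsupp.single_eq_same,
        Nat.factorization_eq_zero_of_not_dvd (by norm_num)]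
    haveI : Nontrivial ↥(U : Subgroup G) := Finite.one_lt_card_iff_nontrivial.1 (by rw [he, he3]; norm_num)
    haveI := U.2.center_nontrivial
    set Zu := (Subgroup.center ↥(U : Subgroup G)).map (U : Subgroup G).subtype
    have hZX : Zu ≤ X := by
      rintro _ ⟨a, ha, rfl⟩
      exact mem_centralizer_singleton_iff.2
        (congrArg Subtype.val (Subgroup.mem_center_iff.1 ha ⟨_, hU (mem_zpowers _)⟩)).symm
    by_cases hx : (F.c : G) ∈ Zu
    · have hle : (U : Subgroup G) ≤ X := fun u hu => by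
        obtain ⟨a, ha, hae⟩ := hx
        refine mem_centralizer_singleton_iff.2 ?_
        rw [← hae]
        exact congrArg Subtype.val (Subgroup.mem_center_iff.1 ha ⟨u, hu⟩)
      have := Subgroup.card_dvd_of_le hle
      rw [hX, he, he3] at this
      norm_num at this
    · -- the centre and the element generate a group of order at least 121
      set W := Zu ⊔ zpowers (F.c : G)
      have hWX : W ≤ X := sup_le hZX (zpowers_le.2 (mem_centralizer_singleton_iff.2 rfl))
      have hWU : W ≤ (U : Subgroup G) := sup_le (map_subtype_le _) hU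
      obtain ⟨f, hf⟩ := IsPGroup.iff_card.1 (U.2.to_le hWU)
      have hlt : Nat.card ↥(zpowers (F.c : G)) < Nat.card ↥W := by
        refine lt_of_le_of_ne (Subgroup.card_le_of_le le_sup_right) fun e => ?_
        have heq : zpowers (F.c : G) = W := eq_of_le_of_card_ge le_sup_right e.ge
        have hZne : Zu ≠ ⊥ := by
          intro hb
          have h1 := congrArg (fun Q : Subgroup G => Nat.card ↥Q) hb
          simp only [Zu, card_map_of_injective (U : Subgroup G).subtype_injective, Subgroup.card_bot] at h1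
          have := Finite.one_lt_card_iff_nontrivial.2 (inferInstance : Nontrivial ↥(Subgroup.center ↥(U : Subgroup G)))
          omega
        have hZle : Zu ≤ zpowers (F.c : G) := le_sup_left.trans heq.ge
        have hd := Subgroup.card_dvd_of_le hZle
        rw [Nat.card_zpowers, F.order'] at hd
        rcases (Nat.dvd_prime (by norm_num : Nat.Prime 11)).1 hd with h | h
        · exact hZne (Subgroup.eq_bot_of_card_eq _ h)
        · exact hx ((eq_of_le_of_card_ge hZle (by rw [h, Nat.card_zpowers, F.order'])).ge (mem_zpowers _))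
      rw [Nat.card_zpowers, F.order', hf] at hlt
      have hd := Subgroup.card_dvd_of_le hWX
      rw [hX, hf] at hd
      have h2 : 2 ≤ f := by
        by_contra hc
        have := Nat.pow_le_pow_right (by norm_num : 1 ≤ 11) (show f ≤ 1 by omega)
        omega
      have := (pow_dvd_pow 11 h2).trans hd
      norm_num at this
  · exfalso
    obtain ⟨r, hrO, hrx⟩ : ∃ r ∈ K.O, r ∉ zpowers (F.c : G) := by
      by_contra hc
      push Not at hc
      have := Subgroup.card_le_of_le (show K.O ≤ zpowers (F.c : G) from hc)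
      rw [hk, Nat.card_zpowers, F.order'] at this
      norm_num at this
    have hrc : Commute r (F.c : G) := K.x_comm hrO
    let S : Subgroup G :=
      { carrier := {g | ∃ i j : ℤ, g = r ^ i * (F.c : G) ^ j}
        one_mem' := ⟨0, 0, by simp⟩
        mul_mem' := by
          rintro _ _ ⟨i, j, rfl⟩ ⟨i', j', rfl⟩
          exact ⟨i + i', j + j', by
            rw [zpow_add, zpow_add, mul_assoc, ← mul_assoc ((F.c : G) ^ j), ← (hrc.zpow_zpow i' j).eq]; group⟩
        inv_mem' := by
          rintro _ ⟨i, j, rfl⟩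
          exact ⟨-i, -j, by rw [_root_.mul_inv_rev, zpow_neg, zpow_neg, ((hrc.zpow_zpow i j).inv_inv).eq]⟩ }
    have hS : S = K.O := by
      have hle : S ≤ K.O := by
        rintro _ ⟨i, j, rfl⟩
        exact mul_mem (zpow_mem hrO i) (zpow_mem K.mem j)
      refine eq_of_le_of_card_ge hle ?_
      obtain ⟨m, hm, hc⟩ := (Nat.dvd_prime_pow (by norm_num : Nat.Prime 11)).1 (hk ▸ Subgroup.card_dvd_of_le hle)
      rw [hk, hc]
      refine Nat.pow_le_pow_right (by norm_num) ?_
      by_contra hcon
      have hxS : zpowers (F.c : G) ≤ S := zpowers_le.2 ⟨0, 1, by simp⟩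
      have h1 := Nat.pow_le_pow_right (by norm_num : 1 ≤ 11) (show m ≤ 1 by omega)
      have h2 : zpowers (F.c : G) = S := eq_of_le_of_card_ge hxS (by rw [hc, Nat.card_zpowers, F.order']; omega)
      exact hrx (h2.ge ⟨1, 0, by simp⟩)
    refine K.not_cyclic_image hrO hrx fun q hq => ?_
    obtain ⟨i, j, e⟩ := (hS.ge (K.conj_mem q (F.eight_le hq).1 r hrO))
    exact ⟨i, _, zpow_mem (mem_zpowers _) j, e⟩
  · exact hk

theorem card_cent_full (D : BigData M) (B : BigPack z D.V) (hord : Nat.card G = 86775571046077562880) :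
    Nat.card ↥(centralizer ({(F.c : G)} : Set G)) = 31944 := by
  have h := K.card_centralizer
  rw [K.card_O D B hord] at h
  omega

end Model.Eleven.Core

end Cfsg.Agent.JankoFour
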