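import Cfsg.Prelude.Def_JankoFourType
import Cfsg.Agent.Lib.JankoFour.Aut
import Cfsg.Agent.Lib.JankoFour.Interface

/-!
The shape of the centraliser of the involution in a group of Janko-four type: the extraspecial subgroup, the
decomposition by the normaliser of the subgroup of order three, and the map of its centraliser onto M22.
-/

set_option autoImplicit false
set_option linter.style.haveILetI false

namespace Cfsg.Agent.JankoFour

open Subgroup
open Cfsg.Agent.LargeFischer (Ctx QG)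
open Cfsg.Agent.LargeExtra (mem_centralizer_one)

variable {G : Type*} [Group G] [Finite G]

/-- The consequences of the hypothesis. -/
structure Shape (z : G) (P : Subgroup G) where
  Q : Subgroup ↥(centralizer ({z} : Set G))
  normal : Q.Normal
  qg : QG Q = Cfsg.twoCoreOfCentralizer z
  ctx : Ctx z Q
  p : G
  p_mem : p ∈ centralizer ({z} : Set G)
  p_gen : zpowers p = P
  p_order : orderOf p = 3
  inf_cent : QG Q ⊓ centralizer (P : Set G) = zpowers z
  decomp : ∀ c ∈ centralizer ({z} : Set G), ∃ q ∈ QG Q,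
    ∃ n ∈ normalizer (P : Set G) ⊓ centralizer ({z} : Set G), c = q * n
  card_quot : Nat.card (↥(centralizer ({z} : Set G)) ⧸ Q) = 2661120
  /-- The action of the normaliser of P on M22. -/
  pi : ↥(normalizer (P : Set G) ⊓ centralizer ({z} : Set G)) →* MulAut ↥Cfsg.Spor.M22
  pi_surj : Function.Surjective pi
  pi_ker : ∀ n, pi n = 1 ↔ ∃ a ∈ P, ∃ s ∈ zpowers z, (n : G) = a * s
  inner_cent : ∀ n, pi n ∈ Cfsg.Inn ↥Cfsg.Spor.M22 → (n : G) ∈ centralizer (P : Set G)

/-- The shape, from an outer element inverting P or from the inner elements centralising it. -/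
theorem exists_shape_of {z : G} {P N : Subgroup G} (hz : orderOf z = 2)
    (hxs : Cfsg.IsExtraspecial 2 ↥(Cfsg.twoCoreOfCentralizer z))
    (hcard : Nat.card ↥(Cfsg.twoCoreOfCentralizer z) = 2 ^ 13)
    (hker : centralizer ({z} : Set G) ⊓ centralizer (Cfsg.twoCoreOfCentralizer z : Set G) ≤ Cfsg.twoCoreOfCentralizer z)
    (hEN : Cfsg.twoCoreOfCentralizer z ≤ N) (hNH : N ≤ centralizer ({z} : Set G))
    (hHN : centralizer ({z} : Set G) ≤ normalizer (N : Set G))
    (hNcard : Nat.card ↥N = 3 * Nat.card ↥(Cfsg.twoCoreOfCentralizer z))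
    (hn : (N.subgroupOf (centralizer ({z} : Set G))).Normal)
    (e : ↥(centralizer ({z} : Set G)) ⧸ N.subgroupOf (centralizer ({z} : Set G)) ≃* MulAut ↥Cfsg.Spor.M22)
    (hPN : P ≤ N) (hP : Nat.card ↥P = 3)
    (hinf : Cfsg.twoCoreOfCentralizer z ⊓ centralizer (P : Set G) = zpowers z)
    (hout : centralizer ({z} : Set G) ⊓ normalizer (P : Set G) ≠ centralizer ({z} : Set G) ⊓ centralizer (P : Set G) ∨
      ∀ n : ↥(centralizer ({z} : Set G)), (n : G) ∈ normalizer (P : Set G) →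
        e (QuotientGroup.mk n) ∈ Cfsg.Inn ↥Cfsg.Spor.M22 → (n : G) ∈ centralizer (P : Set G)) :
    Nonempty (Shape z P) := by
  classical
  haveI : Fact (Nat.Prime 2) := ⟨Nat.prime_two⟩
  haveI : Fact (Nat.Prime 3) := ⟨Nat.prime_three⟩
  set H := centralizer ({z} : Set G) with hH
  set Q : Subgroup ↥H := Cfsg.pCore 2 ↥H with hQ
  have hQG : QG Q = Cfsg.twoCoreOfCentralizer z := rfl
  rw [← hQG] at hxs hcard hker hinf hEN hNcard
  have hQn : Q.Normal := FiniteGroup.pCore_normal 2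
  have hzH : z ∈ H := mem_centralizer_one.2 rfl
  have hzQ : z ∈ QG Q := by
    have h := LargeExtra.le_coreAt (x := z) (T := zpowers z)
      (IsPGroup.of_card (n := 1) (by rw [Nat.card_zpowers, hz, pow_one])) (zpowers_le.2 hzH) (fun c hc => by
        refine mem_normalizer_iff.2 fun a => ?_
        have hcomm : ∀ k : ℤ, c * z ^ k * c⁻¹ = z ^ k := fun k => by
          rw [mul_inv_eq_iff_eq_mul]
          exact (Commute.zpow_right (mem_centralizer_one.1 hc) k)
        refine ⟨?_, fun h => ?_⟩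
        · rintro ⟨k, rfl⟩
          exact ⟨k, (hcomm k).symm⟩
        · obtain ⟨k, hk⟩ := h
          refine ⟨k, mul_left_cancel (a := c) (mul_right_cancel (b := c⁻¹) ?_)⟩
          rw [show c * z ^ k * c⁻¹ = z ^ k from hcomm k]
          exact hk)
    exact h (mem_zpowers z)
  have hQH : QG Q ≤ H := map_subtype_le Q
  have hxsl : LargeExtra.XSLocal (QG Q) z := LargeExtra.XSLocal.of_core hz hxs hzQ hQH
    (fun c hc => hker ⟨mem_centralizer_one.2 (mem_centralizer_iff.1 hc z hzQ).symm, hc⟩)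
    (LargeExtra.normalizer_of_map_normal hQn)
  have hctx : Ctx z Q := ⟨hxsl, by rw [hcard]; norm_num, fun c hc hcomm =>
    hker ⟨hc, mem_centralizer_iff.2 fun x hx => (hcomm x hx).symm⟩⟩
  obtain ⟨p, hp⟩ := isCyclic_iff_exists_zpowers_eq_top.1 (isCyclic_of_prime_card hP : IsCyclic ↥P)
  have hpg : zpowers (p : G) = P := by
    have h := MonoidHom.map_zpowers P.subtype p
    rw [hp, ← MonoidHom.range_eq_map, range_subtype] at h
    exact h.symm
  have hpo : orderOf (p : G) = 3 := by rw [← Nat.card_zpowers, hpg, hP]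
  have hPH : P ≤ H := hPN.trans hNH
  have hcop : ∀ a ∈ QG Q, a ∈ P → a = 1 := fun a ha ha' => by
    rw [← orderOf_eq_one_iff]
    have h1 : orderOf a ∣ 8192 := by
      have h := Subgroup.orderOf_dvd_natCard _ ha
      rwa [hcard] at h
    exact Nat.eq_one_of_dvd_coprimes (by norm_num : Nat.Coprime 8192 3) h1 (hP ▸ Subgroup.orderOf_dvd_natCard _ ha')
  -- N is the product of Q and P
  have hprod : ∀ n ∈ N, ∃ q ∈ QG Q, ∃ a ∈ P, n = q * a := by
    let f : ↥(QG Q) × ↥P → ↥N := fun x => ⟨x.1 * x.2, mul_mem (hEN x.1.2) (hPN x.2.2)⟩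
    have hf : Function.Injective f := fun x y e => by
      have e' : (x.1 : G) * x.2 = y.1 * y.2 := congrArg Subtype.val e
      have h1 : (y.1 : G)⁻¹ * x.1 = y.2 * (x.2 : G)⁻¹ := by
        rw [eq_mul_inv_iff_mul_eq, mul_assoc, e', inv_mul_cancel_left]
      have h2 := hcop _ (mul_mem (inv_mem y.1.2) x.1.2) (h1 ▸ mul_mem y.2.2 (inv_mem x.2.2))
      have h3 : x.1 = y.1 := Subtype.ext (inv_mul_eq_one.1 h2).symm
      refine Prod.ext h3 (Subtype.ext ?_)
      rw [h3] at e'
      exact mul_left_cancel e'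
    have hsurj := hf.bijective_of_nat_card_le (by rw [Nat.card_prod, hNcard, hP, mul_comm]) |>.2
    intro n hn
    obtain ⟨x, hx⟩ := hsurj ⟨n, hn⟩
    exact ⟨x.1, x.1.2, x.2, x.2.2, (congrArg Subtype.val hx).symm⟩
  -- Frattini
  have hnorm : ∀ q ∈ QG Q, ∀ c ∈ H, c * q * c⁻¹ ∈ QG Q := fun q hq c hc =>
    LargeExtra.conj_mem (hxsl.norm hc) hq
  have hdec : ∀ c ∈ H, ∃ q ∈ QG Q, ∃ n ∈ normalizer (P : Set G) ⊓ H, c = q * n := by
    intro c hc
    have hPc : P.map (MulAut.conj c).toMonoidHom ≤ N := by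
      rintro _ ⟨a, ha, rfl⟩
      exact LargeExtra.conj_mem (hHN hc) (hPN ha)
    have hsyl : ∀ R : Subgroup G, R ≤ N → Nat.card ↥R = 3 → ∃ S : Sylow 3 ↥N, (S : Subgroup ↥N) = R.subgroupOf N := by
      intro R hRN hR
      refine ⟨Sylow.ofCard (R.subgroupOf N) ?_, rfl⟩
      rw [Nat.card_congr (subgroupOfEquivOfLe hRN).toEquiv, hR, hNcard, hcard]
      rw [show (3 * 2 ^ 13 : ℕ).factorization 3 = 1 by
        rw [Nat.factorization_mul (by norm_num) (by norm_num), Nat.Prime.factorization_pow Nat.prime_two]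
        simp [Nat.prime_three.factorization]]
      norm_num
    obtain ⟨S, hS⟩ := hsyl P hPN hP
    obtain ⟨T, hT⟩ := hsyl _ hPc (by rw [card_map_of_injective (MulAut.conj c).injective, hP])
    obtain ⟨m, hm⟩ := MulAction.exists_smul_eq ↥N S T
    obtain ⟨q, hq, a, ha, hma⟩ := hprod _ m.2
    refine ⟨q, hq, q⁻¹ * c, Subgroup.mem_inf.2 ⟨?_, H.mul_mem (H.inv_mem (hQH hq)) hc⟩, by group⟩
    have key : ∀ x ∈ P, q * x * q⁻¹ ∈ P.map (MulAut.conj c).toMonoidHom := by
      intro x hx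
      have hx' : a⁻¹ * x * a ∈ P := mul_mem (mul_mem (inv_mem ha) hx) ha
      have h1 : m * ⟨_, hPN hx'⟩ * m⁻¹ ∈ (T : Subgroup ↥N) := by
        rw [← hm, Sylow.coe_subgroup_smul]
        exact Subgroup.smul_mem_pointwise_smul _ (MulAut.conj m) _ (by rw [hS, mem_subgroupOf]; exact hx')
      rw [hT, mem_subgroupOf] at h1
      have : ((m * ⟨a⁻¹ * x * a, hPN hx'⟩ * m⁻¹ : ↥N) : G) = q * x * q⁻¹ := by
        rw [Subgroup.coe_mul, Subgroup.coe_mul, Subgroup.coe_inv, hma]; group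
      rwa [this] at h1
    have himg : P.map (MulAut.conj q).toMonoidHom = P.map (MulAut.conj c).toMonoidHom := by
      refine eq_of_le_of_card_ge ?_ ?_
      · rintro _ ⟨w, hw, rfl⟩
        exact key w hw
      · rw [card_map_of_injective (MulAut.conj c).injective, card_map_of_injective (MulAut.conj q).injective]
    refine mem_normalizer_iff.2 fun x => ?_
    rw [show q⁻¹ * c * x * (q⁻¹ * c)⁻¹ = q⁻¹ * (c * x * c⁻¹) * q by group, ← LargeExtra.mem_conjMap, himg,
      LargeExtra.mem_conjMap, show c⁻¹ * (c * x * c⁻¹) * c = x by group]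
  -- the map onto the automorphism group
  haveI := hn
  let π : ↥(normalizer (P : Set G) ⊓ H) →* MulAut ↥Cfsg.Spor.M22 :=
    e.toMonoidHom.comp ((QuotientGroup.mk' (N.subgroupOf H)).comp (Subgroup.inclusion inf_le_right))
  have hπN : ∀ n, π n = 1 ↔ (n : G) ∈ N := fun n => by
    show e (QuotientGroup.mk' _ _) = 1 ↔ _
    rw [map_eq_one_iff e e.injective, QuotientGroup.mk'_apply, QuotientGroup.eq_one_iff, mem_subgroupOf]
    rfl
  have hπs : Function.Surjective π := by
    intro α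
    obtain ⟨c, hc⟩ := e.surjective α
    obtain ⟨⟨c, hcH⟩, rfl⟩ := QuotientGroup.mk'_surjective _ c
    obtain ⟨q, hq, n, hn', rfl⟩ := hdec c hcH
    refine ⟨⟨n, hn'⟩, ?_⟩
    rw [← hc]
    show e (QuotientGroup.mk' _ _) = _
    congr 1
    rw [QuotientGroup.mk'_apply, QuotientGroup.mk'_apply, QuotientGroup.eq, mem_subgroupOf]
    show n⁻¹ * (q * n) ∈ N
    have := hHN (inv_mem hn'.2)
    rw [show n⁻¹ * (q * n) = n⁻¹ * q * n⁻¹⁻¹ by group]
    exact LargeExtra.conj_mem this (hEN hq)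
  have hπk : ∀ n, π n = 1 ↔ ∃ a ∈ P, ∃ s ∈ zpowers z, (n : G) = a * s := by
    intro n
    rw [hπN]
    constructor
    · intro hnN
      obtain ⟨q, hq, a, ha, e'⟩ := hprod _ hnN
      have hqN : q ∈ normalizer (P : Set G) := by
        have : q = (n : G) * a⁻¹ := by rw [e']; group
        exact this ▸ mul_mem n.2.1 (inv_mem (le_normalizer ha))
      have hqc : q ∈ zpowers z := by
        rw [← hinf]
        refine ⟨hq, mem_centralizer_iff.2 fun x hx => ?_⟩
        have h1 : q * x * q⁻¹ * x⁻¹ ∈ P := mul_mem (LargeExtra.conj_mem hqN hx) (inv_mem hx)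
        have h2 : q * x * q⁻¹ * x⁻¹ ∈ QG Q := by
          rw [show q * x * q⁻¹ * x⁻¹ = q * (x * q⁻¹ * x⁻¹) by group]
          exact mul_mem hq (hnorm _ (inv_mem hq) x (hPH hx))
        exact (mul_inv_eq_iff_eq_mul.1 (mul_inv_eq_one.1 (hcop _ h2 h1))).symm
      refine ⟨a, ha, q, hqc, e'.trans ?_⟩
      obtain ⟨k, rfl⟩ := hqc
      exact ((Commute.zpow_right (mem_centralizer_one.1 (hPH ha)) k)).symm.eq
    · rintro ⟨a, ha, s, hs, e'⟩
      rw [e']
      exact mul_mem (hPN ha) (hEN (zpowers_le.2 hzQ hs))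
  let C₀ : Subgroup ↥(normalizer (P : Set G) ⊓ H) := (centralizer (P : Set G)).subgroupOf _
  have hker' : π.ker ≤ C₀ := fun n hn => by
    obtain ⟨a, ha, s, hs, e'⟩ := (hπk n).1 hn
    rw [mem_subgroupOf, e']
    refine mem_centralizer_iff.2 fun x hx => ?_
    obtain ⟨k, rfl⟩ := hs
    obtain ⟨i, rfl⟩ := (hpg.symm ▸ ha : a ∈ zpowers (p : G))
    obtain ⟨j, rfl⟩ := (hpg.symm ▸ hx : x ∈ zpowers (p : G))
    have hpz : Commute (p : G) z := mem_centralizer_one.1 (hPH p.2)
    exact (((Commute.refl (p : G)).zpow_zpow j i).mul_right (hpz.zpow_zpow j k)).eq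
  have hC₀ : centralizer ({z} : Set G) ⊓ normalizer (P : Set G) ≠
      centralizer ({z} : Set G) ⊓ centralizer (P : Set G) → C₀.index = 2 := fun hne => by
    have hmem : ∀ n : ↥(normalizer (P : Set G) ⊓ H), n ∈ C₀ ↔ (n : G) * p * (n : G)⁻¹ = p := by
      intro n
      rw [mem_subgroupOf, mul_inv_eq_iff_eq_mul, mem_centralizer_iff]
      constructor
      · exact fun h => (h p p.2).symm
      · intro h x hx
        obtain ⟨i, rfl⟩ := (hpg.symm ▸ hx : x ∈ zpowers (p : G))
        exact (Commute.zpow_right (show Commute (n : G) p from h) i).symm.eq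
    have hcases : ∀ n : ↥(normalizer (P : Set G) ⊓ H),
        (n : G) * p * (n : G)⁻¹ = p ∨ (n : G) * p * (n : G)⁻¹ = (p : G)⁻¹ := by
      intro n
      obtain ⟨i, hi⟩ : (n : G) * p * (n : G)⁻¹ ∈ zpowers (p : G) := by
        rw [hpg]; exact LargeExtra.conj_mem n.2.1 p.2
      have h3 : (p : G) ^ (i % 3) = (n : G) * p * (n : G)⁻¹ := by
        rw [← hi, show (3 : ℤ) = (orderOf (p : G) : ℤ) by rw [hpo]; rfl, zpow_mod_orderOf]
      have := Int.emod_nonneg i (by norm_num : (3 : ℤ) ≠ 0)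
      have := Int.emod_lt_of_pos i (by norm_num : (0 : ℤ) < 3)
      rcases (by omega : i % 3 = 0 ∨ i % 3 = 1 ∨ i % 3 = 2) with h | h | h <;> rw [h] at h3
      · exfalso
        rw [zpow_zero, eq_comm, mul_inv_eq_one] at h3
        exact (show (p : G) ≠ 1 from fun e1 => by simp [e1] at hpo) (mul_eq_left.1 h3)
      · exact Or.inl (by rw [← h3, zpow_one])
      · refine Or.inr (h3.symm.trans ?_)
        rw [eq_inv_iff_mul_eq_one, ← zpow_add_one, show (2 : ℤ) + 1 = ((3 : ℕ) : ℤ) from rfl, zpow_natCast,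
          ← hpo, pow_orderOf_eq_one]
    obtain ⟨d, hd, hdc⟩ : ∃ d ∈ H ⊓ normalizer (P : Set G), d ∉ H ⊓ centralizer (P : Set G) := by
      by_contra hall
      push Not at hall
      exact hne (le_antisymm hall fun x hx => ⟨hx.1, centralizer_le_normalizer _ hx.2⟩)
    refine index_eq_two_iff.2 ⟨⟨d, hd.2, hd.1⟩, fun n => ?_⟩
    have hdp : d * p * d⁻¹ = (p : G)⁻¹ := (hcases ⟨d, hd.2, hd.1⟩).resolve_left fun h =>
      hdc ⟨hd.1, (mem_subgroupOf.1 ((hmem ⟨d, hd.2, hd.1⟩).2 h))⟩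
    have hpp : (p : G)⁻¹ ≠ p := fun h => by
      have h2 : (p : G) ^ 2 = 1 := by rw [pow_two]; nth_rewrite 1 [← h]; exact inv_mul_cancel _
      have := orderOf_dvd_of_pow_eq_one h2
      rw [hpo] at this
      norm_num at this
    rw [hmem, hmem]
    have e1 : ((n * ⟨d, hd.2, hd.1⟩ : ↥(normalizer (P : Set G) ⊓ H)) : G) * p *
        ((n * ⟨d, hd.2, hd.1⟩ : ↥(normalizer (P : Set G) ⊓ H)) : G)⁻¹ = ((n : G) * p * (n : G)⁻¹)⁻¹ := by
      calc (n : G) * d * p * ((n : G) * d)⁻¹ = (n : G) * (d * p * d⁻¹) * (n : G)⁻¹ := by group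
        _ = _ := by rw [hdp]; group
    rw [e1]
    rcases hcases n with h | h <;> rw [h]
    · exact Or.inr ⟨rfl, hpp⟩
    · exact Or.inl ⟨inv_inv _, hpp⟩
  refine ⟨{ Q := Q, normal := hQn, qg := hQG, ctx := hctx, p := p, p_mem := hPH p.2, p_gen := hpg, p_order := hpo,
            inf_cent := hinf, decomp := hdec, card_quot := ?_, pi := π, pi_surj := hπs, pi_ker := hπk,
            inner_cent := fun n => ?_ }⟩
  · have h1 : Nat.card ↥H = Nat.card (↥H ⧸ N.subgroupOf H) * Nat.card ↥(N.subgroupOf H) :=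
      card_eq_card_quotient_mul_card_subgroup _
    rw [Nat.card_congr e.toEquiv, card_aut, Nat.card_congr (subgroupOfEquivOfLe hNH).toEquiv, hNcard, hcard] at h1
    have h2 : Nat.card ↥H = Nat.card (↥H ⧸ Q) * Nat.card ↥Q := card_eq_card_quotient_mul_card_subgroup _
    rw [show Nat.card ↥Q = 2 ^ 13 by rw [← hcard, card_map_of_injective H.subtype_injective]] at h2
    rw [h2] at h1
    refine Nat.eq_of_mul_eq_mul_right (by norm_num : 0 < 2 ^ 13) (h1.trans ?_)
    norm_num
  · intro h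
    rcases hout with hne | hic
    · rw [← (eq_inn (by rw [index_map_eq C₀ hπs hker', hC₀ hne]) : C₀.map π = _)] at h
      obtain ⟨n', hn', e'⟩ := h
      have := hker' (show n'⁻¹ * n ∈ π.ker by rw [MonoidHom.mem_ker, map_mul, map_inv, e', inv_mul_cancel])
      have hh : n ∈ C₀ := by
        have := C₀.mul_mem hn' this
        rwa [mul_inv_cancel_left] at this
      exact mem_subgroupOf.1 hh
    · exact hic ⟨n, n.2.2⟩ n.2.1 h

theorem exists_shape {z : G} {P : Subgroup G} (hJ : Cfsg.IsOfJankoFourTypeWith z P) :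
    Nonempty (Shape z P) := by
  obtain ⟨hz, hxs, hcard, hker, ⟨N, hEN, hNH, hHN, hNcard, ⟨hn, ⟨e⟩⟩, hPN⟩, hP, hinf, hne, -⟩ := hJ
  exact exists_shape_of hz hxs hcard hker hEN hNH hHN hNcard hn e hPN hP hinf (Or.inl hne)

end Cfsg.Agent.JankoFour
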