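import Cfsg.Agent.Lib.JankoFour.ThreePoints

/-!
Two-subgroups of the centraliser of z and P containing the fixed part of the large abelian subgroup.
-/

set_option autoImplicit false

namespace Cfsg.Agent.JankoFour

open Subgroup
open Cfsg.Agent.LargeFischer (QG)
open Cfsg.Agent.J4Module (app elemI)
open Cfsg.Agent.J4Module.Data
open ThreeChk

variable {G : Type*} [Group G] [Finite G] {z : G} {P : Subgroup G} {M : Model z P}

namespace BigData

variable (D : BigData M)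

theorem conj_mem_centP {n g : G} (hn : n ∈ normalizer (P : Set G)) (hg : g ∈ centralizer (P : Set G)) :
    n * g * n⁻¹ ∈ centralizer (P : Set G) := by
  refine mem_centralizer_iff.2 fun x hx => ?_
  have hx' : n⁻¹ * x * n ∈ P := by
    have := (mem_normalizer_iff.1 (inv_mem hn) x).1 hx
    rwa [inv_inv] at this
  have h := mem_centralizer_iff.1 hg _ hx'
  calc x * (n * g * n⁻¹) = n * (n⁻¹ * x * n * g) * n⁻¹ := by group
    _ = n * (g * (n⁻¹ * x * n)) * n⁻¹ := by rw [h]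
    _ = n * g * n⁻¹ * x := by group

/-- A two-subgroup of the centraliser is moved into the standard Sylow by an element normalising P, with every
elementary subgroup of order 2^11 in it going onto the hexad group. -/
theorem exists_adjust {R : Subgroup G} (hR : IsPGroup 2 ↥R) (hRH : R ≤ centralizer ({z} : Set G))
    (hV : D.V ≤ M.syl.map (centralizer ({z} : Set G)).subtype) :
    ∃ n : ↥(centralizer ({z} : Set G)), (n : G) ∈ normalizer (P : Set G) ∧
      (∀ r : ↥(centralizer ({z} : Set G)), (r : G) ∈ R → ∃ C ∈ sylow, M.Acts (n * r * n⁻¹) C) ∧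
      ∀ E : Subgroup G, E ≤ R → Cfsg.IsElementaryAbelian 2 E → Nat.card ↥E = 2048 →
        ∀ r : ↥(centralizer ({z} : Set G)), (r : G) ∈ E → ∃ i ∈ 71 :: bigIdx, M.Acts (n * r * n⁻¹) (elemI i) := by
  haveI : Fact (Nat.Prime 2) := ⟨Nat.prime_two⟩
  set H := centralizer ({z} : Set G) with hH
  have hR' : IsPGroup 2 ↥(R.subgroupOf H) := hR.of_equiv (subgroupOfEquivOfLe hRH).symm
  obtain ⟨T, hT⟩ := hR'.exists_le_sylow
  obtain ⟨h, hh⟩ := MulAction.exists_smul_eq ↥H T M.sylS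
  have hin : ∀ r : ↥H, (r : G) ∈ R → h * r * h⁻¹ ∈ M.syl := fun r hr => by
    have : h * r * h⁻¹ ∈ (M.sylS : Subgroup ↥H) := by
      rw [← hh, Sylow.coe_subgroup_smul]
      exact Subgroup.smul_mem_pointwise_smul _ (MulAut.conj h) _ (hT (mem_subgroupOf.2 hr))
    exact this
  obtain ⟨q, hq, n, hn, e⟩ := M.decomp h
  obtain ⟨qH, hqH, rfl⟩ := hq
  set nH : ↥H := ⟨n, hn.2⟩
  have hnh : nH = qH⁻¹ * h := Subtype.ext (by
    show n = (qH : G)⁻¹ * h
    rw [e]; simp)
  have hsame : ∀ (r : ↥H) (C : List ℕ), C.length = 12 → M.Acts (h * r * h⁻¹) C → M.Acts (nH * r * nH⁻¹) C := by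
    intro r C hC hC'
    refine M.acts_mul_Q hC' ?_ hC
    rw [hnh, show (h * r * h⁻¹)⁻¹ * (qH⁻¹ * h * r * (qH⁻¹ * h)⁻¹) =
      ((h * r * h⁻¹)⁻¹ * qH⁻¹ * (h * r * h⁻¹)) * qH by group]
    haveI := M.normal
    refine M.Q.mul_mem ?_ hqH
    have := ‹M.Q.Normal›.conj_mem _ (M.Q.inv_mem hqH) (h * r * h⁻¹)⁻¹
    rwa [inv_inv] at this
  refine ⟨nH, hn.1, fun r hr => ?_, fun E hER hel hcE r hr => ?_⟩
  · obtain ⟨C, hC, hrC⟩ := hin r hr
    exact ⟨C, hC, hsame r C (gen_length (Big.sylow_InL0 hC)) hrC⟩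
  · have hE' : E.map (MulAut.conj (h : G)).toMonoidHom = D.V := by
      refine D.unique (M.syl.map H.subtype) _ (M.syl_isPGroup.map _) hV ?_ ⟨⟨⟨fun a b => Subtype.ext ?_⟩⟩, ?_⟩
        (by rw [card_map_of_injective (MulAut.conj (h : G)).injective, hcE])
      · rintro _ ⟨x, hx, rfl⟩
        exact ⟨_, hin ⟨x, hRH (hER hx)⟩ (hER hx), rfl⟩
      · obtain ⟨x, hx, ex⟩ := a.2
        obtain ⟨y, hy, ey⟩ := b.2
        have := congrArg Subtype.val (hel.1.1.comm ⟨x, hx⟩ ⟨y, hy⟩)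
        show (a : G) * b = b * a
        rw [← ex, ← ey, ← map_mul, ← map_mul]
        exact congrArg _ this
      · rintro _ ⟨x, hx, rfl⟩
        rw [← map_pow, hel.2 x hx, map_one]
    have hrV : ((h * r * h⁻¹ : ↥H) : G) ∈ D.V := hE' ▸ ⟨_, hr, rfl⟩
    obtain ⟨i, hi, hri⟩ := D.img _ hrV
    exact ⟨i, hi, hsame r _ (Model.big_len i hi) hri⟩

theorem v_le_syl (hbig : ∀ i ∈ 71 :: bigIdx, elemI i ∈ sylow) :
    D.V ≤ M.syl.map (centralizer ({z} : Set G)).subtype := by
  intro v hv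
  obtain ⟨i, hi, hvi⟩ := D.img ⟨v, D.le_cent hv⟩ hv
  exact ⟨⟨v, D.le_cent hv⟩, ⟨_, hbig i hi, hvi⟩, rfl⟩

theorem v_le_sup {R : Subgroup G} (hA : D.fixA ≤ R) : D.V ≤ QG M.Q ⊔ R := by
  intro v hv
  obtain ⟨i, hi, hvi⟩ := D.img ⟨v, D.le_cent hv⟩ hv
  obtain ⟨a, ha, hai⟩ := D.exists_fix i hi
  obtain ⟨q, hq, e⟩ := M.eq_mul_Q hai hvi
  have e' : v = (a : G) * q := congrArg Subtype.val e
  rw [e']
  exact mul_mem (mem_sup_right (hA ha)) (mem_sup_left ⟨q, hq, rfl⟩)

theorem sup_isPGroup {R : Subgroup G} (hR : IsPGroup 2 ↥R) (hRH : R ≤ centralizer ({z} : Set G)) :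
    IsPGroup 2 ↥(QG M.Q ⊔ R : Subgroup G) :=
  M.qg_two.to_sup_of_normal_left' hR fun _ hr => normalizer_QG (hRH hr)

variable {S : Subgroup G} (hS : IsPGroup 2 ↥S) (hSC : S ≤ centralizer ({z} : Set G) ⊓ centralizer (P : Set G))
  (hAS : D.fixA ≤ S)
include hS hSC hAS

theorem s_le_normalizer : S ≤ normalizer (D.V : Set G) := by
  intro s hs
  set E := D.V.map (MulAut.conj s).toMonoidHom with hE
  have hR := sup_isPGroup (M := M) hS (hSC.trans inf_le_left)
  have hVR := D.v_le_sup hAS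
  have hle : E ≤ QG M.Q ⊔ S := by
    rintro _ ⟨v, hv, rfl⟩
    exact mul_mem (mul_mem (mem_sup_right hs) (hVR hv)) (inv_mem (mem_sup_right hs))
  have hEV : E = D.V := D.unique _ E hR hVR hle ⟨⟨⟨fun a b => Subtype.ext (by
      obtain ⟨x, hx, ex⟩ := a.2
      obtain ⟨y, hy, ey⟩ := b.2
      show (a : G) * b = b * a
      rw [← ex, ← ey, ← map_mul, ← map_mul, D.comm hx hy])⟩⟩, by
      rintro _ ⟨x, hx, rfl⟩
      rw [pow_two, ← map_mul, D.sq x hx, map_one]⟩
    (by rw [hE, card_map_of_injective (MulAut.conj s).injective, D.card])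
  exact mem_normalizer_fintype fun v hv => hEV ▸ mem_map_of_mem (MulAut.conj s).toMonoidHom hv

/-- The adjusting element normalises the fixed part. -/
theorem exists_move : ∃ n : ↥(centralizer ({z} : Set G)), (n : G) ∈ normalizer (P : Set G) ∧
    (n : G) ∈ normalizer (D.fixA : Set G) ∧
    ∀ r : ↥(centralizer ({z} : Set G)), (r : G) ∈ S → ∃ C ∈ sylow, M.Acts (n * r * n⁻¹) C := by
  have hR := sup_isPGroup (M := M) hS (hSC.trans inf_le_left)
  obtain ⟨n, hnP, hsyl, hbig⟩ := D.exists_adjust hR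
    (sup_le (map_subtype_le _) (hSC.trans inf_le_left)) (D.v_le_syl big_in_sylow)
  refine ⟨n, hnP, mem_normalizer_fintype fun a ha => ?_, fun r hr => hsyl r (mem_sup_right hr)⟩
  obtain ⟨i, hi, hai⟩ := hbig D.V (D.v_le_sup hAS) ⟨⟨⟨fun x y => Subtype.ext (D.comm x.2 y.2)⟩⟩,
    fun x hx => by rw [pow_two]; exact D.sq x hx⟩ D.card ⟨a, D.fixA_le ha⟩ ha.1
  exact D.mem_fixA_of_cols (c := n * ⟨a, D.fixA_le ha⟩ * n⁻¹) (conj_mem_centP hnP ha.2) hi hai

/-- The fixed part is self-centralising in the two-subgroup. -/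
theorem cent_fixA {c : G} (hc : c ∈ S) (hcA : ∀ a ∈ D.fixA, c * a = a * c) : c ∈ D.fixA := by
  obtain ⟨n, hnP, hnA, hsyl⟩ := D.exists_move hS hSC hAS
  obtain ⟨C, hC, hcC⟩ := hsyl ⟨c, (hSC hc).1⟩ hc
  set c' := n * ⟨c, (hSC hc).1⟩ * n⁻¹ with hc'
  have hcomm : ∀ i ∈ bigIdx, mulC C (elemI i) = mulC (elemI i) C := by
    intro i hi
    obtain ⟨a, ha, hai⟩ := D.exists_fix i (List.mem_cons_of_mem _ hi)
    have ha' : (n : G)⁻¹ * a * n ∈ D.fixA := by
      have := (mem_normalizer_iff.1 (inv_mem hnA) _).1 ha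
      rwa [inv_inv] at this
    have h := hcA _ ha'
    have e : c' * a = a * c' := Subtype.ext (by
      show (n : G) * c * (n : G)⁻¹ * a = a * ((n : G) * c * (n : G)⁻¹)
      calc (n : G) * c * (n : G)⁻¹ * a = n * (c * ((n : G)⁻¹ * a * n)) * (n : G)⁻¹ := by group
        _ = n * ((n : G)⁻¹ * a * n * c) * (n : G)⁻¹ := by rw [h]
        _ = a * ((n : G) * c * (n : G)⁻¹) := by group)
    have h1 := M.acts_mul hcC hai
    have h2 := M.acts_mul hai hcC
    rw [e] at h1
    exact M.acts_unique (by rw [length_mulC]; exact Model.big_len i (List.mem_cons_of_mem _ hi))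
      (by rw [length_mulC]; exact gen_length (Big.sylow_InL0 hC)) h1 h2
  obtain ⟨i, hi, rfl⟩ := big_self_central C hC hcomm
  have hmem : (c' : G) ∈ D.fixA := D.mem_fixA_of_cols (conj_mem_centP hnP (hSC hc).2) hi hcC
  have := (mem_normalizer_iff.1 (inv_mem hnA) _).1 hmem
  simpa [hc', mul_assoc] using this

/-- Involutions of the two-subgroup are conjugate into the fixed part. -/
theorem invol_into_fixA {u : G} (hu : u ∈ S) (hu2 : u * u = 1) :
    ∃ m ∈ centralizer ({z} : Set G) ⊓ centralizer (P : Set G), m * u * m⁻¹ ∈ D.fixA := by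
  obtain ⟨n, hnP, hnA, hsyl⟩ := D.exists_move hS hSC hAS
  set uH : ↥(centralizer ({z} : Set G)) := ⟨u, (hSC hu).1⟩
  obtain ⟨C, hC, huC⟩ := hsyl uH hu
  set u' := n * uH * n⁻¹ with hu'
  have huP : (u' : G) ∈ centralizer (P : Set G) := conj_mem_centP hnP (hSC hu).2
  have hlen := gen_length (Big.sylow_InL0 hC)
  have hsq : J4Module.compC C C = J4Module.oneC := by
    rw [one_cols]
    have h := M.acts_mul huC huC
    have e : u' * u' = 1 := by
      rw [hu', show n * uH * n⁻¹ * (n * uH * n⁻¹) = n * (uH * uH) * n⁻¹ by group,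
        show uH * uH = 1 from Subtype.ext hu2]
      group
    rw [e] at h
    exact M.acts_unique (by show (C.map _).length = 12; rw [List.length_map]; exact hlen) (by decide) h M.acts_one
  have back : ∀ c : ↥(centralizer ({z} : Set G)), (c : G) ∈ centralizer (P : Set G) →
      ((c * u' * c⁻¹ : ↥(centralizer ({z} : Set G))) : G) ∈ D.fixA →
      ∃ m ∈ centralizer ({z} : Set G) ⊓ centralizer (P : Set G), m * u * m⁻¹ ∈ D.fixA := by
    intro c hc hmem
    refine ⟨(n : G)⁻¹ * c * n, mem_inf.2 ⟨mul_mem (mul_mem (inv_mem n.2) c.2) n.2, ?_⟩, ?_⟩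
    · have := conj_mem_centP (inv_mem hnP) hc
      rwa [inv_inv] at this
    · have := (mem_normalizer_iff.1 (inv_mem hnA) _).1 hmem
      simpa [hu', uH, mul_assoc] using this
  rcases J4Module.invol_complete C hC hsq with rfl | hinv
  · refine back 1 (one_mem _) ?_
    refine D.mem_fixA_of_cols (by simpa using huP) (i := 71) List.mem_cons_self ?_
    rw [unit_idx, ← one_cols]
    simpa using huC
  obtain ⟨i, hi, rfl⟩ := List.getElem_of_mem hinv
  have hi71 : i < 71 := J4Module.invol_length.1 ▸ hi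
  have hel : elemI i = J4Module.Data.invol[i] := List.getD_eq_getElem _ _ hi
  replace huC : M.Acts u' (elemI i) := by rw [hel]; exact huC
  replace hlen : (elemI i).length = 12 := by rw [hel]; exact hlen
  obtain ⟨K, hK, huK⟩ := M.cent_cols u' huP
  have hp : mulC pC (elemI i) = mulC (elemI i) pC := by
    have h1 := M.acts_mul M.p_acts huC
    have h2 := M.acts_mul huC M.p_acts
    have e : u' * M.pElem = M.pElem * u' := M.p_fix huP
    rw [← e] at h1
    exact M.acts_unique (by rw [length_mulC]; exact hlen) (by rw [length_mulC]; decide) h1 h2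
  obtain ⟨t, ht, hti⟩ := List.mem_map.1 (List.contains_iff_mem.1 (inner_listed i hi71 hp))
  obtain ⟨hw, hj, he⟩ := intoBig_spec t ht
  obtain ⟨c, hcP, hc⟩ := M.cent_elem _ (inK0_word _ hw)
  refine back c hcP ?_
  have hjm : t.2.2 ∈ 71 :: bigIdx := List.mem_cons_of_mem _ hj
  obtain ⟨b, hb, hbj⟩ := D.img_onto _ hjm
  have h1 := M.acts_mul hc huC
  have h2 := M.acts_mul hbj hc
  rw [← hti, he] at h1
  obtain ⟨q, hq, eq⟩ := M.eq_mul_Q h2 h1
  refine D.mem_fixA_of_cols (mul_mem (mul_mem hcP huP) (inv_mem hcP)) hjm (M.acts_mul_Q hbj ?_ (Model.big_len _ hjm))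
  rw [show b⁻¹ * (c * u' * c⁻¹) = c * q * c⁻¹ by rw [eq]; group]
  haveI := M.normal
  exact ‹M.Q.Normal›.conj_mem q hq _

end BigData

end Cfsg.Agent.JankoFour
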