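import Cfsg.Agent.Lib.JankoFour.Exists
import Cfsg.Agent.Lib.JankoFour.ThreeSylow
import Cfsg.Agent.Lib.JankoFour.Shape
import Cfsg.Agent.S0058
import Cfsg.Agent.S0215

/-!
The centraliser of the subgroup of order three lies in the centraliser of z, and its structure.
-/

set_option autoImplicit false
set_option linter.style.haveILetI false

namespace Cfsg.Agent.JankoFour

open Subgroup
open scoped symmDiff Pointwise
open Cfsg.Agent.LargeFischer (QG)
open ThreeChk ThreeGolay

universe u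

variable {G : Type u} [Group G] [Finite G] {z : G} {P : Subgroup G} {M : Model z P}

namespace BigData

variable (D : BigData M) (B : BigPack z D.V)

theorem exists_sylow_cent : ∃ S : Subgroup G, S ≤ centralizer ({z} : Set G) ⊓ centralizer (P : Set G) ∧
    D.fixA ≤ S ∧ IsPGroup 2 ↥S ∧
    ∀ R : Subgroup G, R ≤ centralizer ({z} : Set G) ⊓ centralizer (P : Set G) → IsPGroup 2 ↥R → S ≤ R → R = S := by
  haveI : Fact (Nat.Prime 2) := ⟨Nat.prime_two⟩
  set C := centralizer ({z} : Set G) ⊓ centralizer (P : Set G)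
  have hA : D.fixA ≤ C := le_inf D.fixA_le inf_le_right
  have hA2 : IsPGroup 2 ↥D.fixA := D.v_two.to_le inf_le_left
  obtain ⟨T, hT⟩ := (hA2.of_equiv (subgroupOfEquivOfLe hA).symm).exists_le_sylow
  refine ⟨(T : Subgroup ↥C).map C.subtype, map_subtype_le _, fun a ha => ⟨⟨a, hA ha⟩, hT (mem_subgroupOf.2 ha), rfl⟩,
    T.isPGroup'.map _, fun R hRC hR hTR => ?_⟩
  have h : R.subgroupOf C = T := T.is_maximal' (hR.of_equiv (subgroupOfEquivOfLe hRC).symm)
    fun x hx => mem_subgroupOf.2 (hTR ⟨x, hx, rfl⟩)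
  rw [← h, map_subgroupOf_eq_of_le hRC]

variable {S : Subgroup G} (hS : IsPGroup 2 ↥S) (hSC : S ≤ centralizer ({z} : Set G) ⊓ centralizer (P : Set G))
  (hAS : D.fixA ≤ S)
include hS hSC hAS

include B in
/-- Elements centralising P and normalising the two-subgroup fix z. -/
theorem normalizer_le_cent {s : G} (hs : s ∈ normalizer (S : Set G)) (hsP : s ∈ centralizer (P : Set G)) :
    s ∈ centralizer ({z} : Set G) := by
  have hzS : z ∈ S := hAS D.z_mem_fixA
  set w := s⁻¹ * z * s with hw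
  have hwS : w ∈ S := by
    have := (mem_normalizer_iff.1 (inv_mem hs) z).1 hzS
    rwa [inv_inv] at this
  have hwA : w ∈ D.fixA := D.cent_fixA hS hSC hAS hwS fun a ha => by
    have ha' : s * a * s⁻¹ ∈ S := (mem_normalizer_iff.1 hs a).1 (hAS ha)
    have h := mem_centralizer_singleton_iff.1 (hSC ha').1
    calc w * a = s⁻¹ * (z * (s * a * s⁻¹)) * s := by simp only [hw]; group
      _ = s⁻¹ * (s * a * s⁻¹ * z) * s := by rw [h]
      _ = a * w := by simp only [hw]; group
  set V' := D.V.map (MulAut.conj s).toMonoidHom with hV'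
  have hzV' : z ∈ V' := ⟨w, hwA.1, by show s * w * s⁻¹ = z; simp only [hw]; group⟩
  have hel : Cfsg.IsElementaryAbelian 2 V' := by
    refine ⟨⟨⟨fun a b => Subtype.ext ?_⟩⟩, ?_⟩
    · obtain ⟨x, hx, ex⟩ := a.2
      obtain ⟨y, hy, ey⟩ := b.2
      show (a : G) * b = b * a
      rw [← ex, ← ey, ← map_mul, ← map_mul, D.comm hx hy]
    · rintro _ ⟨x, hx, rfl⟩
      rw [pow_two, ← map_mul, D.sq x hx, map_one]
  have hcard : Nat.card ↥V' = 2048 := by
    rw [hV', card_map_of_injective (MulAut.conj s).injective, D.card]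
  have hV'H : V' ≤ centralizer ({z} : Set G) := fun x hx =>
    mem_centralizer_singleton_iff.2 (congrArg Subtype.val (hel.1.1.comm ⟨x, hx⟩ ⟨z, hzV'⟩))
  obtain ⟨n, hnP, -, hbig⟩ := D.exists_adjust (R := V') (D.v_two.map _) hV'H (D.v_le_syl big_in_sylow)
  -- the moved fixed part is the fixed part
  have hmove : ∀ a ∈ D.fixA, (n : G) * (s * a * s⁻¹) * (n : G)⁻¹ ∈ D.fixA := by
    intro a ha
    have hm : s * a * s⁻¹ ∈ V' := ⟨a, ha.1, rfl⟩
    obtain ⟨i, hi, hai⟩ := hbig V' le_rfl hel hcard ⟨_, hV'H hm⟩ hm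
    refine D.mem_fixA_of_cols (c := n * ⟨_, hV'H hm⟩ * n⁻¹) ?_ hi hai
    exact conj_mem_centP hnP (mul_mem (mul_mem hsP ha.2) (inv_mem hsP))
  have himg : D.fixA.map (MulAut.conj ((n : G) * s)).toMonoidHom = D.fixA := by
    refine eq_of_le_of_card_ge ?_ (card_map_of_injective (MulAut.conj ((n : G) * s)).injective).ge
    rintro _ ⟨a, ha, rfl⟩
    simpa [mul_assoc] using hmove a ha
  have hle : V' ≤ QG M.Q ⊔ S := by
    intro v hv
    obtain ⟨i, hi, hvi⟩ := hbig V' le_rfl hel hcard ⟨v, hV'H hv⟩ hv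
    obtain ⟨b, hb, hbi⟩ := D.exists_fix i hi
    obtain ⟨a, ha, e⟩ := himg.ge hb
    have hx : s * a * s⁻¹ ∈ S := (mem_normalizer_iff.1 hs a).1 (hAS ha)
    obtain ⟨q, hq, eq⟩ := M.eq_mul_Q hbi hvi
    have eq' : (n : G) * v * (n : G)⁻¹ = (b : G) * q := congrArg Subtype.val eq
    have e' : (n : G) * (s * a * s⁻¹) * (n : G)⁻¹ = b := by rw [← e]; simp [mul_assoc]
    have hv' : v = s * a * s⁻¹ * ((n : G)⁻¹ * q * n) := by
      calc v = (n : G)⁻¹ * ((n : G) * v * (n : G)⁻¹) * n := by group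
        _ = (n : G)⁻¹ * ((n : G) * (s * a * s⁻¹) * (n : G)⁻¹ * q) * n := by rw [eq', e']
        _ = _ := by group
    rw [hv']
    refine mul_mem (mem_sup_right hx) (mem_sup_left ?_)
    have := (mem_normalizer_iff.1 (normalizer_QG (M := M) (inv_mem n.2)) _).1 ⟨q, hq, rfl⟩
    rwa [inv_inv] at this
  have hEV : V' = D.V := D.unique _ V' (sup_isPGroup hS (hSC.trans inf_le_left)) (D.v_le_sup hAS) hle hel hcard
  exact D.normalizer_fix B (mem_normalizer_fintype fun v hv => hEV ▸ mem_map_of_mem (MulAut.conj s).toMonoidHom hv) hsP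

include B in
/-- The two-subgroup fixes one of the duads. -/
theorem exists_fixed_duad : ∃ d : Finset Cfsg.GolayPt, d.card = 2 ∧ d ⊆ D.points B ∧
    ∀ s ∈ S, s * B.eS d = B.eS d * s := by
  classical
  haveI : Fact (Nat.Prime 2) := ⟨Nat.prime_two⟩
  have hN := D.s_le_normalizer hS hSC hAS
  set DS := (D.points B).powersetCard 2
  have hm : ∀ (s : ↥S) (d : {d // d ∈ DS}), d.1.image ⇑(B.phi ⟨s, hN s.2⟩).1 ∈ DS := fun s d => by
    have hd := Finset.mem_powersetCard.1 d.2
    refine Finset.mem_powersetCard.2 ⟨?_, by rw [Finset.card_image_of_injective _ (Equiv.injective _), hd.2]⟩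
    exact (Finset.image_subset_image hd.1).trans (D.image_points B (hN s.2) (hSC s.2).2).le
  letI : MulAction ↥S {d // d ∈ DS} :=
    { smul := fun s d => ⟨_, hm s d⟩
      one_smul := fun d => by
        refine Subtype.ext ?_
        show d.1.image ⇑(B.phi ⟨((1 : ↥S) : G), hN (1 : ↥S).2⟩).1 = d.1
        rw [show (⟨((1 : ↥S) : G), hN (1 : ↥S).2⟩ : ↥(normalizer (D.V : Set G))) = 1 from Subtype.ext rfl, map_one]
        exact Finset.image_id'
      mul_smul := fun s t d => by
        refine Subtype.ext ?_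
        show d.1.image ⇑(B.phi ⟨((s * t : ↥S) : G), hN (s * t).2⟩).1 = (d.1.image _).image _
        rw [show (⟨((s * t : ↥S) : G), hN (s * t).2⟩ : ↥(normalizer (D.V : Set G))) = ⟨s, hN s.2⟩ * ⟨t, hN t.2⟩ from
          Subtype.ext rfl, map_mul, Finset.image_image]
        rfl }
  have h := hS.card_modEq_card_fixedPoints {d // d ∈ DS}
  have hcard : Nat.card {d // d ∈ DS} = 15 := by
    rw [Nat.card_eq_fintype_card, Fintype.card_coe, Finset.card_powersetCard, D.points_card B]
    rfl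
  rw [hcard] at h
  have hne : Nat.card (MulAction.fixedPoints ↥S {d // d ∈ DS}) ≠ 0 := by
    intro h0
    rw [h0] at h
    exact absurd h (by decide)
  obtain ⟨⟨⟨d, hd⟩, hfix⟩⟩ := (Nat.card_ne_zero.1 hne).1
  obtain ⟨hdF, hd2⟩ := Finset.mem_powersetCard.1 hd
  refine ⟨d, hd2, hdF, fun s hs => B.cocode.commute_of_image (n := ⟨s, hN hs⟩) (by show Even d.card; rw [hd2]; decide) ?_⟩
  exact congrArg Subtype.val (hfix ⟨s, hs⟩)

include B in
/-- z is the only conjugate of itself under the centraliser of P in the two-subgroup. -/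
theorem isolated_in (hmax : ∀ R : Subgroup G, R ≤ centralizer ({z} : Set G) ⊓ centralizer (P : Set G) →
    IsPGroup 2 ↥R → S ≤ R → R = S) :
    ∃ T : Sylow 2 ↥(centralizer (P : Set G)), (⟨z, M.z_mem_centP⟩ : ↥(centralizer (P : Set G))) ∈ T ∧
      ∀ g : ↥(centralizer (P : Set G)), g * ⟨z, M.z_mem_centP⟩ * g⁻¹ ∈ T →
        g * ⟨z, M.z_mem_centP⟩ * g⁻¹ = ⟨z, M.z_mem_centP⟩ := by
  classical
  haveI : Fact (Nat.Prime 2) := ⟨Nat.prime_two⟩
  set X := centralizer (P : Set G) with hX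
  have hSX : S ≤ X := hSC.trans inf_le_right
  -- S is Sylow in the centraliser of P
  obtain ⟨T, hT⟩ := (hS.of_equiv (subgroupOfEquivOfLe hSX).symm).exists_le_sylow
  have hTS : (T : Subgroup ↥X) = S.subgroupOf X := by
    refine le_antisymm ?_ hT
    by_contra hlt
    set K : Subgroup ↥(T : Subgroup ↥X) := (S.subgroupOf X).subgroupOf T
    haveI : Group.IsNilpotent ↥(T : Subgroup ↥X) := T.isPGroup'.isNilpotent
    have hK : K < ⊤ := lt_top_iff_ne_top.2 fun e => hlt fun x hx => by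
      have : (⟨x, hx⟩ : ↥(T : Subgroup ↥X)) ∈ K := e ▸ mem_top _
      exact mem_subgroupOf.1 this
    obtain ⟨s, hsN, hsK⟩ := SetLike.exists_of_lt (Group.normalizerCondition_of_isNilpotent K hK)
    have hsS : ((s : ↥X) : G) ∈ normalizer (S : Set G) := by
      refine mem_normalizer_fintype fun x hx => ?_
      have hxX : (⟨x, hSX hx⟩ : ↥X) ∈ (T : Subgroup ↥X) := hT (mem_subgroupOf.2 hx)
      have h := (mem_normalizer_iff.1 hsN ⟨⟨x, hSX hx⟩, hxX⟩).1 (mem_subgroupOf.2 (mem_subgroupOf.2 hx))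
      exact mem_subgroupOf.1 (mem_subgroupOf.1 h)
    have hsz := D.normalizer_le_cent B hS hSC hAS hsS (s : ↥X).2
    have hle : S ⊔ zpowers ((s : ↥X) : G) ≤ centralizer ({z} : Set G) ⊓ centralizer (P : Set G) :=
      sup_le hSC (zpowers_le.2 ⟨hsz, (s : ↥X).2⟩)
    have hle' : S ⊔ zpowers ((s : ↥X) : G) ≤ (T : Subgroup ↥X).map X.subtype := by
      refine sup_le (fun x hx => ⟨⟨x, hSX hx⟩, hT (mem_subgroupOf.2 hx), rfl⟩) (zpowers_le.2 ⟨s.1, s.2, rfl⟩)
    have := hmax _ hle ((T.isPGroup'.map _).to_le hle') le_sup_left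
    exact hsK (mem_subgroupOf.2 (mem_subgroupOf.2 (this ▸ mem_sup_right (mem_zpowers _))))
  set zX : ↥X := ⟨z, M.z_mem_centP⟩
  have hzT : zX ∈ T := show zX ∈ (T : Subgroup ↥X) from hTS ▸ mem_subgroupOf.2 (hAS D.z_mem_fixA)
  refine ⟨T, hzT, fun g hg => ?_⟩
  have huS : ((g * zX * g⁻¹ : ↥X) : G) ∈ S := mem_subgroupOf.1 (hTS ▸ hg)
  set u := ((g * zX * g⁻¹ : ↥X) : G) with hu
  by_contra hne
  have hune : u ≠ z := fun e => hne (Subtype.ext e)
  have hu2 : u * u = 1 := by
    show (g : G) * z * (g : G)⁻¹ * ((g : G) * z * (g : G)⁻¹) = 1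
    calc (g : G) * z * (g : G)⁻¹ * ((g : G) * z * (g : G)⁻¹) = (g : G) * (z * z) * (g : G)⁻¹ := by group
      _ = 1 := by rw [M.ctx.xs.sq]; group
  obtain ⟨m, hm, hmA⟩ := D.invol_into_fixA hS hSC hAS huS hu2
  have hzu : IsConj z (m * u * m⁻¹) :=
    isConj_iff.2 ⟨m * g, by show m * g * z * (m * g)⁻¹ = m * ((g : G) * z * (g : G)⁻¹) * m⁻¹; group⟩
  obtain ⟨d, hd, hdF, he⟩ : ∃ d : Finset Cfsg.GolayPt, d.card = 2 ∧ d ⊆ D.points B ∧
      m * u * m⁻¹ = B.eS d * z := by
    rcases D.fixA_cases B hmA with e | e | ⟨d, hd, hdF, e | e⟩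
    · exfalso
      have hu1 : u = 1 := by rw [mul_inv_eq_one, mul_eq_left] at e; exact e
      have : z = 1 := by
        have h := congrArg (fun x => (g : G)⁻¹ * x * g) hu1
        simpa [hu, zX, mul_assoc] using h
      exact M.ctx.xs.ne_one this
    · exfalso
      refine hune ?_
      calc u = m⁻¹ * (m * u * m⁻¹) * m := by group
        _ = m⁻¹ * (z * m) := by rw [e]; group
        _ = z := by rw [← mem_centralizer_singleton_iff.1 hm.1]; group
    · exact absurd (e ▸ hzu) (B.pair_not_conj d hd)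
    · exact ⟨d, hd, hdF, e⟩
  obtain ⟨d₀, hd₀, hd₀F, hcent⟩ := D.exists_fixed_duad B hS hSC hAS
  obtain ⟨c, hc, hce⟩ := D.duad_trans B hd hd₀ hdF hd₀F
  set k : ↥X := ⟨c * m, mul_mem hc.2 hm.2⟩ * g
  have hcz : c * z = z * c := mem_centralizer_singleton_iff.1 hc.1
  have hk : ((k * zX * k⁻¹ : ↥X) : G) = B.eS d₀ * z := by
    show c * m * g * z * (c * m * g)⁻¹ = _
    calc c * m * g * z * (c * m * g)⁻¹ = c * (m * ((g : G) * z * (g : G)⁻¹) * m⁻¹) * c⁻¹ := by group
      _ = c * (B.eS d * z) * c⁻¹ := by rw [show m * ((g : G) * z * (g : G)⁻¹) * m⁻¹ = B.eS d * z from he]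
      _ = c * B.eS d * c⁻¹ * (c * z * c⁻¹) := by group
      _ = B.eS d₀ * z := by rw [hce, hcz, mul_inv_cancel_right]
  have hzS : ∀ y ∈ S, y * z = z * y := fun y hy => mem_centralizer_singleton_iff.1 (hSC hy).1
  have hx : zX ∈ centralizer ((T : Subgroup ↥X) : Set ↥X) := by
    refine mem_centralizer_iff.2 fun y hy => Subtype.ext (hzS _ ?_)
    exact mem_subgroupOf.1 (hTS ▸ hy)
  have hy : (k⁻¹)⁻¹ * zX * k⁻¹ ∈ centralizer ((T : Subgroup ↥X) : Set ↥X) := by
    rw [inv_inv]
    refine mem_centralizer_iff.2 fun y hy => Subtype.ext ?_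
    have hyS : (y : G) ∈ S := mem_subgroupOf.1 (hTS ▸ hy)
    show (y : G) * ((k * zX * k⁻¹ : ↥X) : G) = ((k * zX * k⁻¹ : ↥X) : G) * y
    rw [hk, ← mul_assoc, hcent _ hyS, mul_assoc, hzS _ hyS, ← mul_assoc]
  obtain ⟨nn, hnn, e⟩ := T.conj_eq_normalizer_conj_of_mem_centralizer zX k⁻¹ hx hy
  rw [inv_inv] at e
  have hnS : ((nn : ↥X) : G) ∈ normalizer (S : Set G) := by
    refine mem_normalizer_fintype fun x hx' => ?_
    have hxT : (⟨x, hSX hx'⟩ : ↥X) ∈ (T : Subgroup ↥X) := hTS ▸ mem_subgroupOf.2 hx'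
    exact mem_subgroupOf.1 (hTS ▸ (mem_normalizer_iff.1 hnn _).1 hxT)
  have hnz := mem_centralizer_singleton_iff.1 (D.normalizer_le_cent B hS hSC hAS hnS (nn : ↥X).2)
  have e' : B.eS d₀ * z = z := by
    rw [← hk, e]
    show (nn : G)⁻¹ * z * nn = z
    rw [mul_assoc, ← hnz, inv_mul_cancel_left]
  have := B.cocode.inj d₀ (by rw [hd₀]; decide) (by omega) (mul_eq_right.1 e')
  simp [this] at hd₀

end BigData

namespace BigData

variable (D : BigData M) (B : BigPack z D.V)

include B in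
theorem centP_duad {d : Finset Cfsg.GolayPt} (hd : d.card = 2) {k : G} (hk : k ∈ centralizer (P : Set G))
    (hkd : k * B.eS d = B.eS d * k) : k ∈ centralizer ({z} : Set G) :=
  D.normalizer_fix B (B.centralizer_duad_le hd (mem_centralizer_singleton_iff.2 hkd)) hk

include B in
/-- The centraliser of P lies in that of z. -/
theorem centP_le : centralizer (P : Set G) ≤ centralizer ({z} : Set G) := by
  classical
  obtain ⟨S, hSC, hAS, hS, hmax⟩ := D.exists_sylow_cent
  set X := centralizer (P : Set G)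
  set zX : ↥X := ⟨z, M.z_mem_centP⟩ with hzX
  obtain ⟨T, hzT, hiso⟩ : ∃ T : Sylow 2 ↥X, zX ∈ T ∧ ∀ g : ↥X, g * zX * g⁻¹ ∈ T → g * zX * g⁻¹ = zX :=
    D.isolated_in B hS hSC hAS hmax
  have ho : orderOf zX = 2 := by rw [← Subgroup.orderOf_coe]; exact orderOf_eq_prime (by rw [pow_two]; exact M.ctx.xs.sq) M.ctx.xs.ne_one
  obtain ⟨N, hNn, hNodd, hN⟩ := S0215.result T zX ho hzT hiso
  haveI := hNn
  set K := N.map X.subtype with hK
  have hKX : K ≤ X := map_subtype_le _
  have hKodd : Odd (Nat.card ↥K) := by rwa [hK, card_map_of_injective X.subtype_injective]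
  have hnorm : X ≤ normalizer (K : Set G) := fun x hx => mem_normalizer_fintype fun k hk => by
    obtain ⟨k', hk', rfl⟩ := hk
    exact ⟨⟨x, hx⟩ * k' * ⟨x, hx⟩⁻¹, hNn.conj_mem _ hk' _, rfl⟩
  -- generation from four-groups in the fixed part
  have four : ∀ (L : Subgroup G) (a b : G), L ≤ K → a ∈ D.fixA → b ∈ D.fixA → a ≠ 1 → b ≠ 1 → a ≠ b →
      (a ∈ normalizer (L : Set G)) → (b ∈ normalizer (L : Set G)) →
      (∀ c ∈ ({a, b, a * b} : Set G), ∀ k ∈ L, k * c = c * k → k ∈ centralizer ({z} : Set G)) →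
      L ≤ centralizer ({z} : Set G) := by
    intro L a b hLK ha hb ha1 hb1 hab haL hbL hall
    have haa : a * a = 1 := D.sq a ha.1
    have hbb : b * b = 1 := D.sq b hb.1
    have hcomm : a * b = b * a := D.comm ha.1 hb.1
    set W := closure ({a, b} : Set G) with hW
    have hWV : W ≤ D.V := (closure_le _).2 (by rintro x (rfl | rfl) <;> first | exact ha.1 | exact hb.1)
    haveI : IsMulCommutative ↥W := ⟨⟨fun x y => Subtype.ext (D.comm (hWV x.2) (hWV y.2))⟩⟩
    have hmem : ∀ x ∈ W, x ∈ ({1, a, b, a * b} : Set G) := by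
      intro x hx
      induction hx using closure_induction with
      | mem y hy => rcases hy with rfl | rfl <;> simp
      | one => simp
      | mul x y _ _ h1 h2 =>
        have hba : b * a = a * b := hcomm.symm
        have e1 : a * (a * b) = b := by rw [← mul_assoc, haa, one_mul]
        have e2 : b * (a * b) = a := by rw [hcomm, ← mul_assoc, hbb, one_mul]
        have e3 : a * b * a = b := by rw [hcomm, mul_assoc, haa, mul_one]
        have e4 : a * b * b = a := by rw [mul_assoc, hbb, mul_one]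
        have e5 : a * b * (a * b) = 1 := by rw [← mul_assoc, e3, hbb]
        rcases h1 with rfl | rfl | rfl | rfl <;> rcases h2 with rfl | rfl | rfl | rfl <;>
          simp [haa, hbb, hba, e1, e2, e3, e4, e5]
      | inv x _ h1 =>
        rcases h1 with rfl | rfl | rfl | rfl
        · simp
        · simp [inv_eq_of_mul_eq_one_right haa]
        · simp [inv_eq_of_mul_eq_one_right hbb]
        · simp [mul_inv_rev, inv_eq_of_mul_eq_one_right haa, inv_eq_of_mul_eq_one_right hbb, hcomm]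
    have hncyc : ¬ IsCyclic ↥W := by
      intro hc
      obtain ⟨g, hg⟩ := hc.exists_generator
      have hg2 : ∀ x : ↥W, x = 1 ∨ x = g := fun x => by
        obtain ⟨k, rfl⟩ := hg x
        have hgg : g * g = 1 := Subtype.ext (D.sq _ (hWV g.2))
        rcases Int.even_or_odd k with ⟨j, rfl⟩ | ⟨j, rfl⟩
        · left; show g ^ (j + j) = 1; rw [zpow_add, ← Commute.mul_zpow (Commute.refl g), hgg, one_zpow]
        · right; show g ^ (2 * j + 1) = g; rw [zpow_add, zpow_mul, zpow_two, hgg, one_zpow, one_mul, zpow_one]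
      rcases hg2 ⟨a, subset_closure (Or.inl rfl)⟩ with h | h
      · exact ha1 (congrArg Subtype.val h)
      rcases hg2 ⟨b, subset_closure (Or.inr rfl)⟩ with h' | h'
      · exact hb1 (congrArg Subtype.val h')
      · exact hab (congrArg Subtype.val (h.trans h'.symm))
    have hWL : W ≤ normalizer (L : Set G) :=
      (closure_le _).2 (by rintro x (rfl | rfl) <;> assumption)
    have hW2 : IsPGroup 2 ↥W := D.v_two.to_le hWV
    have hcop : (Nat.card ↥W).Coprime (Nat.card ↥L) := by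
      obtain ⟨j, hj⟩ := hW2.exists_card_eq
      rw [hj]
      refine Nat.Coprime.pow_left _ ((Nat.prime_two.coprime_iff_not_dvd).2 ?_)
      intro h2
      have := h2.trans (card_dvd_of_le hLK)
      exact (Nat.not_even_iff_odd.2 hKodd) (even_iff_two_dvd.2 this)
    rw [← S0058.result W L hncyc hWL hcop]
    refine iSup₂_le fun c hc => ?_
    rintro k ⟨hkL, hkc⟩
    refine hall c ?_ k hkL (mem_centralizer_singleton_iff.1 hkc)
    rcases hmem c hc.1 with h | h | h | h
    · exact absurd h hc.2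
    all_goals simp [h]
  have hkd : ∀ (L : Subgroup G), L ≤ K → ∀ {d : Finset Cfsg.GolayPt}, d.card = 2 →
      ∀ k ∈ L, k * B.eS d = B.eS d * k → k ∈ centralizer ({z} : Set G) :=
    fun L hL d hd k hk h => D.centP_duad B hd (hKX (hL hk)) h
  have hzF := D.z_eq B
  have h6 := D.points_card B
  have hmulz : ∀ e : Finset Cfsg.GolayPt, e.card = 2 → B.eS e * z = B.eS (e ∆ D.points B) := fun e he => by
    rw [B.eS_symmDiff _ _ (by rw [he]; decide) (by rw [h6]; decide), hzF]
  have hne_zd : ∀ {e : Finset Cfsg.GolayPt}, e.card = 2 → z ≠ B.eS e := fun he h =>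
    B.pair_not_conj _ he (by rw [← h])
  have he1 : ∀ {e : Finset Cfsg.GolayPt}, e.card = 2 → B.eS e ≠ 1 := fun {e} he h => by
    have := B.cocode.inj e (by rw [he]; decide) (by omega) h
    simp [this] at he
  -- the odd normal subgroup centralises z
  have hKz : K ≤ centralizer ({z} : Set G) := by
    obtain ⟨d, hdF, hd⟩ := Finset.exists_subset_card_eq (s := D.points B) (n := 2) (by omega)
    obtain ⟨p, hp⟩ := Finset.card_pos.1 (show 0 < d.card by omega)
    obtain ⟨r, hr⟩ : ∃ r, r ∈ D.points B \ d := Finset.card_pos.1 (by rw [Finset.card_sdiff_of_subset hdF]; omega)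
    rw [Finset.mem_sdiff] at hr
    set e : Finset Cfsg.GolayPt := {p, r}
    have hpr : p ≠ r := fun h => hr.2 (h ▸ hp)
    have he : e.card = 2 := Finset.card_pair hpr
    have heF : e ⊆ D.points B := by
      intro q hq
      rcases Finset.mem_insert.1 hq with rfl | hq
      · exact hdF hp
      · rw [Finset.mem_singleton] at hq; exact hq ▸ hr.1
    have hdA := (D.duad_mem_iff B hd).2 hdF
    have heA := (D.duad_mem_iff B he).2 heF
    have hde : (d ∆ e).card = 2 := by
      obtain ⟨p', q', hpq, rfl⟩ := Finset.card_eq_two.1 hd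
      simp only [Finset.mem_insert, Finset.mem_singleton, not_or] at hp hr
      obtain ⟨hr1, hr2, hr3⟩ : r ∈ D.points B ∧ r ≠ p' ∧ r ≠ q' := ⟨hr.1, hr.2.1, hr.2.2⟩
      have : ({p', q'} : Finset Cfsg.GolayPt) ∆ e = ({p', q'} : Finset Cfsg.GolayPt).erase p ∪ {r} := by
        ext x
        simp only [e, Finset.mem_symmDiff, Finset.mem_insert, Finset.mem_singleton, Finset.mem_union, Finset.mem_erase]
        grind
      rw [this, Finset.card_union_of_disjoint (by simp [hr2, hr3]), Finset.card_erase_of_mem (by simp [hp]),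
        Finset.card_pair hpq, Finset.card_singleton]
    refine four K z (B.eS d) le_rfl D.z_mem_fixA hdA M.ctx.xs.ne_one (he1 hd) (hne_zd hd)
      (hnorm M.z_mem_centP) (hnorm hdA.2) fun c hc k hk hkc => ?_
    rcases hc with e0 | e0 | hc
    · exact mem_centralizer_singleton_iff.2 (e0 ▸ hkc)
    · exact hkd K le_rfl hd k hk (e0 ▸ hkc)
    rw [Set.mem_singleton_iff] at hc
    subst hc
    -- the part fixed by an element conjugate to z
    set u := z * B.eS d with hu
    have huA : u ∈ D.fixA := mul_mem D.z_mem_fixA hdA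
    refine four (K ⊓ centralizer ({u} : Set G)) z (B.eS e) inf_le_left D.z_mem_fixA heA M.ctx.xs.ne_one (he1 he)
      (hne_zd he) ?_ ?_ (fun c hc k' hk' hkc' => ?_) ⟨hk, mem_centralizer_singleton_iff.2 hkc⟩
    · exact mem_normalizer_fintype fun x hx => ⟨(mem_normalizer_iff.1 (hnorm M.z_mem_centP) x).1 hx.1, by
        have hz : z ∈ centralizer ({u} : Set G) := mem_centralizer_singleton_iff.2 (D.comm D.z_mem huA.1)
        exact Subgroup.mul_mem _ (Subgroup.mul_mem _ hz hx.2) (Subgroup.inv_mem _ hz)⟩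
    · exact mem_normalizer_fintype fun x hx => ⟨(mem_normalizer_iff.1 (hnorm heA.2) x).1 hx.1, by
        have hz : B.eS e ∈ centralizer ({u} : Set G) := mem_centralizer_singleton_iff.2 (D.comm heA.1 huA.1)
        exact Subgroup.mul_mem _ (Subgroup.mul_mem _ hz hx.2) (Subgroup.inv_mem _ hz)⟩
    rcases hc with e1 | e1 | hc
    · exact mem_centralizer_singleton_iff.2 (e1 ▸ hkc')
    · exact hkd _ inf_le_left he k' hk' (e1 ▸ hkc')
    rw [Set.mem_singleton_iff] at hc
    refine hkd _ inf_le_left hde k' hk' ?_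
    have hku : Commute k' u := mem_centralizer_singleton_iff.1 hk'.2
    have hkc'' : Commute k' c := hkc'
    have e' : u * c = B.eS (d ∆ e) := by
      rw [B.eS_symmDiff _ _ (by rw [hd]; decide) (by rw [he]; decide), hc, hu]
      calc z * B.eS d * (z * B.eS e) = z * (B.eS d * z) * B.eS e := by group
        _ = z * z * (B.eS d * B.eS e) := by rw [D.comm hdA.1 D.z_mem]; group
        _ = B.eS d * B.eS e := by rw [M.ctx.xs.sq, one_mul]
    rw [← e']
    exact hku.mul_right hkc''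
  intro x hx
  have hk : z * x * z⁻¹ * x⁻¹ ∈ K := ⟨_, hN ⟨x, hx⟩, rfl⟩
  set k := z * x * z⁻¹ * x⁻¹ with hkdef
  have hkz : k * z = z * k := mem_centralizer_singleton_iff.1 (hKz hk)
  have hz2 : z⁻¹ = z := inv_eq_of_mul_eq_one_right M.ctx.xs.sq
  have hkk : k * k = 1 := by
    have h1 : z * k * z⁻¹ = k := by rw [← hkz, mul_inv_cancel_right]
    have h2 : z * k * z⁻¹ = k⁻¹ := by
      simp only [hkdef, mul_inv_rev, inv_inv, hz2]
      calc z * (z * x * z * x⁻¹) * z = (z * z) * x * z * x⁻¹ * z := by group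
        _ = x * (z * (x⁻¹ * z)) := by rw [M.ctx.xs.sq]; group
    rw [h1] at h2
    nth_rw 2 [h2]
    exact mul_inv_cancel k
  have hk1 : k = 1 := by
    have h2 : orderOf k ∣ 2 := orderOf_dvd_of_pow_eq_one (by rw [pow_two]; exact hkk)
    have h1 : orderOf k ∣ Nat.card ↥K := orderOf_dvd_natCard K hk
    rw [← orderOf_eq_one_iff]
    exact Nat.eq_one_of_dvd_coprimes ((Nat.prime_two.coprime_iff_not_dvd).2 fun h =>
      (Nat.not_even_iff_odd.2 hKodd) (even_iff_two_dvd.2 h)) h2 h1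
  refine mem_centralizer_singleton_iff.2 ?_
  have h : z * x * z⁻¹ = x := mul_inv_eq_one.1 hk1
  exact (mul_inv_eq_iff_eq_mul.1 h).symm

end BigData

/-- The subgroup of C(z) ⊓ C(P) onto M22 with kernel P times z. -/
theorem exists_onto (S : Shape z P) :
    ∃ φ : ↥(centralizer ({z} : Set G) ⊓ centralizer (P : Set G)) →* ↥Cfsg.Spor.M22, Function.Surjective φ ∧
      ∀ c, φ c = 1 ↔ ∃ a ∈ P, ∃ s ∈ zpowers z, (c : G) = a * s := by
  classical
  set C := centralizer ({z} : Set G) ⊓ centralizer (P : Set G)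
  have hle : C ≤ normalizer (P : Set G) ⊓ centralizer ({z} : Set G) :=
    le_inf (inf_le_right.trans (centralizer_le_normalizer _)) inf_le_left
  let ψ : ↥C →* ↥(Cfsg.Inn ↥Cfsg.Spor.M22) :=
    (S.pi.comp (Subgroup.inclusion hle)).codRestrict _ fun c => S.exists_coords.some.cent_inner c.2.2
  let e : ↥Cfsg.Spor.M22 ≃* ↥(Cfsg.Inn ↥Cfsg.Spor.M22) := MonoidHom.ofInjective conj_injective
  refine ⟨e.symm.toMonoidHom.comp ψ, e.symm.surjective.comp ?_, fun c => ?_⟩
  · rintro ⟨α, hα⟩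
    obtain ⟨n, hn⟩ := S.pi_surj α
    have hc := S.inner_cent n (hn ▸ hα)
    exact ⟨⟨n, ⟨n.2.2, hc⟩⟩, Subtype.ext hn⟩
  · show e.symm (ψ c) = 1 ↔ _
    rw [MulEquiv.map_eq_one_iff]
    refine Iff.trans ?_ (S.pi_ker (Subgroup.inclusion hle c))
    exact ⟨fun h => congrArg Subtype.val h, fun h => Subtype.ext h⟩

/-- The centraliser of P in the centraliser of z is the perfect sixfold cover and contains its normaliser in
the group up to the inverting elements. -/
theorem order_three_centralizer (hJ : Cfsg.IsOfJankoFourTypeWith z P) (D : BigData M) (B : BigPack z D.V)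
    (hzC : z ∈ ⁅centralizer ({z} : Set G) ⊓ centralizer (P : Set G), centralizer ({z} : Set G) ⊓ centralizer (P : Set G)⁆) :
    ⁅(centralizer ({z} : Set G) ⊓ centralizer (P : Set G)), (centralizer ({z} : Set G) ⊓ centralizer (P : Set G))⁆ = (centralizer ({z} : Set G) ⊓ centralizer (P : Set G)) ∧
    IsCyclic ↥(center ↥(centralizer ({z} : Set G) ⊓ centralizer (P : Set G))) ∧
    Nat.card ↥(center ↥(centralizer ({z} : Set G) ⊓ centralizer (P : Set G))) = 6 ∧
    Cfsg.Spor.IsoM22 (↥(centralizer ({z} : Set G) ⊓ centralizer (P : Set G)) ⧸ center ↥(centralizer ({z} : Set G) ⊓ centralizer (P : Set G))) ∧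
    normalizer (P : Set G) ≤ centralizer ({z} : Set G) := by
  obtain ⟨S⟩ := exists_shape hJ
  have hPC' := hJ.2.2.2.2.2.2.2.2
  haveI hs := Golay.isSimpleGroup_sporM22
  set C := centralizer ({z} : Set G) ⊓ centralizer (P : Set G) with hC
  obtain ⟨φ, hφ, hker⟩ : ∃ φ : ↥C →* ↥Cfsg.Spor.M22, Function.Surjective φ ∧
      ∀ c, φ c = 1 ↔ ∃ a ∈ P, ∃ s ∈ zpowers z, (c : G) = a * s := exists_onto S
  set p := (M.pElem : G) with hp
  have hpo : orderOf p = 3 := by rw [← Nat.card_zpowers, M.p_gen, M.card_P]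
  have hzo : orderOf z = 2 := hJ.1
  have hpz : Commute p z := mem_centralizer_singleton_iff.1 M.pElem.2
  have hpC : p ∈ C := ⟨M.pElem.2, M.p_mem_cent⟩
  have hzC0 : z ∈ C := ⟨mem_centralizer_singleton_iff.2 rfl, M.z_mem_centP⟩
  set g : ↥C := ⟨p * z, mul_mem hpC hzC0⟩
  have hgo : orderOf g = 6 := by
    rw [← Subgroup.orderOf_coe]
    show orderOf (p * z) = 6
    rw [hpz.orderOf_mul_eq_mul_orderOf_of_coprime (by rw [hpo, hzo]; norm_num), hpo, hzo]
  have hkz : φ.ker = zpowers g := by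
    ext c
    rw [MonoidHom.mem_ker, hker]
    constructor
    · rintro ⟨a, ha, s, hs', e⟩
      rw [← M.p_gen] at ha
      obtain ⟨i, rfl⟩ := ha
      obtain ⟨j, rfl⟩ := hs'
      -- the generator has both factors as powers
      have hp4 : (p * z) ^ (4 : ℤ) = p := by
        rw [show (4 : ℤ) = ((4 : ℕ) : ℤ) from rfl, zpow_natCast, hpz.mul_pow]
        have h3 : p ^ 3 = 1 := hpo ▸ pow_orderOf_eq_one p
        have h2 : z ^ 2 = 1 := hzo ▸ pow_orderOf_eq_one z
        rw [show (4 : ℕ) = 3 + 1 from rfl, pow_add, h3, one_mul, pow_one, show (3 + 1 : ℕ) = 2 * 2 from rfl, pow_mul, h2,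
          one_pow, mul_one]
      have hz3 : (p * z) ^ (3 : ℤ) = z := by
        rw [show (3 : ℤ) = ((3 : ℕ) : ℤ) from rfl, zpow_natCast, hpz.mul_pow]
        have h3 : p ^ 3 = 1 := hpo ▸ pow_orderOf_eq_one p
        have h2 : z ^ 2 = 1 := hzo ▸ pow_orderOf_eq_one z
        rw [h3, one_mul, show (3 : ℕ) = 2 + 1 from rfl, pow_add, h2, one_mul, pow_one]
      refine ⟨4 * i + 3 * j, Subtype.ext ?_⟩
      show ((g ^ (4 * i + 3 * j) : ↥C) : G) = _
      rw [SubgroupClass.coe_zpow, zpow_add, zpow_mul, zpow_mul, e]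
      show ((p * z) ^ (4 : ℤ)) ^ i * ((p * z) ^ (3 : ℤ)) ^ j = p ^ i * z ^ j
      rw [hp4, hz3]
    · rintro ⟨i, rfl⟩
      refine ⟨p ^ i, M.p_gen ▸ zpow_mem (mem_zpowers p) i, z ^ i, zpow_mem (mem_zpowers z) i, ?_⟩
      rw [SubgroupClass.coe_zpow]
      exact hpz.mul_zpow i
  have hgc : g ∈ center ↥C := mem_center_iff.2 fun c => Subtype.ext (by
    have h1 : Commute (c : G) p := M.mem_centP.1 c.2.2
    have h2 : Commute (c : G) z := mem_centralizer_singleton_iff.1 c.2.1
    exact (h1.mul_right h2).eq)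
  have hnab : ∃ a b : ↥Cfsg.Spor.M22, a * b ≠ b * a := by
    by_contra h
    push Not at h
    let _ : CommGroup ↥Cfsg.Spor.M22 := { mul_comm := h }
    have hp' := IsSimpleGroup.prime_card (α := ↥Cfsg.Spor.M22)
    rw [Golay.card_sporM22] at hp'
    norm_num at hp'
  have hz22 : center ↥Cfsg.Spor.M22 = ⊥ := by
    refine (inferInstance : (center ↥Cfsg.Spor.M22).Normal).eq_bot_or_eq_top.resolve_right fun h => ?_
    obtain ⟨a, b, hab⟩ := hnab
    exact hab (mem_center_iff.1 (h ▸ mem_top b) a)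
  have hcen : center ↥C = zpowers g := by
    refine le_antisymm (fun c hc => ?_) (zpowers_le.2 hgc)
    rw [← hkz, MonoidHom.mem_ker, ← mem_bot, ← hz22, mem_center_iff]
    intro m
    obtain ⟨d, rfl⟩ := hφ m
    rw [← map_mul, ← map_mul, mem_center_iff.1 hc d]
  have hperf22 : commutator ↥Cfsg.Spor.M22 = ⊤ := by
    refine (inferInstance : (commutator ↥Cfsg.Spor.M22).Normal).eq_bot_or_eq_top.resolve_left fun h => ?_
    rw [_root_.commutator_def, commutator_eq_bot_iff_le_centralizer] at h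
    obtain ⟨a, b, hab⟩ := hnab
    exact hab (mem_centralizer_iff.1 (h (mem_top b)) a (mem_top a))
  refine ⟨?_, ?_, ?_, ⟨(QuotientGroup.quotientMulEquivOfEq (hcen.trans hkz.symm)).trans
    (QuotientGroup.quotientKerEquivOfSurjective φ hφ)⟩, ?_⟩
  · refine le_antisymm (commutator_le.2 fun a ha b hb => ?_) fun c hc => ?_
    · rw [commutatorElement_def]
      exact mul_mem (mul_mem (mul_mem ha hb) (inv_mem ha)) (inv_mem hb)
    · have h : φ ⟨c, hc⟩ ∈ (commutator ↥C).map φ := by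
        rw [_root_.commutator_def, map_commutator, map_top_of_surjective φ hφ, ← _root_.commutator_def, hperf22]
        exact mem_top _
      obtain ⟨d, hd, e⟩ := h
      have hd' : (d : G) ∈ ⁅C, C⁆ := by
        have : (d : G) ∈ (commutator ↥C).map C.subtype := ⟨d, hd, rfl⟩
        rwa [_root_.commutator_def, map_commutator, ← MonoidHom.range_eq_map, range_subtype] at this
      have hk : d⁻¹ * ⟨c, hc⟩ ∈ φ.ker := by rw [MonoidHom.mem_ker, map_mul, map_inv, e, inv_mul_cancel]
      obtain ⟨a, ha, s, hs', es⟩ := (hker _).1 (MonoidHom.mem_ker.1 hk)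
      have hc' : c = (d : G) * (a * s) := by
        rw [← es]; simp
      rw [hc']
      exact mul_mem hd' (mul_mem (hPC' ha) (zpowers_le.2 hzC hs'))
  · rw [hcen]; infer_instance
  · rw [hcen, Nat.card_zpowers, hgo]
  · intro n hn
    have hX : centralizer (P : Set G) ≤ centralizer ({z} : Set G) := D.centP_le B
    have hm : n * z * n⁻¹ ∈ centralizer (P : Set G) := BigData.conj_mem_centP hn M.z_mem_centP
    have hcz : (⟨n * z * n⁻¹, ⟨hX hm, hm⟩⟩ : ↥C) ∈ center ↥C := by
      refine mem_center_iff.2 fun c => Subtype.ext ?_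
      show (c : G) * (n * z * n⁻¹) = n * z * n⁻¹ * c
      have hcn : n⁻¹ * c * n ∈ centralizer (P : Set G) := by
        have := BigData.conj_mem_centP (inv_mem hn) c.2.2
        rwa [inv_inv] at this
      have h := mem_centralizer_singleton_iff.1 (hX hcn)
      calc (c : G) * (n * z * n⁻¹) = n * (n⁻¹ * c * n * z) * n⁻¹ := by group
        _ = n * (z * (n⁻¹ * c * n)) * n⁻¹ := by rw [h]
        _ = n * z * n⁻¹ * c := by group
    rw [hcen] at hcz
    obtain ⟨i, hi⟩ := hcz
    have hi' : (p * z) ^ i = n * z * n⁻¹ := congrArg Subtype.val hi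
    refine mem_centralizer_singleton_iff.2 ?_
    -- the only involution there is z
    have h2 : (n * z * n⁻¹) ^ 2 = 1 := by
      rw [conj_pow, show z ^ 2 = 1 from hzo ▸ pow_orderOf_eq_one z, mul_one, mul_inv_cancel]
    rw [← hi', ← zpow_natCast, ← zpow_mul] at h2
    have hd := orderOf_dvd_iff_zpow_eq_one.2 h2
    have ho : orderOf (p * z) = 6 := by rw [← hgo, ← Subgroup.orderOf_coe]
    rw [ho] at hd
    obtain ⟨j, rfl⟩ : (3 : ℤ) ∣ i := by omega
    have h3 : (p * z) ^ (3 : ℤ) = z := by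
      rw [show (3 : ℤ) = ((3 : ℕ) : ℤ) from rfl, zpow_natCast, hpz.mul_pow,
        show p ^ 3 = 1 from hpo ▸ pow_orderOf_eq_one p, one_mul, show (3 : ℕ) = 2 + 1 from rfl, pow_add,
        show z ^ 2 = 1 from hzo ▸ pow_orderOf_eq_one z, one_mul, pow_one]
    rw [zpow_mul, h3] at hi'
    rcases Int.even_or_odd j with ⟨l, rfl⟩ | ⟨l, rfl⟩
    · rw [zpow_add, ← Commute.mul_zpow (Commute.refl z), M.ctx.xs.sq, one_zpow] at hi'
      exact absurd (mul_eq_left.1 (mul_inv_eq_one.1 hi'.symm)) M.ctx.xs.ne_one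
    · rw [zpow_add, zpow_mul, zpow_two, M.ctx.xs.sq, one_zpow, one_mul, zpow_one] at hi'
      exact mul_inv_eq_iff_eq_mul.1 hi'.symm

end Cfsg.Agent.JankoFour
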