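import Cfsg.Agent.Lib.JankoFour.ElevenCent
import Cfsg.Agent.Lib.JankoFour.ThreeCent
import Cfsg.Agent.S0215
import Mathlib.GroupTheory.Nilpotent

/-!
The centraliser of the element of order eleven of the centraliser of the involution: a normal Sylow subgroup of
order 1331 extended by the part inside that centraliser.
-/

set_option autoImplicit false
set_option linter.unusedSectionVars false
set_option linter.style.haveILetI false

namespace Cfsg.Agent.JankoFour

open Subgroup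
open Cfsg.Agent.LargeFischer (QG)
open Cfsg.Agent.J4Module (app)
open Cfsg.Agent.J4Module.Data
open ElevenTab Split

variable {G : Type*} [Group G] [Finite G] {z : G} {P : Subgroup G}

namespace Model.Eleven

variable {M : Model z P} (F : M.Eleven)
include F

/-- The part of the extraspecial subgroup centralising the element. -/
def eight : Subgroup G := (F.cent ⊓ M.Q).map (centralizer ({z} : Set G)).subtype

theorem card_eight : Nat.card ↥F.eight = 8 := by
  rw [eight, card_map_of_injective (centralizer ({z} : Set G)).subtype_injective, F.card_inf]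

theorem mem_inf_cent {g : G} : g ∈ centralizer ({(F.c : G)} : Set G) ⊓ centralizer ({z} : Set G) ↔
    g ∈ F.cent.map (centralizer ({z} : Set G)).subtype := by
  constructor
  · exact fun ⟨h1, h2⟩ => ⟨⟨g, h2⟩, F.mem_cent.2 (Subtype.ext (mem_centralizer_singleton_iff.1 h1)), rfl⟩
  · rintro ⟨h, hh, rfl⟩
    exact ⟨mem_centralizer_singleton_iff.2 (congrArg Subtype.val (F.mem_cent.1 hh)), h.2⟩

theorem card_inf_cent :
    Nat.card ↥(centralizer ({(F.c : G)} : Set G) ⊓ centralizer ({z} : Set G) : Subgroup G) = 264 := by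
  rw [show centralizer ({(F.c : G)} : Set G) ⊓ centralizer ({z} : Set G) =
    F.cent.map (centralizer ({z} : Set G)).subtype from Subgroup.ext fun g => F.mem_inf_cent,
    card_map_of_injective (centralizer ({z} : Set G)).subtype_injective, F.card_cent]

theorem eight_le : F.eight ≤ centralizer ({(F.c : G)} : Set G) ⊓ centralizer ({z} : Set G) := by
  rintro _ ⟨h, hh, rfl⟩
  exact F.mem_inf_cent.2 ⟨h, hh.1, rfl⟩

theorem z_mem_eight : z ∈ F.eight :=
  ⟨M.toH M.zQ, ⟨F.toH_mem_cent.2 (by rw [show M.vec M.zQ = 0 from M.vec_z]; norm_num), M.toH_mem _⟩, rfl⟩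

theorem eight_invol {g : G} (hg : g ∈ F.eight) (h2 : g * g = 1) (h1 : g ≠ 1) : g = z := by
  obtain ⟨h, hh, rfl⟩ := hg
  rcases F.invol hh.1 (Subtype.ext h2) with e | e
  · exact absurd (congrArg Subtype.val e) h1
  · exact congrArg Subtype.val e

/-- Two elements of the quaternion group with commutator the involution. -/
theorem exists_commutator : ∃ a ∈ F.eight, ∃ b ∈ F.eight, a * b * a⁻¹ * b⁻¹ = z := by
  obtain ⟨e⟩ := F.quat
  obtain ⟨u, v, huv⟩ : ∃ u v : QuaternionGroup 2,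
      u * v * u⁻¹ * v⁻¹ ≠ 1 ∧ (u * v * u⁻¹ * v⁻¹) * (u * v * u⁻¹ * v⁻¹) = 1 := by
    refine ⟨QuaternionGroup.a 1, QuaternionGroup.xa 0, ?_, ?_⟩ <;> decide +kernel
  set a := e.symm u
  set b := e.symm v
  refine ⟨_, ⟨a, a.2, rfl⟩, _, ⟨b, b.2, rfl⟩, ?_⟩
  have hab : a * b * a⁻¹ * b⁻¹ = e.symm (u * v * u⁻¹ * v⁻¹) := by simp [a, b]
  refine F.eight_invol (mul_mem (mul_mem (mul_mem ?_ ?_) (inv_mem ?_)) (inv_mem ?_)) ?_ ?_
  · exact ⟨a, a.2, rfl⟩
  · exact ⟨b, b.2, rfl⟩
  · exact ⟨a, a.2, rfl⟩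
  · exact ⟨b, b.2, rfl⟩
  · have h : (a * b * a⁻¹ * b⁻¹) * (a * b * a⁻¹ * b⁻¹) = 1 := by rw [hab, ← map_mul, huv.2, map_one]
    exact congrArg (fun w : ↥(F.cent ⊓ M.Q : Subgroup ↥(centralizer ({z} : Set G))) => ((w : ↥(centralizer ({z} : Set G))) : G)) h
  · intro h
    have h' : a * b * a⁻¹ * b⁻¹ = 1 := Subtype.ext (Subtype.ext h)
    rw [hab, map_eq_one_iff _ e.symm.injective] at h'
    exact huv.1 h'

/-- Elements of odd order centralising the quaternion group are powers of the element. -/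
theorem odd_central {r : G} (hr : r ∈ centralizer ({(F.c : G)} : Set G) ⊓ centralizer ({z} : Set G))
    (ho : Odd (orderOf r)) (hc : ∀ e ∈ F.eight, r * e = e * r) : r ∈ zpowers (F.c : G) := by
  obtain ⟨h, hh, rfl⟩ := F.mem_inf_cent.1 hr
  obtain ⟨C, hC, ha⟩ := M.exists_cols h
  have hm := F.acts_list (F.mem_cent.1 hh) hC ha
  obtain ⟨x, hx⟩ := M.vec_surj 1 (by norm_num)
  have hcx : (h : G) * x = x * h := hc _ ⟨M.toH x, ⟨F.toH_mem_cent.2 (by rw [hx]; norm_num), M.toH_mem _⟩, rfl⟩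
  have hfix : app C 1 = 1 := by
    rw [← hx, ← ha x, (M.cfix_comm x).2 hcx]
  obtain ⟨a, b, hb, rfl⟩ : ∃ a b, b < 3 ∧ C = mulC (powC xC a) (powC pC b) := by
    simp only [listX, List.mem_flatMap, List.mem_map, List.mem_range] at hm
    obtain ⟨a, -, b, hb, e⟩ := hm
    exact ⟨a, b, hb, e.symm⟩
  have hb0 : b = 0 := by
    have hit : ∀ a n, n < 4 → app (powC xC a) n = n := by
      intro a
      induction a with
      | zero => intro n hn; exact app_unitC n (by omega)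
      | succ a ih => intro n hn; rw [show powC xC (a + 1) = mulC (powC xC a) xC from rfl, app_mulC,
          (ElevenTab.fix_spec n hn).1, ih n hn]
    obtain ⟨-, -, -, -, -, -, h1, h2, -⟩ := ElevenTab.norm_spec
    rw [app_mulC] at hfix
    interval_cases b
    · rfl
    · rw [show powC pC 1 = mulC unitC pC from rfl, app_mulC, h1, app_unitC 2 (by norm_num), hit a 2 (by norm_num)] at hfix
      omega
    · rw [show powC pC 2 = mulC (mulC unitC pC) pC from rfl, app_mulC, app_mulC, h1, h2,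
        app_unitC 3 (by norm_num), hit a 3 (by norm_num)] at hfix
      omega
  subst hb0
  have hq : (F.c ^ a)⁻¹ * h ∈ M.Q := by
    refine M.inv_mul_mem (M.acts_pow F.acts a) ?_
    have : mulC (powC xC a) (powC pC 0) = powC xC a := mulC_unitC (gen_length (powC_K xC_K a))
    rwa [this] at ha
  have hcomm : Commute h (F.c ^ a) := (show Commute h F.c from F.mem_cent.1 hh).pow_right a
  have h8 : ((F.c ^ a)⁻¹ * h) ^ 8192 = 1 := orderOf_dvd_iff_pow_eq_one.1 (M.card_Q ▸ Subgroup.orderOf_dvd_natCard _ hq)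
  obtain ⟨m, hm2⟩ := ho
  rw [show orderOf ((centralizer ({z} : Set G)).subtype h) = orderOf h from Subgroup.orderOf_coe h] at hm2
  have hodd : ((F.c ^ a)⁻¹ * h) ^ (11 * orderOf h) = 1 := by
    rw [hcomm.symm.inv_left.mul_pow, pow_mul, inv_pow, ← pow_mul, mul_comm a 11, pow_mul F.c, F.pow_eleven,
      one_pow, inv_one, one_pow, one_mul, mul_comm, pow_mul, pow_orderOf_eq_one, one_pow]
  have hco : Nat.Coprime 8192 (11 * orderOf h) := by
    rw [show (8192 : ℕ) = 2 ^ 13 by norm_num]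
    refine Nat.Coprime.pow_left 13 (Nat.coprime_two_left.2 ?_)
    rw [hm2]
    exact Odd.mul (by decide) ⟨m, rfl⟩
  have h1 : (F.c ^ a)⁻¹ * h = 1 := orderOf_eq_one_iff.1 (Nat.eq_one_of_dvd_coprimes hco
    (orderOf_dvd_of_pow_eq_one h8) (orderOf_dvd_of_pow_eq_one hodd))
  rw [inv_mul_eq_one] at h1
  show (h : G) ∈ _
  rw [← h1, SubmonoidClass.coe_pow]
  exact pow_mem (mem_zpowers _) a

theorem no_sixteen : ¬ 2 ^ 4 ∣ Nat.card ↥(centralizer ({(F.c : G)} : Set G)) := by
  haveI : Fact (Nat.Prime 2) := ⟨Nat.prime_two⟩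
  intro h
  set X := centralizer ({(F.c : G)} : Set G)
  obtain ⟨K, hK, hle⟩ := Sylow.exists_subgroup_card_pow_succ (n := 3) h
    (H := F.eight.subgroupOf X)
    (by rw [Nat.card_congr (subgroupOfEquivOfLe (F.eight_le.trans inf_le_left)).toEquiv, F.card_eight]; norm_num)
  have hidx : ((F.eight.subgroupOf X).subgroupOf K).index = 2 := by
    have h := ((F.eight.subgroupOf X).subgroupOf K).card_mul_index
    rw [Nat.card_congr (subgroupOfEquivOfLe hle).toEquiv,
      Nat.card_congr (subgroupOfEquivOfLe (F.eight_le.trans inf_le_left)).toEquiv, F.card_eight, hK] at h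
    norm_num at h
    omega
  haveI := Subgroup.normal_of_index_eq_two hidx
  have hKz : K.map X.subtype ≤ X ⊓ centralizer ({z} : Set G) := by
    rintro _ ⟨k, hk, rfl⟩
    refine ⟨k.2, mem_centralizer_singleton_iff.2 ?_⟩
    have hzX : z ∈ X := (F.eight_le F.z_mem_eight).1
    have hn := ‹((F.eight.subgroupOf X).subgroupOf K).Normal›.conj_mem
      ⟨⟨z, hzX⟩, hle (mem_subgroupOf.2 F.z_mem_eight)⟩ (mem_subgroupOf.2 (mem_subgroupOf.2 F.z_mem_eight)) ⟨k, hk⟩
    have hz' : (k : G) * z * (k : G)⁻¹ = z := by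
      refine F.eight_invol (mem_subgroupOf.1 (mem_subgroupOf.1 hn))
        (by rw [show (k : G) * z * (k : G)⁻¹ * ((k : G) * z * (k : G)⁻¹) = k * (z * z) * (k : G)⁻¹ by group, M.z_sq]; group)
        (fun h => M.ctx.xs.ne_one (conj_eq_one_iff.1 h))
    exact mul_inv_eq_iff_eq_mul.1 hz'
  have h2 := Subgroup.card_dvd_of_le hKz
  rw [card_map_of_injective X.subtype_injective, hK, F.card_inf_cent] at h2
  norm_num at h2

/-- The odd part of the centraliser. -/
structure Core where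
  O : Subgroup G
  le : O ≤ centralizer ({(F.c : G)} : Set G)
  mem : (F.c : G) ∈ O
  odd : Odd (Nat.card ↥O)
  conj_mem : ∀ g ∈ centralizer ({(F.c : G)} : Set G), ∀ o ∈ O, g * o * g⁻¹ ∈ O
  comm : ∀ g ∈ centralizer ({(F.c : G)} : Set G), z * g * z⁻¹ * g⁻¹ ∈ O
  inf : ∀ o ∈ O, o * z = z * o → o ∈ zpowers (F.c : G)

theorem exists_core : Nonempty F.Core := by
  classical
  haveI : Fact (Nat.Prime 2) := ⟨Nat.prime_two⟩
  set X := centralizer ({(F.c : G)} : Set G) with hX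
  have hzX : z ∈ X := (F.eight_le F.z_mem_eight).1
  have h8X : F.eight ≤ X := F.eight_le.trans inf_le_left
  have hfac : (Nat.card ↥X).factorization 2 = 3 := by
    refine le_antisymm ?_ ?_
    · by_contra h
      exact F.no_sixteen (((Nat.prime_two).pow_dvd_iff_le_factorization Nat.card_pos.ne').2
        (show 4 ≤ (Nat.card ↥X).factorization 2 by omega))
    · exact (Nat.prime_two.pow_dvd_iff_le_factorization Nat.card_pos.ne').1
        (by rw [show (2 : ℕ) ^ 3 = 8 by norm_num, ← F.card_eight]; exact card_dvd_of_le h8X)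
  let T : Sylow 2 ↥X := Sylow.ofCard (F.eight.subgroupOf X)
    (by rw [Nat.card_congr (subgroupOfEquivOfLe h8X).toEquiv, F.card_eight, hfac]; norm_num)
  set zX : ↥X := ⟨z, hzX⟩
  have hzo : orderOf zX = 2 := by rw [Subgroup.orderOf_mk]; exact M.order_z
  obtain ⟨N0, hN0n, hN0o, hN0⟩ := S0215.result T zX hzo (mem_subgroupOf.2 F.z_mem_eight) fun g hg => by
    refine Subtype.ext (F.eight_invol (mem_subgroupOf.1 hg) ?_ ?_)
    · show (g : G) * z * (g : G)⁻¹ * ((g : G) * z * (g : G)⁻¹) = 1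
      rw [show (g : G) * z * (g : G)⁻¹ * ((g : G) * z * (g : G)⁻¹) = g * (z * z) * (g : G)⁻¹ by group, M.z_sq]
      group
    · exact fun h => M.ctx.xs.ne_one (conj_eq_one_iff.1 h)
  set xX : ↥X := ⟨F.c, mem_centralizer_singleton_iff.2 rfl⟩
  haveI := hN0n
  haveI hZn : (zpowers xX).Normal := ⟨fun w hw g => by
    obtain ⟨i, rfl⟩ := hw
    have hg : Commute g xX := Subtype.ext (mem_centralizer_singleton_iff.1 g.2)
    rw [(hg.zpow_right i).eq, mul_inv_cancel_right]
    exact zpow_mem (mem_zpowers xX) i⟩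
  set N1 := N0 ⊔ zpowers xX with hN1
  have hN1o : Odd (Nat.card ↥N1) := by
    have h11 : Odd (Nat.card ↥(zpowers xX)) := by
      rw [Nat.card_zpowers, Subgroup.orderOf_mk, F.order']; decide
    have hsurj : Function.Surjective fun p : ↥N0 × ↥(zpowers xX) =>
        (⟨p.1 * p.2, mul_mem (mem_sup_left p.1.2) (mem_sup_right p.2.2)⟩ : ↥N1) := by
      rintro ⟨w, hw⟩
      obtain ⟨a, ha, b, hb, rfl⟩ := Subgroup.mem_sup_of_normal_left.1 hw
      exact ⟨(⟨a, ha⟩, ⟨b, hb⟩), rfl⟩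
    have hdvd : Nat.card ↥N1 ∣ Nat.card ↥N0 * Nat.card ↥(zpowers xX) := by
      have h := Subgroup.card_mul_index ((N0.subgroupOf N1))
      rw [Nat.card_congr (subgroupOfEquivOfLe (le_sup_left : N0 ≤ N1)).toEquiv] at h
      rw [← h]
      refine mul_dvd_mul_left _ ?_
      show N0.relIndex N1 ∣ _
      rw [hN1, relIndex_sup_left]
      exact relIndex_dvd_card _ _
    exact Odd.of_dvd_nat (hN0o.mul h11) hdvd
  set O := N1.map X.subtype with hO
  refine ⟨⟨O, map_subtype_le _, ⟨xX, mem_sup_right (mem_zpowers xX), rfl⟩, ?_, ?_, ?_, ?_⟩⟩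
  · rwa [hO, card_map_of_injective X.subtype_injective]
  · rintro g hg _ ⟨o, ho, rfl⟩
    exact ⟨⟨g, hg⟩ * o * ⟨g, hg⟩⁻¹, (inferInstance : N1.Normal).conj_mem _ ho _, rfl⟩
  · exact fun g hg => ⟨zX * ⟨g, hg⟩ * zX⁻¹ * ⟨g, hg⟩⁻¹, mem_sup_left (hN0 ⟨g, hg⟩), rfl⟩
  · rintro _ ⟨o, ho, rfl⟩ hoz
    refine F.odd_central ⟨o.2, mem_centralizer_singleton_iff.2 hoz⟩ ?_ ?_
    · rw [show X.subtype o = (o : G) from rfl, Subgroup.orderOf_coe]
      exact Odd.of_dvd_nat hN1o (Subgroup.orderOf_dvd_natCard N1 ho)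
    · intro e he
      set eX : ↥X := ⟨e, h8X he⟩
      set k := o * eX * o⁻¹ * eX⁻¹ with hk
      have hk1 : k ∈ N1 := by
        rw [hk, show o * eX * o⁻¹ * eX⁻¹ = o * (eX * o⁻¹ * eX⁻¹) by group]
        exact mul_mem ho ((inferInstance : N1.Normal).conj_mem _ (inv_mem ho) _)
      have hk8 : (k : G) ∈ F.eight := by
        refine mul_mem ?_ (inv_mem he)
        obtain ⟨h, hh, hhe⟩ := he
        have hhQ := hh.2
        have hH : (o : G) ∈ centralizer ({z} : Set G) := mem_centralizer_singleton_iff.2 hoz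
        refine ⟨⟨o, hH⟩ * h * ⟨o, hH⟩⁻¹, ⟨?_, M.normal.conj_mem _ hhQ _⟩, ?_⟩
        · have hox : (⟨o, hH⟩ : ↥(centralizer ({z} : Set G))) ∈ F.cent :=
            F.mem_cent.2 (Subtype.ext (mem_centralizer_singleton_iff.1 o.2))
          exact F.cent.mul_mem (F.cent.mul_mem hox hh.1) (F.cent.inv_mem hox)
        · show (o : G) * h * (o : G)⁻¹ = o * e * (o : G)⁻¹
          rw [show (h : G) = e from hhe]
      have hk0 : (k : G) = 1 := orderOf_eq_one_iff.1 (Nat.eq_one_of_dvd_coprimes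
        (show Nat.Coprime (Nat.card ↥N1) 8 from
          (show (8 : ℕ) = 2 ^ 3 by norm_num) ▸ (Nat.coprime_two_right.2 hN1o).pow_right 3)
        (by rw [Subgroup.orderOf_coe]; exact Subgroup.orderOf_dvd_natCard N1 hk1)
        (F.card_eight ▸ Subgroup.orderOf_dvd_natCard _ hk8))
      have hk0' : (o : G) * e * (o : G)⁻¹ * e⁻¹ = 1 := hk0
      rw [mul_inv_eq_one, mul_inv_eq_iff_eq_mul] at hk0'
      exact hk0'

namespace Core

variable {F} (K : F.Core)
include K

theorem x_comm {o : G} (ho : o ∈ K.O) : o * (F.c : G) = F.c * o := mem_centralizer_singleton_iff.1 (K.le ho)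

theorem odd_order {o : G} (ho : o ∈ K.O) : Odd (orderOf o) :=
  Odd.of_dvd_nat K.odd (Subgroup.orderOf_dvd_natCard K.O ho)

theorem x_le : zpowers (F.c : G) ≤ K.O := zpowers_le.2 K.mem

/-- Every element is an element of the core times one commuting with the involution. -/
theorem split {g : G} (hg : g ∈ centralizer ({(F.c : G)} : Set G)) :
    ∃ k ∈ K.O, z * k * z = k⁻¹ ∧ (k * g) * z = z * (k * g) := by
  set n := z * g * z⁻¹ * g⁻¹ with hn
  have hnO : n ∈ K.O := K.comm g hg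
  have hzi : z⁻¹ = z := inv_eq_of_mul_eq_one_right M.z_sq
  have hni : z * n * z = n⁻¹ := by
    rw [hn, hzi]
    calc z * (z * g * z * g⁻¹) * z = (z * z) * g * z * g⁻¹ * z := by group
      _ = g * z * g⁻¹ * z := by rw [M.z_sq, one_mul]
      _ = _ := by
        refine (inv_eq_of_mul_eq_one_right ?_).symm
        calc z * g * z * g⁻¹ * (g * z * g⁻¹ * z) = z * g * (z * z) * g⁻¹ * z := by group
          _ = 1 := by rw [M.z_sq]; simp [M.z_sq]
  obtain ⟨m, hm⟩ := K.odd_order hnO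
  have hk2 : n ^ (m + 1) * n ^ (m + 1) = n := by
    rw [← pow_add, show m + 1 + (m + 1) = orderOf n + 1 by omega, pow_succ, pow_orderOf_eq_one, one_mul]
  have hki : z * n ^ (m + 1) * z = (n ^ (m + 1))⁻¹ := by
    have h : (z * n * z⁻¹) ^ (m + 1) = z * n ^ (m + 1) * z⁻¹ := conj_pow
    rw [hzi, hni, inv_pow] at h
    exact h.symm
  refine ⟨n ^ (m + 1), pow_mem hnO _, hki, ?_⟩
  have h1 : z * g * z = n * g := by rw [hn, hzi]; group
  have : z * (n ^ (m + 1) * g) * z = n ^ (m + 1) * g := by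
    calc z * (n ^ (m + 1) * g) * z = (z * n ^ (m + 1)) * (z * z) * g * z := by rw [M.z_sq]; group
      _ = (z * n ^ (m + 1) * z) * (z * g * z) := by group
      _ = (n ^ (m + 1))⁻¹ * ((n ^ (m + 1) * n ^ (m + 1)) * g) := by rw [hki, h1, hk2]
      _ = _ := by group
  calc n ^ (m + 1) * g * z = z * (n ^ (m + 1) * g) * z * z := by rw [this]
    _ = z * (n ^ (m + 1) * g) * (z * z) := by group
    _ = _ := by rw [M.z_sq, mul_one]

theorem card_centralizer :
    Nat.card ↥(centralizer ({(F.c : G)} : Set G)) * 11 = Nat.card ↥K.O * 264 := by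
  classical
  set X := centralizer ({(F.c : G)} : Set G)
  set H' := (X ⊓ centralizer ({z} : Set G) : Subgroup G)
  let ψ : ↥K.O × ↥H' → ↥X := fun p => ⟨p.1 * p.2, mul_mem (K.le p.1.2) p.2.2.1⟩
  have hsurj : Function.Surjective ψ := fun g => by
    obtain ⟨k, hk, -, hc⟩ := K.split g.2
    exact ⟨(⟨k⁻¹, inv_mem hk⟩, ⟨k * g, mul_mem (K.le hk) g.2, mem_centralizer_singleton_iff.2 hc⟩),
      Subtype.ext (inv_mul_cancel_left _ _)⟩
  haveI : (K.O.subgroupOf X).Normal := ⟨fun o ho g => mem_subgroupOf.2 (K.conj_mem g g.2 o (mem_subgroupOf.1 ho))⟩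
  have hinf : K.O.subgroupOf H' = (zpowers (F.c : G)).subgroupOf H' := by
    ext h
    rw [mem_subgroupOf, mem_subgroupOf]
    exact ⟨fun ho => K.inf _ ho (mem_centralizer_singleton_iff.1 h.2.2), fun ho => K.x_le ho⟩
  have hxH : zpowers (F.c : G) ≤ H' := zpowers_le.2 ⟨mem_centralizer_singleton_iff.2 rfl, F.c.2⟩
  have h1 := (K.O.subgroupOf X).card_mul_index
  rw [Nat.card_congr (subgroupOfEquivOfLe K.le).toEquiv] at h1
  have hsup : H'.subgroupOf X ⊔ K.O.subgroupOf X = ⊤ := eq_top_iff.2 fun g _ => by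
    obtain ⟨⟨o, h⟩, e⟩ := hsurj g
    rw [← e, show ψ (o, h) = (⟨o, K.le o.2⟩ : ↥X) * ⟨h, h.2.1⟩ from rfl]
    exact mul_mem (mem_sup_right (mem_subgroupOf.2 o.2)) (mem_sup_left (mem_subgroupOf.2 h.2))
  have h2 : (K.O.subgroupOf X).relIndex (H'.subgroupOf X) = (K.O.subgroupOf X).index := by
    rw [← relIndex_sup_left, sup_comm, hsup, relIndex_top_right]
  rw [relIndex_subgroupOf (inf_le_left : H' ≤ X)] at h2
  have h3 := (K.O.subgroupOf H').card_mul_index
  rw [show (K.O.subgroupOf H').index = K.O.relIndex H' from rfl, h2, hinf,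
    Nat.card_congr (subgroupOfEquivOfLe hxH).toEquiv, Nat.card_zpowers, F.order'] at h3
  rw [← h1, ← F.card_inf_cent, ← h3]
  ring

/-- The involution inverts the core modulo the element. -/
theorem inverts {o : G} (ho : o ∈ K.O) : z * o * z * o ∈ zpowers (F.c : G) := by
  obtain ⟨k, hk, hki, hc⟩ := K.split (K.le ho)
  obtain ⟨i, hi⟩ := K.inf _ (mul_mem hk ho) hc
  have hi' : (F.c : G) ^ i = k * o := hi
  have ho' : o = k⁻¹ * (F.c : G) ^ i := by rw [hi', inv_mul_cancel_left]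
  have hx : Commute ((F.c : G) ^ i) k⁻¹ :=
    ((show Commute k (F.c : G) from K.x_comm hk).symm.zpow_left i).inv_right
  have hxz : Commute z ((F.c : G) ^ i) :=
    ((show Commute (F.c : G) z from mem_centralizer_singleton_iff.1 F.c.2).symm).zpow_right i
  have hkz : z * k⁻¹ * z = k := by
    have h := congrArg Inv.inv hki
    rw [inv_inv, _root_.mul_inv_rev, _root_.mul_inv_rev, inv_eq_of_mul_eq_one_right M.z_sq, ← mul_assoc] at h
    exact h
  have e : z * o * z * o = (F.c : G) ^ i * (F.c : G) ^ i := by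
    rw [ho']
    calc z * (k⁻¹ * (F.c : G) ^ i) * z * (k⁻¹ * (F.c : G) ^ i)
        = z * k⁻¹ * ((F.c : G) ^ i * z) * (k⁻¹ * (F.c : G) ^ i) := by group
      _ = (z * k⁻¹ * z) * (((F.c : G) ^ i * k⁻¹) * (F.c : G) ^ i) := by rw [← hxz.eq]; group
      _ = k * ((k⁻¹ * (F.c : G) ^ i) * (F.c : G) ^ i) := by rw [hkz, hx.eq]
      _ = _ := by group
  rw [e]
  exact mul_mem (zpow_mem (mem_zpowers _) i) (zpow_mem (mem_zpowers _) i)

/-- The core is abelian modulo the element. -/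
theorem commutator_mem {a b : G} (ha : a ∈ K.O) (hb : b ∈ K.O) : a * b * a⁻¹ * b⁻¹ ∈ zpowers (F.c : G) := by
  obtain ⟨i, hi⟩ := K.inverts ha
  obtain ⟨j, hj⟩ := K.inverts hb
  obtain ⟨l, hl⟩ := K.inverts (mul_mem ha hb)
  have hza : z * a * z = (F.c : G) ^ i * a⁻¹ := by rw [show (F.c : G) ^ i = z * a * z * a from hi]; group
  have hzb : z * b * z = (F.c : G) ^ j * b⁻¹ := by rw [show (F.c : G) ^ j = z * b * z * b from hj]; group
  have hc : Commute ((F.c : G) ^ j) a⁻¹ := ((show Commute a (F.c : G) from K.x_comm ha).symm.zpow_left j).inv_right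
  have e : (F.c : G) ^ l = (F.c : G) ^ (i + j) * (a⁻¹ * b⁻¹ * a * b) := by
    rw [show (F.c : G) ^ l = z * (a * b) * z * (a * b) from hl, show z * (a * b) * z = z * a * (z * z) * b * z by rw [M.z_sq]; group,
      show z * a * (z * z) * b * z = (z * a * z) * (z * b * z) by group, hza, hzb]
    calc (F.c : G) ^ i * a⁻¹ * ((F.c : G) ^ j * b⁻¹) * (a * b)
        = (F.c : G) ^ i * (a⁻¹ * (F.c : G) ^ j) * b⁻¹ * (a * b) := by group
      _ = _ := by rw [← hc.eq, zpow_add]; group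
  have h1 : a⁻¹ * b⁻¹ * a * b ∈ zpowers (F.c : G) := by
    rw [show a⁻¹ * b⁻¹ * a * b = ((F.c : G) ^ (i + j))⁻¹ * (F.c : G) ^ l by rw [e, inv_mul_cancel_left]]
    exact mul_mem (inv_mem (zpow_mem (mem_zpowers _) _)) (zpow_mem (mem_zpowers _) _)
  obtain ⟨m, hm⟩ := h1
  have hab : Commute (b * a) ((F.c : G) ^ m) :=
    ((show Commute (b * a) (F.c : G) from K.x_comm (mul_mem hb ha))).zpow_right m
  have : a * b * a⁻¹ * b⁻¹ = (F.c : G) ^ m := by
    rw [show a * b * a⁻¹ * b⁻¹ = (b * a) * (a⁻¹ * b⁻¹ * a * b) * (b * a)⁻¹ by group,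
      show a⁻¹ * b⁻¹ * a * b = (F.c : G) ^ m from hm.symm, hab.eq, mul_inv_cancel_right]
  rw [this]
  exact zpow_mem (mem_zpowers _) m

/-- A subgroup of prime order modulo the element cannot be acted on by the quaternion group. -/
theorem not_cyclic_image {r : G} (hr : r ∈ K.O) (hrx : r ∉ zpowers (F.c : G))
    (hinv : ∀ q ∈ F.eight, ∃ i : ℤ, ∃ w ∈ zpowers (F.c : G), q * r * q⁻¹ = r ^ i * w) : False := by
  obtain ⟨a, ha, b, hb, hab⟩ := F.exists_commutator
  have hqc : ∀ q ∈ F.eight, ∀ w ∈ zpowers (F.c : G), q * w * q⁻¹ = w := by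
    rintro q hq _ ⟨i, rfl⟩
    exact mul_inv_eq_iff_eq_mul.2
      ((show Commute q (F.c : G) from mem_centralizer_singleton_iff.1 (F.eight_le hq).1).zpow_right i).eq
  have hpow : ∀ q ∈ F.eight, ∀ (i : ℤ) (w : G), w ∈ zpowers (F.c : G) → q * r * q⁻¹ = r ^ i * w →
      ∀ n : ℤ, q * r ^ n * q⁻¹ = r ^ (i * n) * w ^ n := by
    intro q _ i w hw h n
    obtain ⟨k, rfl⟩ := hw
    rw [← conj_zpow, h, (((show Commute r (F.c : G) from K.x_comm hr).zpow_right k).zpow_left i).mul_zpow, ← zpow_mul r]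
  have htwo : ∀ u ∈ F.eight, ∀ v ∈ F.eight, ∀ (i j : ℤ) (w w' : G), w ∈ zpowers (F.c : G) → w' ∈ zpowers (F.c : G) →
      u * r * u⁻¹ = r ^ i * w → v * r * v⁻¹ = r ^ j * w' →
      ∃ w'' ∈ zpowers (F.c : G), (u * v) * r * (u * v)⁻¹ = r ^ (i * j) * w'' := by
    intro u hu v _ i j w w' hw hw' e1 e2
    refine ⟨w ^ j * w', mul_mem (zpow_mem hw j) hw', ?_⟩
    rw [show u * v * r * (u * v)⁻¹ = u * (v * r * v⁻¹) * u⁻¹ by group, e2,
      show u * (r ^ j * w') * u⁻¹ = (u * r ^ j * u⁻¹) * (u * w' * u⁻¹) by group, hpow u hu i w hw e1 j,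
      hqc u hu w' hw', mul_assoc]
  obtain ⟨i, w, hw, e1⟩ := hinv a ha
  obtain ⟨j, w', hw', e2⟩ := hinv b hb
  obtain ⟨u, hu, e3⟩ := htwo a ha b hb i j w w' hw hw' e1 e2
  obtain ⟨v, hv, e4⟩ := htwo b hb a ha j i w' w hw' hw e2 e1
  -- the commutator fixes the element modulo the central one
  rw [mul_comm j i] at e4
  obtain ⟨l, hl⟩ := mul_mem (inv_mem hv) hu
  have hl' : (F.c : G) ^ l = v⁻¹ * u := hl
  have h5 : a * b * r * (a * b)⁻¹ = b * a * (r * (F.c : G) ^ l) * (b * a)⁻¹ := by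
    rw [show b * a * (r * (F.c : G) ^ l) * (b * a)⁻¹ = (b * a * r * (b * a)⁻¹) * (b * a * (F.c : G) ^ l * (b * a)⁻¹) by group,
      hqc (b * a) (mul_mem hb ha) _ (zpow_mem (mem_zpowers _) l), e3, e4, hl', mul_assoc, mul_inv_cancel_left]
  have hz' : ∃ n : ℤ, z * r * z⁻¹ = r * (F.c : G) ^ n := by
    refine ⟨l, ?_⟩
    have hba : b * a * (r * (F.c : G) ^ l) * (b * a)⁻¹ = (b * a) * (r * (F.c : G) ^ l) * (b * a)⁻¹ := rfl
    have hzc : ∀ c ∈ F.eight, z * c = c * z := fun c hc => (mem_centralizer_singleton_iff.1 (F.eight_le hc).2).symm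
    have hab' : a * b = z * (b * a) := by rw [← hab]; group
    rw [hab', show z * (b * a) = (b * a) * z from hzc _ (mul_mem hb ha),
      show b * a * z * r * (b * a * z)⁻¹ = b * a * (z * r * z⁻¹) * (b * a)⁻¹ by group] at h5
    exact mul_left_cancel (mul_right_cancel h5)
  obtain ⟨n, hn⟩ := hz'
  obtain ⟨k, hk⟩ := K.inverts hr
  have hk' : (F.c : G) ^ k = z * r * z * r := hk
  have hzi : z⁻¹ = z := inv_eq_of_mul_eq_one_right M.z_sq
  rw [hzi] at hn
  rw [hn] at hk'
  have hcr : Commute r ((F.c : G) ^ n) := (show Commute r (F.c : G) from K.x_comm hr).zpow_right n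
  have h2 : r * r = (F.c : G) ^ (k - n) := by
    rw [zpow_sub, eq_mul_inv_iff_mul_eq, hk', mul_assoc, mul_assoc, hcr.eq]
  obtain ⟨m, hm⟩ := K.odd_order hr
  refine hrx ⟨(k - n) * (m + 1), ?_⟩
  show (F.c : G) ^ ((k - n) * (m + 1)) = r
  rw [zpow_mul, ← h2, show ((m : ℤ) + 1) = ((m + 1 : ℕ) : ℤ) by push_cast; rfl, zpow_natCast, ← pow_two, ← pow_mul,
    show 2 * (m + 1) = orderOf r + 1 by omega, pow_succ, pow_orderOf_eq_one, one_mul]

/-- A prime to eleven: its part is central. -/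
theorem prime_central {p : ℕ} (hp : p.Prime) (hp11 : p ≠ 11) {r g : G} (hr : r ∈ K.O) (hg : g ∈ K.O) {k : ℕ}
    (hrp : r ^ p ^ k = 1) : g * r = r * g := by
  obtain ⟨j, hj⟩ := K.commutator_mem hg hr
  have hj' : (F.c : G) ^ j = g * r * g⁻¹ * r⁻¹ := hj
  have e : g * r * g⁻¹ = (F.c : G) ^ j * r := by rw [hj', inv_mul_cancel_right]
  have hc : Commute ((F.c : G) ^ j) r := (show Commute r (F.c : G) from K.x_comm hr).symm.zpow_left j
  have h := congrArg (· ^ p ^ k) e
  simp only [conj_pow, hrp, mul_one, mul_inv_cancel, hc.mul_pow] at h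
  have h0 : (F.c : G) ^ j = 1 := orderOf_eq_one_iff.1 (Nat.eq_one_of_dvd_coprimes
    (((Nat.coprime_primes hp (by norm_num : Nat.Prime 11)).2 hp11).pow_left k)
    (orderOf_dvd_of_pow_eq_one h.symm) (F.order' ▸ orderOf_dvd_of_mem_zpowers (zpow_mem (mem_zpowers _) j)))
  rw [h0, one_mul, mul_inv_eq_iff_eq_mul] at e
  exact e

end Core

end Model.Eleven

end Cfsg.Agent.JankoFour
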