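import Cfsg.Agent.Lib.JankoFour.ElevenMathieu
import Cfsg.Agent.Lib.JankoFour.OrbitExclude
import Mathlib.GroupTheory.Transfer

/-!
Subgroups of the group of the code containing an element of order eleven with self-normalising cyclic group.
-/

set_option autoImplicit false
set_option linter.style.haveILetI false

namespace Cfsg.Agent.JankoFour.ElevenM24

open Subgroup
open Cfsg (M24)
open Cfsg.Agent.Golay

/-- Such a subgroup has order at most 253. -/
theorem self_norm_small {S : Subgroup ↥M24} {y : ↥M24} (hy : orderOf y = 11) (hyS : y ∈ S)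
    (hN : ∀ f ∈ S, f * y * f⁻¹ ∈ zpowers y → f ∈ zpowers y) : Nat.card ↥S ≤ 253 := by
  classical
  haveI : Fact (Nat.Prime 11) := ⟨by norm_num⟩
  set yS : ↥S := ⟨y, hyS⟩ with hyS'
  have hyo : orderOf yS = 11 := by rw [Subgroup.orderOf_mk, hy]
  have hdvd : Nat.card ↥S ∣ 244823040 := card_M24 ▸ card_subgroup_dvd_card S
  have h121 : ¬ 11 ^ 2 ∣ Nat.card ↥S := fun h => absurd (h.trans hdvd) (by norm_num)
  have hfac : (Nat.card ↥S).factorization 11 = 1 := by
    refine le_antisymm ?_ ?_
    · by_contra h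
      exact h121 (((by norm_num : Nat.Prime 11).pow_dvd_iff_le_factorization Nat.card_pos.ne').2 (by omega))
    · exact ((by norm_num : Nat.Prime 11).pow_dvd_iff_le_factorization Nat.card_pos.ne').1
        (by rw [pow_one, ← hyo]; exact _root_.orderOf_dvd_natCard yS)
  let T : Sylow 11 ↥S := Sylow.ofCard (zpowers yS) (by rw [Nat.card_zpowers, hyo, hfac, pow_one])
  have hTn : normalizer ((zpowers yS : Subgroup ↥S) : Set ↥S) = zpowers yS := by
    refine le_antisymm (fun f hf => ?_) le_normalizer
    obtain ⟨i, hi⟩ := (Subgroup.mem_normalizer_iff.1 hf yS).1 (mem_zpowers yS)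
    obtain ⟨j, hj⟩ := hN f f.2 ⟨i, by
      have := congrArg Subtype.val hi
      simpa [hyS'] using this⟩
    exact ⟨j, Subtype.ext (by rw [SubgroupClass.coe_zpow]; exact hj)⟩
  have hT : normalizer ((T : Subgroup ↥S) : Set ↥S) ≤ centralizer ((T : Subgroup ↥S) : Set ↥S) := by
    show normalizer ((zpowers yS : Subgroup ↥S) : Set ↥S) ≤ _
    rw [hTn]
    intro f hf
    refine mem_centralizer_iff.2 fun g hg => ?_
    obtain ⟨i, rfl⟩ := hf
    obtain ⟨j, rfl⟩ := hg
    exact ((Commute.refl yS).zpow_zpow j i).eq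
  set K := (MonoidHom.transferSylow T hT).ker with hK
  have hcK : Nat.card ↥K * 11 = Nat.card ↥S := by
    have h := (MonoidHom.ker_transferSylow_isComplement' T hT).card_mul_card
    rwa [show Nat.card ↥(T : Subgroup ↥S) = 11 by show Nat.card ↥(zpowers yS) = 11; rw [Nat.card_zpowers, hyo]] at h
  have hK11 : ¬ 11 ∣ Nat.card ↥K := MonoidHom.not_dvd_card_ker_transferSylow T hT
  have hKd : Nat.card ↥K ∣ 22256640 := by
    rw [← hcK, show (244823040 : ℕ) = 22256640 * 11 by norm_num] at hdvd
    exact Nat.dvd_of_mul_dvd_mul_right (by norm_num) hdvd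
  -- elements of order eleven fix nothing in K
  have hfree : ∀ w c : ↥S, orderOf w = 11 → c ∈ K → c * w = w * c → c = 1 := by
    intro w c hw hc hcw
    let Tw : Sylow 11 ↥S := Sylow.ofCard (zpowers w) (by rw [Nat.card_zpowers, hw, hfac, pow_one])
    obtain ⟨s, hs⟩ := MulAction.exists_smul_eq ↥S Tw T
    have hsw : s * w * s⁻¹ ∈ zpowers yS := by
      show s * w * s⁻¹ ∈ (T : Subgroup ↥S)
      rw [← hs]
      exact ⟨w, mem_zpowers w, rfl⟩
    have hgen : zpowers (s * w * s⁻¹) = zpowers yS := eq_of_le_of_card_ge (zpowers_le.2 hsw) (by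
      rw [Nat.card_zpowers, Nat.card_zpowers, hyo]
      exact (((MulAut.conj s).orderOf_eq w).trans hw).ge)
    have hcy : Commute (s * c * s⁻¹) yS := by
      obtain ⟨i, hi⟩ := (hgen.symm ▸ mem_zpowers yS : yS ∈ zpowers (s * w * s⁻¹))
      rw [← hi]
      exact ((show Commute c w from hcw).map (MulAut.conj s).toMonoidHom).zpow_right i
    have hmem : s * c * s⁻¹ ∈ zpowers yS := by
      rw [← hTn]
      refine centralizer_le_normalizer _ (mem_centralizer_iff.2 fun g hg => ?_)
      obtain ⟨i, rfl⟩ := hg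
      exact (hcy.zpow_right i).eq.symm
    have h1 : s * c * s⁻¹ = 1 := orderOf_eq_one_iff.1 (Nat.eq_one_of_dvd_coprimes
      ((Nat.Prime.coprime_iff_not_dvd (by norm_num)).2 hK11 : Nat.Coprime 11 (Nat.card ↥K))
      (hyo ▸ orderOf_dvd_of_mem_zpowers hmem) (Subgroup.orderOf_dvd_natCard K ((MonoidHom.normal_ker _).conj_mem c hc s)))
    exact conj_eq_one_iff.1 h1
  have hprime : ∀ p : ℕ, p.Prime → p ∣ Nat.card ↥K → p = 23 := by
    intro p hp hpK
    haveI := Fact.mk hp
    obtain ⟨Pp⟩ : Nonempty (Sylow p ↥K) := inferInstance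
    set R := (Pp : Subgroup ↥K).map K.subtype with hR
    haveI : K.Normal := MonoidHom.normal_ker _
    have hfr := Sylow.normalizer_sup_eq_top Pp
    have hdiv : 11 ∣ Nat.card ↥(normalizer (R : Set ↥S)) := by
      have hidx : K.index = 11 := by
        have := K.card_mul_index
        rw [← hcK] at this
        exact Nat.eq_of_mul_eq_mul_left Nat.card_pos this
      have hmap : (normalizer (R : Set ↥S)).map (QuotientGroup.mk' K) = ⊤ := by
        have h := congrArg (Subgroup.map (QuotientGroup.mk' K)) hfr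
        rwa [Subgroup.map_sup, (Subgroup.map_eq_bot_iff K).2 (by rw [QuotientGroup.ker_mk']), sup_bot_eq,
          Subgroup.map_top_of_surjective _ (QuotientGroup.mk'_surjective K)] at h
      have h := Subgroup.card_map_dvd (normalizer (R : Set ↥S)) (QuotientGroup.mk' K)
      rw [hmap, Nat.card_congr Subgroup.topEquiv.toEquiv, ← Subgroup.index_eq_card, hidx] at h
      exact h
    obtain ⟨⟨w, hwN⟩, hw⟩ := exists_prime_orderOf_dvd_card' 11 hdiv
    rw [Subgroup.orderOf_mk] at hw
    have hmod := card_fixed_modEq hw (K := R) hwN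
    rw [show R ⊓ centralizer ({w} : Set ↥S) = ⊥ from (Subgroup.eq_bot_iff_forall _).2 fun c hc =>
      hfree w c hw (map_subtype_le _ hc.1) (mem_centralizer_singleton_iff.1 hc.2), Subgroup.card_bot,
      hR, card_map_of_injective K.subtype_injective, Sylow.card_eq_multiplicity] at hmod
    set e := (Nat.card ↥K).factorization p with he
    have he1 : 1 ≤ e := (hp.pow_dvd_iff_le_factorization Nat.card_pos.ne').1 (by rwa [pow_one])
    have hpe : p ^ e ∣ 22256640 := (Nat.ordProj_dvd _ p).trans hKd
    have hp' : p = 2 ∨ p = 3 ∨ p = 5 ∨ p = 7 ∨ p = 23 := by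
      have h := (dvd_pow_self p (by omega : e ≠ 0)).trans hpe
      rw [show (22256640 : ℕ) = 2 ^ 10 * 3 ^ 3 * 5 * 7 * 23 by norm_num] at h
      rcases hp.dvd_mul.1 h with h | h
      · rcases hp.dvd_mul.1 h with h | h
        · rcases hp.dvd_mul.1 h with h | h
          · rcases hp.dvd_mul.1 h with h | h
            · exact Or.inl ((Nat.prime_dvd_prime_iff_eq hp Nat.prime_two).1 (hp.dvd_of_dvd_pow h))
            · exact Or.inr (Or.inl ((Nat.prime_dvd_prime_iff_eq hp Nat.prime_three).1 (hp.dvd_of_dvd_pow h)))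
          · exact Or.inr (Or.inr (Or.inl ((Nat.prime_dvd_prime_iff_eq hp (by norm_num)).1 h)))
        · exact Or.inr (Or.inr (Or.inr (Or.inl ((Nat.prime_dvd_prime_iff_eq hp (by norm_num)).1 h))))
      · exact Or.inr (Or.inr (Or.inr (Or.inr ((Nat.prime_dvd_prime_iff_eq hp (by norm_num)).1 h))))
    rcases hp' with rfl | rfl | rfl | rfl | rfl
    · exfalso
      have hle : e ≤ 10 := by
        by_contra h
        exact absurd ((pow_dvd_pow 2 (show 11 ≤ e by omega)).trans hpe) (by norm_num)
      interval_cases e <;> try norm_num at hmod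
      -- a Sylow 2-subgroup of the whole group, with fixed-point-free action on its centre
      have hRc : Nat.card ↥R = 2 ^ 10 := by
        rw [hR, card_map_of_injective K.subtype_injective, Sylow.card_eq_multiplicity, ← he]
      haveI : Nontrivial ↥R := Finite.one_lt_card_iff_nontrivial.1 (by rw [hRc]; norm_num)
      set Z := (Subgroup.center ↥R).map R.subtype with hZ
      have hZn : w ∈ normalizer (Z : Set ↥S) := mem_normalizer_fintype fun a ha => by
        obtain ⟨⟨a, haR⟩, hac, rfl⟩ := ha
        have hwa : w * a * w⁻¹ ∈ R := (Subgroup.mem_normalizer_iff.1 hwN a).1 haR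
        refine ⟨⟨_, hwa⟩, Subgroup.mem_center_iff.2 fun b => Subtype.ext ?_, rfl⟩
        have hb : w⁻¹ * b * w ∈ R := by
          have := (Subgroup.mem_normalizer_iff.1 (inv_mem hwN) b).1 b.2
          rwa [inv_inv] at this
        have h := congrArg Subtype.val (Subgroup.mem_center_iff.1 hac ⟨_, hb⟩)
        show (b : ↥S) * (w * a * w⁻¹) = w * a * w⁻¹ * b
        calc (b : ↥S) * (w * a * w⁻¹) = w * (w⁻¹ * b * w * a) * w⁻¹ := by group
          _ = w * (a * (w⁻¹ * b * w)) * w⁻¹ := by rw [show w⁻¹ * (b : ↥S) * w * a = a * (w⁻¹ * b * w) from h]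
          _ = _ := by group
      have hm := card_fixed_modEq hw (K := Z) hZn
      rw [show Z ⊓ centralizer ({w} : Set ↥S) = ⊥ from (Subgroup.eq_bot_iff_forall _).2 fun c hc =>
        hfree w c hw (map_subtype_le _ (map_subtype_le _ hc.1)) (mem_centralizer_singleton_iff.1 hc.2),
        Subgroup.card_bot, hZ, card_map_of_injective R.subtype_injective] at hm
      have hpR : IsPGroup 2 ↥R := IsPGroup.of_card hRc
      haveI := hpR.center_nontrivial
      have h1 : 1 < Nat.card ↥(Subgroup.center ↥R) := Finite.one_lt_card_iff_nontrivial.2 inferInstance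
      obtain ⟨k, hk, hkc⟩ := (Nat.dvd_prime_pow Nat.prime_two).1 (hRc ▸ card_subgroup_dvd_card (Subgroup.center ↥R))
      rw [hkc] at hm h1
      interval_cases k <;> (try norm_num at hm) <;> (try norm_num at h1)
      have htop : Subgroup.center ↥R = ⊤ := Subgroup.eq_top_of_card_eq _ (by rw [hkc, hRc])
      refine not_abelian_sylow (R.map S.subtype) (by rw [card_map_of_injective S.subtype_injective, hRc]) ?_
      rintro _ ⟨a, ha, rfl⟩ _ ⟨b, hb, rfl⟩
      rw [← map_mul, ← map_mul]
      refine congrArg S.subtype ?_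
      exact congrArg Subtype.val (Subgroup.mem_center_iff.1 (htop ▸ mem_top (⟨b, hb⟩ : ↥R)) ⟨a, ha⟩)
    · exfalso
      have hle : e ≤ 3 := by
        by_contra h
        exact absurd ((pow_dvd_pow 3 (show 4 ≤ e by omega)).trans hpe) (by norm_num)
      interval_cases e <;> norm_num at hmod
    · exfalso
      have hle : e ≤ 1 := by
        by_contra h
        exact absurd ((pow_dvd_pow 5 (show 2 ≤ e by omega)).trans hpe) (by norm_num)
      interval_cases e <;> norm_num at hmod
    · exfalso
      have hle : e ≤ 1 := by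
        by_contra h
        exact absurd ((pow_dvd_pow 7 (show 2 ≤ e by omega)).trans hpe) (by norm_num)
      interval_cases e <;> norm_num at hmod
    · rfl
  have h23 : Nat.card ↥K ∣ 23 := by
    have hc : Nat.Coprime (Nat.card ↥K) 967680 := Nat.coprime_of_dvd fun p hp h1 h2 => by
      rw [hprime p hp h1] at h2; norm_num at h2
    rw [show (22256640 : ℕ) = 967680 * 23 by norm_num] at hKd
    exact hc.dvd_of_dvd_mul_left hKd
  have := Nat.le_of_dvd (by norm_num) h23
  omega

end Cfsg.Agent.JankoFour.ElevenM24
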