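import Cfsg.Agent.Lib.JankoFour.ElevenBase
import Cfsg.Agent.Lib.JankoFour.ElevenSelfNorm

/-!
Two conjugates of the large abelian subgroup fixed by an element of order eleven: their normalisers cannot meet
in a group with self-normalising cyclic subgroup of order eleven.
-/

set_option autoImplicit false
set_option linter.unusedSectionVars false
set_option linter.style.haveILetI false

namespace Cfsg.Agent.JankoFour.BigPack

open Subgroup
open Cfsg (GolayPt M24)

variable {G : Type*} [Group G] [Finite G] {z : G} {V : Subgroup G} (D : BigPack z V)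
include D

/-- A subgroup of the large abelian subgroup without fixed points under an element of order eleven. -/
theorem card_free_sub {y : G} (hy : orderOf y = 11) {K : Subgroup G} (hK : K ≤ V)
    (hyK : y ∈ normalizer (K : Set G)) (hfix : K ⊓ centralizer ({y} : Set G) = ⊥) :
    Nat.card ↥K = 1 ∨ Nat.card ↥K = 2 ^ 10 := by
  haveI : Fact (Nat.Prime 11) := ⟨by norm_num⟩
  have hmod := card_fixed_modEq hy hyK
  obtain ⟨k, hk, e⟩ := D.card_sub_V hK
  rw [hfix, Subgroup.card_bot, e] at hmod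
  rw [e]
  interval_cases k <;> (try norm_num at hmod) <;> norm_num

/-- No abelian group of order 1024 of the normaliser avoids the subgroup. -/
theorem not_abelian_complement {K : Subgroup G} (hK : K ≤ normalizer (V : Set G))
    (hab : ∀ a ∈ K, ∀ b ∈ K, a * b = b * a) (hc : Nat.card ↥K = 2 ^ 10) (hKV : K ⊓ V = ⊥) : False := by
  set f : ↥K →* ↥M24 := D.phi.comp (inclusion hK)
  have hinj : Function.Injective f := by
    rw [injective_iff_map_eq_one]
    intro a ha
    have h : (a : G) ∈ K ⊓ V := ⟨a.2, D.phi_eq_one.1 ha⟩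
    rw [hKV, Subgroup.mem_bot] at h
    exact Subtype.ext h
  refine ElevenM24.not_abelian_sylow f.range ?_ ?_
  · rw [← Nat.card_congr (MonoidHom.ofInjective hinj).toEquiv, hc]
  · rintro _ ⟨a, rfl⟩ _ ⟨b, rfl⟩
    rw [← map_mul, ← map_mul, show a * b = b * a from Subtype.ext (hab a a.2 b b.2)]

/-- A hyperplane contains elements of both classes. -/
theorem both_classes {W : Subgroup G} (hW : W ≤ V) (hc : Nat.card ↥W = 2 ^ 10) :
    (∃ v ∈ W, IsConj z v) ∧ ∃ u ∈ W, u ≠ 1 ∧ ¬ IsConj z u := by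
  classical
  have hidx : W.relIndex V = 2 := by
    have h := Subgroup.card_mul_index (W.subgroupOf V)
    rw [Nat.card_congr (subgroupOfEquivOfLe hW).toEquiv, hc, D.card] at h
    show (W.subgroupOf V).index = 2
    omega
  constructor
  · by_contra hno
    push Not at hno
    have hsub : (W : Set G) \ {1} ⊆ D.eS '' {r : Finset GolayPt | r.card = 2} := fun v hv => by
      obtain ⟨d, hd, he⟩ := D.cocode.exists_duad (hW hv.1) hv.2 (hno v hv.1)
      exact ⟨d, hd, he⟩
    have h := Set.ncard_le_ncard hsub (Set.toFinite _)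
    rw [D.card_duads, Set.ncard_sdiff_singleton_of_mem (show (1 : G) ∈ (W : Set G) from W.one_mem),
      ← Nat.card_coe_set_eq] at h
    change Nat.card ↥W - 1 ≤ 276 at h
    omega
  · have h3 : 3 ≤ (Finset.univ : Finset GolayPt).card := by
      rw [Finset.card_univ, Golay.Index276.card_pts]; norm_num
    obtain ⟨T, -, hT⟩ := Finset.exists_subset_card_eq h3
    obtain ⟨a, b, c, hab, hac, hbc, -⟩ := Finset.card_eq_three.1 hT
    have hpair : ∀ p q : GolayPt, p ≠ q → D.eS {p, q} ∈ V ∧ D.eS {p, q} ≠ 1 ∧ ¬ IsConj z (D.eS {p, q}) := by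
      intro p q hpq
      have h2 := Finset.card_pair hpq
      refine ⟨D.eS_mem _, fun h => ?_, D.pair_not_conj _ h2⟩
      have := D.cocode.inj {p, q} (by rw [h2]; decide) (by omega) h
      rw [this] at h2
      simp at h2
    obtain ⟨hx, hx1, hxn⟩ := hpair a b hab
    obtain ⟨hy, hy1, hyn⟩ := hpair a c hac
    obtain ⟨hw, hw1, hwn⟩ := hpair b c hbc
    have hmul : D.eS {b, c} = D.eS {a, b} * D.eS {a, c} := by
      rw [← D.eS_symmDiff _ _ (by rw [Finset.card_pair hab]; decide) (by rw [Finset.card_pair hac]; decide),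
        TwoCent.pair_symm_pair hab hac hbc]
    by_cases h1 : D.eS {a, b} ∈ W
    · exact ⟨_, h1, hx1, hxn⟩
    by_cases h2 : D.eS {a, c} ∈ W
    · exact ⟨_, h2, hy1, hyn⟩
    refine ⟨_, ?_, hw1, hwn⟩
    rw [hmul]
    have h := (Subgroup.mul_mem_iff_of_index_two (H := W.subgroupOf V) hidx (a := ⟨_, hx⟩) (b := ⟨_, hy⟩)).2
    exact h ⟨fun h' => absurd h' h1, fun h' => absurd h' h2⟩

/-- The configuration is impossible. -/
theorem regular_false (hord : Nat.card G = 86775571046077562880) {y t a : G} (hy : orderOf y = 11)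
    (htV : t ∈ V) (ht1 : t ≠ 1) (hty : t * y = y * t) (hyN : y ∈ normalizer (V : Set G))
    (hay : a * y = y * a) (haN : a ∉ normalizer (V : Set G)) (hat : a * t ≠ t * a)
    (hreg : ∀ f ∈ normalizer (V : Set G), a⁻¹ * f * a ∈ normalizer (V : Set G) →
      f * y * f⁻¹ ∈ zpowers y → f ∈ zpowers y) : False := by
  classical
  haveI : Fact (Nat.Prime 11) := ⟨by norm_num⟩
  set N := normalizer (V : Set G) with hN
  set N' := N.map (MulAut.conj a).toMonoidHom with hN'
  set V' := V.map (MulAut.conj a).toMonoidHom with hV'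
  have hmemN' : ∀ {f : G}, f ∈ N' ↔ a⁻¹ * f * a ∈ N := fun {f} => by
    constructor
    · rintro ⟨g, hg, rfl⟩
      simpa [mul_assoc] using hg
    · exact fun h => ⟨_, h, by simp [mul_assoc]⟩
  have hyy : a⁻¹ * y * a = y := by rw [mul_assoc, ← hay, inv_mul_cancel_left]
  set S := N ⊓ N' with hS
  have hyS : y ∈ S := ⟨hyN, hmemN'.2 (hyy.symm ▸ hyN)⟩
  -- no non-identity element of the meet with V is fixed
  set W := S ⊓ V with hW
  have hWfix : W ⊓ centralizer ({y} : Set G) = ⊥ := by
    refine (Subgroup.eq_bot_iff_forall _).2 fun v hv => ?_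
    obtain ⟨⟨hvS, hvV⟩, hvc⟩ := hv
    have hvy := mem_centralizer_singleton_iff.1 hvc
    rcases D.fix_eleven_cases hy hyN htV ht1 hty hvV hvy with h | h
    · exact h
    exfalso
    subst h
    have h2 : a⁻¹ * v * a * y = y * (a⁻¹ * v * a) := by
      have hc : Commute (a⁻¹ * v * a) y :=
        (((show Commute a y from hay).inv_left).mul_left hvy).mul_left (show Commute a y from hay)
      exact hc.eq
    have h3 := D.cent_eleven_invol hy hyN htV ht1 hty (hmemN'.1 hvS.2) h2
      (by rw [show a⁻¹ * v * a * (a⁻¹ * v * a) = a⁻¹ * (v * v) * a by group, D.sq v htV]; group)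
      (fun h => ht1 (by rwa [show a⁻¹ * v * a = a⁻¹ * v * a⁻¹⁻¹ by group, conj_eq_one_iff] at h))
    exact hat (by rw [← h3]; nth_rw 2 [h3]; group)
  have hyW : y ∈ normalizer (W : Set G) := mem_normalizer_fintype fun v hv =>
    ⟨S.mul_mem (S.mul_mem hyS hv.1) (S.inv_mem hyS), (Subgroup.mem_normalizer_iff.1 hyN v).1 hv.2⟩
  have hVN : V ≤ N := le_normalizer
  have hy' : y ∈ normalizer ((W ⊓ V' : Subgroup G) : Set G) := mem_normalizer_fintype fun v hv =>
    ⟨(Subgroup.mem_normalizer_iff.1 hyW v).1 hv.1, by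
      obtain ⟨u, hu, rfl⟩ := hv.2
      refine ⟨y * u * y⁻¹, (Subgroup.mem_normalizer_iff.1 hyN u).1 hu, ?_⟩
      show a * (y * u * y⁻¹) * a⁻¹ = y * (a * u * a⁻¹) * y⁻¹
      calc a * (y * u * y⁻¹) * a⁻¹ = (a * y) * u * (a * y)⁻¹ := by group
        _ = (y * a) * u * (y * a)⁻¹ := by rw [hay]
        _ = _ := by group⟩
  rcases D.card_free_sub hy (inf_le_right : W ≤ V) hyW hWfix with hW1 | hW1
  · -- the meet embeds in the group of the code
    have hbot : W = ⊥ := Subgroup.eq_bot_of_card_eq _ hW1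
    set f : ↥S →* ↥M24 := D.phi.comp (inclusion (inf_le_left : S ≤ N)) with hf
    have hinj : Function.Injective f := by
      rw [injective_iff_map_eq_one]
      intro b hb
      have h : (b : G) ∈ W := ⟨b.2, D.phi_eq_one.1 hb⟩
      rw [hbot, Subgroup.mem_bot] at h
      exact Subtype.ext h
    have hle : Nat.card ↥S ≤ 253 := by
      rw [Nat.card_congr (MonoidHom.ofInjective hinj).toEquiv]
      refine ElevenM24.self_norm_small (y := f ⟨y, hyS⟩) ?_ ⟨_, rfl⟩ ?_
      · rw [orderOf_injective f hinj, Subgroup.orderOf_mk, hy]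
      · rintro _ ⟨b, rfl⟩ hb
        rw [← map_inv, ← map_mul, ← map_mul, ← MonoidHom.map_zpowers] at hb
        obtain ⟨c, hc, hce⟩ := hb
        obtain ⟨i, rfl⟩ := hc
        have hbb : (b : G) ∈ zpowers y := hreg b b.2.1 (hmemN'.1 b.2.2)
          ⟨i, by simpa using congrArg Subtype.val (hinj hce)⟩
        obtain ⟨j, hj⟩ := hbb
        exact ⟨j, (map_zpow f ⟨y, hyS⟩ j).symm.trans (congrArg f (Subtype.ext (by rw [SubgroupClass.coe_zpow]; exact hj)))⟩
    have hidx : N.index = 173067389 := by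
      have h := N.card_mul_index
      rw [hord] at h
      rw [show Nat.card ↥N = 2048 * 244823040 from D.card_normalizer_eq] at h
      exact Nat.eq_of_mul_eq_mul_left (by norm_num : 0 < 2048 * 244823040) (h.trans (by norm_num))
    have hidx' : N'.index = 173067389 := by
      rw [hN', index_map_of_bijective (MulAut.conj a).bijective, hidx]
    have h := S.card_mul_index
    have h1 := index_inf_le (H := N) (K := N')
    rw [← hS, hidx, hidx'] at h1
    rw [hord] at h
    have h3 := Nat.mul_le_mul hle h1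
    rw [h] at h3
    norm_num at h3
  -- the meet is a hyperplane
  have hfix' : W ⊓ V' ⊓ centralizer ({y} : Set G) = ⊥ :=
    (Subgroup.eq_bot_iff_forall _).2 fun v hv => by
      have h : v ∈ W ⊓ centralizer ({y} : Set G) := ⟨hv.1.1, hv.2⟩
      rwa [hWfix, Subgroup.mem_bot] at h
  rcases D.card_free_sub hy (inf_le_left.trans inf_le_right : W ⊓ V' ≤ V) hy' hfix' with hWV | hWV
  · set σ : G →* G := (MulAut.conj a⁻¹).toMonoidHom with hσ
    have hσc : ∀ v, σ v = a⁻¹ * v * a := fun v => by simp [hσ]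
    refine D.not_abelian_complement (K := W.map σ) ?_ ?_ ?_ ?_
    · rintro _ ⟨v, hv, rfl⟩
      rw [hσc]
      exact hmemN'.1 hv.1.2
    · rintro _ ⟨u, hu, rfl⟩ _ ⟨v, hv, rfl⟩
      rw [← map_mul, ← map_mul, D.comm_V hu.2 hv.2]
    · rw [card_map_of_injective (MulAut.conj a⁻¹).injective, hW1]
    · refine (Subgroup.eq_bot_iff_forall _).2 fun u hu => ?_
      obtain ⟨⟨v, hv, rfl⟩, huV⟩ := hu
      have h : v ∈ W ⊓ V' := ⟨hv, σ v, huV, by simp [hσ, mul_assoc]⟩
      rw [Subgroup.eq_bot_of_card_eq _ hWV, Subgroup.mem_bot] at h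
      rw [h, map_one]
  have hWle : W ≤ V' := fun v hv => by
    have h : W ⊓ V' = W := eq_of_le_of_card_ge inf_le_left (by rw [hW1, hWV])
    exact (h.ge hv).2
  obtain ⟨⟨v, hv, hvz⟩, u, hu, hu1, huz⟩ := D.both_classes (inf_le_right : W ≤ V) hW1
  refine haN (D.conj_mem_normalizer_imp a fun x hx => ?_)
  have hcomm : ∀ w ∈ W, a * x * a⁻¹ * w = w * (a * x * a⁻¹) := fun w hw => by
    obtain ⟨w', hw', rfl⟩ := hWle hw
    show a * x * a⁻¹ * (a * w' * a⁻¹) = a * w' * a⁻¹ * (a * x * a⁻¹)
    calc a * x * a⁻¹ * (a * w' * a⁻¹) = a * (x * w') * a⁻¹ := by group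
      _ = a * (w' * x) * a⁻¹ := by rw [D.comm_V hx hw']
      _ = _ := by group
  exact D.cent_pair v hv.2 u hu.2 hvz hu1 huz
    ⟨mem_centralizer_singleton_iff.2 (hcomm v hv), mem_centralizer_singleton_iff.2 (hcomm u hu)⟩

end Cfsg.Agent.JankoFour.BigPack
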