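import Cfsg.Agent.Lib.JankoFour.ElevenCard
import Cfsg.Agent.Lib.Fusion.SmallCentreOdd
import Cfsg.Agent.Lib.CentrallyLarge.Basic
import Cfsg.Agent.Lib.FGStruct.QuatFortyEight.Model
import Mathlib.GroupTheory.SpecificGroups.Cyclic

/-!
The Sylow subgroup at eleven: extraspecial of exponent eleven, its normaliser, and a subgroup GL(2,3) of it.
-/

set_option autoImplicit false
set_option linter.unusedSectionVars false
set_option linter.style.haveILetI false

namespace Cfsg.Agent.JankoFour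

open Subgroup
open Cfsg.Agent.LargeFischer (QG)
open scoped commutatorElement Pointwise

variable {G : Type*} [Group G] [Finite G] {z : G} {P : Subgroup G} {M : Model z P} {F : M.Eleven}

/-- No element outside the class centralises the core: what the suborbit bound gives. -/
def SmallOther (z : G) : Prop :=
  ∃ y : G, orderOf y = 11 ∧ ¬ 11 ^ 3 ∣ Nat.card ↥(centralizer ({y} : Set G)) ∧
    ∃ t : G, orderOf t = 2 ∧ ¬ IsConj z t ∧ t * y = y * t

namespace Model.Eleven.Core

variable (K : F.Core) (hO : Nat.card ↥K.O = 11 ^ 3) (hX : Nat.card ↥(centralizer ({(F.c : G)} : Set G)) = 31944)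
  (hord : Nat.card G = 86775571046077562880) (hy : SmallOther z)
include K hO hX hord hy

/-- The core as a Sylow subgroup. -/
theorem exists_sylow : ∃ U : Sylow 11 G, (U : Subgroup G) = K.O := by
  haveI : Fact (Nat.Prime 11) := ⟨by norm_num⟩
  refine ⟨Sylow.ofCard K.O ?_, rfl⟩
  rw [hO, hord, show (86775571046077562880 : ℕ) = 11 ^ 3 * 65195770883604480 by norm_num,
    Nat.factorization_mul (by norm_num) (by norm_num), Finsupp.add_apply,
    Nat.Prime.factorization_pow (by norm_num), Finsupp.single_eq_same,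
    Nat.factorization_eq_zero_of_not_dvd (by norm_num)]

theorem not_comm : ¬ ∀ a ∈ K.O, ∀ b ∈ K.O, a * b = b * a := by
  intro hab
  haveI : Fact (Nat.Prime 11) := ⟨by norm_num⟩
  obtain ⟨U, hU⟩ := K.exists_sylow hO hX hord hy
  obtain ⟨y, hy11, hsmall, -⟩ := hy
  obtain ⟨T, hT⟩ := IsPGroup.exists_le_sylow (P := zpowers y)
    (IsPGroup.of_card (n := 1) (by rw [Nat.card_zpowers, hy11, pow_one]))
  obtain ⟨g, hg⟩ := MulAction.exists_smul_eq G T U
  have hmem : g * y * g⁻¹ ∈ K.O := by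
    rw [← hU, ← hg]
    exact ⟨y, hT (mem_zpowers y), rfl⟩
  refine hsmall ?_
  have hle : K.O.map (MulAut.conj g⁻¹).toMonoidHom ≤ centralizer ({y} : Set G) := by
    rintro _ ⟨o, ho, rfl⟩
    refine mem_centralizer_singleton_iff.2 ?_
    have h := hab o ho _ hmem
    show g⁻¹ * o * g⁻¹⁻¹ * y = y * (g⁻¹ * o * g⁻¹⁻¹)
    calc g⁻¹ * o * g⁻¹⁻¹ * y = g⁻¹ * (o * (g * y * g⁻¹)) * g := by group
      _ = g⁻¹ * (g * y * g⁻¹ * o) * g := by rw [h]
      _ = _ := by group
  have := Subgroup.card_dvd_of_le hle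
  rwa [card_map_of_injective (MulAut.conj g⁻¹).injective, hO] at this

theorem mem_center_iff' {o : ↥K.O} : o ∈ Subgroup.center ↥K.O ↔ (o : G) ∈ zpowers (F.c : G) := by
  haveI : Fact (Nat.Prime 11) := ⟨by norm_num⟩
  set Z := (Subgroup.center ↥K.O).map K.O.subtype
  have hle : zpowers (F.c : G) ≤ Z := zpowers_le.2 ⟨⟨F.c, K.mem⟩, Subgroup.mem_center_iff.2 fun b =>
    Subtype.ext (K.x_comm b.2), rfl⟩
  have hZO : Z ≤ K.O := map_subtype_le _
  have heq : zpowers (F.c : G) = Z := by
    refine eq_of_le_of_card_ge hle ?_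
    rw [card_map_of_injective K.O.subtype_injective, Nat.card_zpowers, F.order']
    obtain ⟨k, hk, e⟩ := (Nat.dvd_prime_pow (by norm_num : Nat.Prime 11)).1 (hO ▸ card_subgroup_dvd_card (Subgroup.center ↥K.O))
    by_contra hc
    have hk2 : 2 ≤ k := by
      by_contra h
      have := Nat.pow_le_pow_right (by norm_num : 1 ≤ 11) (show k ≤ 1 by omega)
      omega
    have hq := (Subgroup.center ↥K.O).card_eq_card_quotient_mul_card_subgroup
    rw [hO, e] at hq
    obtain ⟨l, -, el⟩ := (Nat.dvd_prime_pow (by norm_num : Nat.Prime 11)).1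
      (show Nat.card (↥K.O ⧸ Subgroup.center ↥K.O) ∣ 11 ^ 3 from ⟨11 ^ k, hq⟩)
    rw [el, ← pow_add] at hq
    have hl : l ≤ 1 := by
      have := Nat.pow_right_injective (by norm_num : 2 ≤ 11) hq
      omega
    haveI : IsCyclic (↥K.O ⧸ Subgroup.center ↥K.O) := by
      interval_cases l
      · haveI : Subsingleton (↥K.O ⧸ Subgroup.center ↥K.O) := (Nat.card_eq_one_iff_unique.1 (by rw [el, pow_zero])).1
        infer_instance
      · exact isCyclic_of_prime_card (p := 11) (by rw [el, pow_one])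
    refine K.not_comm hO hX hord hy fun a ha b hb => ?_
    exact congrArg Subtype.val (commutative_of_cyclic_center_quotient (QuotientGroup.mk' (Subgroup.center ↥K.O))
      (by rw [QuotientGroup.ker_mk']) (⟨a, ha⟩ : ↥K.O) ⟨b, hb⟩)
  rw [heq]
  exact ⟨fun h => ⟨o, h, rfl⟩, fun ⟨b, hb, e⟩ => (Subtype.ext e : b = o) ▸ hb⟩

theorem card_center : Nat.card ↥(Subgroup.center ↥K.O) = 11 := by
  rw [show Subgroup.center ↥K.O = (zpowers (F.c : G)).subgroupOf K.O from Subgroup.ext fun o => by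
      rw [mem_subgroupOf]; exact K.mem_center_iff' hO hX hord hy,
    Nat.card_congr (subgroupOfEquivOfLe K.x_le).toEquiv, Nat.card_zpowers, F.order']

theorem extraspecial : Cfsg.IsExtraspecial 11 ↥K.O := by
  haveI : Fact (Nat.Prime 11) := ⟨by norm_num⟩
  exact FusionSys.isExtraspecial_of_card_cube (IsPGroup.of_card hO) hO (K.card_center hO hX hord hy)
    fun a b => (K.mem_center_iff' hO hX hord hy).2 (by
      rw [commutatorElement_def]; exact K.commutator_mem a.2 b.2)

theorem pow_eleven {v : G} (hv : v ∈ K.O) : v ^ 11 = 1 := by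
  haveI : Fact (Nat.Prime 11) := ⟨by norm_num⟩
  have hq : v ^ 11 ∈ zpowers (F.c : G) := by
    refine (K.mem_center_iff' hO hX hord hy (o := ⟨v ^ 11, pow_mem hv 11⟩)).1 ?_
    set Z := Subgroup.center ↥K.O
    have hc : Nat.card (↥K.O ⧸ Z) = 11 ^ 2 := by
      have h := Z.card_eq_card_quotient_mul_card_subgroup
      rw [hO, K.card_center hO hX hord hy] at h
      omega
    rw [show (⟨v ^ 11, pow_mem hv 11⟩ : ↥K.O) = ⟨v, hv⟩ ^ 11 from rfl, ← QuotientGroup.eq_one_iff, QuotientGroup.mk_pow]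
    obtain ⟨e, he, hoe⟩ := (Nat.dvd_prime_pow (by norm_num : Nat.Prime 11)).1
      (hc ▸ _root_.orderOf_dvd_natCard (QuotientGroup.mk (⟨v, hv⟩ : ↥K.O) : ↥K.O ⧸ Z))
    by_cases he1 : e ≤ 1
    · exact orderOf_dvd_iff_pow_eq_one.1 (hoe ▸ (pow_dvd_pow 11 he1).trans (pow_one 11).dvd)
    exfalso
    haveI : IsCyclic (↥K.O ⧸ Z) := isCyclic_of_orderOf_eq_card _ (by rw [hoe, hc, show e = 2 by omega])
    exact K.not_comm hO hX hord hy fun a ha b hb => congrArg Subtype.val (commutative_of_cyclic_center_quotient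
      (QuotientGroup.mk' Z) (by rw [QuotientGroup.ker_mk']) (⟨a, ha⟩ : ↥K.O) ⟨b, hb⟩)
  obtain ⟨i, hi⟩ := hq
  have hi' : (F.c : G) ^ i = v ^ 11 := hi
  obtain ⟨j, hj⟩ := K.inverts hv
  have hj' : (F.c : G) ^ j = z * v * z * v := hj
  have hzi : z⁻¹ = z := inv_eq_of_mul_eq_one_right M.z_sq
  have hzv : z * v * z⁻¹ = (F.c : G) ^ j * v⁻¹ := by rw [hj', hzi]; group
  have hcv : Commute ((F.c : G) ^ j) v⁻¹ := ((show Commute v (F.c : G) from K.x_comm hv).symm.zpow_left j).inv_right
  have h := congrArg (· ^ 11) hzv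
  simp only [conj_pow, hcv.mul_pow] at h
  have hxz : Commute z ((F.c : G) ^ i) :=
    ((show Commute (F.c : G) z from mem_centralizer_singleton_iff.1 F.c.2).symm).zpow_right i
  rw [← hi', hxz.eq, mul_inv_cancel_right, ← zpow_natCast ((F.c : G) ^ j), ← zpow_mul, mul_comm j, zpow_mul,
    zpow_natCast, ← F.order', pow_orderOf_eq_one, one_zpow, one_mul, F.order', inv_pow, hi', eq_inv_iff_mul_eq_one] at h
  refine orderOf_eq_one_iff.1 (Nat.eq_one_of_dvd_coprimes (Nat.coprime_two_right.2 (K.odd_order (pow_mem hv 11)))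
    dvd_rfl (orderOf_dvd_of_pow_eq_one (by rw [pow_two]; exact h)))

theorem exponent : Monoid.exponent ↥K.O = 11 := by
  have h1 : Monoid.exponent ↥K.O ∣ 11 := Monoid.exponent_dvd_of_forall_pow_eq_one fun o =>
    Subtype.ext (by rw [SubmonoidClass.coe_pow]; exact K.pow_eleven hO hX hord hy o.2)
  refine ((Nat.dvd_prime (by norm_num)).1 h1).resolve_left fun h1' => ?_
  have h := Monoid.pow_exponent_eq_one (⟨F.c, K.mem⟩ : ↥K.O)
  rw [h1', pow_one] at h
  have hc : (F.c : G) = 1 := congrArg Subtype.val h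
  have := F.order'
  rw [hc, orderOf_one] at this
  norm_num at this

theorem mem_O_of_pow {v : G} (hv : v ∈ centralizer ({(F.c : G)} : Set G)) {k : ℕ} (hk : v ^ 11 ^ k = 1) :
    v ∈ K.O := by
  set X := centralizer ({(F.c : G)} : Set G)
  haveI hn : (K.O.subgroupOf X).Normal := ⟨fun o ho g => mem_subgroupOf.2 (K.conj_mem g g.2 o (mem_subgroupOf.1 ho))⟩
  have hidx : (K.O.subgroupOf X).index = 24 := by
    have h := (K.O.subgroupOf X).card_mul_index
    rw [Nat.card_congr (subgroupOfEquivOfLe K.le).toEquiv, hO, hX] at h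
    omega
  refine mem_subgroupOf.1 ((QuotientGroup.eq_one_iff (⟨v, hv⟩ : ↥X)).1 ?_)
  refine orderOf_eq_one_iff.1 (Nat.eq_one_of_dvd_coprimes (Nat.Coprime.pow_left k (by norm_num : Nat.Coprime 11 24))
    (orderOf_dvd_of_pow_eq_one ?_) ?_)
  · rw [← QuotientGroup.mk_pow, show (⟨v, hv⟩ : ↥X) ^ 11 ^ k = 1 from
      Subtype.ext (by rw [SubmonoidClass.coe_pow]; exact hk)]
    rfl
  · rw [← hidx, Subgroup.index_eq_card]
    exact _root_.orderOf_dvd_natCard _

theorem normalizer_eq : normalizer (K.O : Set G) = normalizer (zpowers (F.c : G) : Set G) := by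
  refine le_antisymm (fun g hg => ?_) fun g hg => ?_
  · refine mem_normalizer_fintype fun w hw => ?_
    have hwO := K.x_le hw
    have hgw := (Subgroup.mem_normalizer_iff.1 hg w).1 hwO
    refine (K.mem_center_iff' hO hX hord hy (o := ⟨_, hgw⟩)).1 (Subgroup.mem_center_iff.2 fun b => Subtype.ext ?_)
    have hb : g⁻¹ * b * g ∈ K.O := by
      have := (Subgroup.mem_normalizer_iff.1 (inv_mem hg) b).1 b.2
      rwa [inv_inv] at this
    have h := congrArg Subtype.val (Subgroup.mem_center_iff.1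
      ((K.mem_center_iff' hO hX hord hy (o := ⟨w, hwO⟩)).2 hw) ⟨_, hb⟩)
    show (b : G) * (g * w * g⁻¹) = g * w * g⁻¹ * b
    calc (b : G) * (g * w * g⁻¹) = g * (g⁻¹ * b * g * w) * g⁻¹ := by group
      _ = g * (w * (g⁻¹ * b * g)) * g⁻¹ := by rw [show g⁻¹ * (b : G) * g * w = w * (g⁻¹ * b * g) from h]
      _ = _ := by group
  · refine mem_normalizer_fintype fun o ho => ?_
    refine K.mem_O_of_pow hO hX hord hy ?_ (k := 1) ?_
    · refine mem_centralizer_singleton_iff.2 ?_
      obtain ⟨i, hi⟩ := (Subgroup.mem_normalizer_iff.1 (inv_mem hg) (F.c : G)).1 (mem_zpowers _)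
      have hi' : (F.c : G) ^ i = g⁻¹ * F.c * g⁻¹⁻¹ := hi
      have hc : o * (g⁻¹ * F.c * g⁻¹⁻¹) = g⁻¹ * F.c * g⁻¹⁻¹ * o := by
        rw [← hi']; exact ((show Commute o (F.c : G) from K.x_comm ho).zpow_right i).eq
      calc g * o * g⁻¹ * F.c = g * (o * (g⁻¹ * F.c * g⁻¹⁻¹)) * g⁻¹ := by group
        _ = g * (g⁻¹ * F.c * g⁻¹⁻¹ * o) * g⁻¹ := by rw [hc]
        _ = _ := by group
    · rw [pow_one, conj_pow, K.pow_eleven hO hX hord hy ho]; group

theorem card_normalizer : Nat.card ↥(normalizer (K.O : Set G)) = 2 ^ 4 * 3 * 5 * 11 ^ 3 := by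
  classical
  haveI : Fact (Nat.Prime 11) := ⟨by norm_num⟩
  rw [K.normalizer_eq hO hX hord hy]
  set Z := zpowers (F.c : G)
  set N := normalizer (Z : Set G)
  letI act : MulAction ↥N {w : G // w ∈ Z ∧ w ≠ 1} :=
    { smul := fun n w => ⟨n * w.1 * (n : G)⁻¹, (Subgroup.mem_normalizer_iff.1 n.2 w.1).1 w.2.1,
        fun h => w.2.2 (conj_eq_one_iff.1 h)⟩
      one_smul := fun w => Subtype.ext (show (1 : G) * w.1 * 1⁻¹ = w.1 by group)
      mul_smul := fun a b w => Subtype.ext (show (a.1 * b.1) * w.1 * (a.1 * b.1)⁻¹ = a.1 * (b.1 * w.1 * b.1⁻¹) * a.1⁻¹ by group) }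
  set w0 : {w : G // w ∈ Z ∧ w ≠ 1} := ⟨F.c, mem_zpowers _, fun h => by
    have := F.order'; rw [h, orderOf_one] at this; norm_num at this⟩
  obtain ⟨n3, -, e3⟩ := F.exists_three
  obtain ⟨n10, -, e10, -, -⟩ := F.exists_inv
  have hnorm : ∀ (n : ↥(centralizer ({z} : Set G))) (k : ℕ), n * F.c * n⁻¹ = F.c ^ k → (n : G) ∈ N := by
    intro n k h
    refine mem_normalizer_fintype ?_
    rintro _ ⟨i, rfl⟩
    show (n : G) * (F.c : G) ^ i * (n : G)⁻¹ ∈ Z
    rw [← conj_zpow, show (n : G) * F.c * (n : G)⁻¹ = (F.c : G) ^ k from by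
      have := congrArg Subtype.val h; simpa using this]
    exact zpow_mem (pow_mem (mem_zpowers _) k) i
  set a : ↥N := ⟨n3, hnorm n3 3 e3⟩
  set b : ↥N := ⟨n10, hnorm n10 10 e10⟩
  have hpow : ∀ (n : ↥N) (k : ℕ), (n : G) * F.c * (n : G)⁻¹ = (F.c : G) ^ k → ∀ e : ℕ,
      ((n ^ e : ↥N) : G) * F.c * ((n ^ e : ↥N) : G)⁻¹ = (F.c : G) ^ (k ^ e) := by
    intro n k h e
    induction e with
    | zero => simp
    | succ e ih =>
      rw [pow_succ' n, Subgroup.coe_mul, show (n : G) * (n ^ e : ↥N) * F.c * ((n : G) * (n ^ e : ↥N))⁻¹ =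
        n * (((n ^ e : ↥N) : G) * F.c * ((n ^ e : ↥N) : G)⁻¹) * (n : G)⁻¹ by group, ih, ← conj_pow, h, ← pow_mul,
        ← pow_succ']
  have ha : (a : G) * F.c * (a : G)⁻¹ = (F.c : G) ^ 3 := by
    have := congrArg Subtype.val e3; simpa [a] using this
  have hb : (b : G) * F.c * (b : G)⁻¹ = (F.c : G) ^ 10 := by
    have := congrArg Subtype.val e10; simpa [b] using this
  have horb : MulAction.orbit ↥N w0 = Set.univ := by
    refine Set.eq_univ_of_forall fun w => ?_
    obtain ⟨i, hi⟩ := (mem_powers_iff_mem_zpowers).2 w.2.1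
    have hi' : (F.c : G) ^ i = w.1 := hi
    have hi0 : i % 11 ≠ 0 := fun h => w.2.2 (by rw [← hi', ← pow_mod_orderOf, F.order', h, pow_zero])
    obtain ⟨e, -, f, -, hef⟩ : ∃ e < 5, ∃ f < 2, 10 ^ f * 3 ^ e % 11 = i % 11 := by
      have htab : ∀ r < 11, r ≠ 0 → ∃ e < 5, ∃ f < 2, 10 ^ f * 3 ^ e % 11 = r := by decide
      exact htab _ (Nat.mod_lt _ (by norm_num)) hi0
    refine ⟨b ^ f * a ^ e, Subtype.ext ?_⟩
    show ((b ^ f * a ^ e : ↥N) : G) * F.c * ((b ^ f * a ^ e : ↥N) : G)⁻¹ = w.1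
    rw [Subgroup.coe_mul, show ((b ^ f : ↥N) : G) * (a ^ e : ↥N) * F.c * (((b ^ f : ↥N) : G) * (a ^ e : ↥N))⁻¹ =
      (b ^ f : ↥N) * (((a ^ e : ↥N) : G) * F.c * ((a ^ e : ↥N) : G)⁻¹) * ((b ^ f : ↥N) : G)⁻¹ by group,
      hpow a 3 ha e, ← conj_pow, hpow b 10 hb f, ← pow_mul, ← hi', ← pow_mod_orderOf, F.order', hef,
      ← F.order', pow_mod_orderOf]
  have hcard10 : Nat.card {w : G // w ∈ Z ∧ w ≠ 1} = 10 := by
    rw [show Nat.card {w : G // w ∈ Z ∧ w ≠ 1} = ((Z : Set G) \ {1}).ncard from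
      Nat.card_coe_set_eq ((Z : Set G) \ {1}),
      Set.ncard_sdiff_singleton_of_mem (show (1 : G) ∈ (Z : Set G) from Z.one_mem), ← Nat.card_coe_set_eq]
    change Nat.card ↥Z - 1 = 10
    rw [Nat.card_zpowers, F.order']
  have hstab : Nat.card ↥(MulAction.stabilizer ↥N w0) = 31944 := by
    rw [← hX]
    refine Nat.card_congr
      { toFun := fun k => ⟨k.1.1, mem_centralizer_singleton_iff.2 (mul_inv_eq_iff_eq_mul.1 (congrArg Subtype.val k.2))⟩
        invFun := fun g => ⟨⟨g.1, centralizer_le_normalizer _ (mem_centralizer_iff.2 fun w hw => ?_)⟩,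
          Subtype.ext (mul_inv_eq_iff_eq_mul.2 (mem_centralizer_singleton_iff.1 g.2))⟩
        left_inv := fun _ => rfl
        right_inv := fun _ => rfl }
    obtain ⟨i, rfl⟩ := hw
    exact ((show Commute (g : G) (F.c : G) from mem_centralizer_singleton_iff.1 g.2).zpow_right i).eq.symm
  rw [← (MulAction.stabilizer ↥N w0).card_mul_index, MulAction.index_stabilizer, horb, Set.ncard_univ, hcard10, hstab]
  norm_num

/-- An inverting element of the normaliser of P is an involution. -/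
theorem inv_sq {n : ↥(centralizer ({z} : Set G))} (hx : n * F.c * n⁻¹ = F.c ^ 10)
    (h2 : n * n = 1 ∨ n * n = M.toH M.zQ) : n * n = 1 := by
  refine h2.resolve_right fun hz => ?_
  have hnc : (n : G) * F.c * (n : G)⁻¹ = (F.c : G) ^ 10 := by
    have := congrArg Subtype.val hx; simpa using this
  have hnn : (n : G) * n = z := congrArg Subtype.val hz
  have hN : (n : G) ∈ normalizer (K.O : Set G) := by
    rw [K.normalizer_eq hO hX hord hy]
    refine mem_normalizer_fintype ?_
    rintro _ ⟨i, rfl⟩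
    show (n : G) * (F.c : G) ^ i * (n : G)⁻¹ ∈ _
    rw [← conj_zpow, hnc]
    exact zpow_mem (pow_mem (mem_zpowers _) 10) i
  refine K.not_comm hO hX hord hy fun a ha b hb => ?_
  -- the image of a and its conjugate commute
  have key : ∀ v ∈ K.O, v * ((n : G) * v * (n : G)⁻¹) = (n : G) * v * (n : G)⁻¹ * v := by
    intro v hv
    set w := (n : G) * v * (n : G)⁻¹ with hw
    have hwO : w ∈ K.O := (Subgroup.mem_normalizer_iff.1 hN v).1 hv
    obtain ⟨c, hc⟩ := K.commutator_mem hv hwO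
    have hc' : (F.c : G) ^ c = v * w * v⁻¹ * w⁻¹ := hc
    obtain ⟨j, hj⟩ := K.inverts hv
    have hj' : (F.c : G) ^ j = z * v * z * v := hj
    have hnw : (n : G) * w * (n : G)⁻¹ = (F.c : G) ^ j * v⁻¹ := by
      rw [hw, show (n : G) * ((n : G) * v * (n : G)⁻¹) * (n : G)⁻¹ = ((n : G) * n) * v * ((n : G) * n)⁻¹ by group, hnn,
        hj', inv_eq_of_mul_eq_one_right M.z_sq]
      group
    have hx10 : (F.c : G) ^ 10 = (F.c : G)⁻¹ := by
      rw [eq_inv_iff_mul_eq_one, ← pow_succ]
      rw [show 10 + 1 = orderOf (F.c : G) from F.order'.symm, pow_orderOf_eq_one]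
    have e1 : (n : G) * (F.c : G) ^ c * (n : G)⁻¹ = w * v⁻¹ * w⁻¹ * v := by
      rw [hc']
      calc (n : G) * (v * w * v⁻¹ * w⁻¹) * (n : G)⁻¹
          = w * ((n : G) * w * (n : G)⁻¹) * w⁻¹ * ((n : G) * w * (n : G)⁻¹)⁻¹ := by rw [hw]; group
        _ = w * ((F.c : G) ^ j * v⁻¹) * w⁻¹ * ((F.c : G) ^ j * v⁻¹)⁻¹ := by rw [hnw]
        _ = (w * (F.c : G) ^ j) * v⁻¹ * w⁻¹ * v * ((F.c : G) ^ j)⁻¹ := by group
        _ = (F.c : G) ^ j * (w * v⁻¹ * w⁻¹ * v) * ((F.c : G) ^ j)⁻¹ := by
          rw [((show Commute w (F.c : G) from K.x_comm hwO).zpow_right j).eq]; group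
        _ = _ := by
          rw [← ((show Commute (w * v⁻¹ * w⁻¹ * v) (F.c : G) from K.x_comm (mul_mem (mul_mem (mul_mem hwO (inv_mem hv))
            (inv_mem hwO)) hv)).zpow_right j).eq, mul_inv_cancel_right]
    rw [← conj_zpow, hnc, hx10, inv_zpow] at e1
    have e2 : v⁻¹ * ((F.c : G) ^ c) * v = (F.c : G) ^ c := by
      rw [mul_assoc, ← ((show Commute v (F.c : G) from K.x_comm hv).zpow_right c).eq, inv_mul_cancel_left]
    have e3 : v⁻¹ * (F.c : G) ^ c * v = ((F.c : G) ^ c)⁻¹ := by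
      rw [e1]
      have : w * v⁻¹ * w⁻¹ * v = v⁻¹ * (v * w * v⁻¹ * w⁻¹) * v := by group
      rw [this, ← hc']
    rw [e2] at e3
    have hc0 : (F.c : G) ^ c = 1 := by
      refine orderOf_eq_one_iff.1 (Nat.eq_one_of_dvd_coprimes (show Nat.Coprime 11 2 by norm_num)
        (F.order' ▸ orderOf_dvd_of_mem_zpowers (zpow_mem (mem_zpowers _) c))
        (orderOf_dvd_of_pow_eq_one (by rw [pow_two]; exact mul_eq_one_iff_eq_inv.2 e3)))
    rw [hc0, eq_comm, mul_inv_eq_one, mul_inv_eq_iff_eq_mul] at hc'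
    exact hc'
  haveI : Fact (Nat.Prime 11) := ⟨by norm_num⟩
  by_cases hax : a ∈ zpowers (F.c : G)
  · obtain ⟨i, rfl⟩ := hax
    exact ((show Commute b (F.c : G) from K.x_comm hb).zpow_right i).eq.symm
  -- a, its image and the centre generate
  set w := (n : G) * a * (n : G)⁻¹ with hw
  have hwO : w ∈ K.O := (Subgroup.mem_normalizer_iff.1 hN a).1 ha
  have hwa : Commute a w := key a ha
  set A : Subgroup G :=
    { carrier := {g | ∃ i j k : ℤ, g = a ^ i * w ^ j * (F.c : G) ^ k}
      one_mem' := ⟨0, 0, 0, by simp⟩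
      mul_mem' := by
        rintro _ _ ⟨i, j, k, rfl⟩ ⟨i', j', k', rfl⟩
        refine ⟨i + i', j + j', k + k', ?_⟩
        have h1 : Commute ((F.c : G) ^ k) (a ^ i' * w ^ j') :=
          ((show Commute a (F.c : G) from K.x_comm ha).zpow_zpow i' k).symm.mul_right
            ((show Commute w (F.c : G) from K.x_comm hwO).zpow_zpow j' k).symm
        rw [show a ^ i * w ^ j * (F.c : G) ^ k * (a ^ i' * w ^ j' * (F.c : G) ^ k') =
          a ^ i * w ^ j * ((F.c : G) ^ k * (a ^ i' * w ^ j')) * (F.c : G) ^ k' by group, h1.eq,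
          show a ^ i * w ^ j * (a ^ i' * w ^ j' * (F.c : G) ^ k) * (F.c : G) ^ k' =
            a ^ i * (w ^ j * a ^ i') * w ^ j' * ((F.c : G) ^ k * (F.c : G) ^ k') by group,
          ← (hwa.zpow_zpow i' j).eq, zpow_add, zpow_add, zpow_add]
        group
      inv_mem' := by
        rintro _ ⟨i, j, k, rfl⟩
        refine ⟨-i, -j, -k, ?_⟩
        have h1 : Commute (a ^ i * w ^ j) ((F.c : G) ^ k) :=
          ((show Commute a (F.c : G) from K.x_comm ha).zpow_zpow i k).mul_left
            ((show Commute w (F.c : G) from K.x_comm hwO).zpow_zpow j k)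
        rw [_root_.mul_inv_rev, ← h1.inv_inv.eq, _root_.mul_inv_rev, ← (hwa.zpow_zpow i j).inv_inv.eq, zpow_neg,
          zpow_neg, zpow_neg] } with hA
  have hAO : A ≤ K.O := by
    rintro _ ⟨i, j, k, rfl⟩
    exact mul_mem (mul_mem (zpow_mem ha i) (zpow_mem hwO j)) (zpow_mem K.mem k)
  have hab : ∀ u ∈ A, ∀ v ∈ A, u * v = v * u := by
    rintro _ ⟨i, j, k, rfl⟩ _ ⟨i', j', k', rfl⟩
    have hax' : Commute a (F.c : G) := K.x_comm ha
    have hwx' : Commute w (F.c : G) := K.x_comm hwO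
    exact ((((Commute.refl a).zpow_zpow i i').mul_right (hwa.zpow_zpow i j')).mul_right (hax'.zpow_zpow i k')).mul_left
      (((hwa.symm.zpow_zpow j i').mul_right ((Commute.refl w).zpow_zpow j j')).mul_right (hwx'.zpow_zpow j k'))
      |>.mul_left ((((hax'.symm.zpow_zpow k i').mul_right (hwx'.symm.zpow_zpow k j')).mul_right
      ((Commute.refl (F.c : G)).zpow_zpow k k'))) |>.eq
  obtain ⟨e, -, he⟩ := (Nat.dvd_prime_pow (by norm_num : Nat.Prime 11)).1 (hO ▸ Subgroup.card_dvd_of_le hAO)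
  have hA3 : A = K.O := by
    refine eq_of_le_of_card_ge hAO ?_
    rw [hO, he]
    refine Nat.pow_le_pow_right (by norm_num) ?_
    by_contra hlt
    have hxA : (F.c : G) ∈ A := ⟨0, 0, 1, by simp⟩
    have haA : a ∈ A := ⟨1, 0, 0, by simp⟩
    have hwA : w ∈ A := ⟨0, 1, 0, by simp⟩
    have hA121 : Nat.card ↥A ∣ 11 ^ 2 := he ▸ pow_dvd_pow 11 (by omega)
    -- every element of A is a power of a times the centre
    set A2 : Subgroup G :=
      { carrier := {g | ∃ i k : ℤ, g = a ^ i * (F.c : G) ^ k}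
        one_mem' := ⟨0, 0, by simp⟩
        mul_mem' := by
          rintro _ _ ⟨i, k, rfl⟩ ⟨i', k', rfl⟩
          refine ⟨i + i', k + k', ?_⟩
          rw [zpow_add, zpow_add, mul_assoc, ← mul_assoc ((F.c : G) ^ k),
            ← ((show Commute a (F.c : G) from K.x_comm ha).zpow_zpow i' k).eq]
          group
        inv_mem' := by
          rintro _ ⟨i, k, rfl⟩
          exact ⟨-i, -k, by rw [_root_.mul_inv_rev, zpow_neg, zpow_neg,
            (((show Commute a (F.c : G) from K.x_comm ha).zpow_zpow i k).inv_inv).eq]⟩ }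
    have hA2A : A2 ≤ A := by rintro _ ⟨i, k, rfl⟩; exact mul_mem (zpow_mem haA i) (zpow_mem hxA k)
    obtain ⟨f, -, hf⟩ := (Nat.dvd_prime_pow (by norm_num : Nat.Prime 11)).1 ((Subgroup.card_dvd_of_le hA2A).trans hA121)
    have hf2 : 2 ≤ f := by
      by_contra hf1
      have hxA2 : zpowers (F.c : G) ≤ A2 := zpowers_le.2 ⟨0, 1, by simp⟩
      have h1 := Nat.pow_le_pow_right (by norm_num : 1 ≤ 11) (show f ≤ 1 by omega)
      exact hax ((eq_of_le_of_card_ge hxA2 (by rw [hf, Nat.card_zpowers, F.order']; omega)).ge ⟨1, 0, by simp⟩)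
    have hA2eq : A2 = A := eq_of_le_of_card_ge hA2A (by
      rw [hf]; exact (Nat.le_of_dvd (by norm_num) hA121).trans (Nat.pow_le_pow_right (by norm_num) hf2))
    obtain ⟨i, k, hik⟩ := hA2eq.ge hwA
    -- the square of the exponent would be minus one
    have hax' : Commute a (F.c : G) := K.x_comm ha
    have e1 : (n : G) * w * (n : G)⁻¹ = a ^ (i * i) * ((F.c : G) ^ (k * i) * ((F.c : G) ^ 10) ^ k) := by
      conv_lhs => rw [hik]
      rw [show (n : G) * (a ^ i * (F.c : G) ^ k) * (n : G)⁻¹ =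
        ((n : G) * a ^ i * (n : G)⁻¹) * ((n : G) * (F.c : G) ^ k * (n : G)⁻¹) by group, ← conj_zpow, ← conj_zpow,
        hnc, ← hw, hik, (hax'.zpow_zpow i k).mul_zpow, ← zpow_mul, ← zpow_mul, mul_assoc]
    obtain ⟨j, hj⟩ := K.inverts ha
    have hj' : (F.c : G) ^ j = z * a * z * a := hj
    have e2 : (n : G) * w * (n : G)⁻¹ = (F.c : G) ^ j * a⁻¹ := by
      rw [hw, show (n : G) * ((n : G) * a * (n : G)⁻¹) * (n : G)⁻¹ = ((n : G) * n) * a * ((n : G) * n)⁻¹ by group, hnn,
        hj', inv_eq_of_mul_eq_one_right M.z_sq]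
      group
    rw [e1] at e2
    have e3 : a ^ (i * i + 1) ∈ zpowers (F.c : G) := by
      set u := (F.c : G) ^ (k * i) * ((F.c : G) ^ 10) ^ k with hu
      have hum : u ∈ zpowers (F.c : G) :=
        mul_mem (zpow_mem (mem_zpowers _) _) (zpow_mem (pow_mem (mem_zpowers _) _) k)
      have : a ^ (i * i + 1) = (F.c : G) ^ j * u⁻¹ := by
        have h' : a ^ (i * i) = (F.c : G) ^ j * a⁻¹ * u⁻¹ := eq_mul_inv_iff_mul_eq.2 e2
        rw [zpow_add_one, h']
        have hca : Commute u⁻¹ a := by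
          obtain ⟨l, hl⟩ := hum
          rw [← (show (F.c : G) ^ l = u from hl)]
          exact (hax'.zpow_right l).symm.inv_left
        rw [mul_assoc, hca.eq]; group
      rw [this]
      exact mul_mem (zpow_mem (mem_zpowers _) _) (inv_mem hum)
    -- so a lies in the centre
    have h11 : ((i * i + 1 : ℤ) % 11) ≠ 0 := by
      have hh : ∀ r : ℤ, 0 ≤ r → r < 11 → (r * r + 1) % 11 ≠ 0 := by
        intro r h0 h1; interval_cases r <;> norm_num
      have := hh (i % 11) (Int.emod_nonneg _ (by norm_num)) (Int.emod_lt_of_pos _ (by norm_num))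
      rwa [Int.add_emod, Int.mul_emod, Int.emod_emod, ← Int.mul_emod, ← Int.add_emod] at this
    have ha11 : a ^ (11 : ℤ) = 1 := by
      rw [show (11 : ℤ) = ((11 : ℕ) : ℤ) from rfl, zpow_natCast]; exact K.pow_eleven hO hX hord hy ha
    obtain ⟨p, q, hpq⟩ : ∃ p q : ℤ, (i * i + 1) * p + 11 * q = 1 := by
      have hco : IsCoprime (i * i + 1 : ℤ) 11 := by
        have hp11 : Prime (11 : ℤ) := by exact_mod_cast Nat.prime_iff_prime_int.1 (by norm_num : Nat.Prime 11)
        rw [isCoprime_comm, hp11.coprime_iff_not_dvd]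
        exact fun hd => h11 (Int.emod_eq_zero_of_dvd hd)
      obtain ⟨p, q, h⟩ := hco
      exact ⟨p, q, by linear_combination h⟩
    refine hax ?_
    rw [← zpow_one a, ← hpq, zpow_add, zpow_mul, zpow_mul, ha11, one_zpow, mul_one]
    exact zpow_mem e3 p
  exact hab a (hA3.ge ha) b (hA3.ge hb)

/-- The subgroup of the normaliser isomorphic to GL(2,3). -/
theorem exists_gl : ∃ L : Subgroup G, L ≤ normalizer (K.O : Set G) ∧ Nonempty (↥L ≃* GL (Fin 2) (ZMod 3)) := by
  classical
  haveI : Fact (Nat.Prime 3) := ⟨Nat.prime_three⟩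
  obtain ⟨n, hnN, hnx, hn2', hnp⟩ := F.exists_inv
  have hn2 := K.inv_sq hO hX hord hy hnx hn2'
  have hp3 : M.pElem ^ 3 = 1 := Subtype.ext (by rw [SubmonoidClass.coe_pow]; exact M.p_pow)
  have hpo : orderOf M.pElem = 3 := orderOf_eq_prime hp3 fun h => by
    have := M.card_P
    rw [← M.p_gen, Nat.card_zpowers, h, OneMemClass.coe_one, orderOf_one] at this
    norm_num at this
  have hpc : M.pElem * F.c = F.c * M.pElem := Subtype.ext F.p_comm
  set E8 := (F.cent ⊓ M.Q : Subgroup ↥(centralizer ({z} : Set G)))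
  haveI := M.normal
  -- normalising elements
  have hnorm : ∀ (g : ↥(centralizer ({z} : Set G))) (k : ℕ), g * F.c * g⁻¹ = F.c ^ k → k = 1 ∨ k = 10 →
      g ∈ normalizer (E8 : Set ↥(centralizer ({z} : Set G))) := by
    intro g k hg hk
    refine mem_normalizer_fintype fun v hv => ⟨F.mem_cent.2 ?_, M.normal.conj_mem v hv.2 g⟩
    have hv' : Commute v F.c := F.mem_cent.1 hv.1
    have h1 : Commute (g * v * g⁻¹) (F.c ^ k) := by
      rw [← hg]; exact hv'.map (MulAut.conj g).toMonoidHom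
    rcases hk with rfl | rfl
    · simpa using h1.eq
    · have h2 := h1.pow_right 10
      rw [← pow_mul, show 10 * 10 = 11 * 9 + 1 from rfl, pow_succ, pow_mul, F.pow_eleven, one_pow, one_mul] at h2
      exact h2.eq
  have hpn := hnorm M.pElem 1 (by rw [hpc, mul_inv_cancel_right, pow_one]) (Or.inl rfl)
  have hnn := hnorm n 10 hnx (Or.inr rfl)
  set A := zpowers M.pElem ⊔ E8 with hA
  have hpE : zpowers M.pElem ≤ normalizer (E8 : Set ↥(centralizer ({z} : Set G))) := zpowers_le.2 hpn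
  have hco : (zpowers M.pElem ⊓ E8 : Subgroup _) = ⊥ := by
    refine (Subgroup.eq_bot_iff_forall _).2 fun v hv => orderOf_eq_one_iff.1 ?_
    exact Nat.eq_one_of_dvd_coprimes (show Nat.Coprime 3 8 by norm_num)
      (hpo ▸ orderOf_dvd_of_mem_zpowers hv.1) (F.card_inf ▸ Subgroup.orderOf_dvd_natCard _ hv.2)
  have hA24 : Nat.card ↥A = 24 := by
    have h := CLarge.card_of_coe_sup_eq (coe_mul_of_left_le_normalizer_right _ _ hpE)
    rw [hco, Subgroup.card_bot, mul_one, Nat.card_zpowers, hpo, F.card_inf] at h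
    exact h
  have hAc : A ≤ F.cent := sup_le (zpowers_le.2 (F.mem_cent.2 hpc)) inf_le_left
  have hnA : zpowers n ≤ normalizer (A : Set ↥(centralizer ({z} : Set G))) := by
    refine zpowers_le.2 ?_
    have hnp' : n ∈ normalizer (zpowers M.pElem : Set ↥(centralizer ({z} : Set G))) := by
      refine mem_normalizer_fintype ?_
      rintro _ ⟨i, rfl⟩
      show n * M.pElem ^ i * n⁻¹ ∈ _
      rw [← conj_zpow, hnp]
      exact zpow_mem (pow_mem (mem_zpowers _) 2) i
    refine mem_normalizer_fintype fun v hv => ?_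
    have hle : A.map (MulAut.conj n).toMonoidHom ≤ A := by
      rw [hA, Subgroup.map_sup]
      refine sup_le_sup ?_ ?_ <;> rintro _ ⟨u, hu, rfl⟩
      · exact (Subgroup.mem_normalizer_iff.1 hnp' u).1 hu
      · exact (Subgroup.mem_normalizer_iff.1 hnn u).1 hu
    exact hle ⟨v, hv, rfl⟩
  have hnotA : n ∉ A := fun h => by
    have hc := F.mem_cent.1 (hAc h)
    rw [hc, mul_inv_cancel_right] at hnx
    have h9 : F.c ^ 9 = 1 := by
      rw [pow_succ' F.c 9] at hnx
      exact left_eq_mul.1 hnx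
    have := orderOf_dvd_of_pow_eq_one h9
    rw [F.order] at this
    norm_num at this
  have hno : orderOf n = 2 := orderOf_eq_prime (by rw [pow_two]; exact hn2) fun h => hnotA (h ▸ one_mem _)
  have hco2 : (zpowers n ⊓ A : Subgroup _) = ⊥ := by
    refine (Subgroup.eq_bot_iff_forall _).2 ?_
    rintro _ ⟨⟨i, rfl⟩, hvA⟩
    rcases Int.even_or_odd i with ⟨j, rfl⟩ | ⟨j, rfl⟩
    · show n ^ (j + j) = 1
      rw [← two_mul, zpow_mul, show n ^ (2 : ℤ) = 1 from by rw [show (2 : ℤ) = ((2 : ℕ) : ℤ) from rfl, zpow_natCast, pow_two, hn2], one_zpow]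
    · exfalso
      refine hnotA ?_
      change n ^ (2 * j + 1) ∈ A at hvA
      rwa [zpow_add_one, zpow_mul, show n ^ (2 : ℤ) = 1 from by rw [show (2 : ℤ) = ((2 : ℕ) : ℤ) from rfl, zpow_natCast, pow_two, hn2], one_zpow, one_mul] at hvA
  set L := zpowers n ⊔ A with hL
  have hL48 : Nat.card ↥L = 48 := by
    have h := CLarge.card_of_coe_sup_eq (coe_mul_of_left_le_normalizer_right _ _ hnA)
    rw [hco2, Subgroup.card_bot, mul_one, Nat.card_zpowers, hno, hA24] at h
    exact h
  have hEL : E8 ≤ L := le_sup_right.trans (le_sup_right)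
  have hLE : L ≤ normalizer (E8 : Set ↥(centralizer ({z} : Set G))) :=
    sup_le (zpowers_le.2 hnn) (sup_le hpE le_normalizer)
  set N8 := E8.subgroupOf L with hN8
  have hN8n : N8.Normal := (normal_subgroupOf_iff_le_normalizer hEL).2 hLE
  obtain ⟨eQ⟩ := F.quat
  set eN : FGStruct.QuatFortyEight.Q8 ≃* ↥N8 := eQ.symm.trans (subgroupOfEquivOfLe hEL).symm with heN
  set nL : ↥L := ⟨n, mem_sup_left (mem_zpowers n)⟩
  set pL : ↥L := ⟨M.pElem, mem_sup_right (mem_sup_left (mem_zpowers _))⟩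
  have d : FGStruct.QuatFortyEight.Split ↥L :=
    { N := N8, normal := hN8n, e := eN
      cent := by
        intro v hv
        rw [mem_subgroupOf]
        have hcomm : ∀ q ∈ E8, (v : ↥(centralizer ({z} : Set G))) * q = q * v := fun q hq =>
          (congrArg Subtype.val (mem_centralizer_iff.1 hv ⟨q, hEL hq⟩ (mem_subgroupOf.2 hq))).symm
        -- v = n^e p^i q
        have hL' := coe_mul_of_left_le_normalizer_right _ _ hnA
        have hA' := coe_mul_of_left_le_normalizer_right _ _ hpE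
        obtain ⟨a', ha', b', hb', hab⟩ := Set.mem_mul.1 (hL'.le (show (v : ↥(centralizer ({z} : Set G))) ∈ (zpowers n ⊔ A : Subgroup _) from v.2))
        obtain ⟨c', hc', q', hq', hbq⟩ := Set.mem_mul.1 (hA'.le hb')
        obtain ⟨i, rfl⟩ := ha'
        obtain ⟨l, rfl⟩ := hc'
        -- kill the involution part: it moves the subgroup of order three
        have hvp : (v : ↥(centralizer ({z} : Set G))) = n ^ i * (M.pElem ^ l * q') := by rw [← hab, ← hbq]
        have hfix : ∀ g : ↥(centralizer ({z} : Set G)), (∀ q ∈ E8, g * q = q * g) → g * F.c = F.c * g →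
            Odd (orderOf g) → g ∈ zpowers F.c := by
          intro g hg hgc hgo
          obtain ⟨j, hj⟩ := F.odd_central (F.mem_inf_cent.2 ⟨g, F.mem_cent.2 hgc, rfl⟩)
            (by show Odd (orderOf (g : G)); rw [Subgroup.orderOf_coe]; exact hgo) (fun e he => by
              obtain ⟨q, hq, rfl⟩ := he
              exact congrArg Subtype.val (hg q hq))
          exact ⟨j, Subtype.ext (by rw [SubgroupClass.coe_zpow]; exact hj)⟩
        have hpmove : ∀ l : ℤ, ∀ q ∈ E8, (∀ q' ∈ E8, M.pElem ^ l * q * q' = q' * (M.pElem ^ l * q)) →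
            M.pElem ^ l = 1 := by
          intro l q hq hc
          by_contra hne
          have hgen : M.pElem ∈ zpowers (M.pElem ^ l) := by
            have heq : zpowers (M.pElem ^ l) = zpowers M.pElem := eq_of_le_of_card_ge
              (zpowers_le.2 (zpow_mem (mem_zpowers _) l)) (by
                have hd := orderOf_dvd_of_mem_zpowers (zpow_mem (mem_zpowers M.pElem) l)
                rw [hpo] at hd
                rw [Nat.card_zpowers, Nat.card_zpowers, hpo]
                rcases (Nat.dvd_prime Nat.prime_three).1 hd with h | h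
                · exact absurd (orderOf_eq_one_iff.1 h) hne
                · exact h.ge)
            exact heq.ge (mem_zpowers _)
          -- conjugation by the element of order three is inner, so its cube shows it trivial
          obtain ⟨m, hm⟩ := hgen
          have hm' : (M.pElem ^ l) ^ m = M.pElem := hm
          set g := M.pElem ^ l
          have hg3 : g ^ 3 = 1 := by
            rw [show g ^ 3 = g ^ ((3 : ℕ) : ℤ) from (zpow_natCast _ _).symm, ← zpow_mul, mul_comm, zpow_mul,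
              zpow_natCast, hp3, one_zpow]
          have hgfix : ∀ q' ∈ E8, g * q' = q' * g := by
            intro q' hq'
            have h8 : q ^ 8 = 1 := by
              have := Subgroup.orderOf_dvd_natCard E8 hq
              rw [F.card_inf] at this
              exact orderOf_dvd_iff_pow_eq_one.1 this
            -- the composite centralises, so g acts as the inverse of q
            have hgu : ∀ u ∈ E8, g * u * g⁻¹ = g * q * (q⁻¹ * u * q) * (g * q)⁻¹ := fun u _ => by group
            have hact : ∀ u ∈ E8, g * u * g⁻¹ = q⁻¹ * u * q := fun u hu => by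
              have huq : q⁻¹ * u * q ∈ E8 := mul_mem (mul_mem (inv_mem hq) hu) hq
              rw [hgu u hu, hc _ huq, mul_inv_cancel_right]
            have hk : ∀ k : ℕ, g ^ k * q' * (g ^ k)⁻¹ = (q⁻¹) ^ k * q' * q ^ k := by
              intro k
              induction k with
              | zero => simp
              | succ k ih =>
                rw [pow_succ' g, show g * g ^ k * q' * (g * g ^ k)⁻¹ = g * (g ^ k * q' * (g ^ k)⁻¹) * g⁻¹ by group, ih,
                  hact _ (mul_mem (mul_mem (pow_mem (inv_mem hq) k) hq') (pow_mem hq k))]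
                rw [pow_succ' q⁻¹, pow_succ q]
                group
            have h16 := hk 16
            rw [show g ^ 16 = g ^ (3 * 5 + 1) from rfl, pow_succ, pow_mul, hg3, one_pow, one_mul,
              show q ^ 16 = (q ^ 8) ^ 2 from pow_mul q 8 2, h8, one_pow, inv_pow,
              show q ^ 16 = (q ^ 8) ^ 2 from pow_mul q 8 2, h8, one_pow, inv_one, one_mul, mul_one,
              mul_inv_eq_iff_eq_mul] at h16
            exact h16
          have hpfix : ∀ q' ∈ E8, M.pElem * q' = q' * M.pElem := fun q' hq' => by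
            rw [← hm']; exact ((show Commute g q' from hgfix q' hq').zpow_left m).eq
          obtain ⟨j, hj⟩ := hfix M.pElem hpfix hpc (by rw [hpo]; decide)
          have hd : orderOf M.pElem ∣ 11 := F.order ▸ orderOf_dvd_of_mem_zpowers ⟨j, hj⟩
          rw [hpo] at hd
          norm_num at hd
        rcases Int.even_or_odd i with ⟨j, rfl⟩ | ⟨j, rfl⟩
        · rw [show n ^ (j + j) = 1 by
            rw [← two_mul, zpow_mul, show n ^ (2 : ℤ) = 1 from by rw [show (2 : ℤ) = ((2 : ℕ) : ℤ) from rfl, zpow_natCast, pow_two, hn2], one_zpow],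
            one_mul] at hvp
          rw [hvp, hpmove l q' hq' (fun q'' hq'' => hvp ▸ hcomm q'' hq''), one_mul]
          exact hq'
        · exfalso
          -- the square centralises as well
          rw [zpow_add_one, zpow_mul, show n ^ (2 : ℤ) = 1 from by rw [show (2 : ℤ) = ((2 : ℕ) : ℤ) from rfl, zpow_natCast, pow_two, hn2], one_zpow, one_mul] at hvp
          have hw : ∀ q'' ∈ E8, n * (M.pElem ^ l * q') * q'' = q'' * (n * (M.pElem ^ l * q')) := fun q'' hq'' => hvp ▸ hcomm q'' hq''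
          -- conjugate by the element of order three
          set v' := n * (M.pElem ^ l * q') with hv'
          have hp' : ∀ q'' ∈ E8, (M.pElem * v' * M.pElem⁻¹) * q'' = q'' * (M.pElem * v' * M.pElem⁻¹) := by
            intro q'' hq''
            have hc2 := hw (M.pElem⁻¹ * q'' * M.pElem) (by
              have := (Subgroup.mem_normalizer_iff.1 (inv_mem hpn) q'').1 hq''
              rwa [inv_inv] at this)
            calc M.pElem * v' * M.pElem⁻¹ * q'' = M.pElem * (v' * (M.pElem⁻¹ * q'' * M.pElem)) * M.pElem⁻¹ := by group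
              _ = M.pElem * (M.pElem⁻¹ * q'' * M.pElem * v') * M.pElem⁻¹ := by rw [hc2]
              _ = _ := by group
          have hnp2 : M.pElem * n = n * M.pElem ^ 2 := by
            have h1 : n⁻¹ = n := inv_eq_of_mul_eq_one_right hn2
            rw [← hnp, h1]
            calc M.pElem * n = (n * n) * M.pElem * n := by rw [hn2, one_mul]
              _ = _ := by group
          have hcm : ∀ (i : ℕ), Commute (M.pElem ^ i) (M.pElem ^ l) := fun i =>
            ((Commute.refl M.pElem).pow_left i).zpow_right l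
          have hprod : v'⁻¹ * (M.pElem * v' * M.pElem⁻¹) = q'⁻¹ * (M.pElem ^ (2 : ℕ) * q') * M.pElem⁻¹ := by
            rw [hv', show (n * (M.pElem ^ l * q'))⁻¹ * (M.pElem * (n * (M.pElem ^ l * q')) * M.pElem⁻¹) =
              q'⁻¹ * ((M.pElem ^ l)⁻¹ * (n⁻¹ * (M.pElem * n) * M.pElem ^ l)) * q' * M.pElem⁻¹ by group, hnp2,
              inv_mul_cancel_left, (hcm 2).eq, inv_mul_cancel_left]
            group
          set q3 := M.pElem⁻¹ * q'⁻¹ * M.pElem with hq3
          have hq3E : q3 ∈ E8 := by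
            have := (Subgroup.mem_normalizer_iff.1 (inv_mem hpn) q'⁻¹).1 (inv_mem hq')
            rwa [inv_inv] at this
          set q4 := M.pElem * q' * M.pElem⁻¹ with hq4
          have hq4E : q4 ∈ E8 := (Subgroup.mem_normalizer_iff.1 hpn q').1 hq'
          have hprod2 : v'⁻¹ * (M.pElem * v' * M.pElem⁻¹) = M.pElem ^ (1 : ℤ) * (q3 * q4) := by
            rw [hprod, zpow_one, hq3, hq4, pow_two]
            group
          have h1 := hpmove 1 (q3 * q4) (mul_mem hq3E hq4E) fun q'' hq'' => by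
            rw [← hprod2]
            exact ((show Commute v' q'' from hw q'' hq'').inv_left.mul_left (hp' q'' hq'')).eq
          rw [zpow_one] at h1
          rw [h1, orderOf_one] at hpo
          norm_num at hpo
      card := hL48, s := nL, t := pL
      hs := fun h => hnotA (mem_sup_right (mem_subgroupOf.1 h))
      hs2 := Subtype.ext hn2
      ht := by rw [← Subgroup.orderOf_coe]; exact hpo
      hst := Subtype.ext (by
        show n * M.pElem * n⁻¹ = M.pElem⁻¹
        rw [hnp, eq_inv_iff_mul_eq_one, ← pow_succ, hp3]) }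
  obtain ⟨e⟩ := FGStruct.QuatFortyEight.nonempty_equiv d FGStruct.QuatFortyEight.model
  refine ⟨L.map (centralizer ({z} : Set G)).subtype, ?_,
    ⟨(equivMapOfInjective L _ (centralizer ({z} : Set G)).subtype_injective).symm.trans e⟩⟩
  rw [K.normalizer_eq hO hX hord hy]
  have hxg : ∀ g ∈ L, g * F.c * g⁻¹ ∈ zpowers F.c := by
    have hLe : L ≤ normalizer (zpowers F.c : Set ↥(centralizer ({z} : Set G))) := by
      refine sup_le (zpowers_le.2 (mem_normalizer_fintype ?_)) fun g hg => centralizer_le_normalizer _ ?_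
      · rintro _ ⟨i, rfl⟩
        show n * F.c ^ i * n⁻¹ ∈ _
        rw [← conj_zpow, hnx]
        exact zpow_mem (pow_mem (mem_zpowers _) 10) i
      · refine mem_centralizer_iff.2 ?_
        rintro _ ⟨i, rfl⟩
        exact ((show Commute g F.c from F.mem_cent.1 (hAc hg)).zpow_right i).eq.symm
    exact fun g hg => (Subgroup.mem_normalizer_iff.1 (hLe hg) F.c).1 (mem_zpowers _)
  rintro _ ⟨g, hg, rfl⟩
  refine mem_normalizer_fintype ?_
  rintro _ ⟨i, rfl⟩
  obtain ⟨k, hk⟩ := hxg g hg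
  show (g : G) * (F.c : G) ^ i * (g : G)⁻¹ ∈ _
  rw [← conj_zpow, show (g : G) * F.c * (g : G)⁻¹ = (F.c : G) ^ k from by
    have := congrArg Subtype.val hk.symm; simpa using this]
  exact zpow_mem (zpow_mem (mem_zpowers _) k) i

end Model.Eleven.Core

end Cfsg.Agent.JankoFour
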