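import Cfsg.Agent.Lib.JankoFour.Checks
import Cfsg.Agent.Lib.JankoFour.SplitChecks
import Cfsg.Agent.Lib.J4Module.Checks

/-!
Kernel checks for the centraliser of the element of order five in the concrete group.
-/

set_option autoImplicit false
set_option maxRecDepth 100000

namespace Cfsg.Agent.JankoFour.FiveTab

open Cfsg.Agent.J4Module (app gbL imFix of_chunks)
open Cfsg.Agent.J4Module.Data
open Big Split

/-- The fifteen linear elements commuting with the element of order five. -/
def cK (a b : ℕ) : List ℕ := mulC (powC yC a) (powC pC b)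

/-- Their list. -/
def listK : List (List ℕ) := (List.range 5).flatMap fun a => (List.range 3).map fun b => cK a b

/-- All elements commuting with the element of order five. -/
def listL : List (List ℕ) := listK ++ listK.map (mulC sC)

/-- Images on the eigenblocks under a map commuting with the element of order five. -/
def imEig (k l : ℕ) : List ℕ :=
  [k, app pC k, app yC k, app pC (app yC k), l, app pC l, app yC l, app pC (app yC l)]

/-- The class of a combination is the class of its image. -/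
def sameCls (im base : List ℕ) (m : ℕ) : Bool := cls (app im m) == cls (app base m)

/-- The images of the whole basis. -/
def imAll (c : ℕ × ℕ × ℕ × ℕ) : List ℕ := imFix c.1 c.2.1 ++ imEig c.2.2.1 c.2.2.2

/-- Pairs surviving on the fixed part. -/
def pairsFix : List (ℕ × ℕ) :=
  fixL.flatMap fun i => (fixL.filter fun j =>
    [5, 1, 4].all (sameCls (imFix i j) (gbL.take 4))).map fun j => (i, j)

/-- Pairs surviving on the eigenblocks. -/
def pairsEig : List (ℕ × ℕ) :=
  aL.flatMap fun k => (bL.filter fun l => [30, 17].all (sameCls (imEig k l) (gbL.drop 4))).map fun l => (k, l)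

/-- Quadruples surviving all tests. -/
def quads : List (ℕ × ℕ × ℕ × ℕ) :=
  pairsFix.flatMap fun q => (pairsEig.filter fun r =>
    sameCls (imAll (q.1, q.2, r.1, r.2)) gbL 273).map fun r => (q.1, q.2, r.1, r.2)

theorem quads_spec : ∀ c ∈ quads, mulC (imAll c) invC ∈ listK := by decide +kernel

theorem gb_id : mulC gbL invC = unitC ∧ invC.length = 12 := by decide +kernel

theorem eig_a : ∀ n < 4096, app yC (app yC n) ^^^ app pC (app yC n) ^^^ n = 0 → n ∈ aL :=
  of_chunks 64 (by decide +kernel)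

theorem eig_b : ∀ n < 4096, app yC (app yC n) ^^^ app p2C (app yC n) ^^^ n = 0 → n ∈ bL :=
  of_chunks 64 (by decide +kernel)

theorem gens_k : mulC sC xC = mulC ((fun g => mulC xC g)^[10] unitC) sC ∧ mulC sC yC = mulC yC sC ∧
    mulC sC fC = mulC fC sC ∧ mulC sC pC = mulC (mulC pC pC) sC := by decide +kernel

theorem gens_p : mulC xC pC = mulC pC xC ∧ mulC yC pC = mulC pC yC ∧ mulC fC pC = mulC pC fC ∧
    mulC sC pC = mulC p2C sC ∧ mulC sC p2C = mulC pC sC ∧
    mulC xC p2C = mulC p2C xC ∧ mulC yC p2C = mulC p2C yC ∧ mulC fC p2C = mulC p2C fC ∧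
    mulC pC pC = p2C ∧ mulC pC p2C = mulC p2C pC := by decide +kernel

theorem powY : (∀ a < 5, powC yC a = unitC → a = 0) ∧ powC yC 5 = unitC ∧ powC pC 3 = unitC ∧ powC yC 6 = yC ∧
    powC fC 4 = unitC := by decide +kernel

theorem list_spec : listL.Nodup ∧ listL.length = 30 ∧ unitC ∈ listK ∧
    (∀ C ∈ listK, mulC C pC = mulC pC C) ∧ (∀ C ∈ listK.map (mulC sC), mulC C pC ≠ mulC pC C) ∧
    (∀ C ∈ listK, mulC C C = unitC → C = unitC) ∧
    (∀ C ∈ listL, mulC C yC = mulC yC C) := by decide +kernel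

/-- The three non-zero singular fixed vectors of the first class. -/
def ell : List ℕ := [5, 2282, 2287]

/-- The six of the second class. -/
def cVecs : List ℕ := [6, 7, 2281, 2283, 2285, 2286]

theorem fix_classes : (∀ n ∈ fixL, cls n = 1 → n ∈ ell) ∧ (∀ n ∈ fixL, cls n = 2 → n ∈ cVecs) ∧
    (∀ n ∈ ell, n < 4096 ∧ cls n = 1 ∧ n ∈ fixL ∧ qbit n = false) ∧
    (∀ n ∈ cVecs, n < 4096 ∧ cls n = 2 ∧ n ∈ fixL) ∧
    (∀ m ∈ ell, ∀ n ∈ ell, bbit m n = false) ∧
    (∀ n ∈ fixL, (∀ m ∈ ell, bbit n m = false) → n = 0 ∨ n ∈ ell) ∧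
    (∀ n ∈ fixL, n < 4096 ∧ app yC n = n ∧ cls n ≤ 3) ∧
    (∀ m ∈ ell, ∀ n ∈ ell, m ≠ n → m ^^^ n ∈ ell) ∧ fixL.Nodup ∧ fixL.length = 16 := by decide +kernel

theorem ell_moved :
    (∀ C ∈ listL, mulC C C = unitC → C ≠ unitC → ∃ n ∈ ell, app C n ≠ n) ∧
    (∀ C ∈ listL, ∀ m ∈ ell, ∀ n ∈ ell, m ≠ n → app C m = m → app C n = n → ∃ a < 5, C = powC yC a) ∧
    (∀ n ∈ ell, app fC n ∈ ell) ∧ (∀ C ∈ listL, ∀ n ∈ ell, app C n ∈ ell) := by decide +kernel

theorem c_orbit : (∀ v ∈ cVecs, ∀ w ∈ cVecs, ∃ C ∈ listL, app C v = w) ∧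
    (∀ C ∈ listL, app C 6 = 6 → ∃ a < 5, C = powC yC a) := by decide +kernel

/-- A word carrying the hexad space onto one containing the line. -/
def wordEll : List ℕ := [0, 0, 1]

/-- A word carrying the hexad space onto one invariant under the element of order five. -/
def wordSix : List ℕ := [0, 2, 1, 0, 0, 0]

theorem word_spec : (∀ k ∈ wordEll ++ wordSix, k < 4) ∧ (∀ n ∈ ell, n ∈ bigW.map (app (wordC wordEll))) ∧
    (∀ n ∈ fixL, n ∈ bigW.map (app (wordC wordSix)) → n = 0 ∨ cls n = 2) ∧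
    6 ∈ bigW.map (app (wordC wordSix)) := by decide +kernel

/-- A word carrying an element of the hexad subgroup to the square of the normalising matrix. -/
def wordSq : List ℕ := [0, 0, 1, 0, 2]

theorem sq_spec : (∀ k ∈ wordSq, k < 4) ∧ mulC (wordC wordSq) (bEl 14) = mulC (mulC fC fC) (wordC wordSq) ∧
    cls (6 ^^^ 7) = 3 ∧ app fC 1 < 4096 := by decide +kernel

/-- The normalising matrix. -/
theorem norm_spec : mulC fC yC = mulC (powC yC 2) fC ∧ (∀ n ∈ fixL, app fC n ∈ fixL) := by decide +kernel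

end Cfsg.Agent.JankoFour.FiveTab
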