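import Cfsg.Agent.Lib.JankoFour.Assemble

/-!
The classes of the vectors of the first two kinds in the group.
-/

set_option autoImplicit false
set_option linter.unusedSectionVars false
set_option maxRecDepth 100000

namespace Cfsg.Agent.JankoFour

open Subgroup
open Cfsg.Agent.LargeFischer (QG)
open Cfsg.Agent.J4Module (app of_chunks)
open Cfsg.Agent.J4Module.Data
open Big

theorem Orb.t_iff : ∀ n < 2048, n / 64 % 16 = 0 →
    Orb.tMask.testBit n = (cls (bigW.getD (n % 64) 0) == 2) :=
  of_chunks 32 (by decide +kernel)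

variable {G : Type*} [Group G] [Finite G] {z : G} {P : Subgroup G} {M : Model z P} {B : BigData M}

namespace BigCoords

variable (C : BigCoords B)
  (hT : ∀ n < 2048, (Orb.tMask.testBit n = true ↔ n ≠ 0 ∧ ¬ IsConj z (C.el n)))
include C hT

/-- The class of the vector decides the class of the involution. -/
theorem class_of_cls (x : ↥(QG M.Q)) (h12 : cls (M.vec x) = 1 ∨ cls (M.vec x) = 2) :
    IsConj z (x : G) ↔ cls (M.vec x) = 1 := by
  have h0 : M.vec x ≠ 0 := fun e => by rw [e, cls_zero] at h12; simp at h12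
  have hq : qbit (M.vec x) = false := by rcases h12 with e | e <;> rw [cls_qbit _ (M.vec_lt x), e] <;> rfl
  obtain ⟨T, hTm, hb⟩ := M.exists_conj_hex (M.vec_lt x) h0 hq
  obtain ⟨h, hh⟩ := M.exists_elem T hTm
  set x' := M.ctx.conjQ h x with hx'
  have hv : M.vec x' = app T (M.vec x) := hh x
  obtain ⟨n, hn, e⟩ := C.el_surj (x' : G) ((B.inf_Q x').2 (by rw [hv]; exact hb))
  have hnQ : n / 64 % 16 = 0 := (C.el_mem_Q n hn).1 (e ▸ x'.2)
  have hvec := C.el_vec n hn x' e.symm
  have hc : cls (M.vec x') = cls (M.vec x) := by rw [hv, cls_InL0 hTm _ (M.vec_lt x)]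
  have hconj : IsConj z (x : G) ↔ IsConj z (x' : G) :=
    (TwoCent.conj_conj_iff (u := (x : G)) (h : G)).symm
  have ht := hT n hn
  rw [Orb.t_iff n hn hnQ, ← hvec, hc, beq_iff_eq, e] at ht
  rw [hconj]
  rcases h12 with h | h
  · refine iff_of_true ?_ h
    by_contra hz
    have hn0 : n ≠ 0 := by
      rintro rfl
      have : cls (M.vec x') = 1 := hc.trans h
      rw [C.el_vec 0 hn x' e.symm] at this
      exact absurd this (by decide +kernel)
    have := ht.2 ⟨hn0, hz⟩
    omega
  · refine iff_of_false (ht.1 h).2 (by omega)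

end BigCoords

end Cfsg.Agent.JankoFour
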