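import Cfsg.Agent.Lib.JankoFour.FiveCent
import Cfsg.Agent.Lib.JankoFour.FiveClasses

/-!
The group of order eight of fixed vectors of the first class, and its behaviour inside the centraliser of the
involution.
-/

set_option autoImplicit false
set_option linter.unusedSectionVars false
set_option maxRecDepth 20000

namespace Cfsg.Agent.JankoFour

open Subgroup
open Cfsg.Agent.LargeFischer (QG)
open Cfsg.Agent.J4Module (app)
open Cfsg.Agent.J4Module.Data
open FiveTab Big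

theorem ell_xor : (∀ m ∈ 0 :: ell, ∀ n ∈ 0 :: ell, m ^^^ n ∈ 0 :: ell) ∧
    (∀ n ∈ fixL, cls n = 0 → n = 0) ∧ (0 :: ell).Nodup ∧ (∀ n ∈ 0 :: ell, n ∈ fixL ∧ n < 4096 ∧ qbit n = false) := by
  decide +kernel

namespace Model

variable {G : Type*} [Group G] [Finite G] {z : G} {P : Subgroup G} (M : Model z P)

/-- The group of order eight. -/
def eG : Subgroup G where
  carrier := {g | ∃ x : ↥(QG M.Q), (x : G) = g ∧ M.vec x ∈ 0 :: ell}
  one_mem' := ⟨1, rfl, by rw [M.vec_one]; simp⟩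
  mul_mem' := by
    rintro _ _ ⟨x, rfl, hx⟩ ⟨y, rfl, hy⟩
    exact ⟨x * y, rfl, by rw [M.vec_mul]; exact ell_xor.1 _ hx _ hy⟩
  inv_mem' := by
    rintro _ ⟨x, rfl, hx⟩
    exact ⟨x⁻¹, rfl, by rw [M.vec_inv]; exact hx⟩

theorem mem_eG {x : ↥(QG M.Q)} : (x : G) ∈ M.eG ↔ M.vec x ∈ 0 :: ell :=
  ⟨fun ⟨_, e, h⟩ => Subtype.ext e ▸ h, fun h => ⟨x, rfl, h⟩⟩

theorem eG_le_H : M.eG ≤ centralizer ({z} : Set G) := fun _ ⟨x, e, _⟩ => e ▸ M.mem_H x.2

theorem z_mem_eG : z ∈ M.eG := ⟨M.zQ, rfl, by rw [show M.vec M.zQ = 0 from M.vec_z]; simp⟩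

theorem eG_sq : ∀ a ∈ M.eG, a * a = 1 := by
  rintro _ ⟨x, rfl, hx⟩
  exact (M.sq_iff x).2 (ell_xor.2.2.2 _ hx).2.2

theorem eG_comm {a b : G} (ha : a ∈ M.eG) (hb : b ∈ M.eG) : a * b = b * a := by
  have hi : ∀ c ∈ M.eG, c⁻¹ = c := fun c hc => inv_eq_of_mul_eq_one_right (M.eG_sq c hc)
  calc a * b = (a * b)⁻¹ := (hi _ (mul_mem ha hb)).symm
    _ = b * a := by rw [_root_.mul_inv_rev, hi a ha, hi b hb]

theorem vec_mul_z (x : ↥(QG M.Q)) : M.vec (x * M.zQ) = M.vec x := by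
  rw [M.vec_mul, show M.vec M.zQ = 0 from M.vec_z, Nat.xor_zero]

theorem card_eG : Nat.card ↥M.eG = 8 := by
  classical
  obtain ⟨-, -, hnd, hmem⟩ := ell_xor
  have hlt : ∀ n : {n // n ∈ (0 :: ell).toFinset}, ∃ x : ↥(QG M.Q), M.vec x = n.1 := fun n =>
    M.vec_surj _ (hmem _ (List.mem_toFinset.1 n.2)).2.1
  choose X hX using hlt
  let u : {n // n ∈ (0 :: ell).toFinset} × Bool → ↥(QG M.Q) := fun nb => if nb.2 then X nb.1 * M.zQ else X nb.1
  have hu : ∀ nb, M.vec (u nb) = nb.1.1 := fun nb => by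
    rcases nb with ⟨n, _ | _⟩ <;> simp [u, hX, M.vec_mul_z]
  let ψ : {n // n ∈ (0 :: ell).toFinset} × Bool → ↥M.eG := fun nb =>
    ⟨u nb, M.mem_eG.2 (by rw [hu]; exact List.mem_toFinset.1 nb.1.2)⟩
  have hψ : Function.Bijective ψ := by
    refine ⟨fun a b e => ?_, fun ⟨g, x, hxg, hv⟩ => ?_⟩
    · have e' : u a = u b := Subtype.ext (congrArg (fun t : ↥M.eG => t.1) e)
      have hn : a.1 = b.1 := Subtype.ext (by rw [← hu a, ← hu b, e'])
      obtain ⟨n, s⟩ := a
      obtain ⟨m, t⟩ := b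
      cases hn
      cases s <;> cases t <;> simp only [u, Bool.false_eq_true, if_false, if_true] at e' ⊢
      · exact absurd (congrArg M.toH (left_eq_mul.1 e')) (by rw [map_one]; exact M.z_ne)
      · exact absurd (congrArg M.toH (left_eq_mul.1 e'.symm)) (by rw [map_one]; exact M.z_ne)
    · subst hxg
      rcases M.eq_or_mul_z (hX ⟨_, List.mem_toFinset.2 hv⟩) with e | e
      · exact ⟨(⟨_, List.mem_toFinset.2 hv⟩, false), Subtype.ext e.symm⟩
      · exact ⟨(⟨_, List.mem_toFinset.2 hv⟩, true), Subtype.ext (e.symm ▸ rfl)⟩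
  rw [← Nat.card_congr (Equiv.ofBijective ψ hψ), Nat.card_prod, Nat.card_eq_fintype_card, Fintype.card_coe,
    List.toFinset_card_of_nodup hnd, Nat.card_eq_fintype_card, Fintype.card_bool]
  rfl

/-- Conjugation of a linear lift is linear. -/
theorem lin_conj {Y A C : List ℕ} (hY : InL0 Y) (hA : InK0 A) (hC : InL0 C) {y a : ↥(centralizer ({z} : Set G))}
    (hy : M.Acts y Y) (ha : M.Acts a A) (hc : M.Acts (y * a * y⁻¹) C) : mulC C pC = mulC pC C := by
  have e : mulC C Y = mulC Y A := by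
    refine M.acts_unique (by rw [length_mulC]; exact gen_length hY) (by rw [length_mulC]; exact gen_length hA)
      (c := y * a) ?_ (M.acts_mul hy ha)
    have h := M.acts_mul hc hy
    rwa [inv_mul_cancel_right] at h
  obtain ⟨Y', hY'm, hY'⟩ := M.exists_cols y⁻¹
  have hAp := lin_of_K hA
  have hAp2 : mulC A p2C = mulC p2C A := by
    rw [← FiveTab.gens_p.2.2.2.2.2.2.2.2.1, ← mulC_assoc, hAp, mulC_assoc, hAp, mulC_assoc]
  have key : ∀ Q, (mulC A Q = mulC Q A) → ∀ R, mulC Y Q = mulC R Y → ∀ n < 4096, app C (app R n) = app R (app C n) := by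
    intro Q hQ R hR n hn
    obtain ⟨x, rfl⟩ := M.vec_surj n hn
    set w := app Y' (M.vec x) with hw
    have hyw : app Y w = M.vec x := (M.acts_inv hy hY' x).2
    rw [← hyw, ← app_mulC R, ← hR, app_mulC, ← app_mulC C Y, e, app_mulC, ← app_mulC A, hQ, app_mulC,
      ← app_mulC Y Q, hR, app_mulC, ← app_mulC Y A, ← e, app_mulC]
  refine cols_ext (by rw [length_mulC]; rfl) (by rw [length_mulC]; exact gen_length hC) fun n hn => ?_
  rw [app_mulC, app_mulC]
  rcases K_or_outer hY with hK | ⟨D, hD, rfl⟩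
  · exact key pC hAp pC (lin_of_K hK) n hn
  · refine key p2C hAp2 pC ?_ n hn
    have hD2 : mulC D p2C = mulC p2C D := by
      rw [← FiveTab.gens_p.2.2.2.2.2.2.2.2.1, ← mulC_assoc, lin_of_K hD, mulC_assoc, lin_of_K hD, mulC_assoc]
    rw [mulC_assoc, hD2, ← mulC_assoc, FiveTab.gens_p.2.2.2.2.1, mulC_assoc]

namespace Five

variable {M} (F : M.Five)

/-- The centraliser of the element of order five. -/
abbrev K : Subgroup G := centralizer ({(F.c : G)} : Set G)

theorem eG_le_K : M.eG ≤ F.K := by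
  rintro _ ⟨x, rfl, hx⟩
  exact mem_centralizer_singleton_iff.2 ((F.comm_iff x).2 (ell_xor.2.2.2 _ hx).1).symm

theorem mem_cent' {g : G} (hg : g ∈ centralizer ({z} : Set G)) :
    g ∈ F.K ↔ (⟨g, hg⟩ : ↥(centralizer ({z} : Set G))) ∈ F.cent := by
  rw [F.mem_cent, Subtype.ext_iff]
  exact mem_centralizer_singleton_iff

/-- The centraliser inside the centraliser of the involution normalises the group of order eight. -/
theorem conj_eG {h : ↥(centralizer ({z} : Set G))} (hh : h ∈ F.cent) {a : G} (ha : a ∈ M.eG) :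
    (h : G) * a * (h : G)⁻¹ ∈ M.eG := by
  obtain ⟨x, rfl, hx⟩ := ha
  obtain ⟨C, hC, hCa⟩ := M.exists_cols h
  refine ⟨M.ctx.conjQ h x, rfl, ?_⟩
  rw [hCa x]
  rcases List.mem_cons.1 hx with e | e
  · rw [e, J4Module.app_zero]; simp
  · exact List.mem_cons_of_mem _ (FiveTab.ell_moved.2.2.2 C (F.acts_list (F.mem_cent.1 hh) hC hCa) _ e)

variable {B : BigData M} (Cc : BigCoords B)
  (hT : ∀ n < 2048, (Orb.tMask.testBit n = true ↔ n ≠ 0 ∧ ¬ IsConj z (Cc.el n)))
include F Cc hT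

/-- A fixed involution of the extraspecial subgroup conjugate to the standard one lies in the group. -/
theorem fixed_mem (x : ↥(QG M.Q)) (hx : M.vec x ∈ fixL) (h2 : (x : G) * x = 1) (hz : IsConj z (x : G)) :
    (x : G) ∈ M.eG := by
  rw [M.mem_eG]
  have hq := (M.sq_iff x).1 h2
  rw [cls_qbit _ (M.vec_lt x)] at hq
  have h3 : cls (M.vec x) ≠ 3 := fun e => by rw [e] at hq; simp at hq
  have hle := (FiveTab.fix_classes.2.2.2.2.2.2.1 _ hx).2.2
  rcases (show cls (M.vec x) = 0 ∨ cls (M.vec x) = 1 ∨ cls (M.vec x) = 2 by omega) with e | e | e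
  · rw [ell_xor.2.1 _ hx e]; simp
  · exact List.mem_cons_of_mem _ (FiveTab.fix_classes.1 _ hx e)
  · exact absurd ((Cc.class_of_cls hT x (Or.inr e)).1 hz) (by omega)

theorem eG_conj {a : G} (ha : a ∈ M.eG) (h1 : a ≠ 1) : IsConj z a := by
  obtain ⟨x, rfl, hx⟩ := ha
  rcases List.mem_cons.1 hx with e | e
  · rcases M.vec_eq_zero.1 e with f | f
    · exact absurd f h1
    · rw [f]
  · have hc := (FiveTab.fix_classes.2.2.1 _ e).2.1
    exact (Cc.class_of_cls hT x (Or.inl hc)).2 hc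

/-- A fixed vector of the second class gives an involution of the second class. -/
theorem cVec_not_conj (x : ↥(QG M.Q)) (hx : M.vec x ∈ cVecs) : ¬ IsConj z (x : G) := fun h => by
  have hc := (FiveTab.fix_classes.2.2.2.1 _ hx).2.1
  have := (Cc.class_of_cls hT x (Or.inr hc)).1 h
  omega

/-- A conjugate of an element of the large subgroup centralised by the element lies in the group of order eight
if it is conjugate to the involution. -/
theorem small_mem {y : ↥(centralizer ({z} : Set G))} {v : G} (hv : v ∈ B.V)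
    (hc : (y : G) * v * (y : G)⁻¹ ∈ F.K) (hz : IsConj z v) : (y : G) * v * (y : G)⁻¹ ∈ M.eG := by
  set a : ↥(centralizer ({z} : Set G)) := ⟨v, B.le_cent hv⟩
  obtain ⟨i, hi, ha⟩ := B.img a hv
  obtain ⟨j, hj, e⟩ := Big.bEl_spec.2.2.2.2 i hi
  rw [e] at ha
  obtain ⟨Y, hY, hy⟩ := M.exists_cols y
  obtain ⟨C, hC, hCa⟩ := M.exists_cols (y * a * y⁻¹)
  have hlin := M.lin_conj hY (Big.bEl_InK0 hj) hC hy ha hCa
  have hmem : y * a * y⁻¹ ∈ F.cent := (F.mem_cent' (y * a * y⁻¹).2).1 hc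
  have hL := F.acts_list (F.mem_cent.1 hmem) hC hCa
  have hK : C ∈ listK := (List.mem_append.1 hL).resolve_right fun h => FiveTab.list_spec.2.2.2.2.1 C h hlin
  have ha2 : y * a * y⁻¹ * (y * a * y⁻¹) = 1 := by
    rw [show y * a * y⁻¹ * (y * a * y⁻¹) = y * (a * a) * y⁻¹ by group,
      show a * a = 1 from Subtype.ext (B.sq v hv), mul_one, mul_inv_cancel]
  have hCC : mulC C C = unitC := by
    refine M.acts_unique (by rw [length_mulC]; exact gen_length hC) (by decide) ?_ M.acts_one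
    have := M.acts_mul hCa hCa
    rwa [ha2] at this
  have hu := FiveTab.list_spec.2.2.2.2.2.1 C hK hCC
  obtain ⟨x, hx⟩ := M.toH_surj (M.mem_Q _ (hu ▸ hCa))
  have hxv : (x : G) = (y : G) * v * (y : G)⁻¹ := congrArg Subtype.val hx
  rw [← hxv]
  refine F.fixed_mem Cc hT x ((F.comm_iff x).1 ?_) ?_ ?_
  · rw [hxv]
    exact (mem_centralizer_singleton_iff.1 hc).symm
  · exact congrArg Subtype.val (show M.toH x * M.toH x = 1 by rw [hx, ha2])
  · rw [hxv]
    exact (TwoCent.conj_conj_iff (y : G)).2 hz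

end Five

end Model

end Cfsg.Agent.JankoFour
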