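import Cfsg.Agent.Lib.JankoFour.FusedPair

/-!
A commuting conjugate of the involution inducing an outer involution leads to a contradiction.
-/

set_option autoImplicit false
set_option linter.unusedSectionVars false
set_option maxRecDepth 20000

namespace Cfsg.Agent.JankoFour

open Subgroup
open Cfsg.Agent.LargeFischer (Ctx QG)
open Cfsg.Agent.J4Module (app elemI oneC compC fixMask)
open Cfsg.Agent.J4Module.Data

variable {G : Type*} [Group G] [Finite G] {z : G} {P : Subgroup G}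

namespace Model

theorem not_lin_of_semi {X : List ℕ} (hlt : app X (app X 1) = 1) (hX : mulC X pC = mulC p2C X) :
    ¬ mulC X pC = mulC pC X := by
  intro h
  have h1 := semi_app hX (app X 1)
  rw [lin_app h, hlt] at h1
  have h2 : app pC (app pC 1) = app pC 1 := h1.symm
  exact absurd h2 (by decide +kernel)

/-- The four vectors spanned by two. -/
def span2 (d1 d2 : ℕ) : Finset ℕ := {0, d1, d2, d1 ^^^ d2}

theorem card_span2 (d1 d2 : ℕ) : (span2 d1 d2).card ≤ 4 := Finset.card_le_four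

/-- The vectors orthogonal to two vectors and their multiples. -/
def perp4 (d1 d2 : ℕ) : Finset ℕ := (Finset.range 4096).filter fun n =>
  bbit n d1 = false ∧ bbit n d2 = false ∧ bbit n (app pC d1) = false ∧ bbit n (app pC d2) = false

/-- A linear member of the table fixing 256 vectors is in the list of inner involutions. -/
theorem inner_index {E : List ℕ} (hE : E ∈ sylow) (hn : E ≠ oneC) (hl : Lin E) (h : 256 ≤ (fixF E).card) :
    ∃ t ∈ innerWords, elemI t.1 = E := by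
  have h2 : compC E E = oneC := by
    by_contra hne
    have h16 := fixF_le_of_mask (tab_len hE) (sylow_fix_le E hE hne)
    omega
  obtain ⟨j, hj, rfl⟩ := elemI_sylow_invol hE h2 hn
  obtain ⟨t, ht, rfl⟩ := inner_cover j hj hl
  exact ⟨t, ht, rfl⟩

variable (M : Model z P)
include M

theorem card_perp4 {d1 d2 : ℕ} (hd1 : d1 < 4096) (hd2 : d2 < 4096) : 256 ≤ (perp4 d1 d2).card := by
  have hp1 := pC_lt d1
  have hp2 := pC_lt d2
  obtain ⟨a, F, hFk, hF, ha0⟩ := exists_translate (k := 256) (s := Finset.range 4096)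
    (f := fun n => (bbit n d1, bbit n d2, bbit n (app pC d1), bbit n (app pC d2)))
    (t := Finset.univ) Finset.univ_nonempty (fun _ _ => Finset.mem_univ _) (by simp)
  refine hFk.trans (Finset.card_le_card fun n hn => ?_)
  obtain ⟨h1, h2⟩ := hF n hn
  have h1 := Finset.mem_range.1 h1
  have ha := Finset.mem_range.1 (ha0 (by norm_num))
  have hn' : n < 4096 := by
    have := Nat.xor_lt_two_pow (n := 12) ha h1
    rwa [← Nat.xor_assoc, Nat.xor_self, Nat.zero_xor] at this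
  simp only [Prod.mk.injEq, M.bbit_xor ha hn' hd1, M.bbit_xor ha hn' hd2, M.bbit_xor ha hn' hp1,
    M.bbit_xor ha hn' hp2] at h2
  obtain ⟨e1, e2, e3, e4⟩ := h2
  have key : ∀ x y : Bool, (x ^^ y) = x → y = false := by decide
  exact Finset.mem_filter.2 ⟨Finset.mem_range.2 hn', key _ _ e1, key _ _ e2, key _ _ e3, key _ _ e4⟩

theorem bbit_xor_right {n a b : ℕ} (hn : n < 4096) (ha : a < 4096) (hb : b < 4096) :
    bbit n (a ^^^ b) = (bbit n a ^^ bbit n b) := by
  rw [bbit_comm, M.bbit_xor ha hb hn, bbit_comm a, bbit_comm b]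

variable {g : G}

/-- The set of vectors of D. -/
noncomputable def dVecs (g : G) : Finset ℕ :=
  haveI := Classical.decPred fun n => ∃ d : ↥(QG M.Q), (d : G) ∈ M.EU g ∧ M.vec d = n
  (Finset.range 4096).filter fun n => ∃ d : ↥(QG M.Q), (d : G) ∈ M.EU g ∧ M.vec d = n

theorem mem_dVecs {n : ℕ} : n ∈ M.dVecs g ↔ ∃ d : ↥(QG M.Q), (d : G) ∈ M.EU g ∧ M.vec d = n := by
  classical
  simp only [dVecs, Finset.mem_filter, Finset.mem_range, and_iff_right_iff_imp]
  rintro ⟨d, -, rfl⟩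
  exact M.vec_lt d

theorem dvec_ne (hW : M.Weak) (hm : Moved (z := z) g) {d : ↥(QG M.Q)} (hd : (d : G) ∈ M.EU g) :
    M.vec d = 0 ↔ (d : G) = 1 := by
  rw [M.vec_eq_zero]
  refine ⟨fun h => h.resolve_right fun e => hm.z_not_mem M hW (Eq.subst (motive := fun y => y ∈ M.EU g) e hd), Or.inl⟩

variable {X : List ℕ}

/-- The vectors of D lie in a four-element subspace, trivial unless all lifts of fixed vectors commute with u. -/
theorem exists_span (hW : M.Weak) (hm : Moved (z := z) g) (hX : M.Acts ⟨g * z * g⁻¹, hm.mem⟩ X)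
    (hdisp : ∀ v ∈ fixF X, ∃ a < 4096, app X a ^^^ a = v) :
    ∃ d1 d2, d1 < 4096 ∧ d2 < 4096 ∧ M.dVecs g ⊆ span2 d1 d2 ∧
      ((¬ ∀ w : ↥(QG M.Q), app X (M.vec w) = M.vec w → g * z * g⁻¹ * w = w * (g * z * g⁻¹)) →
        d1 = 0 ∧ d2 = 0) := by
  classical
  have hpre : ∀ d : ↥(QG M.Q), (d : G) ∈ M.EU g → ∃ a : ↥(QG M.Q), M.vec d = app X (M.vec a) ^^^ M.vec a := by
    intro d hd
    obtain ⟨a, ha, e⟩ := hdisp (M.vec d) (mem_fixF.2 ⟨M.vec_lt d, M.fixed_of_conj hX (M.EU_comm hd).symm⟩)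
    obtain ⟨x, rfl⟩ := M.vec_surj a ha
    exact ⟨x, e.symm⟩
  by_cases hfull : ∀ w : ↥(QG M.Q), app X (M.vec w) = M.vec w → g * z * g⁻¹ * w = w * (g * z * g⁻¹)
  swap
  · refine ⟨0, 0, by norm_num, by norm_num, fun n hn => ?_, fun _ => ⟨rfl, rfl⟩⟩
    obtain ⟨d, hd, rfl⟩ := M.mem_dVecs.1 hn
    obtain ⟨a, ha⟩ := hpre d hd
    have h1 : (d : G) = 1 := by_contra fun hne => hfull fun w hw => M.full_of_shift hm.mem hX hW hd hne ha hw
    simp [span2, (M.dvec_ne hW hm hd).2 h1]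
  by_contra hno
  simp only [not_exists, not_and] at hno
  have pick : ∀ d1 d2, d1 < 4096 → d2 < 4096 → ∃ n ∈ M.dVecs g, n ∉ span2 d1 d2 := fun d1 d2 h1 h2 =>
    Finset.not_subset.1 fun hs => hno d1 d2 h1 h2 hs (fun h => absurd hfull h)
  obtain ⟨n1, hn1, hn1'⟩ := pick 0 0 (by norm_num) (by norm_num)
  obtain ⟨d1, hd1, rfl⟩ := M.mem_dVecs.1 hn1
  obtain ⟨n2, hn2, hn2'⟩ := pick (M.vec d1) 0 (M.vec_lt _) (by norm_num)
  obtain ⟨d2, hd2, rfl⟩ := M.mem_dVecs.1 hn2
  obtain ⟨n3, hn3, hn3'⟩ := pick (M.vec d1) (M.vec d2) (M.vec_lt _) (M.vec_lt _)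
  obtain ⟨d3, hd3, rfl⟩ := M.mem_dVecs.1 hn3
  simp only [span2, Finset.mem_insert, Finset.mem_singleton, not_or] at hn1' hn2' hn3'
  obtain ⟨a, ha⟩ := hpre d1 hd1
  set u := g * z * g⁻¹ with hu
  have claim : ∀ e : ↥(QG M.Q), (e : G) ∈ M.EU g → M.vec e ≠ 0 → M.vec e ≠ M.vec d1 →
      bbit (M.vec a) (M.vec e) = true := by
    intro e he hne hne1
    by_contra hc
    rw [Bool.not_eq_true, ← M.comm_iff] at hc
    obtain ⟨b, hb⟩ := hpre e he
    have hd1ne : (d1 : G) ≠ 1 := fun e' => hn1'.1 ((M.dvec_ne hW hm hd1).2 e')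
    have hene : (e : G) ≠ 1 := fun e' => hne ((M.dvec_ne hW hm he).2 e')
    have hpne : ((d1 * e : ↥(QG M.Q)) : G) ≠ 1 := fun e' => hne1 (by
      have := (M.dvec_ne hW hm (mul_mem hd1 he)).2 e'
      rw [M.vec_mul, Nat.xor_eq_zero_iff] at this
      exact this.symm)
    have hab : M.vec (d1 * e) = app X (M.vec (a * b)) ^^^ M.vec (a * b) := by
      rw [M.vec_mul, M.vec_mul, app_xor, ha, hb]
      ac_rfl
    have h1 := M.shift_eq hm.mem hX hW hd1 hd1ne ha
    have h2 := M.shift_eq hm.mem hX hW he hene hb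
    have h3 : u * ((a : G) * b) * u⁻¹ * ((a : G) * b)⁻¹ = (d1 : G) * e * z :=
      M.shift_eq hm.mem hX hW (mul_mem hd1 he) hpne hab
    rw [← hu] at h1 h2
    have h1' : u * (a : G) * u⁻¹ = d1 * z * a := by rw [← h1]; group
    have h2' : u * (b : G) * u⁻¹ = e * z * b := by rw [← h2]; group
    have h4 : u * ((a : G) * b) * u⁻¹ * ((a : G) * b)⁻¹ = (d1 : G) * e := by
      calc u * ((a : G) * b) * u⁻¹ * ((a : G) * b)⁻¹
          = (u * a * u⁻¹) * (u * b * u⁻¹) * (b : G)⁻¹ * (a : G)⁻¹ := by group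
        _ = (d1 : G) * z * ((a : G) * e) * z * (a : G)⁻¹ := by rw [h1', h2']; group
        _ = (d1 : G) * (z * ((e : G) * a)) * z * (a : G)⁻¹ := by rw [hc]; group
        _ = (d1 : G) * ((e : G) * a * z) * z * (a : G)⁻¹ := by rw [M.z_comm (mul_mem e.2 a.2)]
        _ = (d1 : G) * e * a * (z * z) * (a : G)⁻¹ := by group
        _ = (d1 : G) * e := by rw [M.z_sq]; group
    rw [h4] at h3
    exact M.ctx.xs.ne_mul_z _ h3
  have b2 := claim d2 hd2 hn2'.1 hn2'.2.1
  have b3 := claim d3 hd3 hn3'.1 hn3'.2.1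
  have b23 := claim (d2 * d3) (mul_mem hd2 hd3) (by
      rw [M.vec_mul, ne_eq, Nat.xor_eq_zero_iff]; exact fun e => hn3'.2.2.1 e.symm) (by
      rw [M.vec_mul]
      intro e
      apply hn3'.2.2.2
      rw [← e, Nat.xor_comm (M.vec d2) (M.vec d3), Nat.xor_assoc, Nat.xor_self, Nat.xor_zero])
  rw [M.vec_mul, M.bbit_xor_right (M.vec_lt _) (M.vec_lt _) (M.vec_lt _), b2, b3] at b23
  simp at b23

/-- Linear columns moving the fixed vectors of a semilinear involution into four vectors. -/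
theorem lin_fix_eq {C : List ℕ} {c : ↥(centralizer ({z} : Set G))} (hc : M.Acts c C) (hCs : C ∈ sylow)
    (hCne : C ≠ oneC) (hClin : Lin C) (hXp : mulC X pC = mulC p2C X) (hX64 : (fixF X).card = 64)
    {d1 d2 : ℕ} (hd1 : d1 < 4096) (hd2 : d2 < 4096) {F0 : Finset ℕ} (hF0 : F0 ⊆ fixF X)
    (hCF : ∀ n ∈ F0, app C n ^^^ n ∈ span2 d1 d2) :
    (32 ≤ F0.card → d1 = 0 → d2 = 0 → False) ∧
    (F0 = fixF X → fixF C = perp4 d1 d2) := by
  classical
  have hsq : compC C C = oneC ∨ (fixF C).card ≤ 16 := by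
    by_cases h : compC C C = oneC
    · exact Or.inl h
    · exact Or.inr (fixF_le_of_mask (tab_len hCs) (sylow_fix_le C hCs h))
  have h256 : (fixF C).card ≤ 256 := by
    rcases hsq with h | h
    · obtain ⟨j, hj, rfl⟩ := elemI_sylow_invol hCs h hCne
      exact fixF_le_of_mask (tab_len hCs) (invol_fix_le j hj).1
    · omega
  have hkern : ∀ (S : Finset ℕ) (k : ℕ), S.Nonempty → (∀ n ∈ F0, app C n ^^^ n ∈ S) → S.card * k ≤ F0.card →
      k * k ≤ (fixF C).card := by
    intro S k hS hSF hk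
    obtain ⟨a, F, hFk, hF, ha0⟩ := exists_translate (f := fun n => app C n ^^^ n) (s := F0) hS hSF hk
    rcases Nat.eq_zero_or_pos k with rfl | hkpos
    · simp
    have ha := ha0 hkpos
    have e : ∀ n, n = a ^^^ (a ^^^ n) := fun n => by rw [← Nat.xor_assoc, Nat.xor_self, Nat.zero_xor]
    have hFX : F ⊆ fixF X := fun n hn => by
      obtain ⟨h1, h2⟩ := mem_fixF.1 (hF0 (hF n hn).1)
      obtain ⟨h3, h4⟩ := mem_fixF.1 (hF0 ha)
      rw [e n]
      exact mem_fixF.2 ⟨Nat.xor_lt_two_pow (n := 12) h3 h1, by rw [app_xor, h2, h4]⟩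
    have hfix : ∀ n ∈ F, app C n = n := fun n hn => by
      have h := (hF n hn).2
      simp only [app_xor] at h
      have h' : app C a ^^^ a ^^^ (app C n ^^^ n) = app C a ^^^ a := by
        refine Eq.trans ?_ h; ac_rfl
      exact Nat.xor_eq_zero_iff.1 (Nat.xor_right_injective (h'.trans (Nat.xor_zero _).symm))
    exact le_trans (Nat.mul_le_mul hFk hFk) (lin_fix_sq hXp hClin hFX hfix)
  constructor
  · intro h32 e1 e2
    subst e1 e2
    have := hkern {0} 32 (Finset.singleton_nonempty 0) (fun n hn => by simpa [span2] using hCF n hn) (by simpa)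
    omega
  · intro hFX
    have h16 : 16 * 16 ≤ (fixF C).card := hkern _ 16 ⟨0, by simp [span2]⟩ hCF (by
      rw [hFX, hX64]
      have := card_span2 d1 d2
      omega)
    have hinvC : ∀ n < 4096, app C n < 4096 ∧ app C (app C n) = n := M.invol_app hc (M.mem_Q _ (by
      rw [← unit_eq.1, ← hsq.resolve_right (by omega)]
      exact M.acts_mul hc hc))
    set T := perp4 d1 d2 with hT
    -- every vector is a sum of a fixed vector and a scalar multiple of one
    have hsum : ∀ m < 4096, ∃ a ∈ fixF X, ∃ b ∈ fixF X, a ^^^ app pC b = m := by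
      intro m hm
      have hsub : (fixF X ×ˢ fixF X).image (fun ab => ab.1 ^^^ app pC ab.2) = Finset.range 4096 := by
        refine Finset.eq_of_subset_of_card_le (fun m hm => ?_) ?_
        · obtain ⟨⟨a, b⟩, hab, rfl⟩ := Finset.mem_image.1 hm
          exact Finset.mem_range.2 (Nat.xor_lt_two_pow (n := 12) (mem_fixF.1 (Finset.mem_product.1 hab).1).1 (pC_lt _))
        · rw [Finset.card_image_of_injOn (pair_injOn hXp), Finset.card_product, hX64, Finset.card_range]
      obtain ⟨⟨a, b⟩, hab, e⟩ := Finset.mem_image.1 (hsub.symm ▸ Finset.mem_range.2 hm)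
      exact ⟨a, (Finset.mem_product.1 hab).1, b, (Finset.mem_product.1 hab).2, e⟩
    have hspan : ∀ n ∈ T, ∀ s ∈ span2 d1 d2, bbit n s = false ∧ bbit n (app pC s) = false := by
      intro n hn s hs
      obtain ⟨hn1, h1, h2, h3, h4⟩ := Finset.mem_filter.1 hn
      have hn1 := Finset.mem_range.1 hn1
      have h0 : bbit n 0 = false := by
        have := M.bbit_xor_right hn1 hd1 hd1
        rwa [Nat.xor_self, h1] at this
      simp only [span2, Finset.mem_insert, Finset.mem_singleton] at hs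
      rcases hs with rfl | rfl | rfl | rfl
      · exact ⟨h0, by rwa [J4Module.app_zero]⟩
      · exact ⟨h1, h3⟩
      · exact ⟨h2, h4⟩
      · rw [app_xor, M.bbit_xor_right hn1 hd1 hd2, M.bbit_xor_right hn1 (pC_lt _) (pC_lt _), h1, h2, h3, h4]
        exact ⟨rfl, rfl⟩
    have hTC : T ⊆ fixF C := by
      intro n hn
      have hn1 := Finset.mem_range.1 (Finset.mem_filter.1 hn).1
      refine mem_fixF.2 ⟨hn1, ?_⟩
      have h0 := M.nondeg (Nat.xor_lt_two_pow (n := 12) (hinvC n hn1).1 hn1) fun m hm => ?_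
      · exact Nat.xor_eq_zero_iff.1 h0
      obtain ⟨hm1, hm2⟩ := hinvC m hm
      have e : bbit (app C n) m = bbit n (app C m) := by
        conv_lhs => rw [← hm2]
        exact M.bbit_app hc hn1 hm1
      rw [M.bbit_xor (hinvC n hn1).1 hn1 hm, e, ← M.bbit_xor_right hn1 hm1 hm]
      obtain ⟨a, ha, b, hb, rfl⟩ := hsum m hm
      obtain ⟨ha1, -⟩ := mem_fixF.1 ha
      obtain ⟨hb1, -⟩ := mem_fixF.1 hb
      rw [app_xor, lin_app hClin, show app C a ^^^ app pC (app C b) ^^^ (a ^^^ app pC b) =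
        (app C a ^^^ a) ^^^ (app pC (app C b ^^^ b)) by rw [app_xor]; ac_rfl,
        M.bbit_xor_right hn1 (Nat.xor_lt_two_pow (n := 12) (hinvC a ha1).1 ha1) (pC_lt _),
        (hspan n hn _ (hCF a (hFX.symm ▸ ha))).1, (hspan n hn _ (hCF b (hFX.symm ▸ hb))).2]
      rfl
    have hT256 : 256 ≤ T.card := M.card_perp4 hd1 hd2
    exact (Finset.eq_of_subset_of_card_le hTC (h256.trans hT256)).symm

/-- The outer case. -/
theorem outer_false (hW : M.Weak) (hm : Moved (z := z) g)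
    (hsyl : ∀ a : ↥(centralizer ({z} : Set G)), (a : G) ∈ M.AU g → ∃ C ∈ sylow, M.Acts a C)
    (hX : M.Acts ⟨g * z * g⁻¹, hm.mem⟩ X) (hXs : X ∈ sylow) (hXp : mulC X pC = mulC p2C X) : False := by
  classical
  set u : ↥(centralizer ({z} : Set G)) := ⟨g * z * g⁻¹, hm.mem⟩ with hudef
  have huu : u * u = 1 := Subtype.ext (u_sq M.z_sq)
  have hinv := M.invol_app hX (huu ▸ one_mem _)
  have hX2 : compC X X = oneC := by
    rw [unit_eq.1]
    refine M.acts_unique (mulC_tab_len (tab_len hXs)) rfl (M.acts_mul hX hX) ?_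
    rw [huu]
    exact M.acts_one
  have hXne : X ≠ oneC := fun e => hm.not_mem M hW ((M.mem_Q_iff u).1 (M.mem_Q u (unit_eq.1 ▸ e ▸ hX)))
  obtain ⟨i, hi, rfl⟩ := elemI_sylow_invol hXs hX2 hXne
  have h64 := fixF_le_of_mask (tab_len hXs)
    ((invol_fix_le i hi).2 (not_lin_of_semi (hinv 1 (by norm_num)).2 hXp))
  obtain ⟨hge, hdisp⟩ := invol_fix (fun n hn => (hinv n hn).1) fun n hn => (hinv n hn).2
  obtain ⟨d1, d2, hd1, hd2, hsub, hnf⟩ := M.exists_span hW hm hX (hdisp h64)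
  have hF32 : 32 ≤ (M.commF (elemI i) u).card := by
    have := M.card_commF hX
    omega
  have hF0 : M.commF (elemI i) u ⊆ fixF (elemI i) := fun n hn => mem_fixF.2 ((mem_commF M).1 hn).1
  have hmove : ∀ a : ↥(centralizer ({z} : Set G)), (a : G) ∈ M.AU g → ∀ C, M.Acts a C →
      ∀ n ∈ M.commF (elemI i) u, app C n ^^^ n ∈ span2 d1 d2 := by
    intro a ha C hC n hn
    obtain ⟨x, rfl⟩ := M.vec_surj n ((mem_commF M).1 hn).1.1
    have hxu : (u : G) * x = x * u := ((mem_commF M).1 hn).2 x rfl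
    obtain ⟨h1, h2⟩ := Moved.comm_mem M a.2 ha.2 x.2 hxu.symm
    refine hsub (M.mem_dVecs.2 ⟨M.ctx.conjQ a x * x⁻¹, h2, ?_⟩)
    rw [M.vec_mul, M.vec_inv, hC x]
  have huniq : ∀ a b : ↥(centralizer ({z} : Set G)), (a : G) ∈ M.AU g → (b : G) ∈ M.AU g →
      ∀ C D, C ∈ sylow → D ∈ sylow → M.Acts a C → M.Acts b D → Lin C → Lin D → C ≠ oneC → D ≠ oneC → C = D := by
    intro a b ha hb C D hC hD hCa hDb hCl hDl hCn hDn
    obtain ⟨k1, k1'⟩ := M.lin_fix_eq hCa hC hCn hCl hXp (le_antisymm h64 hge) hd1 hd2 hF0 (hmove a ha C hCa)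
    obtain ⟨-, k2'⟩ := M.lin_fix_eq hDb hD hDn hDl hXp (le_antisymm h64 hge) hd1 hd2 hF0 (hmove b hb D hDb)
    by_cases hfull : ∀ w : ↥(QG M.Q), app (elemI i) (M.vec w) = M.vec w →
        g * z * g⁻¹ * w = w * (g * z * g⁻¹)
    swap
    · obtain ⟨e1, e2⟩ := hnf hfull
      exact (k1 hF32 e1 e2).elim
    have hFX : M.commF (elemI i) u = fixF (elemI i) := by
      refine Finset.Subset.antisymm hF0 fun n hn => (mem_commF M).2 ⟨mem_fixF.1 hn, fun x hx => ?_⟩
      exact hfull x (hx ▸ (mem_fixF.1 hn).2)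
    have hfe : fixF C = fixF D := (k1' hFX).trans (k2' hFX).symm
    have h256 : 256 ≤ (fixF C).card := (k1' hFX).symm ▸ M.card_perp4 hd1 hd2
    obtain ⟨t, ht, e1⟩ := inner_index hC hCn hCl h256
    obtain ⟨s, hs, e2⟩ := inner_index hD hDn hDl (hfe ▸ h256)
    have := List.inj_on_of_nodup_map inner_masks ht hs (by
      rw [e1, e2]
      exact mask_eq_of_fixF (tab_len hC) (tab_len hD) hfe)
    rw [← e1, ← e2, this]
  -- count
  have hl : ∀ a : ↥(M.AU g), ∃ C ∈ sylow, M.Acts ⟨a.1, a.2.1⟩ C := fun a => hsyl ⟨a.1, a.2.1⟩ a.2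
  choose f hf1 hf2 using hl
  letI := Fintype.ofFinite ↥(M.AU g)
  have hfib : ∀ C ∈ Finset.univ.image f, (Finset.univ.filter fun a => f a = C).card ≤ 4 := by
    intro C hC
    obtain ⟨a0, -, rfl⟩ := Finset.mem_image.1 hC
    refine le_trans ?_ (card_span2 d1 d2)
    have hmem : ∀ a, f a = f a0 → (a0 : G)⁻¹ * a ∈ QG M.Q := fun a e =>
      (M.mem_Q_iff _).1 (M.inv_mul_mem (hf2 a0) (e ▸ hf2 a))
    refine Finset.card_le_card_of_injOn
      (fun a => if h : (a0 : G)⁻¹ * a ∈ QG M.Q then M.vec ⟨_, h⟩ else 0) (fun a ha => ?_) ?_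
    · simp only [Finset.coe_filter, Finset.mem_univ, true_and, Set.mem_setOf_eq] at ha
      beta_reduce
      rw [dif_pos (hmem a ha)]
      exact hsub (M.mem_dVecs.2 ⟨_, mul_mem (inv_mem (show (a0 : G) ∈ M.EU g from (show (a0 : G) ∈ M.EU g from a0.2.2))) a.2.2, rfl⟩)
    · intro a ha b hb e
      simp only [Finset.coe_filter, Finset.mem_univ, true_and, Set.mem_setOf_eq] at ha hb
      simp only [dif_pos (hmem a ha), dif_pos (hmem b hb)] at e
      rcases M.eq_or_mul_z e with e' | e'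
      · exact Subtype.ext (mul_left_cancel e').symm
      · exfalso
        have hw := mul_mem (inv_mem (mul_mem (inv_mem (show (a0 : G) ∈ M.EU g from (show (a0 : G) ∈ M.EU g from a0.2.2))) (show (a : G) ∈ M.EU g from a.2.2))) (mul_mem (inv_mem (show (a0 : G) ∈ M.EU g from (show (a0 : G) ∈ M.EU g from a0.2.2))) (show (b : G) ∈ M.EU g from b.2.2))
        have he : ((a0 : G)⁻¹ * a)⁻¹ * ((a0 : G)⁻¹ * b) = z := by
          rw [show (a0 : G)⁻¹ * b = (a0 : G)⁻¹ * a * z from e', inv_mul_cancel_left]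
        exact hm.z_not_mem M hW (Eq.subst (motive := fun y => y ∈ M.EU g) he hw)
  have h4 : ((Finset.univ.image f).filter fun C => Lin C).card ≤ 2 := by
    by_cases hex : ∃ a0, Lin (f a0) ∧ f a0 ≠ oneC
    · obtain ⟨a0, h1, h2⟩ := hex
      refine (Finset.card_le_card (t := {oneC, f a0}) fun C hC => ?_).trans Finset.card_le_two
      obtain ⟨hC, hl⟩ := Finset.mem_filter.1 hC
      obtain ⟨a, -, rfl⟩ := Finset.mem_image.1 hC
      rw [Finset.mem_insert, Finset.mem_singleton]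
      by_cases h : f a = oneC
      · exact Or.inl h
      · exact Or.inr (huniq _ _ a.2 a0.2 _ _ (hf1 a) (hf1 a0) (hf2 a) (hf2 a0) hl h1 h h2)
    · refine (Finset.card_le_card (t := {oneC}) fun C hC => ?_).trans (by simp)
      obtain ⟨hC, hl⟩ := Finset.mem_filter.1 hC
      obtain ⟨a, -, rfl⟩ := Finset.mem_image.1 hC
      simp only [not_exists, not_and, not_not] at hex
      exact Finset.mem_singleton.2 (hex a hl)
  have h5 : ((Finset.univ.image f).filter fun C => ¬ Lin C).card ≤ 2 := by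
    rcases ((Finset.univ.image f).filter fun C => ¬ Lin C).eq_empty_or_nonempty with e | ⟨C0, hC0⟩
    · simp [e]
    obtain ⟨hC0, hl0⟩ := Finset.mem_filter.1 hC0
    obtain ⟨a0, -, rfl⟩ := Finset.mem_image.1 hC0
    refine le_trans (Finset.card_le_card_of_injOn (fun C => mulC (f a0) C) (fun C hC => ?_) ?_) h4
    · obtain ⟨hC, hl⟩ := Finset.mem_filter.1 hC
      obtain ⟨a, -, rfl⟩ := Finset.mem_image.1 hC
      have e : mulC (f a0) (f a) = f (a0 * a) :=
        M.acts_unique (mulC_tab_len (tab_len (hf1 a))) (tab_len (hf1 _)) (M.acts_mul (hf2 a0) (hf2 a)) (hf2 (a0 * a))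
      beta_reduce
      rw [Finset.mem_coe, Finset.mem_filter, e]
      refine ⟨Finset.mem_image_of_mem _ (Finset.mem_univ _), ?_⟩
      have s0 := ((sylow_coset _ (hf1 a0)).2).resolve_left hl0
      have s1 := ((sylow_coset _ (hf1 a)).2).resolve_left hl
      refine cols_ext (mulC_tab_len (by rfl)) (mulC_tab_len (tab_len (hf1 _))) fun n hn => ?_
      obtain ⟨x, rfl⟩ := M.vec_surj n hn
      rw [← e, app_mulC, app_mulC, app_mulC, app_mulC, semi_app s1, semi_app s0, semi_app s0]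
      rw [← hf2 a x, ← hf2 a0 _, p_cube (M.vec_lt _)]
    · intro C hC D hD e
      obtain ⟨hC, -⟩ := Finset.mem_filter.1 hC
      obtain ⟨a, -, rfl⟩ := Finset.mem_image.1 hC
      obtain ⟨hD, -⟩ := Finset.mem_filter.1 hD
      obtain ⟨b, -, rfl⟩ := Finset.mem_image.1 hD
      refine cols_ext (tab_len (hf1 a)) (tab_len (hf1 b)) fun n hn => ?_
      obtain ⟨x, rfl⟩ := M.vec_surj n hn
      obtain ⟨C', -, hC'⟩ := M.exists_cols (⟨a0.1, a0.2.1⟩ : ↥(centralizer ({z} : Set G)))⁻¹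
      have h1 : app (mulC (f a0) (f a)) (M.vec x) = app (mulC (f a0) (f b)) (M.vec x) :=
        congrArg (fun C => app C (M.vec x)) e
      rw [app_mulC, app_mulC] at h1
      rw [← hf2 a x, ← hf2 b x] at h1 ⊢
      rw [← (M.acts_inv (hf2 a0) hC' _).1, h1, (M.acts_inv (hf2 a0) hC' _).1]
  have h6 := Finset.card_le_mul_card_image (f := f) Finset.univ 4 hfib
  rw [← Finset.card_filter_add_card_filter_not (s := Finset.univ.image f) (fun C => Lin C), Finset.card_univ,
    ← Nat.card_eq_fintype_card] at h6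
  have := M.card_AU hm.mem
  omega

end Model

end Cfsg.Agent.JankoFour
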