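import Cfsg.Agent.Lib.JankoFour.FusedInner
import Cfsg.Agent.Lib.JankoFour.FusedOuter
import Cfsg.Agent.Lib.JankoFour.BigBuild
import Cfsg.Agent.Lib.Small.Orders6232.Tools

/-!
The involution is fused to another element of the large abelian subgroup.
-/

set_option autoImplicit false
set_option linter.unusedSectionVars false
set_option maxRecDepth 20000

namespace Cfsg.Agent.JankoFour

open Subgroup
open Cfsg.Agent.LargeFischer (Ctx QG)
open Cfsg.Agent.J4Module (app elemI oneC compC genMap)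
open Cfsg.Agent.J4Module.Data

variable {G : Type*} [Group G] [Finite G] {z : G} {P : Subgroup G}

namespace Model

variable (M : Model z P)
include M

theorem sylow_transport : SylowTransport M := by
  intro T hT hp
  haveI : Fact (Nat.Prime 2) := ⟨Nat.prime_two⟩
  have hp' : IsPGroup 2 ↥(T.comap (centralizer ({z} : Set G)).subtype) :=
    hp.comap_of_injective _ (centralizer ({z} : Set G)).subtype_injective
  obtain ⟨S, hS⟩ := hp'.exists_le_sylow
  obtain ⟨h, hh⟩ := MulAction.exists_smul_eq ↥(centralizer ({z} : Set G)) S M.sylS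
  refine ⟨h, fun a ha => ?_⟩
  have h1 : h * a * h⁻¹ ∈ (M.sylS : Subgroup ↥(centralizer ({z} : Set G))) := by
    rw [← hh, Sylow.coe_subgroup_smul]
    exact ⟨a, hS ha, rfl⟩
  exact h1

/-- Every singular vector is moved into the hexad space. -/
theorem exists_conj_hex {v : ℕ} (hv : v < 4096) (h0 : v ≠ 0) (hq : qbit v = false) :
    ∃ C, InL0 C ∧ bigFix.testBit (app C v) = true := by
  have hspec := cls_qbit v hv
  rw [hq] at hspec
  have key : ∀ k : Fin 3, k ≠ 2 → (J4Module.mask k).testBit v = true →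
      ∀ a < 4096, (J4Module.mask k).testBit a = true → bigFix.testBit a = true →
        ∃ C, InL0 C ∧ bigFix.testBit (app C v) = true := by
    intro k _ hk a ha hka hab
    have reach : ∀ n, (J4Module.mask k).testBit n = true → ∃ C, InL0 C ∧ app C (J4Module.rep k) = n := by
      intro n hn
      refine J4Module.grow_spec (S := {q | ∃ C, InL0 C ∧ app C (J4Module.rep k) = q}) (fun g q hq => ?_)
        (J4Module.tree k) _ _ (J4Module.grow_ok k) (fun q hq => ?_) n hn
      · obtain ⟨C, hC, rfl⟩ := hq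
        refine ⟨mulC (genMap g) C, Gen.mul ?_ hC, app_mulC _ _ _⟩
        unfold J4Module.genMap
        split_ifs <;> simp [gensL]
      · rw [Nat.one_shiftLeft, Nat.testBit_two_pow, decide_eq_true_eq] at hq
        exact ⟨unitC, Gen.one, by rw [← hq, app_unitC _ (J4Module.rep_mem k).2]⟩
    obtain ⟨C, hC, e⟩ := reach v hk
    obtain ⟨D, hD, e'⟩ := reach a hka
    obtain ⟨c, hc⟩ := M.exists_elem C hC
    obtain ⟨C', hC', hc'⟩ := M.exists_cols c⁻¹
    refine ⟨mulC D C', gen_mul (fun _ h => h) hD hC', ?_⟩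
    obtain ⟨x, hx⟩ := M.vec_surj (J4Module.rep k) (J4Module.rep_mem k).2
    rw [app_mulC, ← e, ← hx, (M.acts_inv hc hc' x).1, hx, e']
    exact hab
  obtain ⟨-, -, r1, r2, l1, l2, m1, m2⟩ := hex_basis
  obtain ⟨k, hk, -⟩ := (J4Module.mask_cover v hv).2 h0
  fin_cases k
  · exact key 0 (by decide) hk hexRep1 l1 m1 r1
  · exact key 1 (by decide) hk hexRep2 l2 m2 r2
  · exfalso
    have := cls_spec v hv 2 hk
    rw [this] at hspec
    simp at hspec

end Model

namespace BigData

variable {M : Model z P} (B : BigData M)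
include B

/-- The involution is fused to another element of the large abelian subgroup. -/
theorem exists_fused [IsSimpleGroup G] (hG : ¬ IsMulCommutative G) :
    ∃ n ∈ normalizer (B.V : Set G), n * z * n⁻¹ ≠ z := by
  classical
  by_contra hno
  simp only [not_exists, not_and, not_not] at hno
  have hV : ∀ g : G, g * z * g⁻¹ ∈ B.V → g * z * g⁻¹ = z := by
    intro g hg
    obtain ⟨n, hn, e⟩ := B.fusion z B.z_mem g hg
    rw [← e]
    exact hno n hn
  have hNH : ∀ n ∈ normalizer (B.V : Set G), n ∈ centralizer ({z} : Set G) := fun n hn =>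
    mem_centralizer_singleton_iff.2 (mul_inv_eq_iff_eq_mul.1 (hno n hn))
  -- singular elements of E are conjugate into V
  have hmove : ∀ x : ↥(QG M.Q), (x : G) * x = 1 → M.vec x ≠ 0 →
      ∃ h : ↥(centralizer ({z} : Set G)), (h : G) * x * (h : G)⁻¹ ∈ B.V := by
    intro x hx h0
    obtain ⟨C, hC, hb⟩ := M.exists_conj_hex (M.vec_lt x) h0 ((M.sq_iff x).1 hx)
    obtain ⟨h, hh⟩ := M.exists_elem C hC
    exact ⟨h, (B.inf_Q (M.ctx.conjQ h x)).2 (by rw [hh x]; exact hb)⟩
  have hzz : ∀ g : G, g * z * g⁻¹ * (g * z * g⁻¹) = 1 := fun g => Model.u_sq M.z_sq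
  have hW : M.Weak := by
    intro g hg
    by_cases h0 : M.vec ⟨g * z * g⁻¹, hg⟩ = 0
    · rcases M.vec_eq_zero.1 h0 with e | e
      · exact absurd (conj_eq_one_iff.1 e) M.ctx.xs.ne_one
      · exact e
    · obtain ⟨h, hh⟩ := hmove _ (hzz g) h0
      have e : (h : G) * (g * z * g⁻¹) * (h : G)⁻¹ = z := by
        have := hV ((h : G) * g) (by
          rw [show (h : G) * g * z * ((h : G) * g)⁻¹ = (h : G) * (g * z * g⁻¹) * (h : G)⁻¹ by group]; exact hh)
        exact Eq.trans (by group) this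
      rw [mul_inv_eq_iff_eq_mul, ← mem_centralizer_singleton_iff.1 h.2] at e
      exact mul_left_cancel e
  have hVE : ∀ y ∈ B.V, ∀ g : G, g * y * g⁻¹ ∈ QG M.Q → y ∈ QG M.Q := by
    intro y hy g hg
    have hsq : g * y * g⁻¹ * (g * y * g⁻¹) = 1 := by
      rw [show g * y * g⁻¹ * (g * y * g⁻¹) = g * (y * y) * g⁻¹ by group, B.sq y hy, mul_one, mul_inv_cancel]
    by_cases h0 : M.vec ⟨g * y * g⁻¹, hg⟩ = 0
    · rcases M.vec_eq_zero.1 h0 with e | e
      · rw [conj_eq_one_iff.1 (show g * y * g⁻¹ = 1 from e)]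
        exact one_mem _
      · have e' : g⁻¹ * z * g⁻¹⁻¹ = y := by
          rw [inv_inv, ← show g * y * g⁻¹ = z from e]; group
        have := hV g⁻¹ (e'.symm ▸ hy)
        rw [e'] at this
        rw [this]
        exact M.z_mem
    · obtain ⟨h, hh⟩ := hmove _ hsq h0
      obtain ⟨n, hn, e⟩ := B.fusion y hy ((h : G) * g) (by
        rw [show (h : G) * g * y * ((h : G) * g)⁻¹ = (h : G) * (g * y * g⁻¹) * (h : G)⁻¹ by group]; exact hh)
      have he : n * y * n⁻¹ ∈ QG M.Q := by
        rw [e, show (h : G) * g * y * ((h : G) * g)⁻¹ = (h : G) * (g * y * g⁻¹) * (h : G)⁻¹ by group]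
        exact M.conj_E h.2 hg
      have := M.conj_E' (hNH n hn) he
      rwa [show n⁻¹ * (n * y * n⁻¹) * n = y by group] at this
  have hS := M.sylow_transport
  refine Ord6232.not_isolated hG M.order_z fun g0 hcomm => ?_
  by_contra hne
  have hm0 : Model.Moved (z := z) g0 := ⟨mem_centralizer_singleton_iff.2 hcomm.eq.symm, hne⟩
  obtain ⟨h, hh⟩ := hS (M.AU g0) inf_le_left (M.AU_pgroup g0)
  set g : G := (h : G) * g0 with hgdef
  have hconj : ∀ a : G, (h : G) * a * (h : G)⁻¹ = z ↔ a = z := fun a => by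
    constructor
    · intro e
      rw [mul_inv_eq_iff_eq_mul, ← mem_centralizer_singleton_iff.1 h.2] at e
      exact mul_left_cancel e
    · rintro rfl
      rw [mem_centralizer_singleton_iff.1 h.2, mul_inv_cancel_right]
  have hug : g * z * g⁻¹ = (h : G) * (g0 * z * g0⁻¹) * (h : G)⁻¹ := by rw [hgdef]; group
  have hm : Model.Moved (z := z) g :=
    ⟨hug ▸ mul_mem (mul_mem h.2 hm0.mem) (inv_mem h.2), fun e => hne ((hconj _).1 (hug ▸ e))⟩
  have hsyl : ∀ a : ↥(centralizer ({z} : Set G)), (a : G) ∈ M.AU g → ∃ C ∈ sylow, M.Acts a C := by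
    intro a ha
    have ha' : ((h⁻¹ * a * h : ↥(centralizer ({z} : Set G))) : G) ∈ M.AU g0 := by
      refine ⟨(h⁻¹ * a * h).2, M.mem_EU.2 ?_⟩
      have := M.mem_EU.1 ha.2
      rwa [show g0⁻¹ * ((h⁻¹ * a * h : ↥(centralizer ({z} : Set G))) : G) * g0 = g⁻¹ * a * g by
        rw [hgdef]; simp [mul_assoc]]
    have := hh _ ha'
    rwa [show h * (h⁻¹ * a * h) * h⁻¹ = a by group] at this
  obtain ⟨X, hXs, hX⟩ := hsyl ⟨g * z * g⁻¹, hm.mem⟩ ⟨hm.mem, M.u_mem_EU g⟩
  rcases (sylow_coset X hXs).2 with hl | hsemi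
  swap
  · exact M.outer_false hW hm hsyl hX hXs hsemi
  have hX2 : compC X X = oneC := by
    rw [unit_eq.1]
    refine M.acts_unique (mulC_tab_len (tab_len hXs)) rfl (M.acts_mul hX hX) ?_
    rw [show (⟨g * z * g⁻¹, hm.mem⟩ : ↥(centralizer ({z} : Set G))) * ⟨g * z * g⁻¹, hm.mem⟩ = 1 from
      Subtype.ext (hzz g)]
    exact M.acts_one
  have hXne : X ≠ oneC := fun e => hm.not_mem M hW
    ((M.mem_Q_iff ⟨g * z * g⁻¹, hm.mem⟩).1 (M.mem_Q _ (unit_eq.1 ▸ e ▸ hX)))
  obtain ⟨i, hi, rfl⟩ := elemI_sylow_invol hXs hX2 hXne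
  obtain ⟨t, ht, rfl⟩ := inner_cover i hi hl
  obtain ⟨hj, hw, he⟩ := inner_words t ht
  obtain ⟨k, hk⟩ := M.exists_elem _ (Big.wordC_mem hw)
  have hX' := M.acts_conj hk hX he
  have hug' : (k : G) * g * z * ((k : G) * g)⁻¹ = (k : G) * (g * z * g⁻¹) * (k : G)⁻¹ := by group
  have hm' : Model.Moved (z := z) ((k : G) * g) := ⟨hug' ▸ mul_mem (mul_mem k.2 hm.mem) (inv_mem k.2), fun e => by
    rw [hug', mul_inv_eq_iff_eq_mul, ← mem_centralizer_singleton_iff.1 k.2] at e
    exact hm.ne (mul_left_cancel e)⟩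
  refine B.inner_false hW hV hVE hS hm' hj ?_
  convert hX' using 1
  exact Subtype.ext hug'

end BigData

end Cfsg.Agent.JankoFour
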