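import Cfsg.Agent.Lib.JankoFour.FusedData
import Cfsg.Agent.Lib.JankoFour.BigChecks
import Cfsg.Agent.Lib.J4Module.SylowChecks

/-!
Kernel checks used to show that the involution is not weakly closed in the large abelian subgroup.
-/

set_option autoImplicit false
set_option maxRecDepth 100000

namespace Cfsg.Agent.JankoFour

open Cfsg.Agent.J4Module (app of_chunks elemI oneC compC fixMask clearLow)
open Cfsg.Agent.J4Module.Data

theorem inner_cover : ∀ i < 71, mulC (elemI i) pC = mulC pC (elemI i) →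
    ∃ t ∈ innerWords, t.1 = i := by decide +kernel

theorem inner_words : ∀ t ∈ innerWords, t.2.1 ∈ bigIdx ∧ (∀ k ∈ t.2.2, k < 5) ∧
    mulC (Big.wordC t.2.2) (elemI t.1) = mulC (elemI t.2.1) (Big.wordC t.2.2) := by decide +kernel

theorem sylow_coset : ∀ g ∈ sylow, g.length = 12 ∧
    (mulC g pC = mulC pC g ∨ mulC g pC = mulC p2C g) := by decide +kernel

theorem p2_fix : ∀ n < 4096, app p2C n = app pC n → n = 0 :=
  of_chunks 64 (by decide +kernel)

theorem hex_perp : ∀ n < 4096, (∀ b ∈ hexBasis, bbit n b = false) → bigFix.testBit n = true :=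
  of_chunks 64 (by decide +kernel)

theorem hex_basis : hexBasis.length = 6 ∧ (∀ b ∈ hexBasis, b < 4096 ∧ bigFix.testBit b = true) ∧
    bigFix.testBit hexRep1 = true ∧ bigFix.testBit hexRep2 = true ∧ hexRep1 < 4096 ∧ hexRep2 < 4096 ∧
    mask1.testBit hexRep1 = true ∧ mask2.testBit hexRep2 = true := by decide +kernel

theorem hex_cover : ∀ i ∈ bigIdx, ∃ t ∈ hexLocal, t.1 = i := by decide +kernel

theorem hex_local : ∀ t ∈ hexLocal, (∀ b ∈ t.2.1, b < 4096 ∧ app (elemI t.1) b = b) ∧
    (∀ a ∈ t.2.2, a < 4096) := by decide +kernel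

theorem hex_local_perp : ∀ t ∈ hexLocal, ∀ v < 4096, bigFix.testBit v = true →
    (∀ b ∈ t.2.1, bbit v b = false) → ∃ a ∈ t.2.2, app (elemI t.1) a ^^^ a = v := by
  have h : ∀ t ∈ hexLocal, ∀ v ∈ (List.range 4096).filter (fun v => bigFix.testBit v),
      (∀ b ∈ t.2.1, bbit v b = false) → ∃ a ∈ t.2.2, app (elemI t.1) a ^^^ a = v := by decide +kernel
  exact fun t ht v hv hb => h t ht v (List.mem_filter.2 ⟨List.mem_range.2 hv, hb⟩)

theorem invol_fix_le : ∀ i < 71,
    clearLow 256 (fixMask (elemI i)) = 0 ∧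
      (mulC (elemI i) pC ≠ mulC pC (elemI i) → clearLow 64 (fixMask (elemI i)) = 0) := by decide +kernel

theorem sylow_fix_le : ∀ g ∈ sylow, compC g g ≠ oneC → clearLow 16 (fixMask g) = 0 := by decide +kernel

theorem inner_masks : ((innerWords.map fun t => fixMask (elemI t.1)).Nodup) := by decide +kernel

end Cfsg.Agent.JankoFour
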