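import Cfsg.Agent.Lib.JankoFour.ModelBasics
import Cfsg.Agent.Lib.JankoFour.FusedChecks
import Cfsg.Agent.Lib.J4Module.BigSubgroup

/-!
Fixed vectors, their lifts, and small consequences of the tables.
-/

set_option autoImplicit false
set_option linter.unusedSectionVars false
set_option maxRecDepth 20000

namespace Cfsg.Agent.JankoFour

open Subgroup
open Cfsg.Agent.LargeFischer (Ctx QG)
open Cfsg.Agent.J4Module (app elemI oneC compC fixMask clearLow testBit_fixMask card_le_of_clearLow)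
open Cfsg.Agent.J4Module.Data

theorem unit_eq : oneC = unitC ∧ ∀ g, compC g g = mulC g g := ⟨by decide +kernel, fun _ => rfl⟩

theorem app_p2 (n : ℕ) : app p2C n = app pC (app pC n) := by
  rw [← app_mulC, gens_cols.2.2.2.2.2.1]

theorem p_cube {n : ℕ} (hn : n < 4096) : app pC (app pC (app pC n)) = n := by
  rw [← app_p2 n, ← app_mulC, gens_cols.2.2.2.2.2.2.1, app_unitC n hn]

theorem elemI_sylow_invol {g : List ℕ} (hg : g ∈ sylow) (h2 : compC g g = oneC) (hne : g ≠ oneC) :
    ∃ i < 71, elemI i = g := by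
  rcases J4Module.invol_complete g hg h2 with e | e
  · exact absurd e hne
  · obtain ⟨i, hi, rfl⟩ := List.getElem_of_mem e
    exact ⟨i, by rw [J4Module.invol_length.1] at hi; exact hi, List.getD_eq_getElem _ _ hi⟩

namespace Model

theorem fixF_le_of_mask {C : List ℕ} (hC : C.length = 12) {k : ℕ} (h : clearLow k (fixMask C) = 0) :
    (fixF C).card ≤ k :=
  card_le_of_clearLow k _ _ (fun n hn => (testBit_fixMask n).2 ⟨by rw [hC]; exact (mem_fixF.1 hn).1, (mem_fixF.1 hn).2⟩) h

theorem mask_eq_of_fixF {C D : List ℕ} (hC : C.length = 12) (hD : D.length = 12) (h : fixF C = fixF D) :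
    fixMask C = fixMask D := by
  refine Nat.eq_of_testBit_eq fun n => Bool.eq_iff_iff.2 ?_
  rw [testBit_fixMask, testBit_fixMask, hC, hD]
  exact (mem_fixF (C := C)).symm.trans ((iff_of_eq (congrArg (n ∈ ·) h)).trans mem_fixF)

/-- A fibre of a map into a small type gives a large set of differences. -/
theorem exists_translate {β : Type*} [DecidableEq β] {f : ℕ → β} {s : Finset ℕ} {t : Finset β} {k : ℕ}
    (ht : t.Nonempty) (hf : ∀ a ∈ s, f a ∈ t) (hk : t.card * k ≤ s.card) :
    ∃ a : ℕ, ∃ F : Finset ℕ, k ≤ F.card ∧ (∀ n ∈ F, a ^^^ n ∈ s ∧ f (a ^^^ n) = f a) ∧ (0 < k → a ∈ s) := by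
  obtain ⟨y, -, hy⟩ := Finset.exists_le_card_fiber_of_mul_le_card_of_maps_to hf ht hk
  rcases (s.filter fun x => f x = y).eq_empty_or_nonempty with e | ⟨a, ha⟩
  · rw [e, Finset.card_empty, Nat.le_zero] at hy
    exact ⟨0, ∅, by simp [hy], by simp, by omega⟩
  refine ⟨a, (s.filter fun x => f x = y).image (a ^^^ ·), ?_, ?_, fun _ => (Finset.mem_filter.1 ha).1⟩
  · rwa [Finset.card_image_of_injective _ fun _ _ e => Nat.xor_right_injective e]
  · intro n hn
    obtain ⟨b, hb, rfl⟩ := Finset.mem_image.1 hn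
    rw [← Nat.xor_assoc, Nat.xor_self, Nat.zero_xor]
    exact ⟨(Finset.mem_filter.1 hb).1, (Finset.mem_filter.1 hb).2.trans (Finset.mem_filter.1 ha).2.symm⟩

/-- Commutation with the scalar. -/
def Lin (C : List ℕ) : Prop := mulC C pC = mulC pC C

theorem lin_app {C : List ℕ} (h : Lin C) (n : ℕ) : app C (app pC n) = app pC (app C n) := by
  rw [← app_mulC, h, app_mulC]

theorem semi_app {C : List ℕ} (h : mulC C pC = mulC p2C C) (n : ℕ) : app C (app pC n) = app pC (app pC (app C n)) := by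
  rw [← app_mulC, h, app_mulC, app_p2]

theorem pC_lt (n : ℕ) : app pC n < 4096 := app_gen_lt (by simp [gensL]) n

theorem semi_fix_zero {X : List ℕ} (hX : mulC X pC = mulC p2C X) {f : ℕ} (hf : f < 4096)
    (h1 : app X f = f) (h2 : app X (app pC f) = app pC f) : f = 0 := by
  rw [semi_app hX, h1, ← app_p2] at h2
  exact p2_fix f hf h2

/-- The fixed space of a semilinear map and its image under the scalar are independent. -/
theorem pair_injOn {X : List ℕ} (hX : mulC X pC = mulC p2C X) :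
    Set.InjOn (fun ab : ℕ × ℕ => ab.1 ^^^ app pC ab.2) ↑(fixF X ×ˢ fixF X) := by
  rintro ⟨a, b⟩ hab ⟨a', b'⟩ hab' e
  simp only [Finset.coe_product, Set.mem_prod, Finset.mem_coe, mem_fixF] at hab hab'
  obtain ⟨⟨ha, ha2⟩, hb, hb2⟩ := hab
  obtain ⟨⟨ha', ha2'⟩, hb', hb2'⟩ := hab'
  have e' : app pC (b ^^^ b') = a ^^^ a' := by
    have h0 : a ^^^ app pC b = a' ^^^ app pC b' := e
    rw [app_xor]
    calc app pC b ^^^ app pC b' = a ^^^ (a ^^^ app pC b) ^^^ app pC b' := by
          rw [← Nat.xor_assoc a a, Nat.xor_self, Nat.zero_xor]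
      _ = a ^^^ a' := by rw [h0, Nat.xor_assoc, Nat.xor_assoc, Nat.xor_self, Nat.xor_zero]
  have h0 := semi_fix_zero hX (Nat.xor_lt_two_pow (n := 12) hb hb') (by rw [app_xor, hb2, hb2'])
    (by rw [e', app_xor, ha2, ha2'])
  rw [h0, J4Module.app_zero, eq_comm, Nat.xor_eq_zero_iff] at e'
  rw [Nat.xor_eq_zero_iff] at h0
  exact Prod.ext e' h0

/-- A linear map fixing many of the fixed vectors of a semilinear one fixes their square. -/
theorem lin_fix_sq {X C : List ℕ} (hX : mulC X pC = mulC p2C X) (hC : Lin C) {F : Finset ℕ}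
    (hF : F ⊆ fixF X) (hfix : ∀ n ∈ F, app C n = n) : F.card * F.card ≤ (fixF C).card := by
  rw [← Finset.card_product]
  refine Finset.card_le_card_of_injOn _ (fun ab hab => ?_) ((pair_injOn hX).mono fun ab hab => ?_)
  · rw [Finset.mem_coe, Finset.mem_product] at hab
    refine mem_fixF.2 ⟨Nat.xor_lt_two_pow (n := 12) (mem_fixF.1 (hF hab.1)).1 (pC_lt _), ?_⟩
    rw [app_xor, lin_app hC, hfix _ hab.1, hfix _ hab.2]
  · rw [Finset.mem_coe, Finset.mem_product] at hab ⊢
    exact ⟨hF hab.1, hF hab.2⟩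

variable {G : Type*} [Group G] [Finite G] {z : G} {P : Subgroup G} (M : Model z P)
include M

theorem eq_or_mul_z {x y : ↥(QG M.Q)} (h : M.vec x = M.vec y) : (y : G) = x ∨ (y : G) = x * z :=
  M.vec_eq_iff.1 h

/-- Conjugates of lifts of fixed vectors. -/
theorem fix_cases {c : ↥(centralizer ({z} : Set G))} {C : List ℕ} (hc : M.Acts c C) {x : ↥(QG M.Q)}
    (hx : app C (M.vec x) = M.vec x) : (c : G) * x * (c : G)⁻¹ = x ∨ (c : G) * x * (c : G)⁻¹ = x * z :=
  M.eq_or_mul_z (x := x) (y := M.ctx.conjQ c x) (by rw [hc x, hx])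

theorem fixed_of_conj {c : ↥(centralizer ({z} : Set G))} {C : List ℕ} (hc : M.Acts c C) {x : ↥(QG M.Q)}
    (hx : (c : G) * x = x * c) : app C (M.vec x) = M.vec x := by
  rw [← hc x]
  exact congrArg M.vec (Subtype.ext (show (c : G) * x * (c : G)⁻¹ = x by rw [hx, mul_inv_cancel_right]))

theorem z_comm {a : G} (ha : a ∈ QG M.Q) : z * a = a * z := (M.ctx.xs.comm ha).symm

/-- Two lifts of fixed vectors not commuting with c have a commuting product. -/
theorem not_comm_mul {c : ↥(centralizer ({z} : Set G))} {C : List ℕ} (hc : M.Acts c C) {x y : ↥(QG M.Q)}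
    (hx : app C (M.vec x) = M.vec x) (hy : app C (M.vec y) = M.vec y) (hxc : (c : G) * x ≠ x * c)
    (hyc : (c : G) * y ≠ y * c) : (c : G) * (x * y : ↥(QG M.Q)) = (x * y : ↥(QG M.Q)) * c := by
  have hx' := (M.fix_cases hc hx).resolve_left fun e => hxc (mul_inv_eq_iff_eq_mul.1 e)
  have hy' := (M.fix_cases hc hy).resolve_left fun e => hyc (mul_inv_eq_iff_eq_mul.1 e)
  rw [← mul_inv_eq_iff_eq_mul]
  show (c : G) * ((x : G) * y) * (c : G)⁻¹ = x * y
  rw [show (c : G) * ((x : G) * y) * (c : G)⁻¹ = (c * x * (c : G)⁻¹) * (c * y * (c : G)⁻¹) by group, hx', hy',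
    mul_assoc, ← mul_assoc z, M.z_comm y.2, mul_assoc, M.z_sq, mul_one]

/-- The vectors all of whose lifts commute with c. -/
noncomputable def commF (C : List ℕ) (c : G) : Finset ℕ :=
  haveI := Classical.decPred fun n => ∀ x, M.vec x = n → c * (x : G) = x * c
  (fixF C).filter fun n => ∀ x, M.vec x = n → c * (x : G) = x * c

theorem mem_commF {C : List ℕ} {c : G} {n : ℕ} :
    n ∈ M.commF C c ↔ (n < 4096 ∧ app C n = n) ∧ ∀ x, M.vec x = n → c * (x : G) = x * c := by
  classical
  simp [commF, mem_fixF]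

theorem comm_congr {c : ↥(centralizer ({z} : Set G))} {x y : ↥(QG M.Q)} (h : M.vec x = M.vec y)
    (hx : (c : G) * x = x * c) : (c : G) * y = y * c := by
  rcases M.eq_or_mul_z h with e | e
  · rw [e, hx]
  · rw [e, ← mul_assoc, hx, mul_assoc, mul_assoc, mem_centralizer_singleton_iff.1 c.2]

theorem card_commF {c : ↥(centralizer ({z} : Set G))} {C : List ℕ} (hc : M.Acts c C) :
    (fixF C).card ≤ 2 * (M.commF C c).card := by
  classical
  by_cases h : fixF C ⊆ M.commF C c
  · have := Finset.card_le_card h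
    omega
  obtain ⟨w, hw, hw'⟩ := Finset.not_subset.1 h
  obtain ⟨hw1, hw2⟩ := mem_fixF.1 hw
  simp only [mem_commF, hw1, hw2, and_self, true_and, not_forall] at hw'
  obtain ⟨x0, hx0, hxc⟩ := hw'
  have hsub : fixF C ⊆ M.commF C c ∪ (M.commF C c).image (w ^^^ ·) := by
    intro n hn
    obtain ⟨hn1, hn2⟩ := mem_fixF.1 hn
    rw [Finset.mem_union, Finset.mem_image]
    by_cases hm : n ∈ M.commF C c
    · exact Or.inl hm
    refine Or.inr ⟨w ^^^ n, (mem_commF M).2 ⟨⟨Nat.xor_lt_two_pow (n := 12) hw1 hn1, by rw [app_xor, hw2, hn2]⟩, ?_⟩,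
      by rw [← Nat.xor_assoc, Nat.xor_self, Nat.zero_xor]⟩
    intro y hy
    simp only [mem_commF, hn1, hn2, and_self, true_and, not_forall] at hm
    obtain ⟨y', hy', hyc⟩ := hm
    refine M.comm_congr ?_ (M.not_comm_mul hc (x := x0) (y := y') (by rw [hx0, hw2]) (by rw [hy', hn2]) hxc hyc)
    rw [M.vec_mul, hx0, hy', hy]
  have h1 := (Finset.card_le_card hsub).trans (Finset.card_union_le _ _)
  have h2 := Finset.card_image_le (s := M.commF C c) (f := (w ^^^ ·))
  omega

theorem card_centralizer_ge {c : ↥(centralizer ({z} : Set G))} {C : List ℕ} :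
    2 * (M.commF C c).card ≤ Nat.card ↥(QG M.Q ⊓ centralizer ({(c : G)} : Set G)) := by
  classical
  have hl : ∀ n : ↥(M.commF C c), ∃ x, M.vec x = n.1 := fun n => M.vec_surj n.1 ((mem_commF M).1 n.2).1.1
  choose lift hlift using hl
  let f : ↥(M.commF C c) × Bool → ↥(QG M.Q ⊓ centralizer ({(c : G)} : Set G)) := fun p =>
    ⟨(lift p.1 : G) * (if p.2 then z else 1),
      mul_mem (lift p.1).2 (by split_ifs; exacts [M.z_mem, one_mem _]),
      mem_centralizer_singleton_iff.2 (by
        have h1 := ((mem_commF M).1 p.1.2).2 _ (hlift p.1)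
        split_ifs
        · rw [← mul_assoc (c : G), h1, mul_assoc, mul_assoc, mem_centralizer_singleton_iff.1 c.2]
        · rw [mul_one, h1])⟩
  have hf : Function.Injective f := by
    rintro ⟨n, p⟩ ⟨m, q⟩ e
    have e' : (lift n : G) * (if p then z else 1) = (lift m : G) * (if q then z else 1) := congrArg Subtype.val e
    have hnm : n = m := by
      apply Subtype.ext
      rw [← hlift n, ← hlift m, M.vec_eq_iff]
      cases p <;> cases q <;> simp at e' <;>
        first
        | exact Or.inl e'.symm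
        | exact Or.inr e'.symm
        | exact Or.inr (by rw [e', mul_assoc, M.z_sq, mul_one])
        | exact Or.inl (by rw [e'])
    subst hnm
    have hp := mul_left_cancel e'
    cases p <;> cases q <;> simp at hp ⊢ <;> exact absurd hp (by simp [M.ctx.xs.ne_one, Ne.symm M.ctx.xs.ne_one])
  have := Nat.card_le_card_of_injective f hf
  rwa [Nat.card_prod, Nat.card_eq_fintype_card (α := Bool), Fintype.card_bool,
    Nat.card_eq_fintype_card, Fintype.card_coe, mul_comm] at this

theorem invol_app {c : ↥(centralizer ({z} : Set G))} {C : List ℕ} (hc : M.Acts c C) (h2 : c * c ∈ M.Q) :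
    ∀ n < 4096, app C n < 4096 ∧ app C (app C n) = n := by
  intro n hn
  obtain ⟨x, rfl⟩ := M.vec_surj n hn
  refine ⟨hc x ▸ M.vec_lt _, ?_⟩
  rw [← app_mulC, ← M.acts_mul hc hc, M.acts_of_mem_Q h2, app_unitC _ (M.vec_lt x)]

end Model

end Cfsg.Agent.JankoFour
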