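import Cfsg.Agent.Lib.JankoFour.Data
import Cfsg.Agent.Lib.J4Module.SylowData

/-!
Tables used to show that the involution is not weakly closed in the large abelian subgroup.
-/

namespace Cfsg.Agent.JankoFour

/-- For an inner involution: its index, the index of a conjugate in the hexad group, the word of the conjugating element. -/
def innerWords : List (Nat × Nat × List Nat) :=
  [(0, 0, []),
    (4, 54, [1, 1, 0]),
    (6, 6, []),
    (7, 7, []),
    (8, 66, [2]),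
    (9, 7, [1, 1, 4]),
    (11, 11, []),
    (12, 12, []),
    (13, 19, [0, 1, 1]),
    (14, 54, [2, 4, 0, 0]),
    (15, 11, [1, 0, 2]),
    (17, 12, [1, 4, 0, 2, 1]),
    (18, 61, [2, 4]),
    (19, 19, []),
    (20, 20, []),
    (46, 12, [1, 1, 4]),
    (47, 47, []),
    (48, 48, []),
    (49, 54, [1, 0, 2]),
    (50, 7, [1, 0, 2, 0, 2]),
    (52, 12, [0, 1, 1]),
    (53, 53, []),
    (54, 54, []),
    (55, 66, [2, 4, 0, 0]),
    (56, 6, [0, 1, 4]),
    (57, 11, [2, 4, 0, 0]),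
    (58, 6, [0, 2, 2]),
    (59, 19, [1, 1, 4]),
    (61, 61, []),
    (62, 62, []),
    (63, 66, [1, 0, 2]),
    (65, 65, []),
    (66, 66, []),
    (67, 20, [4, 0, 0, 2]),
    (68, 11, [2, 0, 4])]

/-- For an index of the hexad group: a basis of the fixed vectors and preimages of all displacements. -/
def hexLocal : List (Nat × List Nat × List Nat) :=
  [(0, [1, 2, 32, 68, 272, 640, 1180, 2204], [0, 4, 8, 12, 16, 20, 24, 28, 128, 132, 136, 140, 144, 148, 152, 156]),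
    (6, [30, 33, 69, 137, 271, 520, 1032, 2057], [0, 1, 2, 3, 4, 5, 6, 7, 8, 9, 10, 11, 12, 13, 14, 15]),
    (7, [5, 16, 33, 64, 257, 641, 1162, 2187], [0, 1, 2, 3, 8, 9, 10, 11, 128, 129, 130, 131, 136, 137, 138, 139]),
    (11, [11, 33, 69, 135, 273, 518, 1043, 2066], [0, 1, 2, 3, 4, 5, 6, 7, 16, 17, 18, 19, 20, 21, 22, 23]),
    (12, [9, 33, 69, 134, 273, 519, 1040, 2065], [0, 1, 2, 3, 4, 5, 6, 7, 16, 17, 18, 19, 20, 21, 22, 23]),
    (19, [28, 33, 69, 138, 269, 523, 1033, 2056], [0, 1, 2, 3, 4, 5, 6, 7, 8, 9, 10, 11, 12, 13, 14, 15]),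
    (20, [6, 17, 33, 67, 256, 641, 1160, 2185], [0, 1, 2, 3, 8, 9, 10, 11, 128, 129, 130, 131, 136, 137, 138, 139]),
    (47, [14, 33, 69, 146, 273, 531, 1027, 2050], [0, 1, 2, 3, 4, 5, 6, 7, 16, 17, 18, 19, 20, 21, 22, 23]),
    (48, [13, 33, 69, 144, 273, 529, 1026, 2051], [0, 1, 2, 3, 4, 5, 6, 7, 16, 17, 18, 19, 20, 21, 22, 23]),
    (53, [29, 33, 69, 136, 268, 521, 1034, 2059], [0, 1, 2, 3, 4, 5, 6, 7, 8, 9, 10, 11, 12, 13, 14, 15]),
    (54, [7, 19, 33, 66, 258, 641, 1163, 2186], [0, 1, 2, 3, 8, 9, 10, 11, 128, 129, 130, 131, 136, 137, 138, 139]),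
    (61, [26, 33, 69, 129, 267, 512, 1028, 2053], [0, 1, 2, 3, 4, 5, 6, 7, 8, 9, 10, 11, 12, 13, 14, 15]),
    (62, [27, 33, 69, 130, 266, 515, 1030, 2055], [0, 1, 2, 3, 4, 5, 6, 7, 8, 9, 10, 11, 12, 13, 14, 15]),
    (65, [4, 18, 33, 65, 259, 641, 1161, 2184], [0, 1, 2, 3, 8, 9, 10, 11, 128, 129, 130, 131, 136, 137, 138, 139]),
    (66, [31, 33, 69, 139, 270, 522, 1035, 2058], [0, 1, 2, 3, 4, 5, 6, 7, 8, 9, 10, 11, 12, 13, 14, 15])]

/-- A basis of the hexad space. -/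
def hexBasis : List Nat := [33, 69, 273, 641, 1183, 2206]

/-- Singular representatives inside the hexad space. -/
def hexRep1 : Nat := 33

/-- Singular representatives inside the hexad space. -/
def hexRep2 : Nat := 100

end Cfsg.Agent.JankoFour
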