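import Cfsg.Agent.Lib.JankoFour.FusedPair

/-!
A commuting conjugate of the involution inducing an inner involution leads to a contradiction.
-/

set_option autoImplicit false
set_option linter.unusedSectionVars false
set_option maxRecDepth 20000

namespace Cfsg.Agent.JankoFour

open Subgroup
open Cfsg.Agent.LargeFischer (Ctx QG)
open Cfsg.Agent.J4Module (app elemI oneC compC fixMask)
open Cfsg.Agent.J4Module.Data

variable {G : Type*} [Group G] [Finite G] {z : G} {P : Subgroup G}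

namespace Model

variable (M : Model z P)
include M

/-- A large 2-group meeting E trivially cannot fix 32 vectors. -/
theorem no_big (hS : SylowTransport M) {T : Subgroup G} (hT : T ≤ centralizer ({z} : Set G))
    (hp : IsPGroup 2 ↥T) (hTE : ∀ a ∈ T, a ∈ QG M.Q → a = 1) {F : Finset ℕ} (hF : 32 ≤ F.card)
    (hF4 : ∀ n ∈ F, n < 4096)
    (hfix : ∀ a : ↥(centralizer ({z} : Set G)), (a : G) ∈ T → ∀ C, M.Acts a C → ∀ n ∈ F, app C n = n)
    (hcard : 64 ≤ Nat.card ↥T) : False := by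
  classical
  obtain ⟨h, hh⟩ := hS T hT hp
  obtain ⟨Ch, -, hCh⟩ := M.exists_cols h
  obtain ⟨Ch', -, hCh'⟩ := M.exists_cols h⁻¹
  have key : ∀ (a : ↥(centralizer ({z} : Set G))) (C : List ℕ), (a : G) ∈ T → C ∈ sylow →
      M.Acts (h * a * h⁻¹) C → compC C C = oneC := by
    intro a C ha hC hCa
    by_contra hne
    have h16 := fixF_le_of_mask (tab_len hC) (sylow_fix_le C hC hne)
    have hle : F.card ≤ (fixF C).card := by
      refine Finset.card_le_card_of_injOn (app Ch) (fun n hn => ?_) (fun n hn m hm e => ?_)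
      · obtain ⟨x, rfl⟩ := M.vec_surj n (hF4 n hn)
        obtain ⟨Ca, -, hCa'⟩ := M.exists_cols a
        refine mem_fixF.2 ⟨hCh x ▸ M.vec_lt _, ?_⟩
        rw [← hCh x, ← hCa (M.ctx.conjQ h x), ← M.ctx.conjQ_mul, inv_mul_cancel_right, M.ctx.conjQ_mul, hCh, hCa',
          hfix a ha Ca hCa' _ hn, hCh]
      · obtain ⟨x, rfl⟩ := M.vec_surj n (hF4 n hn)
        obtain ⟨y, rfl⟩ := M.vec_surj m (hF4 m hm)
        rw [← (M.acts_inv hCh hCh' x).1, e, (M.acts_inv hCh hCh' y).1]
    omega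
  have hsq : ∀ a ∈ T, a * a = 1 := by
    intro a ha
    obtain ⟨C, hC, hCa⟩ := hh ⟨a, hT ha⟩ ha
    have h1 : M.Acts (h * ⟨a, hT ha⟩ * h⁻¹ * (h * ⟨a, hT ha⟩ * h⁻¹)) unitC := by
      rw [← unit_eq.1, ← key ⟨a, hT ha⟩ C ha hC hCa]
      exact M.acts_mul hCa hCa
    have h2 := (M.mem_Q_iff _).1 (M.mem_Q _ h1)
    refine hTE _ (mul_mem ha ha) ?_
    have h3 := M.conj_E' h.2 h2
    rwa [show ((h * ⟨a, hT ha⟩ * h⁻¹ * (h * ⟨a, hT ha⟩ * h⁻¹) : ↥(centralizer ({z} : Set G))) : G) =
      (h : G) * (a * a) * (h : G)⁻¹ by simp [mul_assoc],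
      show (h : G)⁻¹ * ((h : G) * (a * a) * (h : G)⁻¹) * h = a * a by group] at h3
  set Bset : Set (List ℕ) := {C | C ∈ sylow ∧ ∃ a : ↥(centralizer ({z} : Set G)), (a : G) ∈ T ∧
    M.Acts (h * a * h⁻¹) C} with hBset
  have hB : J4Module.ElemBase Bset := by
    refine ⟨fun g hg => hg.1, ⟨by decide +kernel, 1, one_mem _, ?_⟩, ?_, ?_, ?_⟩
    · rw [mul_one, mul_inv_cancel, unit_eq.1]
      exact M.acts_one
    · rintro g ⟨hg, a, ha, hga⟩ k ⟨hk, b, hb, hkb⟩
      obtain ⟨C, hC, hCab⟩ := hh (a * b) (mul_mem ha hb)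
      have h2 := M.acts_mul hga hkb
      rw [show h * a * h⁻¹ * (h * b * h⁻¹) = h * (a * b) * h⁻¹ by group] at h2
      rw [show compC g k = mulC g k from rfl,
        M.acts_unique (mulC_tab_len (tab_len hk)) (tab_len hC) h2 hCab]
      exact ⟨hC, a * b, mul_mem ha hb, hCab⟩
    · rintro g ⟨hg, a, ha, hga⟩
      exact key a g ha hg hga
    · rintro g ⟨hg, a, ha, hga⟩ k ⟨hk, b, hb, hkb⟩
      have hab : a * b = b * a := by
        apply Subtype.ext
        show (a : G) * b = b * a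
        have e1 := inv_eq_of_mul_eq_one_right (hsq _ ha)
        have e2 := inv_eq_of_mul_eq_one_right (hsq _ hb)
        have e3 := inv_eq_of_mul_eq_one_right (hsq _ (mul_mem ha hb))
        rw [mul_inv_rev, e1, e2] at e3
        exact e3.symm
      refine M.acts_unique (mulC_tab_len (tab_len hk)) (mulC_tab_len (tab_len hg)) (M.acts_mul hga hkb) ?_
      rw [show h * a * h⁻¹ * (h * b * h⁻¹) = h * (a * b) * h⁻¹ by group, hab,
        show h * (b * a) * h⁻¹ = h * b * h⁻¹ * (h * a * h⁻¹) by group]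
      exact M.acts_mul hkb hga
  have hfin : Bset.Finite := sylow.finite_toSet.subset fun C hC => hC.1
  have hl : ∀ a : ↥T, ∃ C ∈ sylow, M.Acts (h * ⟨a.1, hT a.2⟩ * h⁻¹) C := fun a => hh ⟨a.1, hT a.2⟩ a.2
  choose f hf1 hf2 using hl
  have hinj : Function.Injective fun a : ↥T => (⟨f a, hf1 a, ⟨a.1, hT a.2⟩, a.2, hf2 a⟩ : ↥Bset) := by
    intro a b e
    have e' : f a = f b := congrArg Subtype.val e
    have h1 := (M.mem_Q_iff _).1 (M.inv_mul_mem (hf2 a) (e' ▸ hf2 b))
    have h3 := M.conj_E' h.2 h1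
    have h4 := hTE _ (mul_mem (inv_mem a.2) b.2) (by
      simpa [mul_assoc] using h3)
    exact Subtype.ext (inv_mul_eq_one.1 h4)
  have : Finite ↥Bset := hfin.to_subtype
  have h5 := Nat.card_le_card_of_injective _ hinj
  rw [Nat.card_coe_set_eq] at h5
  have := hB.card_le
  omega

end Model

namespace BigData

variable {M : Model z P} (B : BigData M)
include B

theorem bigFix_basis {n : ℕ} (hn : n < 4096) (h : bigFix.testBit n = false) :
    ∃ w : ↥(QG M.Q), (w : G) ∈ B.V ∧ bbit n (M.vec w) = true := by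
  by_contra hne
  simp only [not_exists, not_and, Bool.not_eq_true] at hne
  have := hex_perp n hn fun b hb => by
    obtain ⟨x, hx⟩ := M.vec_surj b (hex_basis.2.1 b hb).1
    rw [← hx]
    exact hne x ((B.inf_Q x).2 (hx ▸ (hex_basis.2.1 b hb).2))
  rw [h] at this
  simp at this

theorem V_comm {a b : G} (ha : a ∈ B.V) (hb : b ∈ B.V) : a * b = b * a := by
  have e1 := inv_eq_of_mul_eq_one_right (B.sq _ ha)
  have e2 := inv_eq_of_mul_eq_one_right (B.sq _ hb)
  have e3 := inv_eq_of_mul_eq_one_right (B.sq _ (mul_mem ha hb))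
  rw [mul_inv_rev, e1, e2] at e3
  exact e3.symm

/-- The inner case. -/
theorem inner_false (hW : M.Weak) (hV : ∀ g : G, g * z * g⁻¹ ∈ B.V → g * z * g⁻¹ = z)
    (hVE : ∀ y ∈ B.V, ∀ g : G, g * y * g⁻¹ ∈ QG M.Q → y ∈ QG M.Q) (hS : SylowTransport M) {g : G}
    (hm : Model.Moved (z := z) g) {i : ℕ} (hi : i ∈ bigIdx) (hX : M.Acts ⟨g * z * g⁻¹, hm.mem⟩ (elemI i)) :
    False := by
  classical
  set u : ↥(centralizer ({z} : Set G)) := ⟨g * z * g⁻¹, hm.mem⟩ with hudef
  have huu : g * z * g⁻¹ * (g * z * g⁻¹) = 1 := Model.u_sq M.z_sq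
  obtain ⟨t, ht, rfl⟩ := hex_cover i hi
  obtain ⟨c, hcV, hc⟩ := B.img_onto t.1 (List.mem_cons_of_mem _ hi)
  -- u = q c with q in E
  have hq : (u : G) * c ∈ QG M.Q := by
    have h1 := (M.mem_Q_iff _).1 (M.inv_mul_mem hX hc)
    have h2 : u⁻¹ = u := Subtype.ext (inv_eq_of_mul_eq_one_right huu)
    rw [h2] at h1
    exact h1
  set q : ↥(QG M.Q) := ⟨(u : G) * c, hq⟩ with hqdef
  have hucq : (u : G) = q * c := by
    show (u : G) = u * c * c
    rw [mul_assoc, B.sq _ hcV, mul_one]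
  have hqV : bigFix.testBit (M.vec q) = false := by
    by_contra hb
    rw [Bool.not_eq_false] at hb
    exact hm.ne (hV g (show (u : G) ∈ B.V from hucq ▸ mul_mem ((B.inf_Q q).2 hb) hcV))
  obtain ⟨w, hwV, hwb⟩ := B.bigFix_basis (M.vec_lt q) hqV
  have hVcomm_iff : ∀ x : ↥(QG M.Q), (x : G) ∈ B.V →
      ((u : G) * x = x * u ↔ bbit (M.vec q) (M.vec x) = false) := by
    intro x hx
    rw [← M.comm_iff, hucq]
    constructor
    · intro e
      rw [mul_assoc, B.V_comm hcV hx, ← mul_assoc, ← mul_assoc] at e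
      exact mul_right_cancel e
    · intro e
      rw [mul_assoc, B.V_comm hcV hx, ← mul_assoc, e, mul_assoc]
  have hwfix : app (elemI t.1) (M.vec w) = M.vec w := M.fixed_of_conj hc (B.V_comm hcV hwV)
  have hwu : ¬ (u : G) * w = w * u := fun e => by
    rw [hVcomm_iff w hwV, hwb] at e
    simp at e
  -- D is trivial
  have hD : ∀ a : G, a ∈ QG M.Q → a ∈ M.EU g → a = 1 := by
    intro a ha ha'
    by_contra hd
    set d : ↥(QG M.Q) := ⟨a, ha⟩ with hddef
    have hdu : (d : G) * (g * z * g⁻¹) = g * z * g⁻¹ * d := M.EU_comm ha'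
    have hnoshift : ∀ b < 4096, M.vec d ≠ app (elemI t.1) b ^^^ b := by
      intro b hb e
      obtain ⟨x, rfl⟩ := M.vec_surj b hb
      exact hwu (M.full_of_shift hm.mem hX hW ha' hd e hwfix)
    by_cases hA : ∃ w0 : ↥(QG M.Q), app (elemI t.1) (M.vec w0) = M.vec w0 ∧
        ¬ (u : G) * w0 = w0 * u ∧ (d : G) * w0 = w0 * d
    · obtain ⟨w0, hw0, hw0u, hw0d⟩ := hA
      -- d is orthogonal to all fixed vectors
      have hperp : ∀ x : ↥(QG M.Q), app (elemI t.1) (M.vec x) = M.vec x → bbit (M.vec d) (M.vec x) = false := by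
        intro x hx
        rw [← M.comm_iff]
        by_cases hxu : (u : G) * x = x * u
        · exact hm.d_comm M hW ha ha' x.2 hxu.symm
        · have h2 := M.not_comm_mul hX hx hw0 hxu hw0u
          have h3 : (d : G) * (x * w0 : ↥(QG M.Q)) = (x * w0 : ↥(QG M.Q)) * d :=
            hm.d_comm M hW ha ha' (x * w0).2 h2.symm
          have h4 : (d : G) * ((x : G) * w0) = (x : G) * w0 * d := h3
          rw [mul_assoc (x : G), ← hw0d, ← mul_assoc (d : G), ← mul_assoc (x : G)] at h4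
          exact mul_right_cancel h4
      have hdV : bigFix.testBit (M.vec d) = true := hex_perp _ (M.vec_lt d) fun b hb => by
        obtain ⟨x, hx⟩ := M.vec_surj b (hex_basis.2.1 b hb).1
        rw [← hx]
        exact hperp x (M.fixed_of_conj hc (B.V_comm hcV ((B.inf_Q x).2 (hx ▸ (hex_basis.2.1 b hb).2))))
      obtain ⟨b, hb, e⟩ := hex_local_perp t ht _ (M.vec_lt d) hdV fun b hb => by
        obtain ⟨x, hx⟩ := M.vec_surj b ((hex_local t ht).1 b hb).1
        rw [← hx]
        exact hperp x (hx ▸ ((hex_local t ht).1 b hb).2)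
      exact hnoshift b ((hex_local t ht).2 b hb) e.symm
    · simp only [not_exists, not_and] at hA
      have hdV : bigFix.testBit (M.vec q ^^^ M.vec d) = true := by
        refine hex_perp _ (Nat.xor_lt_two_pow (n := 12) (M.vec_lt q) (M.vec_lt d)) fun b hb => ?_
        obtain ⟨x, hx⟩ := M.vec_surj b (hex_basis.2.1 b hb).1
        have hxV : (x : G) ∈ B.V := (B.inf_Q x).2 (hx ▸ (hex_basis.2.1 b hb).2)
        rw [← hx, M.bbit_xor (M.vec_lt _) (M.vec_lt _) (M.vec_lt _)]
        by_cases hxu : (u : G) * x = x * u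
        · rw [(hVcomm_iff x hxV).1 hxu, (M.comm_iff d x).1 (hm.d_comm M hW ha ha' x.2 hxu.symm)]
          rfl
        · have h1 : bbit (M.vec q) (M.vec x) = true :=
            Bool.eq_true_of_not_eq_false fun e => hxu ((hVcomm_iff x hxV).2 e)
          have h2 : bbit (M.vec d) (M.vec x) = true := Bool.eq_true_of_not_eq_false fun e =>
            hA x (M.fixed_of_conj hc (B.V_comm hcV hxV)) hxu ((M.comm_iff d x).2 e)
          rw [h1, h2]
          rfl
      -- u d lies in V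
      have hqdV : (q : G) * d ∈ B.V := (B.inf_Q (q * d)).2 (by rw [M.vec_mul]; exact hdV)
      have hdfix : app (elemI t.1) (M.vec d) = M.vec d := M.fixed_of_conj hX hdu.symm
      have hudV : (u : G) * d ∈ B.V := by
        rcases M.fix_cases hc hdfix with e | e
        · rw [hucq, mul_assoc, mul_inv_eq_iff_eq_mul.1 e, ← mul_assoc]
          exact mul_mem hqdV hcV
        · rw [hucq, mul_assoc, mul_inv_eq_iff_eq_mul.1 e, ← mul_assoc, ← mul_assoc]
          exact mul_mem (mul_mem hqdV B.z_mem) hcV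
      have h1 : g⁻¹ * ((u : G) * d) * g⁻¹⁻¹ ∈ QG M.Q := by
        rw [inv_inv]
        exact M.mem_EU.1 (mul_mem (M.u_mem_EU g) ha')
      have h2 := mul_mem (hVE _ hudV _ h1) (inv_mem ha)
      rw [mul_assoc, mul_inv_cancel, mul_one] at h2
      exact hm.not_mem M hW h2
  -- the conclusion
  have hX2 := M.invol_app hX (by
    rw [show u * u = 1 from Subtype.ext huu]
    exact one_mem _)
  have h64 := (Model.invol_fix (fun n hn => (hX2 n hn).1) fun n hn => (hX2 n hn).2).1
  have hF := M.card_commF hX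
  refine M.no_big hS (T := M.AU g) inf_le_left (M.AU_pgroup g) (fun a ha ha' => hD a ha' ha.2)
    (F := M.commF (elemI t.1) u) (by omega) (fun n hn => ((Model.mem_commF M).1 hn).1.1) ?_ (M.card_AU hm.mem)
  intro a ha C hC n hn
  obtain ⟨x, rfl⟩ := M.vec_surj n ((Model.mem_commF M).1 hn).1.1
  have hxu : (u : G) * x = x * u := ((Model.mem_commF M).1 hn).2 x rfl
  obtain ⟨h1, h2⟩ := Model.Moved.comm_mem M a.2 ha.2 x.2 hxu.symm
  exact M.fixed_of_conj hC (mul_inv_eq_iff_eq_mul.1 (mul_inv_eq_one.1 (hD _ h1 h2)))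

end BigData

end Cfsg.Agent.JankoFour
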