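/-!
Tables for the involutions of the centraliser lying over an element of the hexad group.
-/

namespace Cfsg.Agent.JankoFour.Hinto

/-- The representative vector. -/
def v0 : Nat := 34

/-- A word of an element centralising the first element of the hexad group. -/
def fixWord : List Nat :=
  [1, 1, 1, 1, 0, 0, 0, 0, 0, 0, 0, 0, 0, 0, 2, 2, 2, 0, 2, 2, 0, 2, 1, 0]

/-- How each singular fixed vector outside the hexad space is reached: target, kind, source, preimage. -/
def fixSteps : List (Nat × Nat × Nat × Nat) :=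
  [(1867, 0, 34, 0), (2446, 1, 34, 0), (70, 2, 34, 4), (274, 2, 34, 16), (374, 2, 34, 20),
    (642, 2, 34, 128), (742, 2, 34, 132), (946, 2, 34, 144), (982, 2, 34, 148), (3074, 2, 34, 156),
    (3174, 2, 34, 152), (3378, 2, 34, 140), (3414, 2, 34, 136), (3746, 2, 34, 28), (3782, 2, 34, 24),
    (3986, 2, 34, 12), (4086, 2, 34, 8), (1897, 0, 1867, 0), (3175, 1, 1867, 0), (1839, 2, 1867, 4),
    (1659, 2, 1867, 16), (1567, 2, 1867, 20), (1515, 2, 1867, 128), (1423, 2, 1867, 132), (1243, 2, 1867, 144),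
    (1215, 2, 1867, 148), (2923, 2, 1867, 156), (2831, 2, 1867, 152), (2651, 2, 1867, 140), (2623, 2, 1867, 136),
    (2507, 2, 1867, 28), (2479, 2, 1867, 24), (2299, 2, 1867, 12), (2207, 2, 1867, 8), (2538, 2, 2446, 4),
    (2238, 2, 2446, 16), (2266, 2, 2446, 20), (2862, 2, 2446, 128), (2890, 2, 2446, 132), (2590, 2, 2446, 144),
    (2682, 2, 2446, 148), (1454, 2, 2446, 156), (1482, 2, 2446, 152), (1182, 2, 2446, 140), (1274, 2, 2446, 136),
    (1806, 2, 2446, 28), (1898, 2, 2446, 24), (1598, 2, 2446, 12), (1626, 2, 2446, 8), (1513, 1, 1897, 0),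
    (1805, 2, 1897, 4), (1625, 2, 1897, 16), (1597, 2, 1897, 20), (1481, 2, 1897, 128), (1453, 2, 1897, 132),
    (1273, 2, 1897, 144), (1181, 2, 1897, 148), (2889, 2, 1897, 156), (2861, 2, 1897, 152), (2681, 2, 1897, 140),
    (2589, 2, 1897, 136), (2537, 2, 1897, 28), (2445, 2, 1897, 24), (2265, 2, 1897, 12), (2237, 2, 1897, 8),
    (3075, 2, 3175, 4), (3415, 2, 3175, 16), (3379, 2, 3175, 20), (3783, 2, 3175, 128), (3747, 2, 3175, 132),
    (4087, 2, 3175, 144), (3987, 2, 3175, 148), (71, 2, 3175, 156), (35, 2, 3175, 152), (375, 2, 3175, 140),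
    (275, 2, 3175, 136), (743, 2, 3175, 28), (643, 2, 3175, 24), (983, 2, 3175, 12), (947, 2, 3175, 8),
    (1421, 2, 1513, 4), (1241, 2, 1513, 16), (1213, 2, 1513, 20), (1865, 2, 1513, 128), (1837, 2, 1513, 132),
    (1657, 2, 1513, 144), (1565, 2, 1513, 148), (2505, 2, 1513, 156), (2477, 2, 1513, 152), (2297, 2, 1513, 140),
    (2205, 2, 1513, 136), (2921, 2, 1513, 28), (2829, 2, 1513, 24), (2649, 2, 1513, 12), (2621, 2, 1513, 8)]

end Cfsg.Agent.JankoFour.Hinto
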