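import Cfsg.Agent.Lib.JankoFour.BigExists
import Cfsg.Agent.Lib.JankoFour.HintoData

/-!
Decidable facts on the involutions of the centraliser lying over an element of the hexad group.
-/

set_option autoImplicit false
set_option maxRecDepth 100000

namespace Cfsg.Agent.JankoFour.Hinto

open Cfsg.Agent.J4Module (app of_chunks)
open Cfsg.Agent.J4Module.Data
open Big

theorem p_free : ∀ n < 4096, n ^^^ app pC n ^^^ app pC (app pC n) = 0 :=
  of_chunks 64 (by decide +kernel)

theorem bEl_p : ∀ i < 16, mulC (bEl i) pC = mulC pC (bEl i) := by decide +kernel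

theorem v0_spec : v0 < 4096 ∧ app (bEl 1) v0 = v0 ∧ qbit v0 = false ∧ bigFix.testBit v0 = false := by decide +kernel

theorem word_spec : (∀ k ∈ fixWord, k < 4) ∧ mulC (wordC fixWord) (bEl 1) = mulC (bEl 1) (wordC fixWord) := by
  decide +kernel

/-- The vector made by a step. -/
def stepVal (s : ℕ × ℕ × ℕ × ℕ) : ℕ :=
  if s.2.1 = 0 then app pC s.2.2.1
  else if s.2.1 = 1 then app (wordC fixWord) s.2.2.1
  else s.2.2.1 ^^^ (app (bEl 1) s.2.2.2 ^^^ s.2.2.2)

theorem steps_spec : ∀ s ∈ fixSteps, s.1 = stepVal s ∧ s.2.1 < 3 ∧ s.2.2.2 < 4096 := by decide +kernel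

/-- The sources are reached before they are used. -/
def closedB : List (ℕ × ℕ × ℕ × ℕ) → List ℕ → Bool
  | [], r =>
    (List.range 4096).all fun n => app (bEl 1) n != n || qbit n || bigFix.testBit n || r.contains n
  | s :: ss, r => r.contains s.2.2.1 && closedB ss (s.1 :: r)

theorem steps_closed : closedB fixSteps [v0] = true := by decide +kernel

theorem closedB_all {p : ℕ → Prop} : ∀ {l : List (ℕ × ℕ × ℕ × ℕ)} {r : List ℕ}, closedB l r = true →
    (∀ i ∈ r, p i) → (∀ s ∈ l, p s.2.2.1 → p s.1) →
      ∀ n < 4096, app (bEl 1) n = n → qbit n = false → bigFix.testBit n = false → p n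
  | [], r, h, hr, _, n, hn, hf, hq, hb => by
    simp only [closedB, List.all_eq_true, List.mem_range, Bool.or_eq_true, List.contains_iff_mem, bne_iff_ne] at h
    rcases h n hn with ((h | h) | h) | h
    · exact absurd hf h
    · rw [hq] at h; simp at h
    · rw [hb] at h; simp at h
    · exact hr n h
  | s :: ss, r, h, hr, hs, n, hn, hf, hq, hb => by
    simp only [closedB, Bool.and_eq_true, List.contains_iff_mem] at h
    refine closedB_all h.2 (fun j hj => ?_) (fun t ht => hs t (List.mem_cons_of_mem _ ht)) n hn hf hq hb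
    rcases List.mem_cons.1 hj with rfl | hj
    · exact hs s List.mem_cons_self (hr _ h.1)
    · exact hr j hj

end Cfsg.Agent.JankoFour.Hinto
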