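import Cfsg.Agent.Lib.JankoFour.Fused
import Cfsg.Agent.Lib.JankoFour.BigBuild
import Cfsg.Agent.Lib.JankoFour.HintoChecks

/-!
Involutions of the centraliser inducing an element of the hexad group: they are conjugate into the large
abelian subgroup or to one standard involution.
-/

set_option autoImplicit false
set_option linter.unusedSectionVars false

namespace Cfsg.Agent.JankoFour

open Subgroup
open Cfsg.Agent.LargeFischer (Ctx QG)
open Cfsg.Agent.J4Module (app elemI)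
open Cfsg.Agent.J4Module.Data
open Big Hinto

variable {G : Type*} [Group G] [Finite G] {z : G} {P : Subgroup G}

namespace Model

variable (M : Model z P)
include M

theorem p_vec_sum (x : ↥(QG M.Q)) :
    M.vec (x * M.ctx.conjQ M.pElem x * M.ctx.conjQ M.pElem (M.ctx.conjQ M.pElem x)) = 0 := by
  rw [M.vec_mul, M.vec_mul, M.p_acts (M.ctx.conjQ M.pElem x), M.p_acts x]
  exact p_free _ (M.vec_lt x)

/-- A lift centralising P centralises the elements over its fixed vectors. -/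
theorem bP_comm_fix {c : ↥(centralizer ({z} : Set G))} (hc : c ∈ M.bP) {i : ℕ} (hi : i < 16)
    (hci : M.Acts c (bEl i)) {x : ↥(QG M.Q)} (hx : app (bEl i) (M.vec x) = M.vec x) :
    c * M.toH x = M.toH x * c := by
  obtain ⟨hcP, -⟩ := hc
  set y := M.ctx.conjQ M.pElem x with hy
  set w := M.ctx.conjQ M.pElem y with hw
  have hcomm : ∀ u, M.ctx.conjQ c (M.ctx.conjQ M.pElem u) = M.ctx.conjQ M.pElem (M.ctx.conjQ c u) := fun u => by
    rw [← M.ctx.conjQ_mul, M.p_fix hcP, M.ctx.conjQ_mul]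
  have hzc : ∀ d, M.ctx.conjQ d M.zQ = M.zQ := fun d => Subtype.ext (by
    show d.1 * z * d.1⁻¹ = z
    rw [mem_centralizer_singleton_iff.1 d.2, mul_inv_cancel_right])
  have hzz : M.zQ * M.zQ = 1 := Subtype.ext M.ctx.xs.sq
  rcases M.vec_eq_iff.1 (show M.vec x = M.vec (M.ctx.conjQ c x) by rw [hci, hx]) with h | h
  · have := congrArg M.toH (show M.ctx.conjQ c x = x from Subtype.ext h)
    rw [← M.toH_conj] at this
    exact mul_inv_eq_iff_eq_mul.1 this
  exfalso
  have h' : M.ctx.conjQ c x = x * M.zQ := Subtype.ext h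
  have hy' : M.ctx.conjQ c y = y * M.zQ := by rw [hy, hcomm, h', map_mul, hzc]
  have hw' : M.ctx.conjQ c w = w * M.zQ := by rw [hw, hcomm, hy', map_mul, hzc]
  have hv : M.vec (x * y * w) = 0 := M.p_vec_sum x
  have hone : M.ctx.conjQ c (x * y * w) = x * y * w := by
    rcases M.vec_eq_zero.1 hv with e | e
    · rw [show x * y * w = 1 from Subtype.ext e, map_one]
    · rw [show x * y * w = M.zQ from Subtype.ext e, hzc]
  rw [map_mul, map_mul, h', hy', hw'] at hone
  have hz' : ∀ u : ↥(QG M.Q), u * M.zQ = M.zQ * u := fun u => Subtype.ext (M.ctx.xs.comm u.2)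
  have e3 : x * M.zQ * (y * M.zQ) * (w * M.zQ) = x * y * w * M.zQ := by
    calc x * M.zQ * (y * M.zQ) * (w * M.zQ) = x * (M.zQ * y) * (M.zQ * w) * M.zQ := by group
      _ = x * (y * M.zQ) * (M.zQ * w) * M.zQ := by rw [← hz' y]
      _ = x * y * (M.zQ * M.zQ) * w * M.zQ := by group
      _ = _ := by rw [hzz, mul_one]
  rw [e3, mul_eq_left] at hone
  exact M.ctx.xs.ne_one (congrArg Subtype.val hone)

/-- An involution over the first element of the hexad group with a given vector. -/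
def Std (v : ℕ) (t : ↥(centralizer ({z} : Set G))) : Prop :=
  ∃ (y : ↥(QG M.Q)) (c : ↥(centralizer ({z} : Set G))),
    c ∈ M.bP ∧ M.Acts c (bEl 1) ∧ M.vec y = v ∧ t = M.toH y * c

theorem std_exists {v : ℕ} (hv : v < 4096) : ∃ t, M.Std v t := by
  obtain ⟨c, hc, hca⟩ := M.exists_lift_bP (show 1 < 16 by norm_num)
  obtain ⟨y, hy⟩ := M.vec_surj v hv
  exact ⟨_, y, c, hc, hca, hy, rfl⟩

theorem toH_cases {x y : ↥(QG M.Q)} (h : M.vec x = M.vec y) :
    M.toH y = M.toH x ∨ M.toH y = M.toH x * M.toH M.zQ := by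
  rcases M.vec_eq_iff.1 h with e | e
  · exact Or.inl (congrArg M.toH (Subtype.ext e))
  · exact Or.inr (by rw [← map_mul]; exact congrArg M.toH (Subtype.ext e))

theorem std_conj_std {v : ℕ} (hb : bigFix.testBit v = false) {t t' : ↥(centralizer ({z} : Set G))}
    (h : M.Std v t) (h' : M.Std v t') : IsConj t t' := by
  obtain ⟨y, c, hc, hca, hy, rfl⟩ := h
  obtain ⟨y', c', hc', hca', hy', rfl⟩ := h'
  set Z := M.toH M.zQ with hZ
  have hZZ : Z * Z = 1 := Subtype.ext M.ctx.xs.sq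
  have hcase : M.toH y' * c' = M.toH y * c ∨ M.toH y' * c' = M.toH y * c * Z := by
    rcases M.toH_cases (hy.trans hy'.symm) with e | e <;> rcases M.lift_eq hc.1 hc'.1 hca hca' with f | f <;>
      rw [e, f] <;> (try rw [← hZ])
    · exact Or.inl rfl
    · exact Or.inr (mul_assoc _ _ _).symm
    · exact Or.inr (by rw [mul_assoc _ Z c, ← M.z_fix c, mul_assoc])
    · refine Or.inl ?_
      calc M.toH y * Z * (c * Z) = M.toH y * (Z * c) * Z := by group
        _ = M.toH y * (c * Z) * Z := by rw [← M.z_fix c]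
        _ = M.toH y * c * (Z * Z) := by group
        _ = M.toH y * c := by rw [hZZ, mul_one]
  rcases hcase with e | e <;> rw [e]
  obtain ⟨b, hbm, hbb⟩ : ∃ b ∈ hexBasis, bbit v b = true := by
    by_contra hno
    have := hex_perp v (hy ▸ M.vec_lt y) fun b hbm => by
      by_contra hbb
      exact hno ⟨b, hbm, by simpa using hbb⟩
    rw [hb] at this
    simp at this
  obtain ⟨hblt, hbW⟩ := hex_basis.2.1 b hbm
  obtain ⟨w, rfl⟩ := M.vec_surj b hblt
  have hwa : w ∈ M.aQ := M.mem_aQ.2 ((bigW_iff _ hblt).1 hbW)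
  have hne : ¬ ((w : G) * y = y * w) := by
    rw [M.comm_iff, bbit_comm, hy, hbb]
    simp
  refine isConj_iff.2 ⟨M.toH w, ?_⟩
  have hwy : M.toH w * M.toH y * (M.toH w)⁻¹ = M.toH y * Z := by
    rcases M.toH_cases (x := y) (y := M.ctx.conjQ (M.toH w) y)
      (by rw [(M.acts_of_mem_Q (M.toH_mem w)) y, app_unitC _ (M.vec_lt y)]) with f | f
    · exact absurd (mul_inv_eq_iff_eq_mul.1 (congrArg Subtype.val ((M.toH_conj _ y).trans f))) hne
    · exact (M.toH_conj _ y).trans f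
  calc M.toH w * (M.toH y * c) * (M.toH w)⁻¹
      = M.toH w * M.toH y * (M.toH w)⁻¹ * (M.toH w * c * (M.toH w)⁻¹) := by group
    _ = M.toH y * Z * c := by rw [hwy, ← M.bP_comm_aQ hc hwa, mul_inv_cancel_right]
    _ = M.toH y * c * Z := by rw [mul_assoc _ Z c, ← M.z_fix c, mul_assoc]

theorem std_map {v : ℕ} {t g : ↥(centralizer ({z} : Set G))} {C : List ℕ} (hg : (g : G) ∈ centralizer (P : Set G))
    (hgC : M.Acts g C) (hcomm : mulC C (bEl 1) = mulC (bEl 1) C) (h : M.Std v t) :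
    M.Std (app C v) (g * t * g⁻¹) := by
  obtain ⟨y, c, hc, hca, rfl, rfl⟩ := h
  refine ⟨M.ctx.conjQ g y, g * c * g⁻¹, ⟨mul_mem (mul_mem hg hc.1) (inv_mem hg), 1, by norm_num, ?_⟩,
    M.acts_conj hgC hca hcomm, hgC y, ?_⟩
  · exact M.acts_conj hgC hca hcomm
  · rw [← M.toH_conj]
    group

theorem std_shift {v a : ℕ} {t : ↥(centralizer ({z} : Set G))} (ha : a < 4096) (h : M.Std v t) :
    ∃ t', M.Std (v ^^^ (app (bEl 1) a ^^^ a)) t' ∧ IsConj t t' := by
  obtain ⟨y, c, hc, hca, rfl, rfl⟩ := h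
  obtain ⟨x, rfl⟩ := M.vec_surj a ha
  refine ⟨M.toH x * (M.toH y * c) * (M.toH x)⁻¹, ⟨x * y * M.ctx.conjQ c x⁻¹, c, hc, hca, ?_, ?_⟩,
    isConj_iff.2 ⟨_, rfl⟩⟩
  · rw [M.vec_mul, M.vec_mul, hca, M.vec_inv]
    ac_rfl
  · rw [map_mul, map_mul, ← M.toH_conj, map_inv]
    group

theorem std_reach : ∀ v < 4096, app (bEl 1) v = v → qbit v = false → bigFix.testBit v = false →
    ∃ t s, M.Std v t ∧ M.Std v0 s ∧ IsConj t s := by
  refine closedB_all steps_closed (fun i hi => ?_) fun st hst ⟨t, s, ht, hs, hts⟩ => ?_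
  · rw [List.mem_singleton] at hi
    subst hi
    obtain ⟨t, ht⟩ := M.std_exists v0_spec.1
    exact ⟨t, t, ht, ht, IsConj.refl _⟩
  obtain ⟨e, hk, ha⟩ := steps_spec st hst
  rw [e]
  unfold stepVal
  split_ifs with h0 h1
  · exact ⟨_, s, M.std_map (mem_centralizer_iff.2 fun p hp => by
      obtain ⟨j, rfl⟩ := mem_zpowers_iff.1 (M.p_gen.ge hp)
      exact ((Commute.refl (M.pElem : G)).zpow_left j).eq) M.p_acts (bEl_p 1 (by norm_num)).symm ht, hs,
      (isConj_iff.2 ⟨M.pElem, rfl⟩ : IsConj t _).symm.trans hts⟩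
  · obtain ⟨g, hg, hga⟩ := M.cent_elem _ (wordC_memK word_spec.1)
    exact ⟨_, s, M.std_map hg hga word_spec.2 ht, hs, (isConj_iff.2 ⟨g, rfl⟩ : IsConj t _).symm.trans hts⟩
  · obtain ⟨t', ht', htt'⟩ := M.std_shift ha ht
    exact ⟨t', s, ht', hs, htt'.symm.trans hts⟩

/-- The standard class of involutions over the hexad group outside the large abelian subgroup. -/
def IsE6 (t : G) : Prop := ∃ s, M.Std v0 s ∧ IsConj (s : G) t

theorem isConj_val {s t : ↥(centralizer ({z} : Set G))} (h : IsConj s t) : IsConj (s : G) t :=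
  MonoidHom.map_isConj (centralizer ({z} : Set G)).subtype h

theorem e6_conj {t t' : G} (h : M.IsE6 t) (h' : M.IsE6 t') : IsConj t t' := by
  obtain ⟨s, hs, hst⟩ := h
  obtain ⟨s', hs', hst'⟩ := h'
  exact hst.symm.trans ((M.isConj_val (M.std_conj_std v0_spec.2.2.2 hs hs')).trans hst')

theorem acts_conj_inv {g t : ↥(centralizer ({z} : Set G))} {X Y C : List ℕ} (hg : M.Acts g C) (ht : M.Acts t Y)
    (hX : ∀ n, app X n < 4096) (e : mulC C X = mulC Y C) : M.Acts (g⁻¹ * t * g) X := fun x => by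
  obtain ⟨C', -, h'⟩ := M.exists_cols g⁻¹
  obtain ⟨u, hu⟩ : ∃ u, M.vec u = app C (M.vec x) := ⟨_, hg x⟩
  rw [M.acts_mul (M.acts_mul h' ht) hg, app_mulC, app_mulC, ← app_mulC Y, ← e, app_mulC]
  obtain ⟨w, hw⟩ : ∃ w, M.vec w = app X (M.vec x) :=
    M.vec_surj _ (hX _)
  rw [← hw, (M.acts_inv hg h' w).1]

end Model

namespace BigData

variable {M : Model z P} (B : BigData M)
include B

theorem V_eq_vG : B.V = M.vG := by
  refine M.unique_vG (R := M.syl.map (centralizer ({z} : Set G)).subtype) (M.syl_isPGroup.map _) ?_ ?_ B.sq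
    B.card.ge
  · exact map_mono M.vH_le
  · intro a ha
    refine ⟨⟨a, B.le_cent ha⟩, ?_, rfl⟩
    obtain ⟨i, hi, hci⟩ := B.img ⟨a, B.le_cent ha⟩ ha
    obtain ⟨j, hj, e⟩ := bEl_spec.2.2.2.2 i hi
    exact ⟨_, e ▸ (bEl_spec.1 j hj).1, hci⟩

theorem bP_mem {c : ↥(centralizer ({z} : Set G))} (hc : c ∈ M.bP) : (c : G) ∈ B.V := by
  rw [B.V_eq_vG]
  exact M.mem_vG.2 (M.bP_le_vH hc)

/-- The elements of the hexad stabiliser centralising P normalise the subgroup. -/
theorem stab_norm {k : ℕ} (hk : k < 2) {g : ↥(centralizer ({z} : Set G))}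
    (hgP : (g : G) ∈ centralizer (P : Set G)) (hga : M.Acts g (sEl k)) : (g : G) ∈ normalizer (B.V : Set G) := by
  rw [B.V_eq_vG]
  refine mem_normalizer_fintype fun x hx => ?_
  obtain ⟨_, ⟨a, ha, l, ⟨hlP, i, hi, hla⟩, rfl⟩, rfl⟩ := hx
  obtain ⟨-, hW, hperm⟩ := stab_spec.2.2 k (by omega)
  obtain ⟨hi', he⟩ := hperm i hi
  refine ⟨g * (M.toH a * l) * g⁻¹, ⟨M.ctx.conjQ g a, ?_, g * l * g⁻¹,
    ⟨mul_mem (mul_mem hgP hlP) (inv_mem hgP), _, hi', M.acts_conj hga hla he⟩, ?_⟩, rfl⟩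
  · rw [M.mem_aQ, hga a]
    exact hW _ (M.mem_aQ.1 ha)
  · rw [← M.toH_conj]
    group

/-- An involution over a non-trivial element of the hexad group lies in the subgroup or in the standard class. -/
theorem hexad_ne {t : ↥(centralizer ({z} : Set G))} (ht : t * t = 1) {i : ℕ} (hi : i < 16) (hne : i ≠ 0)
    (hti : M.Acts t (bEl i)) : (t : G) ∈ B.V ∨ M.IsE6 (t : G) := by
  obtain ⟨g, C, hgN, hgC, e⟩ : ∃ (g : ↥(centralizer ({z} : Set G))) (C : List ℕ),
      (g : G) ∈ normalizer (B.V : Set G) ∧ M.Acts g C ∧ mulC C (bEl 1) = mulC (bEl i) C := by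
    refine (reached16_all (p := fun i => i < 16 ∧ ∃ (g : ↥(centralizer ({z} : Set G))) (C : List ℕ),
      (g : G) ∈ normalizer (B.V : Set G) ∧ M.Acts g C ∧ mulC C (bEl 1) = mulC (bEl i) C) bigSteps_reached (fun j hj => ?_) (fun s hs hp => ?_) i hi).resolve_left hne |>.2
    · rw [List.mem_singleton] at hj
      subst hj
      exact ⟨by norm_num, 1, unitC, one_mem _, M.acts_one, by decide +kernel⟩
    · obtain ⟨hj, g, C, hgN, hgC, e⟩ := hp
      obtain ⟨hk, hpm⟩ := bigSteps_spec.1 s hs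
      obtain ⟨hlen, -, hperm⟩ := stab_spec.2.2 s.2.1 (by omega)
      obtain ⟨hi', he⟩ := hperm s.2.2 hj
      rw [hpm] at hi' he
      obtain ⟨k, hkP, hka⟩ := M.cent_elem _ (sEl_InK0 hk)
      exact ⟨hi', k * g, _, mul_mem (B.stab_norm hk hkP hka) hgN, M.acts_mul hka hgC, by
        rw [mulC_assoc, e, ← mulC_assoc, he, mulC_assoc]⟩
  set u := g⁻¹ * t * g with hu
  have hua : M.Acts u (bEl 1) := M.acts_conj_inv hgC hti (gen_app_lt (gen_mono (bEl_InK0 (by norm_num)))) e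
  have hu2 : u * u = 1 := by
    rw [hu, show g⁻¹ * t * g * (g⁻¹ * t * g) = g⁻¹ * (t * t) * g by group, ht, mul_one, inv_mul_cancel]
  obtain ⟨c, hc, hca⟩ := M.exists_lift_bP (show 1 < 16 by norm_num)
  have hc2 := M.bP_sq hc
  have hqQ : u * c ∈ M.Q := by
    have h1 := M.inv_mul_mem hua hca
    rwa [inv_eq_of_mul_eq_one_right hu2] at h1
  obtain ⟨y, hy⟩ := M.toH_surj hqQ
  have huy : u = M.toH y * c := by rw [hy, mul_assoc, hc2, mul_one]
  have hyf : app (bEl 1) (M.vec y) = M.vec y := by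
    rw [huy] at hu2
    have h1 : M.toH (M.ctx.conjQ c y) = (M.toH y)⁻¹ := by
      rw [← M.toH_conj, inv_eq_of_mul_eq_one_right hc2]
      exact eq_inv_of_mul_eq_one_right (by rw [← hu2]; group)
    rw [← hca, ← map_inv] at *
    rw [M.toH_injective h1, M.vec_inv]
  have hyy : M.toH y * M.toH y = 1 := by
    rw [huy] at hu2
    rw [← hu2, show M.toH y * c * (M.toH y * c) = M.toH y * (c * M.toH y) * c by group,
      M.bP_comm_fix hc (by norm_num) hca hyf, ← mul_assoc (M.toH y) (M.toH y), mul_assoc, hc2, mul_one]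
  have hconj : IsConj (u : G) t := isConj_iff.2 ⟨g, by simp [hu, mul_assoc]⟩
  by_cases hb : bigFix.testBit (M.vec y) = true
  · left
    have : (t : G) = (g : G) * ((y : G) * c) * (g : G)⁻¹ := by
      rw [← show (u : G) = (y : G) * c from congrArg Subtype.val huy]
      simp [hu, mul_assoc]
    rw [this]
    exact (Subgroup.mem_normalizer_iff.1 hgN _).1 (mul_mem ((B.inf_Q y).2 hb) (B.bP_mem hc))
  · right
    obtain ⟨t', s, ht', hs, hts⟩ := M.std_reach _ (M.vec_lt y) hyf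
      ((M.sq_iff y).1 (congrArg Subtype.val hyy)) (by simpa using hb)
    exact ⟨s, hs, ((M.isConj_val (hts.symm.trans
      (M.std_conj_std (by simpa using hb) ht' ⟨y, c, hc, hca, rfl, huy⟩)))).trans hconj⟩


/-- An involution over the hexad group. -/
theorem hexad_cases {t : ↥(centralizer ({z} : Set G))} (ht : t * t = 1) {i : ℕ} (hi : i < 16)
    (hti : M.Acts t (bEl i)) :
    (∃ g : G, g * t * g⁻¹ ∈ B.V) ∨ M.IsE6 (t : G) := by
  rcases eq_or_ne i 0 with rfl | hne
  · left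
    rw [bEl_spec.2.1] at hti
    obtain ⟨x, rfl⟩ := M.toH_surj (M.mem_Q t hti)
    by_cases h0 : M.vec x = 0
    · rcases M.vec_eq_zero.1 h0 with e | e
      · exact ⟨1, by simp [Model.toH, e]⟩
      · exact ⟨1, by simp [Model.toH, e, B.z_mem]⟩
    obtain ⟨C, hC, hb⟩ := M.exists_conj_hex (M.vec_lt x) h0 ((M.sq_iff x).1 (congrArg Subtype.val ht))
    obtain ⟨h, hh⟩ := M.exists_elem C hC
    exact ⟨h, (B.inf_Q (M.ctx.conjQ h x)).2 (by rw [hh x]; exact hb)⟩
  exact (B.hexad_ne ht hi hne hti).imp (fun h => ⟨1, by simpa using h⟩) id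

end BigData

end Cfsg.Agent.JankoFour
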