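import Cfsg.Agent.Lib.JankoFour.ThreeChecks

/-!
The involutions of the Sylow subgroup commuting with the scalar are moved into the hexad group by the linear
part; only the hexad group centralises the hexad group in the Sylow subgroup.
-/

set_option autoImplicit false
set_option maxRecDepth 100000

namespace Cfsg.Agent.JankoFour.ThreeChk

open Cfsg.Agent.J4Module (app elemI)
open Cfsg.Agent.J4Module.Data

/-- An involution, a word moving it, and the member of the hexad group reached. -/
def intoBig : List (ℕ × List ℕ × ℕ) :=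
  [
   (0, [], 0),
   (4, [1, 1, 0], 54),
   (6, [], 6),
   (7, [], 7),
   (8, [2], 66),
   (9, [1, 2, 2], 7),
   (11, [], 11),
   (12, [], 12),
   (13, [0, 1, 1], 19),
   (14, [0, 1, 1, 1, 1], 20),
   (15, [1, 0, 2], 11),
   (17, [2, 2, 2, 0, 2], 61),
   (18, [2, 2, 2, 1], 61),
   (19, [], 19),
   (20, [], 20),
   (46, [1, 2, 2], 48),
   (47, [], 47),
   (48, [], 48),
   (49, [1, 0, 2], 54),
   (50, [2, 2, 0, 0, 0], 20),
   (52, [0, 1, 1], 12),
   (53, [], 53),
   (54, [], 54),
   (55, [0, 1, 1, 1, 1], 6),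
   (56, [0, 0, 1, 0], 6),
   (57, [0, 1, 1, 1, 1], 12),
   (58, [0, 1, 1], 7),
   (59, [1, 2, 2], 53),
   (61, [], 61),
   (62, [], 62),
   (63, [1, 0, 2], 66),
   (65, [], 65),
   (66, [], 66),
   (67, [0, 2, 1, 1, 0], 48),
   (68, [2, 2, 0, 1], 61)]

theorem intoBig_spec : ∀ t ∈ intoBig, (∀ k ∈ t.2.1, k < 4) ∧ t.2.2 ∈ bigIdx ∧
    mulC (wordEval t.2.1) (elemI t.1) = mulC (elemI t.2.2) (wordEval t.2.1) := by decide +kernel

theorem inner_listed : ∀ i < 71, mulC pC (elemI i) = mulC (elemI i) pC →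
    (intoBig.map Prod.fst).contains i = true := by decide +kernel

theorem big_in_sylow : ∀ i ∈ 71 :: bigIdx, elemI i ∈ sylow := by decide +kernel

theorem one_cols : J4Module.oneC = unitC := by decide +kernel

theorem word_len : ∀ t ∈ intoBig, (elemI t.1).length = 12 := by decide +kernel

theorem big_self_central : ∀ C ∈ sylow, (∀ i ∈ bigIdx, mulC C (elemI i) = mulC (elemI i) C) →
    ∃ i ∈ 71 :: bigIdx, C = elemI i := by decide +kernel

end Cfsg.Agent.JankoFour.ThreeChk
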