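import Cfsg.Agent.Lib.JankoFour.ElevenMain
import Mathlib.GroupTheory.Subgroup.Centralizer
import Mathlib.GroupTheory.Sylow

/-!
Sylow counting for cyclic Sylow subgroups of prime order.
-/

set_option autoImplicit false
set_option linter.unusedSectionVars false
set_option linter.style.haveILetI false

namespace Cfsg.Agent.JankoFour

open Subgroup
open scoped Pointwise

variable {G : Type*} [Group G] [Finite G]

/-- Generators of one cyclic subgroup have the same centraliser. -/
theorem centralizer_eq_of_zpowers_eq {a b : G} (h : zpowers a = zpowers b) :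
    centralizer ({a} : Set G) = centralizer ({b} : Set G) := by
  rw [← Subgroup.centralizer_closure ({a} : Set G), ← Subgroup.centralizer_closure ({b} : Set G),
    ← Subgroup.zpowers_eq_closure, ← Subgroup.zpowers_eq_closure, h]

/-- An element of prime order is a generator of any group of that order containing it. -/
theorem zpowers_eq_of_mem {a b : G} {q : ℕ} (hq : q.Prime) (ha : orderOf a = q) (hb : orderOf b = q)
    (h : a ∈ zpowers b) : zpowers a = zpowers b :=
  Subgroup.eq_of_le_of_card_ge (zpowers_le.2 h) (by rw [Nat.card_zpowers, Nat.card_zpowers, ha, hb])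

/-- Elements of an order dividing the group order to the first power only have equal centraliser orders. -/
theorem card_cent_eq_of_order {q : ℕ} (hq : q.Prime) (hfac : (Nat.card G).factorization q = 1) {v w : G}
    (hv : orderOf v = q) (hw : orderOf w = q) :
    Nat.card ↥(centralizer ({v} : Set G)) = Nat.card ↥(centralizer ({w} : Set G)) := by
  haveI : Fact q.Prime := ⟨hq⟩
  let S : Sylow q G := Sylow.ofCard (zpowers w) (by rw [hfac, Nat.card_zpowers, hw, pow_one])
  let T : Sylow q G := Sylow.ofCard (zpowers v) (by rw [hfac, Nat.card_zpowers, hv, pow_one])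
  obtain ⟨g, hg⟩ := MulAction.exists_smul_eq G T S
  have hmem : g * v * g⁻¹ ∈ zpowers w := by
    rw [show zpowers w = (S : Subgroup G) from rfl, ← hg]
    exact ⟨v, mem_zpowers v, rfl⟩
  have ho : orderOf (g * v * g⁻¹) = q := by rw [← MulAut.conj_apply, MulEquiv.orderOf_eq, hv]
  rw [← centralizer_eq_of_zpowers_eq (zpowers_eq_of_mem hq ho hw hmem),
    card_cent_of_isConj (isConj_iff.2 ⟨g, rfl⟩ : IsConj v (g * v * g⁻¹))]

/-- A prime divisor of a centraliser gives a commuting element. -/
theorem exists_comm_of_dvd {q : ℕ} (hq : q.Prime) {w : G} (h : q ∣ Nat.card ↥(centralizer ({w} : Set G))) :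
    ∃ v : G, orderOf v = q ∧ v * w = w * v ∧ orderOf w ∣ Nat.card ↥(centralizer ({v} : Set G)) := by
  haveI : Fact q.Prime := ⟨hq⟩
  obtain ⟨v, hv⟩ := exists_prime_orderOf_dvd_card' (G := ↥(centralizer ({w} : Set G))) q h
  refine ⟨v, by rw [Subgroup.orderOf_coe, hv], mem_centralizer_singleton_iff.1 v.2, ?_⟩
  exact Subgroup.orderOf_dvd_natCard _ (mem_centralizer_singleton_iff.2 (mem_centralizer_singleton_iff.1 v.2).symm)

/-- The Sylow count inside a subgroup. -/
theorem exists_count {q m : ℕ} (hq : q.Prime) {H : Subgroup G} {v : G} (hv : v ∈ H) (ho : orderOf v = q)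
    (hH : Nat.card ↥H = q * m) (hm : ¬ q ∣ m) :
    ∃ n, n ∣ m ∧ n % q = 1 ∧
      Nat.card ↥(normalizer (zpowers v : Set G) ⊓ H : Subgroup G) * n = Nat.card ↥H := by
  haveI : Fact q.Prime := ⟨hq⟩
  have hm0 : m ≠ 0 := fun h => hm (h ▸ dvd_zero q)
  set v' : ↥H := ⟨v, hv⟩
  have hfac : (Nat.card ↥H).factorization q = 1 := by
    rw [hH, Nat.factorization_mul hq.ne_zero hm0, Finsupp.add_apply, Nat.factorization_eq_zero_of_not_dvd hm,
      hq.factorization_self]
  have ho' : orderOf v' = q := by rw [← Subgroup.orderOf_coe]; exact ho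
  let S : Sylow q ↥H := Sylow.ofCard (zpowers v') (by rw [hfac, Nat.card_zpowers, ho', pow_one])
  have hmap : (normalizer ((S : Subgroup ↥H) : Set ↥H)).map H.subtype = normalizer (zpowers v : Set G) ⊓ H := by
    ext g
    constructor
    · rintro ⟨a, ha, rfl⟩
      refine ⟨mem_normalizer_fintype ?_, a.2⟩
      rintro _ ⟨i, rfl⟩
      obtain ⟨j, hj⟩ := (Subgroup.mem_normalizer_iff.1 ha (v' ^ i)).1 (zpow_mem (mem_zpowers v') i)
      refine ⟨j, ?_⟩
      have := congrArg Subtype.val hj
      show v ^ j = (a : G) * v ^ i * (a : G)⁻¹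
      simpa using this
    · rintro ⟨hg, hgH⟩
      refine ⟨⟨g, hgH⟩, mem_normalizer_fintype ?_, rfl⟩
      rintro _ ⟨i, rfl⟩
      obtain ⟨j, hj⟩ := (Subgroup.mem_normalizer_iff.1 hg (v ^ i)).1 (zpow_mem (mem_zpowers v) i)
      refine ⟨j, Subtype.ext ?_⟩
      show ((v' ^ j : ↥H) : G) = g * ((v' ^ i : ↥H) : G) * g⁻¹
      rw [SubgroupClass.coe_zpow, SubgroupClass.coe_zpow]
      exact hj
  refine ⟨Nat.card (Sylow q ↥H), ?_, ?_, ?_⟩
  · have h := S.card_dvd_index
    have hidx := (S : Subgroup ↥H).card_mul_index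
    rw [show Nat.card ↥(S : Subgroup ↥H) = q from (Nat.card_zpowers v').trans ho', hH] at hidx
    rwa [Nat.eq_of_mul_eq_mul_left hq.pos hidx] at h
  · have h := card_sylow_modEq_one q ↥H
    rwa [Nat.ModEq, Nat.one_mod_eq_one.2 hq.one_lt.ne'] at h
  · rw [← hmap, card_map_of_injective H.subtype_injective, Sylow.card_eq_index_normalizer S]
    exact Subgroup.card_mul_index _

/-- If the count is one the subgroup normalises the cyclic group. -/
theorem le_normalizer_of_count {q m : ℕ} (hq : q.Prime) {H : Subgroup G} {v : G} (hv : v ∈ H) (ho : orderOf v = q)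
    (hH : Nat.card ↥H = q * m) (hm : ¬ q ∣ m) (h1 : ∀ n, n ∣ m → n % q = 1 → n = 1) :
    H ≤ normalizer (zpowers v : Set G) := by
  obtain ⟨n, hn, hn1, hc⟩ := exists_count hq hv ho hH hm
  rw [h1 n hn hn1, mul_one] at hc
  exact (Subgroup.eq_of_le_of_card_ge inf_le_right hc.ge).ge.trans inf_le_left

/-- A normalising element of that order lies in the cyclic group. -/
theorem mem_zpowers_of_normalizing {q : ℕ} (hq : q.Prime) {H : Subgroup G} {v a : G} (hv : v ∈ H)
    (hvo : orderOf v = q) (ha : a ∈ H) (hao : orderOf a = q) (hH : ¬ q * q ∣ Nat.card ↥H)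
    (hN : H ≤ normalizer (zpowers v : Set G)) : a ∈ zpowers v := by
  by_contra hna
  have hinf : (zpowers a ⊓ zpowers v : Subgroup G) = ⊥ := by
    refine (Subgroup.eq_bot_iff_forall _).2 fun g hg => ?_
    by_contra hg1
    have hgo : orderOf g = q :=
      ((Nat.dvd_prime hq).1 (hao ▸ orderOf_dvd_of_mem_zpowers hg.1)).resolve_left
        (fun h => hg1 (orderOf_eq_one_iff.1 h))
    refine hna ?_
    rw [← zpowers_eq_of_mem hq hgo hvo hg.2, zpowers_eq_of_mem hq hgo hao hg.1]
    exact mem_zpowers a
  have h := CLarge.card_of_coe_sup_eq (coe_mul_of_left_le_normalizer_right _ _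
    (zpowers_le.2 (hN ha) : zpowers a ≤ normalizer (zpowers v : Set G)))
  rw [hinf, Subgroup.card_bot, mul_one, Nat.card_zpowers, Nat.card_zpowers, hao, hvo] at h
  exact hH (h ▸ Subgroup.card_dvd_of_le (sup_le (zpowers_le.2 ha) (zpowers_le.2 hv)))

/-- The normaliser of a group of prime order over its centraliser. -/
theorem exists_index {r : ℕ} (hr : r.Prime) {w : G} (hw : orderOf w = r) :
    ∃ e, Nat.card ↥(normalizer (zpowers w : Set G)) = Nat.card ↥(centralizer ({w} : Set G)) * e ∧ e ∣ r - 1 := by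
  set φ := normalizerMonoidHom (zpowers w)
  have h1 := Subgroup.card_eq_card_quotient_mul_card_subgroup φ.ker
  rw [Nat.card_congr (QuotientGroup.quotientKerEquivRange φ).toEquiv] at h1
  have hker : Nat.card ↥φ.ker = Nat.card ↥(centralizer ({w} : Set G)) := by
    rw [normalizerMonoidHom_ker, Nat.card_congr (subgroupOfEquivOfLe (centralizer_le_normalizer _)).toEquiv,
      Subgroup.zpowers_eq_closure, Subgroup.centralizer_closure]
  refine ⟨Nat.card ↥φ.range, by rw [h1, hker, mul_comm], φ.range.card_subgroup_dvd_card.trans ?_⟩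
  rw [IsCyclic.card_mulAut, Nat.card_zpowers, hw, Nat.totient_prime hr]

end Cfsg.Agent.JankoFour
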