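import Mathlib.LinearAlgebra.Matrix.SpecialLinearGroup
import Mathlib.Data.ZMod.Basic
import Mathlib.Data.Nat.Prime.Basic
import Mathlib.Tactic.NormNum.Prime

/-!
Arithmetic tables for the large primes, and a Frobenius group of order 155 in SL(5,2).
-/

set_option autoImplicit false
set_option maxRecDepth 100000

namespace Cfsg.Agent.JankoFour.Large

open Matrix

/-- The companion matrix of an irreducible quintic. -/
def singer : Matrix (Fin 5) (Fin 5) (ZMod 2) :=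
  !![0, 0, 0, 0, 1; 1, 0, 0, 0, 0; 0, 1, 0, 0, 1; 0, 0, 1, 0, 0; 0, 0, 0, 1, 0]

/-- The squaring map in the power basis. -/
def frob : Matrix (Fin 5) (Fin 5) (ZMod 2) :=
  !![1, 0, 0, 0, 1; 0, 0, 0, 1, 0; 0, 1, 0, 0, 1; 0, 0, 0, 1, 1; 0, 0, 1, 0, 0]

theorem frob_spec : singer.det = 1 ∧ frob.det = 1 ∧ frob * singer = singer * singer * frob ∧
    singer ≠ 1 ∧ frob ≠ 1 := by decide +kernel

theorem singer_pow :
    (let a := singer * singer; let b := a * a; let c := b * b; let d := c * c; d * d = singer) := by decide +kernel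

theorem frob_pow : frob * frob * (frob * frob) * frob = 1 := by decide +kernel

/-- The group order. -/
def ord : ℕ := 86775571046077562880

/-- The products of sublists. -/
def subProds : List ℕ → List ℕ
  | [] => [1]
  | p :: l => subProds l ++ (subProds l).map (p * ·)

theorem mem_subProds : ∀ l : List ℕ, (∀ p ∈ l, p.Prime) → ∀ d : ℕ, d ∣ l.prod → d ∈ subProds l
  | [], _, d, hd => by
    rw [List.prod_nil, Nat.dvd_one] at hd
    simp [subProds, hd]
  | p :: l, hl, d, hd => by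
    have hp := hl p (List.mem_cons_self ..)
    have hl' : ∀ q ∈ l, q.Prime := fun q hq => hl q (List.mem_cons_of_mem _ hq)
    rw [List.prod_cons] at hd
    simp only [subProds, List.mem_append, List.mem_map]
    by_cases hpd : p ∣ d
    · obtain ⟨k, rfl⟩ := hpd
      exact Or.inr ⟨k, mem_subProds l hl' k ((Nat.mul_dvd_mul_iff_left hp.pos).1 hd), rfl⟩
    · exact Or.inl (mem_subProds l hl' d ((hp.coprime_iff_not_dvd.2 hpd).symm.dvd_of_dvd_mul_left hd))

/-- The index of the centraliser in the normaliser that the Sylow congruence forces. -/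
def idx (r d : ℕ) : ℕ := ord / (r * d) % r

/-- The centraliser indices compatible with the congruence. -/
def opts (r : ℕ) : List ℕ :=
  (subProds (([11, 23, 29, 31, 37, 43]).filter (· != r))).filter fun d => (r - 1) % idx r d == 0

theorem opts_spec :
    (∀ d ∈ opts 23, d ∈ [1, 1333, 899, 46139, 11, 9889, 507529]) ∧
    (∀ d ∈ opts 29, d ∈ [1, 43, 31, 1333, 407, 17501, 12617, 542531, 10879]) ∧
    (∀ d ∈ opts 31, idx 31 d % 5 = 0 → d ∈ [1, 46139, 11, 7337, 271469]) ∧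
    (∀ d ∈ opts 37, d ∈ [1, 43, 1333, 1247, 667, 28681, 889111, 10879]) ∧
    (∀ d ∈ opts 43, d ∈ [1, 31, 1147, 29]) := by decide +kernel

theorem idx_spec : idx 23 1 = 22 ∧ idx 29 1 = 28 ∧ idx 31 1 = 10 ∧ idx 37 1 = 12 ∧ idx 43 1 = 14 ∧
    idx 43 31 = 6 ∧ idx 43 1147 = 42 ∧ idx 43 29 = 42 ∧ idx 29 43 = 2 ∧ idx 31 11 = 15 ∧ idx 23 11 = 2 := by
  decide +kernel

theorem count_unique :
    (∀ n ∈ subProds [31, 29, 37], n % 43 = 1 → n = 1) ∧ (∀ n ∈ subProds [43], n % 29 = 1 → n = 1) ∧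
    (∀ n ∈ subProds [31], n % 11 = 1 → n = 1) := by decide +kernel

theorem no_count : ∀ i ≤ 21, ∀ f ∈ [253, 506], ∀ n : ℕ, f * n = 2 ^ i * 2783 → n % 23 ≠ 1 := by
  intro i hi f hf n hn
  have h : ∀ i ≤ 21, ∀ f ∈ [253, 506], (2 ^ i * 2783) % f = 0 → (2 ^ i * 2783 / f) % 23 ≠ 1 := by
    decide +kernel
  have hf0 : 0 < f := by fin_cases hf <;> norm_num
  have := h i hi f hf (by rw [← hn, Nat.mul_mod_right])
  rwa [← hn, Nat.mul_div_cancel_left _ hf0] at this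

set_option synthInstance.maxSize 4000 in
set_option synthInstance.maxHeartbeats 200000 in
/-- What the symmetric relation leaves. -/
theorem relation_spec : ∀ a ∈ [1, 1333, 899, 46139, 11, 9889, 507529],
    ∀ b ∈ [1, 43, 31, 1333, 407, 17501, 12617, 542531, 10879],
    ∀ c ∈ [1, 46139, 11, 7337, 271469], ∀ d ∈ [1, 43, 1333, 1247, 667, 28681, 889111, 10879],
    ∀ e ∈ [1, 31, 1147, 29],
    (29 ∣ a ↔ 23 ∣ b) → (31 ∣ a ↔ 23 ∣ c) → (37 ∣ a ↔ 23 ∣ d) → (43 ∣ a ↔ 23 ∣ e) →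
    (31 ∣ b ↔ 29 ∣ c) → (37 ∣ b ↔ 29 ∣ d) → (43 ∣ b ↔ 29 ∣ e) →
    (37 ∣ c ↔ 31 ∣ d) → (43 ∣ c ↔ 31 ∣ e) → (43 ∣ d ↔ 37 ∣ e) →
    (c = 46139 → 31 * 46139 ∣ 43 * e * idx 43 e) →
    (a = 1 ∨ a = 11) ∧ (c = 1 ∨ c = 11) ∧ d = 1 ∧ ((b = 1 ∧ e = 1) ∨ (b = 43 ∧ e = 29)) := by
  decide +kernel

end Cfsg.Agent.JankoFour.Large
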