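import Cfsg.Agent.Lib.JankoFour.LargeBase
import Cfsg.Agent.Lib.JankoFour.LargeChecks
import Cfsg.Agent.Lib.JankoFour.ElevenClasses

/-!
The possible centralisers of elements of large prime order.
-/

set_option autoImplicit false
set_option linter.unusedSectionVars false

namespace Cfsg.Agent.JankoFour

open Subgroup

variable {G : Type*} [Group G] [Finite G] {z : G} {P : Subgroup G} {M : Model z P}

namespace Model

/-- The centraliser orders at the small primes, and a Frobenius group of order 155. -/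
structure LargeSetup (M : Model z P) where
  S : M.ElevenSetup
  three : ∀ g : G, orderOf g = 3 → IsConj g (M.pElem : G)
  seven : ∀ g : G, orderOf g = 7 → Nat.card ↥(centralizer ({g} : Set G)) = 840
  frob : ∃ u f : G, orderOf u = 31 ∧ orderOf f = 5 ∧ f * u * f⁻¹ = u ^ 2

namespace LargeSetup

variable (L : M.LargeSetup) (hord : Nat.card G = 86775571046077562880)
include L hord

theorem hord' : Nat.card G = 2 ^ 21 * 3 ^ 3 * 5 * 7 * 11 ^ 3 * (23 * 29 * 31 * 37 * 43) := by
  rw [hord]; norm_num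

theorem fac_one {r : ℕ} (hr : r ∈ [23, 29, 31, 37, 43]) : (Nat.card G).factorization r = 1 := by
  have hp : r.Prime := by fin_cases hr <;> norm_num
  have hd : r ∣ Nat.card G ∧ ¬ r * r ∣ Nat.card G := by rw [hord]; fin_cases hr <;> norm_num
  obtain ⟨k, hk⟩ := hd.1
  have hk' : ¬ r ∣ k := fun h => hd.2 (hk ▸ mul_dvd_mul_left r h)
  rw [hk, Nat.factorization_mul hp.ne_zero (fun h => hk' (by rw [h]; exact dvd_zero r)), Finsupp.add_apply,
    Nat.factorization_eq_zero_of_not_dvd hk', hp.factorization_self]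

/-- An element of order eleven of the centraliser of an element of order three is of the first class. -/
theorem eleven_of_three {g y : G} (hg : orderOf g = 3) (hy : orderOf y = 11) (hgy : g * y = y * g) :
    Nat.card ↥(centralizer ({y} : Set G)) = 31944 := by
  haveI : Fact (Nat.Prime 11) := ⟨by norm_num⟩
  obtain ⟨k, hk⟩ := isConj_iff.1 (L.three g hg)
  set y' := k * y * k⁻¹ with hy'
  have hy'o : orderOf y' = 11 := by rw [hy', ← MulAut.conj_apply, MulEquiv.orderOf_eq, hy]
  have hy'z : y' ∈ centralizer ({z} : Set G) := by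
    refine L.S.cent_three ?_
    have e : centralizer ((zpowers (M.pElem : G) : Subgroup G) : Set G) = centralizer (P : Set G) :=
      congrArg (fun K : Subgroup G => centralizer (K : Set G)) M.p_gen
    rw [Subgroup.zpowers_eq_closure, Subgroup.centralizer_closure] at e
    rw [← e]
    refine mem_centralizer_singleton_iff.2 ?_
    rw [hy', ← hk]
    calc k * y * k⁻¹ * (k * g * k⁻¹) = k * (y * g) * k⁻¹ := by group
      _ = k * (g * y) * k⁻¹ := by rw [hgy]
      _ = _ := by group
  have hfac : (Nat.card ↥(centralizer ({z} : Set G))).factorization 11 = 1 := by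
    rw [M.card_cent, show 2 ^ 21 * 10395 = 11 * (2 ^ 21 * 945) by norm_num,
      Nat.factorization_mul (by norm_num) (by norm_num), Finsupp.add_apply,
      (by norm_num : Nat.Prime 11).factorization_self, Nat.factorization_eq_zero_of_not_dvd (by norm_num)]
  set a : ↥(centralizer ({z} : Set G)) := ⟨y', hy'z⟩
  have hao : orderOf a = 11 := by rw [← Subgroup.orderOf_coe]; exact hy'o
  let T : Sylow 11 ↥(centralizer ({z} : Set G)) := Sylow.ofCard (zpowers a)
    (by rw [hfac, Nat.card_zpowers, hao, pow_one])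
  let U : Sylow 11 ↥(centralizer ({z} : Set G)) := Sylow.ofCard (zpowers L.S.F.c)
    (by rw [hfac, Nat.card_zpowers, L.S.F.order, pow_one])
  obtain ⟨h, hh⟩ := MulAction.exists_smul_eq ↥(centralizer ({z} : Set G)) T U
  have hmem : h * a * h⁻¹ ∈ zpowers L.S.F.c := by
    rw [show zpowers L.S.F.c = (U : Subgroup ↥(centralizer ({z} : Set G))) from rfl, ← hh]
    exact ⟨a, mem_zpowers a, rfl⟩
  obtain ⟨i, hi⟩ := hmem
  have hmem' : (h : G) * y' * (h : G)⁻¹ ∈ zpowers (L.S.F.c : G) := ⟨i, by
    have := congrArg Subtype.val hi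
    show (L.S.F.c : G) ^ i = _
    simpa [a] using this⟩
  have ho2 : orderOf ((h : G) * y' * (h : G)⁻¹) = 11 := by rw [← MulAut.conj_apply, MulEquiv.orderOf_eq, hy'o]
  rw [card_cent_of_isConj (isConj_iff.2 ⟨k, rfl⟩ : IsConj y y'),
    card_cent_of_isConj (isConj_iff.2 ⟨(h : G), rfl⟩ : IsConj y' ((h : G) * y' * (h : G)⁻¹)),
    centralizer_eq_of_zpowers_eq (zpowers_eq_of_mem (by norm_num) ho2 L.S.F.order' hmem'), L.S.card_X]

/-- No centraliser of an element of large prime order has order divisible by a small prime. -/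
theorem not_small {r : ℕ} (hr : r ∈ [23, 29, 31, 37, 43]) {w : G} (hw : orderOf w = r) {q : ℕ}
    (hq : q ∈ [2, 3, 5, 7]) : ¬ q ∣ Nat.card ↥(centralizer ({w} : Set G)) := by
  intro h
  obtain ⟨v, hv, -, hd⟩ := exists_comm_of_dvd (by fin_cases hq <;> norm_num : q.Prime) h
  rw [hw] at hd
  simp only [List.mem_cons, List.not_mem_nil, or_false] at hq
  rcases hq with rfl | rfl | rfl | rfl
  · rcases L.S.invol v hv with e | e <;> rw [e] at hd <;> fin_cases hr <;> norm_num at hd
  · obtain ⟨k, hk⟩ := isConj_iff.1 (L.three v hv)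
    rw [card_cent_of_isConj (isConj_iff.2 ⟨k, hk⟩ : IsConj v (M.pElem : G))] at hd
    have hle : centralizer ({(M.pElem : G)} : Set G) ≤ centralizer ({z} : Set G) := by
      refine le_trans (le_of_eq ?_) L.S.cent_three
      have e : centralizer ((zpowers (M.pElem : G) : Subgroup G) : Set G) = centralizer (P : Set G) :=
        congrArg (fun K : Subgroup G => centralizer (K : Set G)) M.p_gen
      rwa [Subgroup.zpowers_eq_closure, Subgroup.centralizer_closure] at e
    have hd' := hd.trans (Subgroup.card_dvd_of_le hle)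
    rw [M.card_cent] at hd'
    fin_cases hr <;> norm_num at hd'
  · rw [L.S.cent_five v hv] at hd; fin_cases hr <;> norm_num at hd
  · rw [L.seven v hv] at hd; fin_cases hr <;> norm_num at hd

/-- The square of eleven does not divide such a centraliser. -/
theorem not_sq_eleven {r : ℕ} (hr : r ∈ [23, 29, 31, 37, 43]) {w : G} (hw : orderOf w = r) :
    ¬ 11 ^ 2 ∣ Nat.card ↥(centralizer ({w} : Set G)) := by
  intro h
  haveI : Fact (Nat.Prime 11) := ⟨by norm_num⟩
  set K := L.S.K
  obtain ⟨Q, hQ⟩ := Sylow.exists_subgroup_card_pow_prime 11 h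
  set Q' := Q.map (centralizer ({w} : Set G)).subtype with hQ'
  have hQc : Nat.card ↥Q' = 11 ^ 2 := by
    rw [hQ', card_map_of_injective (centralizer ({w} : Set G)).subtype_injective, hQ]
  obtain ⟨T, hT⟩ := IsPGroup.exists_le_sylow (P := Q') (IsPGroup.of_card hQc)
  obtain ⟨U, hU⟩ := K.exists_sylow L.S.card_O L.S.card_X hord L.S.other
  obtain ⟨g, hg⟩ := MulAction.exists_smul_eq G T U
  set R := Q'.map (MulAut.conj g).toMonoidHom with hR
  have hRO : R ≤ K.O := by
    rw [← hU, ← hg]
    rintro _ ⟨a, ha, rfl⟩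
    exact ⟨a, hT ha, rfl⟩
  have hRc : Nat.card ↥R = 121 := by rw [hR, card_map_of_injective (MulAut.conj g).injective, hQc]; norm_num
  have hxR : (L.S.F.c : G) ∈ R := by
    by_contra hx
    refine K.not_comm L.S.card_O L.S.card_X hord L.S.other ?_
    haveI : IsMulCommutative ↥R := IsPGroup.isMulCommutative_of_card_eq_prime_sq (p := 11) (by rw [hRc]; norm_num)
    have hxN : zpowers (L.S.F.c : G) ≤ normalizer (R : Set G) := by
      refine zpowers_le.2 (mem_normalizer_fintype fun a ha => ?_)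
      rw [← K.x_comm (hRO ha), mul_inv_cancel_right]
      exact ha
    have hinf : (zpowers (L.S.F.c : G) ⊓ R : Subgroup G) = ⊥ := by
      refine (Subgroup.eq_bot_iff_forall _).2 fun a ha => ?_
      by_contra ha1
      refine hx ?_
      have hao : orderOf a = 11 := ((Nat.dvd_prime (by norm_num)).1
        (L.S.F.order' ▸ orderOf_dvd_of_mem_zpowers ha.1)).resolve_left (fun e => ha1 (orderOf_eq_one_iff.1 e))
      have := zpowers_eq_of_mem (by norm_num : Nat.Prime 11) hao L.S.F.order' ha.1
      exact (zpowers_le.2 ha.2) (this.ge (mem_zpowers _))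
    have hcard := CLarge.card_of_coe_sup_eq (coe_mul_of_left_le_normalizer_right _ _ hxN)
    rw [hinf, Subgroup.card_bot, mul_one, Nat.card_zpowers, L.S.F.order', hRc] at hcard
    have hO : zpowers (L.S.F.c : G) ⊔ R = K.O := Subgroup.eq_of_le_of_card_ge (sup_le K.x_le hRO)
      (by rw [hcard, L.S.card_O]; norm_num)
    intro a ha b hb
    rw [← hO, ← SetLike.mem_coe, coe_mul_of_left_le_normalizer_right _ _ hxN] at ha hb
    obtain ⟨_, ⟨i, rfl⟩, r₁, hr1, rfl⟩ := ha
    obtain ⟨_, ⟨j, rfl⟩, r₂, hr2, rfl⟩ := hb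
    have c12 : Commute r₁ r₂ := congrArg Subtype.val (IsMulCommutative.is_comm.comm (⟨r₁, hr1⟩ : ↥R) ⟨r₂, hr2⟩)
    have c1 : Commute r₁ (L.S.F.c : G) := K.x_comm (hRO hr1)
    have c2 : Commute r₂ (L.S.F.c : G) := K.x_comm (hRO hr2)
    exact ((((Commute.refl (L.S.F.c : G)).zpow_zpow i j).mul_right (c2.symm.zpow_left i)).mul_left
      ((c1.zpow_right j).mul_right c12)).eq
  obtain ⟨a, ha, hax⟩ := hxR
  obtain ⟨b, hb, rfl⟩ := ha
  have hbw := mem_centralizer_singleton_iff.1 b.2
  have hcx := card_cent_of_isConj (isConj_iff.2 ⟨g, hax⟩ : IsConj (b : G) (L.S.F.c : G))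
  have hd := Subgroup.orderOf_dvd_natCard _
    (mem_centralizer_singleton_iff.2 hbw.symm : w ∈ centralizer ({(b : G)} : Set G))
  rw [hw, hcx, L.S.card_X] at hd
  fin_cases hr <;> norm_num at hd

/-- The centraliser and normaliser orders allowed by the congruence. -/
theorem exists_options {r : ℕ} (hr : r ∈ [23, 29, 31, 37, 43]) {w : G} (hw : orderOf w = r) :
    ∃ d ∈ Large.opts r, Nat.card ↥(centralizer ({w} : Set G)) = r * d ∧
      Nat.card ↥(normalizer (zpowers w : Set G)) = r * d * Large.idx r d := by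
  have hp : r.Prime := by fin_cases hr <;> norm_num
  haveI : Fact r.Prime := ⟨hp⟩
  obtain ⟨e, he, hed⟩ := exists_index hp hw
  obtain ⟨d, hd⟩ : r ∣ Nat.card ↥(centralizer ({w} : Set G)) :=
    hw ▸ Subgroup.orderOf_dvd_natCard _ (mem_centralizer_singleton_iff.2 rfl)
  set L₀ := ([11, 23, 29, 31, 37, 43] : List ℕ).filter (· != r) with hL₀
  have hdvd : d ∣ L₀.prod := by
    have hC : r * d ∣ Nat.card G := hd ▸ Subgroup.card_subgroup_dvd_card _
    have hcop : Nat.Coprime d (2 ^ 21 * 3 ^ 3 * 5 * 7) := by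
      refine Nat.coprime_of_dvd fun q hq hqd hqs => ?_
      have hq' : q ∈ [2, 3, 5, 7] := by
        rcases hq.dvd_mul.1 hqs with h | h
        · rcases hq.dvd_mul.1 h with h | h
          · rcases hq.dvd_mul.1 h with h | h
            · rw [(Nat.prime_dvd_prime_iff_eq hq Nat.prime_two).1 (hq.dvd_of_dvd_pow h)]; simp
            · rw [(Nat.prime_dvd_prime_iff_eq hq Nat.prime_three).1 (hq.dvd_of_dvd_pow h)]; simp
          · rw [(Nat.prime_dvd_prime_iff_eq hq (by norm_num)).1 h]; simp
        · rw [(Nat.prime_dvd_prime_iff_eq hq (by norm_num)).1 h]; simp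
      exact L.not_small hord hr hw hq' (hd ▸ hqd.mul_left r)
    have hprod : Nat.card G = r * (2 ^ 21 * 3 ^ 3 * 5 * 7 * (11 ^ 2 * L₀.prod)) := by
      rw [hord, hL₀]; fin_cases hr <;> rfl
    rw [hprod] at hC
    have h2 : d ∣ 11 ^ 2 * L₀.prod := hcop.dvd_of_dvd_mul_left ((Nat.mul_dvd_mul_iff_left hp.pos).1 hC)
    have h11 : ¬ 11 ^ 2 ∣ d := fun h => L.not_sq_eleven hord hr hw (hd ▸ h.mul_left r)
    obtain ⟨Kp, hK⟩ : 11 ∣ L₀.prod := List.dvd_prod (by rw [hL₀]; fin_cases hr <;> decide)
    by_cases h : 11 ∣ d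
    · obtain ⟨d', rfl⟩ := h
      have hd' : ¬ 11 ∣ d' := fun h => h11 (by rw [pow_two]; exact mul_dvd_mul_left 11 h)
      rw [hK, ← mul_assoc, ← pow_succ] at h2
      have h3 := (Nat.mul_dvd_mul_iff_left (by norm_num : 0 < 11)).1
        (h2.trans (dvd_of_eq (by ring : 11 ^ (2 + 1) * Kp = 11 * (11 ^ 2 * Kp))))
      rw [hK]
      exact mul_dvd_mul_left 11
        ((Nat.Coprime.pow_right 2 ((by norm_num : Nat.Prime 11).coprime_iff_not_dvd.2 hd').symm).dvd_of_dvd_mul_left h3)
    · exact (Nat.Coprime.pow_right 2 ((by norm_num : Nat.Prime 11).coprime_iff_not_dvd.2 h).symm).dvd_of_dvd_mul_left h2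
  have hmem : d ∈ Large.subProds L₀ := Large.mem_subProds L₀ (by
    intro p hp'
    have hp'' := (List.mem_filter.1 hp').1
    fin_cases hp'' <;> norm_num) d hdvd
  have hd0 : 0 < d := Nat.pos_of_ne_zero fun h => by
    rw [h, mul_zero] at hd
    exact Nat.card_pos.ne' hd
  set N := normalizer (zpowers w : Set G)
  have hcount : Large.ord / (r * d) % r = e % r := by
    let T : Sylow r G := Sylow.ofCard (zpowers w) (by rw [L.fac_one hord hr, Nat.card_zpowers, hw, pow_one])
    have h1 := card_sylow_modEq_one r G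
    have h2 : Nat.card ↥N * Nat.card (Sylow r G) = Nat.card G := by
      rw [Sylow.card_eq_index_normalizer T]; exact N.card_mul_index
    rw [he, hd, hord, show (86775571046077562880 : ℕ) = Large.ord from rfl, mul_assoc] at h2
    rw [← h2, Nat.mul_div_cancel_left _ (Nat.mul_pos hp.pos hd0)]
    calc e * Nat.card (Sylow r G) % r = e * 1 % r := (Nat.ModEq.mul_left e h1)
      _ = e % r := by rw [mul_one]
  have her : e % r = e := by
    have := Nat.le_of_dvd (by have := hp.two_le; omega) hed
    exact Nat.mod_eq_of_lt (by have := hp.two_le; omega)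
  have hidx : Large.idx r d = e := by rw [← her, ← hcount]; rfl
  refine ⟨d, ?_, hd, by rw [hidx, he, hd]⟩
  rw [Large.opts, List.mem_filter]
  exact ⟨hmem, by rw [hidx, beq_iff_eq]; exact Nat.mod_eq_zero_of_dvd hed⟩

end LargeSetup
end Model

end Cfsg.Agent.JankoFour
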