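import Cfsg.Agent.Lib.JankoFour.LargeOptions

/-!
The elements of large prime order generate their own centralisers.
-/

set_option autoImplicit false
set_option linter.unusedSectionVars false

namespace Cfsg.Agent.JankoFour

open Subgroup

variable {G : Type*} [Group G] [Finite G] {z : G} {P : Subgroup G} {M : Model z P}

namespace Model.LargeSetup

variable (L : M.LargeSetup) (hord : Nat.card G = 86775571046077562880)
include L hord

/-- Commuting primes: the relation is symmetric. -/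
theorem symm_dvd {r q : ℕ} (hr : r ∈ [23, 29, 31, 37, 43]) (hq : q ∈ [23, 29, 31, 37, 43]) {w v : G}
    (hw : orderOf w = r) (hv : orderOf v = q) (h : q ∣ Nat.card ↥(centralizer ({w} : Set G))) :
    r ∣ Nat.card ↥(centralizer ({v} : Set G)) := by
  have hqp : q.Prime := by fin_cases hq <;> norm_num
  obtain ⟨a, ha, -, hd⟩ := exists_comm_of_dvd hqp h
  rw [card_cent_eq_of_order hqp (L.fac_one hord hq) hv ha, ← hw]
  exact hd

/-- A normal centraliser element of another large prime order. -/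
theorem cent_le_normalizer {q : ℕ} (hq : q ∈ [23, 29, 31, 37, 43]) {w : G} {m : ℕ}
    (hC : Nat.card ↥(centralizer ({w} : Set G)) = q * m) (hm : ¬ q ∣ m) (h1 : ∀ n, n ∣ m → n % q = 1 → n = 1) :
    ∃ v, orderOf v = q ∧ v * w = w * v ∧
      centralizer ({w} : Set G) ≤ normalizer (zpowers v : Set G) := by
  have hqp : q.Prime := by fin_cases hq <;> norm_num
  obtain ⟨v, hv, hc, -⟩ := exists_comm_of_dvd hqp (hC ▸ dvd_mul_right q m)
  exact ⟨v, hv, hc, le_normalizer_of_count hqp (mem_centralizer_singleton_iff.2 hc) hv hC hm h1⟩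

/-- The indices of the centralisers. -/
theorem exists_indices : ∃ u : G, ∃ d23 d29 d31 d37 d43 : ℕ,
    orderOf u = 31 ∧
    (∀ w : G, orderOf w = 23 → Nat.card ↥(centralizer ({w} : Set G)) = 23 * d23 ∧
      Nat.card ↥(normalizer (zpowers w : Set G)) = 23 * d23 * Large.idx 23 d23) ∧
    (∀ w : G, orderOf w = 29 → Nat.card ↥(centralizer ({w} : Set G)) = 29 * d29 ∧
      Nat.card ↥(normalizer (zpowers w : Set G)) = 29 * d29 * Large.idx 29 d29) ∧
    (∀ w : G, orderOf w = 31 → Nat.card ↥(centralizer ({w} : Set G)) = 31 * d31 ∧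
      Nat.card ↥(normalizer (zpowers w : Set G)) = 31 * d31 * Large.idx 31 d31) ∧
    (∀ w : G, orderOf w = 37 → Nat.card ↥(centralizer ({w} : Set G)) = 37 * d37 ∧
      Nat.card ↥(normalizer (zpowers w : Set G)) = 37 * d37 * Large.idx 37 d37) ∧
    (∀ w : G, orderOf w = 43 → Nat.card ↥(centralizer ({w} : Set G)) = 43 * d43 ∧
      Nat.card ↥(normalizer (zpowers w : Set G)) = 43 * d43 * Large.idx 43 d43) ∧
    d23 ∈ [1, 11] ∧ d29 = 1 ∧ d31 ∈ [1, 11] ∧ d37 = 1 ∧ d43 = 1 := by
  obtain ⟨u, f, hu, hf, hfu⟩ := L.frob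
  have hex : ∀ {r : ℕ}, r ∈ [23, 29, 31, 37, 43] → ∃ w : G, orderOf w = r := by
    intro r hr
    haveI : Fact r.Prime := ⟨by fin_cases hr <;> norm_num⟩
    exact exists_prime_orderOf_dvd_card' r (by rw [hord]; fin_cases hr <;> norm_num)
  have hall : ∀ {r : ℕ} (hr : r ∈ [23, 29, 31, 37, 43]) (w₀ : G), orderOf w₀ = r → ∀ d,
      Nat.card ↥(centralizer ({w₀} : Set G)) = r * d → ∀ w : G, orderOf w = r →
      Nat.card ↥(centralizer ({w} : Set G)) = r * d ∧
        Nat.card ↥(normalizer (zpowers w : Set G)) = r * d * Large.idx r d := by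
    intro r hr w₀ hw₀ d hd w hw
    have hp : r.Prime := by fin_cases hr <;> norm_num
    obtain ⟨d', -, hd', hN⟩ := L.exists_options hord hr hw
    have hc := card_cent_eq_of_order hp (L.fac_one hord hr) hw hw₀
    rw [hd', hd] at hc
    obtain rfl := Nat.eq_of_mul_eq_mul_left hp.pos hc
    exact ⟨hd', hN⟩
  obtain ⟨w23, h23⟩ := hex (show 23 ∈ _ by decide)
  obtain ⟨w29, h29⟩ := hex (show 29 ∈ _ by decide)
  obtain ⟨w37, h37⟩ := hex (show 37 ∈ _ by decide)
  obtain ⟨w43, h43⟩ := hex (show 43 ∈ _ by decide)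
  obtain ⟨d23, o23, c23, -⟩ := L.exists_options hord (show 23 ∈ _ by decide) h23
  obtain ⟨d29, o29, c29, -⟩ := L.exists_options hord (show 29 ∈ _ by decide) h29
  obtain ⟨d31, o31, c31, n31⟩ := L.exists_options hord (show 31 ∈ _ by decide) hu
  obtain ⟨d37, o37, c37, -⟩ := L.exists_options hord (show 37 ∈ _ by decide) h37
  obtain ⟨d43, o43, c43, n43⟩ := L.exists_options hord (show 43 ∈ _ by decide) h43
  obtain ⟨t23, t29, t31, t37, t43⟩ := Large.opts_spec
  -- five divides the index at thirty-one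
  have h5 : Large.idx 31 d31 % 5 = 0 := by
    have hfN : f ∈ normalizer (zpowers u : Set G) := mem_normalizer_fintype (by
      rintro _ ⟨i, rfl⟩
      show f * u ^ i * f⁻¹ ∈ _
      rw [← conj_zpow, hfu]
      exact zpow_mem (pow_mem (mem_zpowers u) 2) i)
    have hd := Subgroup.orderOf_dvd_natCard _ hfN
    rw [hf, n31] at hd
    have hd5 : ¬ 5 ∣ 31 * d31 := fun h =>
      L.not_small hord (show 31 ∈ _ by decide) hu (q := 5) (by decide) (c31 ▸ h)
    exact Nat.mod_eq_zero_of_dvd (((Nat.Prime.dvd_mul (by norm_num)).1 hd).resolve_left hd5)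
  -- the symmetric relation
  have hs : ∀ {r q : ℕ} {w v : G} {d e : ℕ}, r ∈ [23, 29, 31, 37, 43] → q ∈ [23, 29, 31, 37, 43] → r ≠ q →
      orderOf w = r → orderOf v = q → Nat.card ↥(centralizer ({w} : Set G)) = r * d →
      Nat.card ↥(centralizer ({v} : Set G)) = q * e → q ∣ d → r ∣ e := by
    intro r q w v d e hr hq hne hw hv hd he h
    have hp : r.Prime := by fin_cases hr <;> norm_num
    have hqp : q.Prime := by fin_cases hq <;> norm_num
    have h' := L.symm_dvd hord hr hq hw hv (hd ▸ h.mul_left r)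
    rw [he] at h'
    exact (hp.dvd_mul.1 h').resolve_left fun h => hne ((Nat.prime_dvd_prime_iff_eq hp hqp).1 h)
  have m23 : (23 : ℕ) ∈ [23, 29, 31, 37, 43] := by decide
  have m29 : (29 : ℕ) ∈ [23, 29, 31, 37, 43] := by decide
  have m31 : (31 : ℕ) ∈ [23, 29, 31, 37, 43] := by decide
  have m37 : (37 : ℕ) ∈ [23, 29, 31, 37, 43] := by decide
  have m43 : (43 : ℕ) ∈ [23, 29, 31, 37, 43] := by decide
  have l43 := t43 d43 o43
  have l37 := t37 d37 o37
  have l31 := t31 d31 o31 h5
  have l29 := t29 d29 o29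
  have l23 := t23 d23 o23
  -- the largest candidate at thirty-one
  have a31 : d31 = 46139 → 31 * 46139 ∣ 43 * d43 * Large.idx 43 d43 := by
    intro e
    obtain ⟨v, hv, -, hle⟩ := L.cent_le_normalizer hord m43 (w := u) (m := 33263)
      (by rw [c31, e]) (by norm_num)
      (fun n hn hn1 => Large.count_unique.1 n (Large.mem_subProds _ (by
        intro p hp; fin_cases hp <;> norm_num) n hn) hn1)
    have hd := Subgroup.card_dvd_of_le hle
    rwa [c31, (hall m43 w43 h43 d43 c43 v hv).2, e] at hd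
  have hiff : ∀ {r q : ℕ} {w v : G} {d e : ℕ}, r ∈ [23, 29, 31, 37, 43] → q ∈ [23, 29, 31, 37, 43] → r ≠ q →
      orderOf w = r → orderOf v = q → Nat.card ↥(centralizer ({w} : Set G)) = r * d →
      Nat.card ↥(centralizer ({v} : Set G)) = q * e → (q ∣ d ↔ r ∣ e) :=
    fun hr hq hne hw hv hd he => ⟨hs hr hq hne hw hv hd he, hs hq hr (Ne.symm hne) hv hw he hd⟩
  obtain ⟨e23, e31, e37, e2943⟩ := Large.relation_spec d23 l23 d29 l29 d31 l31 d37 l37 d43 l43
    (hiff m23 m29 (by norm_num) h23 h29 c23 c29) (hiff m23 m31 (by norm_num) h23 hu c23 c31)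
    (hiff m23 m37 (by norm_num) h23 h37 c23 c37) (hiff m23 m43 (by norm_num) h23 h43 c23 c43)
    (hiff m29 m31 (by norm_num) h29 hu c29 c31) (hiff m29 m37 (by norm_num) h29 h37 c29 c37)
    (hiff m29 m43 (by norm_num) h29 h43 c29 c43) (hiff m31 m37 (by norm_num) hu h37 c31 c37)
    (hiff m31 m43 (by norm_num) hu h43 c31 c43) (hiff m37 m43 (by norm_num) h37 h43 c37 c43) a31
  -- twenty-nine and forty-three do not commute
  have e11 : d29 = 1 ∧ d43 = 1 := e2943.resolve_right fun e => by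
    obtain ⟨rfl, rfl⟩ := e
    have hC : Nat.card ↥(centralizer ({w43} : Set G)) = 29 * 43 := by rw [c43]
    obtain ⟨v, hv, hvw, hle⟩ := L.cent_le_normalizer hord m29 (w := w43) hC (by norm_num)
      (fun n hn hn1 => Large.count_unique.2.1 n (Large.mem_subProds _ (by
        intro p hp; fin_cases hp; norm_num) n (by simpa using hn)) hn1)
    have hN : normalizer (zpowers w43 : Set G) ≤ normalizer (zpowers v : Set G) := by
      intro g hg
      refine mem_normalizer_fintype ?_
      rintro _ ⟨i, rfl⟩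
      show g * v ^ i * g⁻¹ ∈ _
      rw [← conj_zpow]
      refine zpow_mem (mem_zpowers_of_normalizing (by norm_num : Nat.Prime 29)
        (H := centralizer ({w43} : Set G)) (mem_centralizer_singleton_iff.2 hvw) hv ?_
        (by rw [← MulAut.conj_apply, MulEquiv.orderOf_eq, hv]) (by rw [hC]; norm_num) hle) i
      refine mem_centralizer_singleton_iff.2 ?_
      obtain ⟨j, hj⟩ := (Subgroup.mem_normalizer_iff.1 (inv_mem hg) w43).1 (mem_zpowers _)
      have hj' : w43 ^ j = g⁻¹ * w43 * g⁻¹⁻¹ := hj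
      have hc : v * (g⁻¹ * w43 * g⁻¹⁻¹) = g⁻¹ * w43 * g⁻¹⁻¹ * v := by
        rw [← hj']; exact ((show Commute v w43 from hvw).zpow_right j).eq
      calc g * v * g⁻¹ * w43 = g * (v * (g⁻¹ * w43 * g⁻¹⁻¹)) * g⁻¹ := by group
        _ = g * (g⁻¹ * w43 * g⁻¹⁻¹ * v) * g⁻¹ := by rw [hc]
        _ = _ := by group
    have hd := Subgroup.card_dvd_of_le hN
    rw [n43, (hall m29 w29 h29 43 c29 v hv).2, Large.idx_spec.2.2.2.2.2.2.2.1,
      Large.idx_spec.2.2.2.2.2.2.2.2.1] at hd
    norm_num at hd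
  obtain ⟨rfl, rfl⟩ := e11
  subst e37
  refine ⟨u, d23, 1, d31, 1, 1, hu, hall m23 w23 h23 _ c23, hall m29 w29 h29 _ c29, hall m31 u hu _ c31,
    hall m37 w37 h37 _ c37, hall m43 w43 h43 _ c43, by simpa using e23, rfl, by simpa using e31, rfl, rfl⟩

/-- No element of order thirty-one commutes with one of order eleven. -/
theorem not_eleven_thirtyone {w : G} (hw : orderOf w = 31)
    (hC : Nat.card ↥(centralizer ({w} : Set G)) = 31 * 11)
    (hN : Nat.card ↥(normalizer (zpowers w : Set G)) = 31 * 11 * 15) : False := by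
  haveI : Fact (Nat.Prime 3) := ⟨Nat.prime_three⟩
  have h11 : (11 : ℕ).Prime := by norm_num
  obtain ⟨y, hy, hyw, hd⟩ := exists_comm_of_dvd h11 (hC ▸ dvd_mul_left 11 31)
  have hC' : Nat.card ↥(centralizer ({w} : Set G)) = 11 * 31 := hC
  have hle := le_normalizer_of_count h11 (mem_centralizer_singleton_iff.2 hyw) hy hC' (by norm_num)
    (fun n hn hn1 => Large.count_unique.2.2 n (Large.mem_subProds _ (by
      intro p hp; fin_cases hp; norm_num) n (by simpa using hn)) hn1)
  obtain ⟨⟨g, hgN⟩, hg⟩ := exists_prime_orderOf_dvd_card' (G := ↥(normalizer (zpowers w : Set G))) 3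
    (by rw [hN]; norm_num)
  rw [Subgroup.orderOf_mk] at hg
  have hgy : g * y * g⁻¹ ∈ zpowers y := by
    refine mem_zpowers_of_normalizing h11 (mem_centralizer_singleton_iff.2 hyw) hy ?_
      (by rw [← MulAut.conj_apply, MulEquiv.orderOf_eq, hy]) (by rw [hC]; norm_num) hle
    refine mem_centralizer_singleton_iff.2 ?_
    obtain ⟨j, hj⟩ := (Subgroup.mem_normalizer_iff.1 (inv_mem hgN) w).1 (mem_zpowers _)
    have hj' : w ^ j = g⁻¹ * w * g⁻¹⁻¹ := hj
    have hc : y * (g⁻¹ * w * g⁻¹⁻¹) = g⁻¹ * w * g⁻¹⁻¹ * y := by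
      rw [← hj']; exact ((show Commute y w from hyw).zpow_right j).eq
    calc g * y * g⁻¹ * w = g * (y * (g⁻¹ * w * g⁻¹⁻¹)) * g⁻¹ := by group
      _ = g * (g⁻¹ * w * g⁻¹⁻¹ * y) * g⁻¹ := by rw [hc]
      _ = _ := by group
  obtain ⟨k, hk⟩ := (mem_powers_iff_mem_zpowers).2 hgy
  have hk' : g * y * g⁻¹ = y ^ k := hk.symm
  have h3 : y ^ (k * (k * k)) = y := by
    have e : g ^ 3 = 1 := by rw [← hg, pow_orderOf_eq_one]
    calc y ^ (k * (k * k)) = ((y ^ k) ^ k) ^ k := by rw [← pow_mul, ← pow_mul]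
      _ = (g * (g * y * g⁻¹) * g⁻¹) ^ k := by rw [hk', ← conj_pow, hk']
      _ = g * (g * (g * y * g⁻¹) * g⁻¹) * g⁻¹ := by rw [conj_pow, conj_pow, ← hk']
      _ = g * g * g * y * (g * g * g)⁻¹ := by group
      _ = y := by rw [show g * g * g = 1 by rw [← e, pow_succ, pow_two]]; group
  have hk1 : k % 11 = 1 := by
    have h := pow_eq_pow_iff_modEq.1 (h3.trans (pow_one y).symm)
    rw [hy, Nat.ModEq, Nat.mul_mod, Nat.mul_mod k k] at h
    have htab : ∀ r < 11, r * (r * r % 11) % 11 = 1 % 11 → r = 1 := by decide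
    exact htab _ (Nat.mod_lt _ (by norm_num)) (by simpa [Nat.mul_mod] using h)
  have hcomm : g * y = y * g := by
    rw [← pow_mod_orderOf, hy, hk1, pow_one] at hk'
    exact mul_inv_eq_iff_eq_mul.1 hk'
  rw [hw, L.eleven_of_three hord hg hy hcomm] at hd
  norm_num at hd

/-- No element of order twenty-three commutes with one of order eleven. -/
theorem not_eleven_twentythree {w : G} (hw : orderOf w = 23)
    (hC : Nat.card ↥(centralizer ({w} : Set G)) = 23 * 11)
    (hN : Nat.card ↥(normalizer (zpowers w : Set G)) = 23 * 11 * 2)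
    (hlarge : ∀ q ∈ [29, 31, 37, 43], ∀ v : G, orderOf v = q → ¬ 11 ∣ Nat.card ↥(centralizer ({v} : Set G))) :
    False := by
  have h11 : (11 : ℕ).Prime := by norm_num
  haveI : Fact (Nat.Prime 11) := ⟨h11⟩
  obtain ⟨y, hy, hyw, hd⟩ := exists_comm_of_dvd h11 (hC ▸ dvd_mul_left 11 23)
  rw [hw] at hd
  set Y := centralizer ({y} : Set G) with hY
  set K := L.S.K
  have hnX : Nat.card ↥Y ≠ 31944 := fun h => by rw [h] at hd; norm_num at hd
  -- a conjugate in the core
  obtain ⟨U, hU⟩ := K.exists_sylow L.S.card_O L.S.card_X hord L.S.other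
  obtain ⟨T, hT⟩ := IsPGroup.exists_le_sylow (P := zpowers y)
    (IsPGroup.of_card (n := 1) (by rw [Nat.card_zpowers, hy, pow_one]))
  obtain ⟨g, hg⟩ := MulAction.exists_smul_eq G T U
  set a := g * y * g⁻¹ with ha
  have haO : a ∈ K.O := by rw [← hU, ← hg]; exact ⟨y, hT (mem_zpowers y), rfl⟩
  have hao : orderOf a = 11 := by rw [ha, ← MulAut.conj_apply, MulEquiv.orderOf_eq, hy]
  have hca : Nat.card ↥Y = Nat.card ↥(centralizer ({a} : Set G)) :=
    card_cent_of_isConj (isConj_iff.2 ⟨g, rfl⟩)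
  have haZ : a ∉ zpowers (L.S.F.c : G) := fun h => hnX (by
    rw [hca, centralizer_eq_of_zpowers_eq (zpowers_eq_of_mem h11 hao L.S.F.order' h), L.S.card_X])
  -- the Sylow subgroup of the centraliser has order 121
  have h121 : 121 ∣ Nat.card ↥Y := by
    have hN' : zpowers a ≤ normalizer (zpowers (L.S.F.c : G) : Set G) := by
      refine zpowers_le.2 (mem_normalizer_fintype ?_)
      rintro _ ⟨i, rfl⟩
      show a * (L.S.F.c : G) ^ i * a⁻¹ ∈ _
      rw [((show Commute a (L.S.F.c : G) from K.x_comm haO).zpow_right i).eq, mul_inv_cancel_right]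
      exact zpow_mem (mem_zpowers _) i
    have hinf : (zpowers a ⊓ zpowers (L.S.F.c : G) : Subgroup G) = ⊥ := by
      refine (Subgroup.eq_bot_iff_forall _).2 fun b hb => ?_
      by_contra hb1
      have hbo : orderOf b = 11 := ((Nat.dvd_prime h11).1 (hao ▸ orderOf_dvd_of_mem_zpowers hb.1)).resolve_left
        (fun e => hb1 (orderOf_eq_one_iff.1 e))
      refine haZ ?_
      rw [← zpowers_eq_of_mem h11 hbo L.S.F.order' hb.2, zpowers_eq_of_mem h11 hbo hao hb.1]
      exact mem_zpowers a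
    have h := CLarge.card_of_coe_sup_eq (coe_mul_of_left_le_normalizer_right _ _ hN')
    rw [hinf, Subgroup.card_bot, mul_one, Nat.card_zpowers, Nat.card_zpowers, hao, L.S.F.order'] at h
    rw [hca, show (121 : ℕ) = 11 * 11 from rfl, ← h]
    exact Subgroup.card_dvd_of_le (sup_le (zpowers_le.2 (mem_centralizer_singleton_iff.2 rfl))
      (zpowers_le.2 (mem_centralizer_singleton_iff.2 (K.x_comm haO).symm)))
  have h1331 : ¬ 11 ^ 3 ∣ Nat.card ↥Y := by
    obtain ⟨y₀, hy₀, hsmall, -⟩ := L.S.other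
    obtain ⟨T₀, hT₀⟩ := IsPGroup.exists_le_sylow (P := zpowers y₀)
      (IsPGroup.of_card (n := 1) (by rw [Nat.card_zpowers, hy₀, pow_one]))
    obtain ⟨g₀, hg₀⟩ := MulAction.exists_smul_eq G T₀ U
    set b := g₀ * y₀ * g₀⁻¹ with hb
    have hbO : b ∈ K.O := by rw [← hU, ← hg₀]; exact ⟨y₀, hT₀ (mem_zpowers y₀), rfl⟩
    have hbo : orderOf b = 11 := by rw [hb, ← MulAut.conj_apply, MulEquiv.orderOf_eq, hy₀]
    have hbc : Nat.card ↥(centralizer ({y₀} : Set G)) = Nat.card ↥(centralizer ({b} : Set G)) :=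
      card_cent_of_isConj (isConj_iff.2 ⟨g₀, rfl⟩)
    have hbZ : b ∉ zpowers (L.S.F.c : G) := fun h => hsmall (by
      rw [hbc, centralizer_eq_of_zpowers_eq (zpowers_eq_of_mem h11 hbo L.S.F.order' h), L.S.card_X]
      norm_num)
    rwa [hca, card_cent_of_isConj (L.S.conj_noncentral hord haO haZ hbO hbZ), ← hbc]
  obtain ⟨m, hm⟩ := Nat.Coprime.mul_dvd_of_dvd_of_dvd (show Nat.Coprime 121 23 by norm_num) h121 hd
  have hmG : 2783 * m ∣ Nat.card G := hm ▸ Subgroup.card_subgroup_dvd_card Y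
  have hno : ∀ q ∈ [3, 5, 7, 11, 23, 29, 31, 37, 43], ¬ q ∣ m := by
    intro q hq hqm
    have hqY : q ∣ Nat.card ↥Y := hm ▸ hqm.mul_left _
    have hqp : q.Prime := by fin_cases hq <;> norm_num
    obtain ⟨v, hv, hvy, hdv⟩ := exists_comm_of_dvd hqp hqY
    rw [hy] at hdv
    simp only [List.mem_cons, List.not_mem_nil, or_false] at hq
    rcases hq with rfl | rfl | rfl | rfl | rfl | rfl | rfl | rfl | rfl
    · exact hnX (L.eleven_of_three hord hv hy hvy)
    · rw [L.S.cent_five v hv] at hdv; norm_num at hdv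
    · rw [L.seven v hv] at hdv; norm_num at hdv
    · exact h1331 (by
        obtain ⟨k, rfl⟩ := hqm
        exact ⟨23 * k, by rw [hm]; ring⟩)
    · obtain ⟨k, rfl⟩ := hqm
      have : 23 * 23 ∣ Nat.card G := dvd_trans ⟨121 * k, by ring⟩ hmG
      rw [hord] at this
      norm_num at this
    all_goals exact hlarge _ (by decide) v hv hdv
  have hm2 : m ∣ 2 ^ 21 := by
    have hcop : Nat.Coprime m (3 ^ 3 * 5 * 7 * 11 * 29 * 31 * 37 * 43) := by
      refine Nat.coprime_of_dvd fun q hq hqm hqk => ?_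
      have hmem : q ∈ [3, 5, 7, 11, 29, 31, 37, 43] := by
        simp only [hq.dvd_mul] at hqk
        rcases hqk with ((((((h | h) | h) | h) | h) | h) | h) | h
        · rw [(Nat.prime_dvd_prime_iff_eq hq Nat.prime_three).1 (hq.dvd_of_dvd_pow h)]; simp
        all_goals rw [(Nat.prime_dvd_prime_iff_eq hq (by norm_num)).1 h]; simp
      exact hno q (by fin_cases hmem <;> decide) hqm
    refine hcop.dvd_of_dvd_mul_right ((Nat.mul_dvd_mul_iff_left (show 0 < 2783 by norm_num)).1
      (hmG.trans (dvd_of_eq ?_)))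
    rw [hord]
    norm_num
  obtain ⟨i, hi, rfl⟩ := (Nat.dvd_prime_pow Nat.prime_two).1 hm2
  -- the normaliser of the element of order twenty-three inside
  have hwY : w ∈ Y := mem_centralizer_singleton_iff.2 hyw.symm
  have hY23 : Nat.card ↥Y = 23 * (121 * 2 ^ i) := by rw [hm]; ring
  obtain ⟨n, -, hn1, hn⟩ := exists_count (by norm_num : Nat.Prime 23) hwY hw hY23 (fun h => by
    rcases (Nat.Prime.dvd_mul (by norm_num)).1 h with h | h
    · norm_num at h
    · exact absurd ((Nat.Prime.dvd_of_dvd_pow (by norm_num : Nat.Prime 23)) h) (by norm_num))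
  have hCY : centralizer ({w} : Set G) ≤ Y := by
    have hle : zpowers w ⊔ zpowers y ≤ centralizer ({w} : Set G) := sup_le
      (zpowers_le.2 (mem_centralizer_singleton_iff.2 rfl)) (zpowers_le.2 (mem_centralizer_singleton_iff.2 hyw))
    have hd' : 23 * 11 ∣ Nat.card ↥(zpowers w ⊔ zpowers y : Subgroup G) :=
      Nat.Coprime.mul_dvd_of_dvd_of_dvd (by norm_num)
        (hw ▸ Subgroup.orderOf_dvd_natCard _ (mem_sup_left (mem_zpowers w)))
        (hy ▸ Subgroup.orderOf_dvd_natCard _ (mem_sup_right (mem_zpowers y)))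
    rw [← Subgroup.eq_of_le_of_card_ge hle (by rw [hC]; exact Nat.le_of_dvd Nat.card_pos hd')]
    exact sup_le (zpowers_le.2 hwY) (zpowers_le.2 (mem_centralizer_singleton_iff.2 rfl))
  have hlo := Subgroup.card_dvd_of_le (le_inf (le_trans (by
    rw [Subgroup.zpowers_eq_closure, ← Subgroup.centralizer_closure]) (centralizer_le_normalizer _)) hCY :
    centralizer ({w} : Set G) ≤ normalizer (zpowers w : Set G) ⊓ Y)
  have hhi := Subgroup.card_dvd_of_le
    (inf_le_left : normalizer (zpowers w : Set G) ⊓ Y ≤ normalizer (zpowers w : Set G))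
  rw [hN] at hhi
  rw [hC] at hlo
  obtain ⟨j, hj⟩ := hlo
  rw [hj] at hhi hn
  have hj2 : j ∣ 2 := (Nat.mul_dvd_mul_iff_left (show 0 < 23 * 11 by norm_num)).1 hhi
  refine Large.no_count i hi (253 * j) ?_ n (by
    have h := hn
    rw [hY23] at h
    calc 253 * j * n = 23 * 11 * j * n := by norm_num
      _ = _ := h
      _ = _ := by ring) hn1
  rcases (Nat.dvd_prime Nat.prime_two).1 hj2 with rfl | rfl <;> simp

/-- The centraliser and normaliser of each element of large prime order. -/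
theorem large_orders : ∀ r ∈ [23, 29, 31, 37, 43], ∀ w : G, orderOf w = r →
    Nat.card ↥(centralizer ({w} : Set G)) = r ∧
      Nat.card ↥(normalizer (zpowers w : Set G)) = r * Large.idx r 1 := by
  obtain ⟨u, d23, d29, d31, d37, d43, hu, f23, f29, f31, f37, f43, e23, rfl, e31, rfl, rfl⟩ :=
    L.exists_indices hord
  have e31' : d31 = 1 := by
    simp only [List.mem_cons, List.not_mem_nil, or_false] at e31
    refine e31.resolve_right fun e => ?_
    subst e
    obtain ⟨hC, hN⟩ := f31 u hu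
    exact L.not_eleven_thirtyone hord hu hC (by rw [hN, Large.idx_spec.2.2.2.2.2.2.2.2.2.1])
  subst e31'
  have e23' : d23 = 1 := by
    simp only [List.mem_cons, List.not_mem_nil, or_false] at e23
    refine e23.resolve_right fun e => ?_
    subst e
    haveI : Fact (Nat.Prime 23) := ⟨by norm_num⟩
    obtain ⟨w, hw⟩ := exists_prime_orderOf_dvd_card' (G := G) 23 (by rw [hord]; norm_num)
    obtain ⟨hC, hN⟩ := f23 w hw
    refine L.not_eleven_twentythree hord hw hC (by rw [hN, Large.idx_spec.2.2.2.2.2.2.2.2.2.2]) ?_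
    intro q hq v hv
    simp only [List.mem_cons, List.not_mem_nil, or_false] at hq
    rcases hq with rfl | rfl | rfl | rfl
    · rw [(f29 v hv).1]; norm_num
    · rw [(f31 v hv).1]; norm_num
    · rw [(f37 v hv).1]; norm_num
    · rw [(f43 v hv).1]; norm_num
  subst e23'
  intro r hr w hw
  simp only [List.mem_cons, List.not_mem_nil, or_false] at hr
  rcases hr with rfl | rfl | rfl | rfl | rfl
  · simpa using f23 w hw
  · simpa using f29 w hw
  · simpa using f31 w hw
  · simpa using f37 w hw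
  · simpa using f43 w hw

/-- The Sylow subgroup for each large prime is self-centralising, with the normaliser order. -/
theorem sylow_large {p : ℕ} [Fact p.Prime] (hp : p ∈ [23, 29, 31, 37, 43]) {k : ℕ} (hk : Large.idx p 1 = k)
    (U : Sylow p G) :
    centralizer ((U : Subgroup G) : Set G) = (U : Subgroup G) ∧
      Nat.card ↥(normalizer ((U : Subgroup G) : Set G)) = p * k := by
  have hU : Nat.card ↥(U : Subgroup G) = p := by rw [Sylow.card_eq_multiplicity, L.fac_one hord hp, pow_one]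
  obtain ⟨w, hw⟩ := exists_prime_orderOf_dvd_card' (G := ↥(U : Subgroup G)) p (dvd_of_eq hU.symm)
  have hw' : orderOf (w : G) = p := by rw [Subgroup.orderOf_coe, hw]
  have heq : zpowers (w : G) = (U : Subgroup G) :=
    Subgroup.eq_of_le_of_card_ge (zpowers_le.2 w.2) (by rw [Nat.card_zpowers, hw', hU])
  obtain ⟨hC, hN⟩ := L.large_orders hord p hp (w : G) hw'
  rw [← heq]
  refine ⟨?_, by rw [hN, hk]⟩
  rw [Subgroup.zpowers_eq_closure, Subgroup.centralizer_closure, ← Subgroup.zpowers_eq_closure]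
  exact (Subgroup.eq_of_le_of_card_ge (zpowers_le.2 (mem_centralizer_singleton_iff.2 rfl))
    (by rw [hC, Nat.card_zpowers, hw'])).symm

end Model.LargeSetup

end Cfsg.Agent.JankoFour
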