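import Cfsg.Agent.Lib.JankoFour.ElevenClasses
import Cfsg.Agent.Lib.JankoFour.LargeMain

/-!
The statements at eleven and at the large primes, given the order of the group.
-/

set_option autoImplicit false

namespace Cfsg.Agent.JankoFour

variable {G : Type*} [Group G] [Finite G]

theorem two_classes_eleven_of_order [IsSimpleGroup G] (hG : ¬ IsMulCommutative G)
    (hJ : Cfsg.IsOfJankoFourType G) (hord : Nat.card G = 86775571046077562880) :
    ∃ x y : G, orderOf x = 11 ∧ orderOf y = 11 ∧ ¬ IsConj x y ∧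
      ∀ w : G, orderOf w = 11 → IsConj w x ∨ IsConj w y := by
  obtain ⟨z, P, hP⟩ := hJ
  obtain ⟨M, ⟨S⟩⟩ := exists_eleven_setup hG hP hord
  exact S.two_classes hord

theorem sylow_eleven_of_order [IsSimpleGroup G] (hG : ¬ IsMulCommutative G)
    (hJ : Cfsg.IsOfJankoFourType G) (hord : Nat.card G = 86775571046077562880) (U : Sylow 11 G) :
    Cfsg.IsExtraspecial 11 ↥(U : Subgroup G) ∧ Nat.card ↥(U : Subgroup G) = 11 ^ 3 ∧
      Monoid.exponent ↥(U : Subgroup G) = 11 ∧
      Nat.card ↥(Subgroup.normalizer ((U : Subgroup G) : Set G)) = 2 ^ 4 * 3 * 5 * 11 ^ 3 ∧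
      ∃ K : Subgroup G, K ≤ Subgroup.normalizer ((U : Subgroup G) : Set G) ∧
        Nonempty (↥K ≃* GL (Fin 2) (ZMod 3)) := by
  obtain ⟨z, P, hP⟩ := hJ
  obtain ⟨M, ⟨S⟩⟩ := exists_eleven_setup hG hP hord
  exact S.sylow_structure hord U

theorem sylow_large_of_order [IsSimpleGroup G] (hG : ¬ IsMulCommutative G)
    (hJ : Cfsg.IsOfJankoFourType G) (hord : Nat.card G = 86775571046077562880) :
    (∀ U : Sylow 23 G, Subgroup.centralizer ((U : Subgroup G) : Set G) = (U : Subgroup G) ∧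
      Nat.card ↥(Subgroup.normalizer ((U : Subgroup G) : Set G)) = 23 * 22) ∧
    (∀ U : Sylow 29 G, Subgroup.centralizer ((U : Subgroup G) : Set G) = (U : Subgroup G) ∧
      Nat.card ↥(Subgroup.normalizer ((U : Subgroup G) : Set G)) = 29 * 28) ∧
    (∀ U : Sylow 31 G, Subgroup.centralizer ((U : Subgroup G) : Set G) = (U : Subgroup G) ∧
      Nat.card ↥(Subgroup.normalizer ((U : Subgroup G) : Set G)) = 31 * 10) ∧
    (∀ U : Sylow 37 G, Subgroup.centralizer ((U : Subgroup G) : Set G) = (U : Subgroup G) ∧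
      Nat.card ↥(Subgroup.normalizer ((U : Subgroup G) : Set G)) = 37 * 12) ∧
    (∀ U : Sylow 43 G, Subgroup.centralizer ((U : Subgroup G) : Set G) = (U : Subgroup G) ∧
      Nat.card ↥(Subgroup.normalizer ((U : Subgroup G) : Set G)) = 43 * 14) := by
  obtain ⟨z, P, hP⟩ := hJ
  obtain ⟨M, ⟨L⟩⟩ := exists_large_setup hG hP hord
  haveI : Fact (Nat.Prime 23) := ⟨by norm_num⟩
  haveI : Fact (Nat.Prime 29) := ⟨by norm_num⟩
  haveI : Fact (Nat.Prime 31) := ⟨by norm_num⟩
  haveI : Fact (Nat.Prime 37) := ⟨by norm_num⟩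
  haveI : Fact (Nat.Prime 43) := ⟨by norm_num⟩
  exact ⟨L.sylow_large hord (by decide) Large.idx_spec.1, L.sylow_large hord (by decide) Large.idx_spec.2.1,
    L.sylow_large hord (by decide) Large.idx_spec.2.2.1, L.sylow_large hord (by decide) Large.idx_spec.2.2.2.1,
    L.sylow_large hord (by decide) Large.idx_spec.2.2.2.2.1⟩

end Cfsg.Agent.JankoFour
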