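import Cfsg.Agent.Lib.Golay.Local.M22Small
import Cfsg.Agent.Lib.Golay.Mathieu

/-!
The Sylow 3-subgroup of M22: elementary of order nine, self-centralising, normaliser of order 72, one class of
elements of order three.
-/

set_option autoImplicit false
set_option maxRecDepth 100000

namespace Cfsg.Agent.JankoFour.M22Three

open Cfsg Cfsg.Agent.PermCert Cfsg.Agent.Golay Cfsg.Agent.Golay.SB Cfsg.Agent.Golay.Local Subgroup

/-- An element of order three. -/
def eA : Elt := (972520280773376819351442180740321984, 957262678457505710205616802756805024)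

/-- An element of order three commuting with the first. -/
def eB : Elt := (984195670858271961215613998218231840, 984512697396414854595068535821864992)

/-- An element of order four in the normaliser. -/
def eS : Elt := (976651986134213738232047559952663616, 960918912101958078351020334798439488)

/-- A second element of order four in the normaliser. -/
def eT : Elt := (973621711934098898941549379780424352, 963237360852872293924422926803244704)

/-- The code of a product of powers of the two generators. -/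
def rCode (k : ℕ) : ℕ :=
  cmpF ((List.range (k / 3)).foldr (fun _ r => cmpF eA.1 r) idC) ((List.range (k % 3)).foldr (fun _ r => cmpF eB.1 r) idC)

/-- The stabiliser signature of a point. -/
def sig (p : ℕ) : List Bool := (List.range 9).map fun k => Nat.beq (get 5 (rCode k) p) p

/-- The code of a word in the two normalising elements. -/
def wCode : List Bool → ℕ
  | [] => idC
  | b :: l => cmpF (bif b then eS.1 else eT.1) (wCode l)

/-- Words carrying the first generator to the others. -/
def words : List (List Bool) :=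
  [[], [true], [false], [true, true], [false, true], [true, false], [true, true, true], [false, false, false],
   [true, true, false], [false, true, true]]

theorem ok_mem : inG eA = true ∧ inG eB = true ∧ inG eS = true ∧ inG eT = true := by decide +kernel

theorem ok_rels : sameF (cmpF eA.1 (cmpF eA.1 eA.1)) idC = true ∧ sameF (cmpF eB.1 (cmpF eB.1 eB.1)) idC = true ∧
    sameF (cmpF eA.1 eB.1) (cmpF eB.1 eA.1) = true := by decide +kernel

theorem ok_distinct : ((List.range 9).all fun k => Nat.beq k 0 || !(sameF (rCode k) idC)) = true := by decide +kernel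

theorem ok_norm : sameF (cmpF eS.1 eA.1) (cmpF (rCode 5) eS.1) = true ∧ sameF (cmpF eS.1 eB.1) (cmpF (rCode 8) eS.1) = true ∧
    sameF (cmpF eT.1 eA.1) (cmpF (rCode 4) eT.1) = true ∧ sameF (cmpF eT.1 eB.1) (cmpF (rCode 5) eT.1) = true := by
  decide +kernel

theorem ok_trans : ((List.range 9).all fun k => Nat.beq k 0 ||
    words.any fun w => sameF (cmpF (wCode w) eA.1) (cmpF (rCode k) (wCode w))) = true := by decide +kernel

theorem ok_sig : ((List.range 24).all fun p => (List.range 24).all fun q => !(sig p == sig q) ||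
    ((List.range 9).any fun k => Nat.beq (get 5 (rCode k) p) q) ||
    ((p == 0 || p == 17 || p == 23) && (q == 0 || q == 17 || q == 23))) = true := by decide +kernel

attribute [local irreducible] cmpF eA eB eS eT idC

abbrev MM : Type := ↥Spor.M22

theorem permOf_mem {e : Elt} (h : inG e = true) : permOf e ∈ Spor.M22 := by
  rw [← pG_gG h]
  have := stdG_mem_pts (gG e)
  rw [show pt 23 = none by decide, show pt 0 = some 0 by decide] at this
  exact ⟨⟨(gG e : M24).2, this.1⟩, this.2⟩

/-- The first generator. -/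
noncomputable def a : MM := ⟨permOf eA, permOf_mem ok_mem.1⟩

/-- The second generator. -/
noncomputable def b : MM := ⟨permOf eB, permOf_mem ok_mem.2.1⟩

/-- The first normalising element. -/
noncomputable def s : MM := ⟨permOf eS, permOf_mem ok_mem.2.2.1⟩

/-- The second normalising element. -/
noncomputable def t : MM := ⟨permOf eT, permOf_mem ok_mem.2.2.2⟩

theorem code_a : Code eA.1 (a : Equiv.Perm GolayPt) := code_permOf (eltOK_of_inG ok_mem.1).2
theorem code_b : Code eB.1 (b : Equiv.Perm GolayPt) := code_permOf (eltOK_of_inG ok_mem.2.1).2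
theorem code_s : Code eS.1 (s : Equiv.Perm GolayPt) := code_permOf (eltOK_of_inG ok_mem.2.2.1).2
theorem code_t : Code eT.1 (t : Equiv.Perm GolayPt) := code_permOf (eltOK_of_inG ok_mem.2.2.2).2

theorem code_pow {e : ℕ} {g : MM} (h : Code e (g : Equiv.Perm GolayPt)) (k : ℕ) :
    Code ((List.range k).foldr (fun _ r => cmpF e r) idC) ((g ^ k : MM) : Equiv.Perm GolayPt) := by
  have : ∀ l : List ℕ, Code (l.foldr (fun _ r => cmpF e r) idC) ((g ^ l.length : MM) : Equiv.Perm GolayPt) := by
    intro l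
    induction l with
    | nil => rw [List.foldr_nil, List.length_nil, pow_zero]; exact code_idC
    | cons x l ih => rw [List.foldr_cons, List.length_cons, pow_succ']; exact h.cmp ih
  simpa using this (List.range k)

theorem eq_of_same {x y : ℕ} {g g' : MM} (hx : Code x (g : Equiv.Perm GolayPt)) (hy : Code y (g' : Equiv.Perm GolayPt))
    (h : sameF x y = true) : g = g' :=
  Subtype.ext ((sameF_iff hx hy).1 h)

/-- The elements of the Sylow subgroup. -/
noncomputable def el (k : ℕ) : MM := a ^ (k / 3) * b ^ (k % 3)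

theorem code_el (k : ℕ) : Code (rCode k) (el k : Equiv.Perm GolayPt) :=
  (code_pow code_a _).cmp (code_pow code_b _)

theorem a_cube : a ^ 3 = 1 := by
  rw [pow_succ', pow_two]
  exact eq_of_same (code_a.cmp (code_a.cmp code_a)) code_idC ok_rels.1

theorem b_cube : b ^ 3 = 1 := by
  rw [pow_succ', pow_two]
  exact eq_of_same (code_b.cmp (code_b.cmp code_b)) code_idC ok_rels.2.1

theorem a_comm_b : Commute a b := eq_of_same (code_a.cmp code_b) (code_b.cmp code_a) ok_rels.2.2

theorem el_mod (i j : ℕ) : a ^ i * b ^ j = el (i % 3 * 3 + j % 3) := by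
  rw [el, pow_eq_pow_mod i a_cube, pow_eq_pow_mod j b_cube]
  congr 2 <;> omega

theorem el_mul (k l : ℕ) : el k * el l = el ((k / 3 + l / 3) % 3 * 3 + (k % 3 + l % 3) % 3) := by
  rw [← el_mod, el, el, pow_add, pow_add]
  calc a ^ (k / 3) * b ^ (k % 3) * (a ^ (l / 3) * b ^ (l % 3))
      = a ^ (k / 3) * (b ^ (k % 3) * a ^ (l / 3)) * b ^ (l % 3) := by group
    _ = a ^ (k / 3) * (a ^ (l / 3) * b ^ (k % 3)) * b ^ (l % 3) := by rw [(a_comm_b.pow_pow _ _).eq]
    _ = _ := by group

theorem el_zero : el 0 = 1 := by simp [el]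

theorem el_cube (k : ℕ) : el k ^ 3 = 1 := by
  rw [el, (a_comm_b.pow_pow _ _).mul_pow, ← pow_mul, ← pow_mul, mul_comm (k / 3), mul_comm (k % 3), pow_mul, pow_mul,
    a_cube, b_cube, one_pow, one_pow, one_mul]

theorem idx_bound (i j : ℕ) : i % 3 * 3 + j % 3 < 9 := by omega

theorem idx_inj : ∀ k l : Fin 9, ((k : ℕ) / 3 + ((((l : ℕ) / 3 + (l : ℕ) / 3) % 3 * 3 + ((l : ℕ) % 3 + (l : ℕ) % 3) % 3)) / 3) % 3 * 3 +
    ((k : ℕ) % 3 + (((l : ℕ) / 3 + (l : ℕ) / 3) % 3 * 3 + ((l : ℕ) % 3 + (l : ℕ) % 3) % 3) % 3) % 3 = 0 → k = l := by decide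

/-- The Sylow subgroup. -/
noncomputable def R : Subgroup MM where
  carrier := {x | ∃ k < 9, el k = x}
  mul_mem' := by
    rintro _ _ ⟨k, -, rfl⟩ ⟨l, -, rfl⟩
    exact ⟨_, by omega, (el_mul k l).symm⟩
  one_mem' := ⟨0, by norm_num, el_zero⟩
  inv_mem' := by
    rintro _ ⟨k, -, rfl⟩
    refine ⟨_, idx_bound (k / 3 + k / 3) (k % 3 + k % 3), ?_⟩
    rw [← el_mul, eq_inv_iff_mul_eq_one, ← pow_three']
    exact el_cube k

theorem el_mem {k : ℕ} (hk : k < 9) : el k ∈ R := ⟨k, hk, rfl⟩

theorem a_mem : a ∈ R := ⟨3, by norm_num, by simp [el]⟩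
theorem b_mem : b ∈ R := ⟨1, by norm_num, by simp [el]⟩

theorem el_eq_one {k : ℕ} (hk : k < 9) (h : el k = 1) : k = 0 := by
  have := List.all_eq_true.1 ok_distinct k (List.mem_range.2 hk)
  simp only [Bool.or_eq_true, Nat.beq_eq, Bool.not_eq_true'] at this
  rcases this with e | e
  · exact e
  · rw [(sameF_iff (code_el k) code_idC).2 (congrArg Subtype.val h)] at e
    exact absurd e (by simp)

theorem card_R : Nat.card ↥R = 9 := by
  have hb : Function.Bijective (fun k : Fin 9 => (⟨el k, el_mem k.2⟩ : ↥R)) := by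
    refine ⟨fun k l h => ?_, fun x => ?_⟩
    · have e : el k = el l := congrArg Subtype.val h
      have h2 : el k * (el l * el l) = 1 := by rw [e, ← pow_three]; exact el_cube l
      rw [el_mul, el_mul] at h2
      exact idx_inj k l (el_eq_one (idx_bound _ _) h2)
    · obtain ⟨x, k, hk, rfl⟩ := x
      exact ⟨⟨k, hk⟩, rfl⟩
  rw [← Nat.card_congr (Equiv.ofBijective _ hb), Nat.card_fin]

theorem R_cube {x : MM} (hx : x ∈ R) : x ^ 3 = 1 := by
  obtain ⟨k, -, rfl⟩ := hx
  exact el_cube k

theorem R_comm {x y : MM} (hx : x ∈ R) (hy : y ∈ R) : x * y = y * x := by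
  obtain ⟨k, -, rfl⟩ := hx
  obtain ⟨l, -, rfl⟩ := hy
  rw [el_mul, el_mul]
  congr 1
  omega

theorem R_three : IsPGroup 3 ↥R := IsPGroup.of_card (n := 2) (by rw [card_R]; norm_num)

theorem le_R {K : Subgroup MM} (hK : IsPGroup 3 ↥K) (hRK : R ≤ K) : K = R := by
  haveI : Fact (Nat.Prime 3) := ⟨Nat.prime_three⟩
  refine (eq_of_le_of_card_ge hRK ?_).symm
  obtain ⟨n, hn⟩ := hK.exists_card_eq
  have hd := K.card_subgroup_dvd_card
  rw [hn, Golay.card_sporM22] at hd
  have : n ≤ 2 := by
    by_contra h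
    exact absurd ((pow_dvd_pow 3 (show 3 ≤ n by omega)).trans hd) (by decide)
  rw [hn, card_R]
  calc 3 ^ n ≤ 3 ^ 2 := Nat.pow_le_pow_right (by norm_num) this
    _ = 9 := by norm_num

/-- The Sylow subgroup as a Sylow subgroup. -/
noncomputable def syl : Sylow 3 MM := ⟨R, R_three, fun hK hRK => le_R hK hRK⟩

theorem exists_conj_into {K : Subgroup MM} (hK : IsPGroup 3 ↥K) : ∃ g : MM, ∀ x ∈ K, g * x * g⁻¹ ∈ R := by
  haveI : Fact (Nat.Prime 3) := ⟨Nat.prime_three⟩
  obtain ⟨S, hS⟩ := hK.exists_le_sylow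
  obtain ⟨g, hg⟩ := MulAction.exists_smul_eq MM S syl
  refine ⟨g, fun x hx => ?_⟩
  have : g * x * g⁻¹ ∈ (syl : Subgroup MM) := by
    rw [← hg, Sylow.coe_subgroup_smul]
    exact Subgroup.smul_mem_pointwise_smul _ (MulAut.conj g) _ (hS hx)
  exact this

theorem cube_of_three {x : MM} {n : ℕ} (hx : x ^ 3 ^ n = 1) : x ^ 3 = 1 := by
  obtain ⟨i, -, hi⟩ := (Nat.dvd_prime_pow Nat.prime_three).1 (orderOf_dvd_of_pow_eq_one hx)
  obtain ⟨g, hg⟩ := exists_conj_into (K := zpowers x) (IsPGroup.of_card (n := i) (by rw [Nat.card_zpowers, hi]))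
  have h := R_cube (hg x (mem_zpowers x))
  rwa [conj_pow, conj_eq_one_iff] at h

theorem code_word : ∀ w : List Bool, ∃ g ∈ normalizer (R : Set MM), Code (wCode w) (g : Equiv.Perm GolayPt) := by
  have hn : ∀ n : MM, n * a * n⁻¹ ∈ R → n * b * n⁻¹ ∈ R → n ∈ normalizer (R : Set MM) := fun n ha hb => by
    refine mem_normalizer_fintype fun x hx => ?_
    obtain ⟨k, -, rfl⟩ := hx
    rw [el, show n * (a ^ (k / 3) * b ^ (k % 3)) * n⁻¹ = (n * a * n⁻¹) ^ (k / 3) * (n * b * n⁻¹) ^ (k % 3) by
      rw [conj_pow, conj_pow]; group]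
    exact R.mul_mem (R.pow_mem ha _) (R.pow_mem hb _)
  obtain ⟨h1, h2, h3, h4⟩ := ok_norm
  have hs : s ∈ normalizer (R : Set MM) := by
    refine hn s ?_ ?_
    · rw [eq_of_same (g := s * a) (g' := el 5 * s) (code_s.cmp code_a) ((code_el 5).cmp code_s) h1, mul_inv_cancel_right]; exact el_mem (by norm_num)
    · rw [eq_of_same (g := s * b) (g' := el 8 * s) (code_s.cmp code_b) ((code_el 8).cmp code_s) h2, mul_inv_cancel_right]; exact el_mem (by norm_num)
  have ht : t ∈ normalizer (R : Set MM) := by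
    refine hn t ?_ ?_
    · rw [eq_of_same (g := t * a) (g' := el 4 * t) (code_t.cmp code_a) ((code_el 4).cmp code_t) h3, mul_inv_cancel_right]; exact el_mem (by norm_num)
    · rw [eq_of_same (g := t * b) (g' := el 5 * t) (code_t.cmp code_b) ((code_el 5).cmp code_t) h4, mul_inv_cancel_right]; exact el_mem (by norm_num)
  intro w
  induction w with
  | nil => exact ⟨1, one_mem _, code_idC⟩
  | cons c l ih =>
    obtain ⟨g, hg, hc⟩ := ih
    cases c
    · exact ⟨t * g, mul_mem ht hg, code_t.cmp hc⟩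
    · exact ⟨s * g, mul_mem hs hg, code_s.cmp hc⟩

theorem trans_R {x : MM} (hx : x ∈ R) (hx1 : x ≠ 1) : ∃ n ∈ normalizer (R : Set MM), n * a * n⁻¹ = x := by
  obtain ⟨k, hk, rfl⟩ := hx
  have := List.all_eq_true.1 ok_trans k (List.mem_range.2 hk)
  simp only [Bool.or_eq_true, Nat.beq_eq, List.any_eq_true] at this
  rcases this with e | ⟨w, -, e⟩
  · exact absurd (by rw [e, el_zero]) hx1
  obtain ⟨g, hg, hc⟩ := code_word w
  refine ⟨g, hg, ?_⟩
  rw [eq_of_same (g := g * a) (g' := el k * g) (hc.cmp code_a) ((code_el k).cmp hc) e, mul_inv_cancel_right]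

theorem conj_three {x y : MM} (hx : orderOf x = 3) (hy : orderOf y = 3) : IsConj x y := by
  have key : ∀ x : MM, orderOf x = 3 → IsConj a x := by
    intro x hx
    obtain ⟨g, hg⟩ := exists_conj_into (K := zpowers x) (IsPGroup.of_card (n := 1) (by rw [Nat.card_zpowers, hx]; norm_num))
    obtain ⟨n, -, hn⟩ := trans_R (hg x (mem_zpowers x)) (by
      rw [Ne, conj_eq_one_iff]
      intro e; rw [e, orderOf_one] at hx; omega)
    exact isConj_iff.2 ⟨g⁻¹ * n, by
      calc g⁻¹ * n * a * (g⁻¹ * n)⁻¹ = g⁻¹ * (n * a * n⁻¹) * g := by group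
        _ = x := by rw [hn]; group⟩
  exact (key x hx).symm.trans (key y hy)

theorem centralizer_R {c : MM} (hc : ∀ x ∈ R, c * x = x * c) : c ∈ R := by
  set σ := (c : Equiv.Perm GolayPt) with hσ
  have hcomm : ∀ k < 9, ∀ p, σ ((el k : Equiv.Perm GolayPt) p) = (el k : Equiv.Perm GolayPt) (σ p) := fun k hk p => by
    have := congrArg (fun g : MM => (g : Equiv.Perm GolayPt) p) (hc _ (el_mem hk))
    simpa using this
  have h0 : σ (pt 0) = pt 0 := by
    rw [show pt 0 = some 0 by decide]; exact c.2.2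
  have h23 : σ (pt 23) = pt 23 := by
    rw [show pt 23 = none by decide]; exact c.2.1.2
  have horb : ∀ p, ∃ k < 9, σ p = (el k : Equiv.Perm GolayPt) p := by
    intro p
    have hsig : sig (idx p) = sig (idx (σ p)) := by
      refine List.map_congr_left fun k hk => ?_
      have hk' := List.mem_range.1 hk
      rw [Bool.eq_iff_iff, Nat.beq_eq, Nat.beq_eq, code_el k p, code_el k (σ p), ← hcomm k hk' p]
      exact ⟨fun h => by rw [idx_injective h], fun h => congrArg idx (σ.injective (idx_injective h))⟩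
    have hp := List.all_eq_true.1 (List.all_eq_true.1 ok_sig _ (List.mem_range.2 (idx_lt p))) _ (List.mem_range.2 (idx_lt (σ p)))
    simp only [Bool.or_eq_true, Bool.and_eq_true, beq_iff_eq, hsig, beq_self_eq_true, Bool.not_true, Bool.false_eq_true,
      false_or] at hp
    rcases hp with h | ⟨h1, h2⟩
    · obtain ⟨k, hk, e⟩ := List.any_eq_true.1 h
      refine ⟨k, List.mem_range.1 hk, idx_injective ?_⟩
      rw [← Nat.eq_of_beq_eq_true e, code_el k p]
    · refine ⟨0, by norm_num, ?_⟩
      rw [el_zero, OneMemClass.coe_one, Equiv.Perm.one_apply]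
      have cases : ∀ q : GolayPt, (idx q = 0 ∨ idx q = 17) ∨ idx q = 23 → q = pt 0 ∨ q = pt 17 ∨ q = pt 23 := by decide
      rcases cases p h1 with rfl | rfl | rfl
      · exact h0
      · rcases cases _ h2 with e | e | e
        · exact absurd (σ.injective (e.trans h0.symm)) (by decide)
        · exact e
        · exact absurd (σ.injective (e.trans h23.symm)) (by decide)
      · exact h23
  have h3 : c ^ 3 = 1 := by
    refine Subtype.ext (Equiv.ext fun p => ?_)
    obtain ⟨k, hk, e⟩ := horb p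
    have e3 := congrArg (fun g : MM => (g : Equiv.Perm GolayPt) p) (el_cube k)
    simp only [pow_three, Subgroup.coe_mul, Equiv.Perm.mul_apply, OneMemClass.coe_one, Equiv.Perm.one_apply] at e3 ⊢
    show σ (σ (σ p)) = p
    rw [e, hcomm k hk, e, hcomm k hk, hcomm k hk, e]
    exact e3
  haveI : Fact (Nat.Prime 3) := ⟨Nat.prime_three⟩
  have hK : IsPGroup 3 ↥(R ⊔ zpowers c) := by
    refine R_three.to_sup_of_normal_left' ?_ ?_
    · intro x
      obtain ⟨k, hk⟩ := mem_zpowers_iff.1 x.2
      exact ⟨1, Subtype.ext (by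
        show (x : MM) ^ (3 ^ 1) = 1
        rw [← hk, pow_one, ← zpow_natCast, ← zpow_mul, mul_comm, zpow_mul, zpow_natCast, h3, one_zpow])⟩
    · refine zpowers_le.2 (mem_normalizer_fintype fun x hx => ?_)
      rw [hc x hx, mul_inv_cancel_right]; exact hx
  exact le_R hK le_sup_left ▸ mem_sup_right (mem_zpowers c)

theorem card_normalizer : Nat.card ↥(normalizer (R : Set MM)) = 72 := by
  classical
  haveI : Fact (Nat.Prime 3) := ⟨Nat.prime_three⟩
  set N := normalizer (R : Set MM) with hN
  -- the stabiliser of the first generator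
  set St := N ⊓ centralizer ({a} : Set MM) with hSt
  have hRSt : R ≤ St := fun x hx => ⟨le_normalizer hx, mem_centralizer_singleton_iff.2 (R_comm hx a_mem)⟩
  have hkey : ∀ c ∈ St, ∀ i, c * b * c⁻¹ = a ^ i * b → c ∈ R := by
    intro c hc i hi
    have hca : c * a * c⁻¹ = a := by rw [mem_centralizer_singleton_iff.1 hc.2, mul_inv_cancel_right]
    have step : ∀ j, c * (a ^ j * b) * c⁻¹ = a ^ (j + i) * b := fun j => by
      rw [show c * (a ^ j * b) * c⁻¹ = (c * a * c⁻¹) ^ j * (c * b * c⁻¹) by rw [conj_pow]; group, hca, hi, pow_add,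
        mul_assoc]
    have h3 : c ^ 3 * b * (c ^ 3)⁻¹ = b := by
      rw [show c ^ 3 * b * (c ^ 3)⁻¹ = c * (c * (c * b * c⁻¹) * c⁻¹) * c⁻¹ by rw [pow_three]; group, hi, step, step,
        show i + i + i = 3 * i by ring, pow_mul, a_cube, one_pow, one_mul]
    have hcR : c ^ 3 ∈ R := centralizer_R fun x hx => by
      obtain ⟨k, -, rfl⟩ := hx
      have ha : Commute (c ^ 3) a := (show Commute c a from mem_centralizer_singleton_iff.1 hc.2).pow_left 3
      have hb : Commute (c ^ 3) b := mul_inv_eq_iff_eq_mul.1 h3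
      exact ((ha.pow_right _).mul_right (hb.pow_right _)).eq
    have hK : IsPGroup 3 ↥(R ⊔ zpowers c) := by
      refine R_three.to_sup_of_normal_left' ?_ (zpowers_le.2 hc.1)
      intro x
      obtain ⟨k, hk⟩ := mem_zpowers_iff.1 x.2
      exact ⟨2, Subtype.ext (by
        show (x : MM) ^ (3 ^ 2) = 1
        rw [← hk, ← zpow_natCast, ← zpow_mul, mul_comm, zpow_mul, zpow_natCast,
          show (3 : ℕ) ^ 2 = 3 * 3 from rfl, pow_mul, R_cube hcR, one_zpow])⟩
    exact le_R hK le_sup_left ▸ mem_sup_right (mem_zpowers c)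
  have himg : ∀ c ∈ St, (∃ i, c * b * c⁻¹ = a ^ i * b) ∨ ∃ i, c * b * c⁻¹ = a ^ i * b ^ 2 := by
    intro c hc
    obtain ⟨k, hk, e⟩ := (mem_normalizer_iff.1 hc.1 b).1 b_mem
    rw [← e, el]
    rcases (by omega : k % 3 = 0 ∨ k % 3 = 1 ∨ k % 3 = 2) with h | h | h <;> rw [h]
    · exfalso
      rw [el, h, pow_zero, mul_one] at e
      have hca : c * a * c⁻¹ = a := by rw [mem_centralizer_singleton_iff.1 hc.2, mul_inv_cancel_right]
      have : c * b * c⁻¹ = c * a ^ (k / 3) * c⁻¹ := by rw [← conj_pow, hca, e]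
      have hb : b = a ^ (k / 3) := mul_left_cancel (mul_right_cancel this)
      have h1 : el ((k / 3) % 3 * 3 + 2) = 1 := by
        rw [show (2 : ℕ) = 2 % 3 from rfl, ← el_mod, ← hb, ← pow_succ', b_cube]
      have := el_eq_one (by omega) h1
      omega
    · exact Or.inl ⟨k / 3, by rw [pow_one]⟩
    · exact Or.inr ⟨k / 3, rfl⟩
  have hidx : Nat.card ↥St ≤ 18 := by
    by_cases hex : ∃ d ∈ St, d ∉ R
    · obtain ⟨d, hd, hdR⟩ := hex
      have hcover : (St : Set MM) ⊆ (R : Set MM) ∪ (fun x => d * x) '' (R : Set MM) := by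
        intro c hc
        by_cases hcR : c ∈ R
        · exact Or.inl hcR
        refine Or.inr ⟨d⁻¹ * c, ?_, by group⟩
        obtain ⟨i, hi⟩ : ∃ i, c * b * c⁻¹ = a ^ i * b ^ 2 :=
          (himg c hc).resolve_left fun ⟨i, hi⟩ => hcR (hkey c hc i hi)
        obtain ⟨j, hj⟩ : ∃ j, d * b * d⁻¹ = a ^ j * b ^ 2 :=
          (himg d hd).resolve_left fun ⟨i, hi⟩ => hdR (hkey d hd i hi)
        have hmem : d⁻¹ * c ∈ St := mul_mem (inv_mem hd) hc
        rcases himg _ hmem with ⟨l, hl⟩ | ⟨l, hl⟩
        · exact hkey _ hmem l hl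
        exfalso
        have hda : d * a * d⁻¹ = a := by rw [mem_centralizer_singleton_iff.1 hd.2, mul_inv_cancel_right]
        have h1 : a ^ i * b ^ 2 = a ^ (l + 2 * j) * b := by
          calc a ^ i * b ^ 2 = d * (d⁻¹ * c * b * (d⁻¹ * c)⁻¹) * d⁻¹ := by rw [← hi]; group
            _ = (d * a * d⁻¹) ^ l * (d * b * d⁻¹) ^ 2 := by rw [hl, conj_pow, conj_pow]; group
            _ = a ^ l * (el (j % 3 * 3 + 2) * el (j % 3 * 3 + 2)) := by
              rw [hda, hj, pow_two, show (2 : ℕ) = 2 % 3 from rfl, ← el_mod]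
            _ = a ^ (l + 2 * j) * b := by
              rw [el_mul, el, pow_add, mul_assoc]
              congr 1
              rw [show ((j % 3 * 3 + 2) % 3 + (j % 3 * 3 + 2) % 3) % 3 = 1 by omega]
              rw [show (((j % 3 * 3 + 2) / 3 + (j % 3 * 3 + 2) / 3) % 3 * 3 + 1) % 3 = 1 by omega, pow_one,
                pow_eq_pow_mod (2 * j) a_cube]
              congr 2
              omega
        have h2 : el (((i + 2 * (l + 2 * j)) % 3) * 3 + 1 % 3) = 1 := by
          rw [← el_mod, pow_add, pow_one]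
          have : a ^ i * b = a ^ (l + 2 * j) := by
            calc a ^ i * b = a ^ i * b ^ 2 * b⁻¹ := by group
              _ = a ^ (l + 2 * j) := by rw [h1, mul_inv_cancel_right]
          calc a ^ i * a ^ (2 * (l + 2 * j)) * b = a ^ (2 * (l + 2 * j)) * (a ^ i * b) := by
                rw [← pow_add, add_comm, pow_add, mul_assoc]
            _ = a ^ (3 * (l + 2 * j)) := by rw [this, ← pow_add]; ring_nf
            _ = 1 := by rw [pow_mul, a_cube, one_pow]
        have := el_eq_one (by omega) h2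
        omega
      have h := (Set.ncard_le_ncard hcover (Set.toFinite _)).trans (Set.ncard_union_le _ _)
      have h' := Set.ncard_image_le (f := fun x => d * x) (Set.toFinite (R : Set MM))
      have eR : (R : Set MM).ncard = 9 := by rw [← Nat.card_coe_set_eq]; exact card_R
      have eS : (St : Set MM).ncard = Nat.card ↥St := by rw [← Nat.card_coe_set_eq]; rfl
      omega
    · push Not at hex
      have := card_dvd_of_le (show St ≤ R from hex)
      rw [card_R] at this
      exact (Nat.le_of_dvd (by norm_num) this).trans (by norm_num)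
  -- the orbit of the first generator
  letI : MulAction ↥N MM :=
    { smul := fun n x => (n : MM) * x * (n : MM)⁻¹
      one_smul := fun x => by show (1 : MM) * x * (1 : MM)⁻¹ = x; group
      mul_smul := fun m n x => by show (m : MM) * n * x * ((m : MM) * n)⁻¹ = m * (n * x * (n : MM)⁻¹) * (m : MM)⁻¹; group }
  have horb : Nat.card ↥(MulAction.orbit ↥N a) = 8 := by
    have : MulAction.orbit ↥N a = (R : Set MM) \ {1} := by
      ext x
      constructor
      · rintro ⟨n, rfl⟩
        refine ⟨(mem_normalizer_iff.1 n.2 a).1 a_mem, fun h => ?_⟩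
        have h' : (n : MM) * a * (n : MM)⁻¹ = 1 := h
        rw [conj_eq_one_iff] at h'
        exact absurd (el_eq_one (k := 3) (by norm_num) (by simp [el, h'])) (by norm_num)
      · rintro ⟨hx, hx1⟩
        obtain ⟨n, hn, e⟩ := trans_R hx hx1
        exact ⟨⟨n, hn⟩, e⟩
    rw [this, Nat.card_coe_set_eq, Set.ncard_sdiff_singleton_of_mem R.one_mem, ← Nat.card_coe_set_eq]
    show Nat.card ↥R - 1 = 8
    rw [card_R]
  have hstab : MulAction.stabilizer ↥N a = St.subgroupOf N := by
    ext n
    rw [MulAction.mem_stabilizer_iff, mem_subgroupOf]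
    show (n : MM) * a * (n : MM)⁻¹ = a ↔ _
    rw [mul_inv_eq_iff_eq_mul]
    exact ⟨fun h => ⟨n.2, mem_centralizer_singleton_iff.2 h⟩, fun h => mem_centralizer_singleton_iff.1 h.2⟩
  have hos := Nat.card_congr (MulAction.orbitProdStabilizerEquivGroup ↥N a)
  rw [Nat.card_prod, horb, hstab, Nat.card_congr (subgroupOfEquivOfLe (inf_le_left : St ≤ N)).toEquiv] at hos
  obtain ⟨m, hm⟩ : 9 ∣ Nat.card ↥St := card_R ▸ card_dvd_of_le hRSt
  -- the congruence
  have hsyl : Nat.card (Sylow 3 MM) = N.index := syl.card_eq_index_normalizer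
  have hmod := card_sylow_modEq_one 3 MM
  have hprod := N.card_mul_index
  rw [← hsyl, Golay.card_sporM22, ← hos, hm] at hprod
  have hm1 : m ≤ 2 := by omega
  have hm0 : 0 < Nat.card ↥St := Nat.card_pos
  unfold Nat.ModEq at hmod
  rcases (by omega : m = 1 ∨ m = 2) with rfl | rfl
  · rw [← hos, hm]
  · exfalso; omega

end Cfsg.Agent.JankoFour.M22Three
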