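import Cfsg.Agent.Lib.JankoFour.BigSylow

/-!
General consequences of the coordinates in a group of Janko-four type.
-/

set_option autoImplicit false
set_option linter.unusedSectionVars false

namespace Cfsg.Agent.JankoFour

open Subgroup
open Cfsg.Agent.LargeFischer (Ctx QG)
open Cfsg.Agent.J4Module (app)
open Cfsg.Agent.J4Module.Data

theorem bbit_comm (m n : ℕ) : bbit m n = bbit n m := by
  unfold bbit
  rw [Nat.xor_comm]
  cases qbit (n ^^^ m) <;> cases qbit m <;> cases qbit n <;> rfl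

theorem bbit_self (n : ℕ) (h : qbit 0 = false) : bbit n n = false := by
  unfold bbit
  rw [Nat.xor_self, h]
  cases qbit n <;> rfl

theorem qbit_zero : qbit 0 = false := by decide +kernel

namespace Model

variable {G : Type*} [Group G] [Finite G] {z : G} {P : Subgroup G} (M : Model z P)

include M

theorem z_mem : z ∈ QG M.Q := M.ctx.xs.mem

theorem z_sq : z * z = 1 := M.ctx.xs.sq

theorem mem_H {x : G} (hx : x ∈ QG M.Q) : x ∈ centralizer ({z} : Set G) := map_subtype_le _ hx

theorem mem_Q_iff (c : ↥(centralizer ({z} : Set G))) : c ∈ M.Q ↔ (c : G) ∈ QG M.Q :=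
  ⟨fun h => mem_map_of_mem _ h, fun ⟨d, hd, e⟩ => (Subtype.ext e : d = c) ▸ hd⟩

theorem acts_inv {c : ↥(centralizer ({z} : Set G))} {C C' : List ℕ} (hc : M.Acts c C) (h' : M.Acts c⁻¹ C') (x : ↥(QG M.Q)) :
    app C' (app C (M.vec x)) = M.vec x ∧ app C (app C' (M.vec x)) = M.vec x := by
  constructor
  · rw [← app_mulC, ← M.acts_mul h' hc, inv_mul_cancel, M.acts_one, app_unitC _ (M.vec_lt x)]
  · rw [← app_mulC, ← M.acts_mul hc h', mul_inv_cancel, M.acts_one, app_unitC _ (M.vec_lt x)]

/-- Conjugation transports the columns. -/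
theorem acts_conj {c h : ↥(centralizer ({z} : Set G))} {X Y C : List ℕ} (hh : M.Acts h C) (hc : M.Acts c X)
    (e : mulC C X = mulC Y C) : M.Acts (h * c * h⁻¹) Y := fun x => by
  obtain ⟨C', -, h'⟩ := M.exists_cols h⁻¹
  rw [M.acts_mul (M.acts_mul hh hc) h', app_mulC, e, app_mulC, (M.acts_inv hh h' x).2]

theorem vec_inv (x : ↥(QG M.Q)) : M.vec x⁻¹ = M.vec x := by
  have h := M.vec_mul x x⁻¹
  rw [mul_inv_cancel, M.vec_one] at h
  exact ((Nat.xor_eq_zero_iff).1 h.symm).symm

theorem vec_eq_zero {x : ↥(QG M.Q)} : M.vec x = 0 ↔ (x : G) = 1 ∨ (x : G) = z := by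
  rw [← M.vec_one, eq_comm, M.vec_eq_iff]
  simp

theorem bbit_xor {a b c : ℕ} (ha : a < 4096) (hb : b < 4096) (hc : c < 4096) :
    bbit (a ^^^ b) c = (bbit a c ^^ bbit b c) := by
  obtain ⟨x, rfl⟩ := M.vec_surj a ha
  obtain ⟨y, rfl⟩ := M.vec_surj b hb
  obtain ⟨w, rfl⟩ := M.vec_surj c hc
  rw [← M.vec_mul]
  have h := M.ctx.chi_mul x y w
  unfold Ctx.chi at h
  have hb : ∀ u : ↥(QG M.Q), bbit (M.vec u) (M.vec w) =
      @decide ((u : G) * w ≠ w * u) (Classical.propDecidable _) := fun u => by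
    by_cases hu : (u : G) * w = w * u
    · simp [(M.comm_iff u w).1 hu, hu]
    · have : bbit (M.vec u) (M.vec w) ≠ false := fun e => hu ((M.comm_iff u w).2 e)
      simp [hu, Bool.eq_true_of_not_eq_false this]
  rw [hb, hb, hb]
  by_cases h1 : (x : G) * w = w * x <;> by_cases h2 : (y : G) * w = w * y <;>
    by_cases h3 : ((x * y : ↥(QG M.Q)) : G) * w = w * (x * y : ↥(QG M.Q)) <;>
    simp_all

theorem bbit_app {c : ↥(centralizer ({z} : Set G))} {C : List ℕ} (hc : M.Acts c C) {m n : ℕ} (hm : m < 4096) (hn : n < 4096) :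
    bbit (app C m) (app C n) = bbit m n := by
  obtain ⟨x, rfl⟩ := M.vec_surj m hm
  obtain ⟨y, rfl⟩ := M.vec_surj n hn
  rw [← hc, ← hc, Bool.eq_iff_iff]
  have key : ((M.ctx.conjQ c x : G) * M.ctx.conjQ c y = M.ctx.conjQ c y * M.ctx.conjQ c x) ↔
      ((x : G) * y = y * x) := by
    constructor
    · intro h
      have e : M.ctx.conjQ c x * M.ctx.conjQ c y = M.ctx.conjQ c y * M.ctx.conjQ c x := Subtype.ext h
      rw [← map_mul, ← map_mul] at e
      have := congrArg Subtype.val e
      exact mul_right_cancel (b := (c : G)⁻¹) (by simpa [Ctx.conjQ, mul_assoc] using this)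
    · intro h
      have e : x * y = y * x := Subtype.ext h
      exact congrArg Subtype.val (show M.ctx.conjQ c x * M.ctx.conjQ c y = _ by rw [← map_mul, e, map_mul])
  rw [M.comm_iff, M.comm_iff] at key
  cases h1 : bbit (M.vec (M.ctx.conjQ c x)) (M.vec (M.ctx.conjQ c y)) <;>
    cases h2 : bbit (M.vec x) (M.vec y) <;> simp_all

/-- The form is non-degenerate. -/
theorem nondeg {n : ℕ} (hn : n < 4096) (h : ∀ m < 4096, bbit n m = false) : n = 0 := by
  obtain ⟨x, rfl⟩ := M.vec_surj n hn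
  refine M.vec_eq_zero.2 (M.ctx.xs.eq_of_central x.2 fun r hr => ?_)
  exact (M.comm_iff x ⟨r, hr⟩).2 (h _ (M.vec_lt _))

omit M in
/-- The fixed vectors of a map. -/
def fixF (C : List ℕ) : Finset ℕ := (Finset.range 4096).filter fun n => app C n = n

omit M in
theorem mem_fixF {C : List ℕ} {n : ℕ} : n ∈ fixF C ↔ n < 4096 ∧ app C n = n := by
  simp [fixF]

omit M in
/-- An involution fixes at least 64 vectors, and exactly its displacements if it fixes only 64. -/
theorem invol_fix {C : List ℕ} (hlt : ∀ n < 4096, app C n < 4096) (h2 : ∀ n < 4096, app C (app C n) = n) :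
    64 ≤ (fixF C).card ∧
      ((fixF C).card ≤ 64 → ∀ v ∈ fixF C, ∃ a < 4096, app C a ^^^ a = v) := by
  classical
  set f : ℕ → ℕ := fun a => app C a ^^^ a with hf
  set I := (Finset.range 4096).image f with hI
  have hsub : I ⊆ fixF C := by
    intro v hv
    obtain ⟨a, ha, rfl⟩ := Finset.mem_image.1 hv
    have ha := Finset.mem_range.1 ha
    refine mem_fixF.2 ⟨Nat.xor_lt_two_pow (n := 12) (hlt a ha) ha, ?_⟩
    rw [app_xor, h2 a ha, Nat.xor_comm]
  have hfib : ∀ v ∈ I, ((Finset.range 4096).filter fun a => f a = v).card ≤ (fixF C).card := by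
    intro v hv
    obtain ⟨a, ha, rfl⟩ := Finset.mem_image.1 hv
    refine Finset.card_le_card_of_injOn (fun b => a ^^^ b) (fun b hb => ?_) (fun b _ b' _ e => ?_)
    · obtain ⟨hb, e⟩ := Finset.mem_filter.1 hb
      refine mem_fixF.2 ⟨Nat.xor_lt_two_pow (n := 12) (Finset.mem_range.1 ha) (Finset.mem_range.1 hb), ?_⟩
      have e' : app C b ^^^ b = app C a ^^^ a := e
      rw [app_xor]
      calc app C a ^^^ app C b = app C a ^^^ (app C b ^^^ b) ^^^ b := by
            simp [Nat.xor_assoc]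
        _ = a ^^^ b := by rw [e', ← Nat.xor_assoc (app C a), Nat.xor_self, Nat.zero_xor]
    · exact Nat.xor_right_injective e
  have hcount : 4096 ≤ I.card * (fixF C).card := by
    have h := Finset.card_le_mul_card_image (f := f) (Finset.range 4096) (fixF C).card hfib
    rw [Finset.card_range, mul_comm] at h
    exact h
  have hI' := Finset.card_le_card hsub
  constructor
  · nlinarith
  · intro h64 v hv
    have : I = fixF C := Finset.eq_of_subset_of_card_le hsub (by nlinarith)
    obtain ⟨a, ha, e⟩ := Finset.mem_image.1 (this.symm ▸ hv)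
    exact ⟨a, Finset.mem_range.1 ha, e⟩

end Model

end Cfsg.Agent.JankoFour
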