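import Cfsg.Agent.Lib.JankoFour.OCountDefs
import Cfsg.Agent.Lib.JankoFour.Checks

/-!
Decidable facts on the vectors over the representatives.
-/

set_option autoImplicit false
set_option maxRecDepth 100000

namespace Cfsg.Agent.JankoFour.OC

open Cfsg.Agent.J4Module (app of_chunks)
open Cfsg.Agent.J4Module.Data

theorem lists_lt : (∀ w ∈ dispU.map Prod.fst ++ hexOrbit.map Prod.fst ++ fixRest, w < 4096) ∧
    (∀ w ∈ dispJ.map Prod.fst, w < 4096) ∧ (∀ w ∈ dispS.map Prod.fst, w < 4096) ∧
    (∀ w ∈ 0 :: (vecsA ++ vecsB), w < 4096) := by decide +kernel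

theorem lists_nodup : (dispU.map Prod.fst ++ hexOrbit.map Prod.fst ++ fixRest).Nodup ∧
    (dispJ.map Prod.fst).Nodup ∧ (dispS.map Prod.fst).Nodup := by decide +kernel

theorem vecs_lengths : dispU.length = 16 ∧ hexOrbit.length = 48 ∧ fixRest.length = 96 ∧ dispJ.length = 64 ∧
    dispS.length = 64 ∧ vecsA.length = 693 ∧ vecsB.length = 1386 := by decide +kernel

theorem dispU_spec : ∀ p ∈ dispU, p.2 < 4096 ∧ p.1 = app (Big.bEl 1) p.2 ^^^ p.2 := by decide +kernel

theorem dispJ_spec : ∀ p ∈ dispJ, p.2 < 4096 ∧ p.1 = app (repM 1) p.2 ^^^ p.2 := by decide +kernel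

theorem dispS_spec : ∀ p ∈ dispS, p.2 < 4096 ∧ p.1 = app (repM 2) p.2 ^^^ p.2 := by decide +kernel

theorem fixRest_spec : ∀ w ∈ fixRest, app (Big.bEl 1) w = w ∧ qbit w = false ∧ bigFix.testBit w = false := by
  decide +kernel

theorem hexMoves_spec : ∀ e ∈ hexMoves, e.1.all (fun k => (k < 5 : Bool)) = true ∧
    mulC (Big.wordC e.1) (Big.bEl 1) = mulC (Big.bEl 1) (Big.wordC e.1) := by decide +kernel

theorem hexOrbit_spec : ∀ p ∈ hexOrbit, p.2.1 < hexMoves.length ∧ p.2.2 < 4096 ∧
    p.1 = app (Big.wordC (hexMoves.getD p.2.1 ([], 0)).1) 33 ^^^ (app (Big.bEl 1) p.2.2 ^^^ p.2.2) := by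
  decide +kernel

theorem cover_U : ∀ w < 4096, app (Big.bEl 1) w = w → qbit w = false →
    (dispU.map Prod.fst ++ hexOrbit.map Prod.fst ++ fixRest).contains w = true :=
  of_chunks (P := fun w => app (Big.bEl 1) w = w → qbit w = false →
    (dispU.map Prod.fst ++ hexOrbit.map Prod.fst ++ fixRest).contains w = true) 64 (by decide +kernel)

theorem cover_J : ∀ w < 4096, app (repM 1) w = w → (dispJ.map Prod.fst).contains w = true :=
  of_chunks (P := fun w => app (repM 1) w = w → (dispJ.map Prod.fst).contains w = true) 64 (by decide +kernel)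

theorem cover_S : ∀ w < 4096, app (repM 2) w = w → (dispS.map Prod.fst).contains w = true :=
  of_chunks (P := fun w => app (repM 2) w = w → (dispS.map Prod.fst).contains w = true) 64 (by decide +kernel)

theorem vecs_eq : vecsA = (List.range 4096).filter (fun w => cls w == 1) ∧
    vecsB = (List.range 4096).filter (fun w => cls w == 2) := by decide +kernel

theorem cover_cls : ∀ w < 4096, (qbit w || w == 0 || cls w == 1 || cls w == 2) = true :=
  of_chunks (P := fun w => (qbit w || w == 0 || cls w == 1 || cls w == 2) = true) 64 (by decide +kernel)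

theorem cover_V : ∀ w < 4096, qbit w = false → w ≠ 0 → cls w = 1 ∧ vecsA.contains w = true ∨
    cls w = 2 ∧ vecsB.contains w = true := fun w hw hq h0 => by
  have h := cover_cls w hw
  simp only [hq, Bool.false_or, Bool.or_eq_true, beq_iff_eq] at h
  rw [vecs_eq.1, vecs_eq.2, List.contains_iff_mem, List.contains_iff_mem, List.mem_filter, List.mem_filter,
    List.mem_range, beq_iff_eq, beq_iff_eq]
  rcases h with (h | h) | h
  · exact absurd h h0
  · exact Or.inl ⟨h, hw, h⟩
  · exact Or.inr ⟨h, hw, h⟩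

theorem vecsA_spec : ∀ w ∈ vecsA, cls w = 1 ∧ qbit w = false ∧ w ≠ 0 := by decide +kernel

theorem vecsB_spec : ∀ w ∈ vecsB, cls w = 2 ∧ qbit w = false ∧ w ≠ 0 := by decide +kernel

theorem unit_nodup : (0 :: (vecsA ++ vecsB)).Nodup := by
  refine List.nodup_cons.2 ⟨fun h => ?_, List.nodup_append.2 ⟨?_, ?_, ?_⟩⟩
  · rcases List.mem_append.1 h with h | h
    · exact (vecsA_spec 0 h).2.2 rfl
    · exact (vecsB_spec 0 h).2.2 rfl
  · exact (List.isChain_iff_pairwise.1 (by decide +kernel : vecsA.IsChain (· < ·))).imp fun h => h.ne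
  · exact (List.isChain_iff_pairwise.1 (by decide +kernel : vecsB.IsChain (· < ·))).imp fun h => h.ne
  · intro a ha b hb e
    subst e
    have := (vecsA_spec a ha).1
    rw [(vecsB_spec a hb).1] at this
    simp at this

theorem xrep_spec : (xrepP.v < 4096 ∧ cls xrepP.v = 1 ∧ unp xrepP.C = repM 3) ∧
    (xrepQ.v = 0 ∧ unp xrepQ.C = repM 0) ∧ (xrepR.v = 33 ∧ unp xrepR.C = repM 0) ∧
    (xrepS.v = 0 ∧ unp xrepS.C = repM 1) := by decide +kernel

theorem hex_base : app (Big.bEl 1) 33 = 33 ∧ qbit 33 = false := by decide +kernel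

end Cfsg.Agent.JankoFour.OC
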