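import Cfsg.Agent.Lib.JankoFour.Assemble

/-!
The classes of the involutions of the extraspecial subgroup, and of the standard class over the hexad group.
-/

set_option autoImplicit false
set_option linter.unusedSectionVars false
set_option maxRecDepth 100000

namespace Cfsg.Agent.JankoFour

open Subgroup
open Cfsg.Agent.LargeFischer (Ctx QG)
open Cfsg.Agent.J4Module (app of_chunks)
open Cfsg.Agent.J4Module.Data

theorem w_cls_bit : ∀ n < 64, n ≠ 0 → (cls (Big.bigW.getD n 0) = 1 → Orb.tMask.testBit n = false) ∧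
    (cls (Big.bigW.getD n 0) = 2 → Orb.tMask.testBit n = true) := by decide +kernel

theorem bigW_getD_ne : ∀ n < 64, n ≠ 0 → Big.bigW.getD n 0 ≠ 0 := by decide +kernel

variable {G : Type*} [Group G] [Finite G] {z : G} {P : Subgroup G}

namespace Model

variable (M : Model z P)
include M

/-- Two non-central elements of the extraspecial subgroup over one vector are conjugate. -/
theorem isConj_of_vec {x y : ↥(QG M.Q)} (h : M.vec x = M.vec y) (h0 : M.vec x ≠ 0) :
    IsConj (x : G) (y : G) := by
  rcases M.eq_or_mul_z h with e | e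
  · rw [e]
  obtain ⟨m, hm, hb⟩ : ∃ m < 4096, bbit (M.vec x) m = true := by
    by_contra hno
    exact h0 (M.nondeg (M.vec_lt x) fun m hm => by
      by_contra hb
      exact hno ⟨m, hm, by simpa using hb⟩)
  obtain ⟨w, rfl⟩ := M.vec_surj m hm
  refine isConj_iff.2 ⟨(w : G), ?_⟩
  have hne : ¬ (w : G) * x = x * w := by
    rw [M.comm_iff, bbit_comm, hb]
    simp
  rcases M.comm_cases w.2 x.2 with f | f
  · exact absurd (commutatorElement_eq_one_iff_mul_comm.1 (by rw [commutatorElement_def]; exact f)) hne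
  · have h2 := congrArg (fun g : G => g * (x : G)) f
    simp only [inv_mul_cancel_right] at h2
    rw [h2, e, M.z_comm x.2]

/-- Vectors of one of the three orbits are moved to one another. -/
theorem mask_conj {k : Fin 3} {v : ℕ} (hv : (J4Module.mask k).testBit v = true) :
    ∃ C, InL0 C ∧ app C (J4Module.rep k) = v := by
  refine J4Module.grow_spec (S := {q | ∃ C, InL0 C ∧ app C (J4Module.rep k) = q}) (fun g q hq => ?_)
    (J4Module.tree k) _ _ (J4Module.grow_ok k) (fun q hq => ?_) v hv
  · obtain ⟨C, hC, rfl⟩ := hq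
    refine ⟨mulC (J4Module.genMap g) C, Gen.mul ?_ hC, app_mulC _ _ _⟩
    unfold J4Module.genMap
    split_ifs <;> simp [gensL]
  · rw [Nat.one_shiftLeft, Nat.testBit_two_pow, decide_eq_true_eq] at hq
    exact ⟨unitC, Gen.one, by rw [← hq, app_unitC _ (J4Module.rep_mem k).2]⟩

theorem cls_mask {v : ℕ} (hv : v < 4096) {k : Fin 3} (h : cls v = k.1 + 1) : (J4Module.mask k).testBit v = true := by
  have h0 : v ≠ 0 := by rintro rfl; rw [cls_zero] at h; omega
  obtain ⟨j, hj, -⟩ := (J4Module.mask_cover v hv).2 h0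
  rw [cls_spec v hv j hj] at h
  rwa [show j = k from Fin.ext (by omega)] at hj

/-- Elements over vectors of one orbit are conjugate. -/
theorem isConj_of_cls {x y : ↥(QG M.Q)} (h : cls (M.vec x) = cls (M.vec y)) (h0 : M.vec x ≠ 0) :
    IsConj (x : G) (y : G) := by
  obtain ⟨k, hk, -⟩ := (J4Module.mask_cover _ (M.vec_lt x)).2 h0
  have hk' := M.cls_mask (M.vec_lt y) (h.symm.trans (cls_spec _ (M.vec_lt x) k hk))
  obtain ⟨C, hC, e⟩ := M.mask_conj hk
  obtain ⟨D, hD, e'⟩ := M.mask_conj hk'
  obtain ⟨c, hc⟩ := M.exists_elem C hC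
  obtain ⟨d, hd⟩ := M.exists_elem D hD
  obtain ⟨C', -, hc'⟩ := M.exists_cols c⁻¹
  obtain ⟨r, hr⟩ := M.vec_surj _ (J4Module.rep_mem k).2
  have hx : M.vec (M.ctx.conjQ c r) = M.vec x := by rw [hc r, hr, e]
  have hy : M.vec (M.ctx.conjQ d r) = M.vec y := by rw [hd r, hr, e']
  have hne : M.vec (M.ctx.conjQ d r) ≠ 0 := by
    rw [hy]
    intro e0
    rw [e0, cls_zero] at h
    rw [cls_spec _ (M.vec_lt x) k hk] at h
    omega
  have c1 : IsConj (r : G) (M.ctx.conjQ c r : G) := isConj_iff.2 ⟨(c : G), rfl⟩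
  have d1 : IsConj (r : G) (M.ctx.conjQ d r : G) := isConj_iff.2 ⟨(d : G), rfl⟩
  exact ((M.isConj_of_vec hx.symm h0).trans c1.symm).trans (d1.trans (M.isConj_of_vec hy hne))

end Model

namespace BigData.Facts

variable {M : Model z P} {B : BigData M} (F : B.Facts) [IsSimpleGroup G]
include F

/-- The two classes of involutions of the extraspecial subgroup. -/
theorem cls_class (hG : ¬ IsMulCommutative G) (x : ↥(QG M.Q)) :
    (cls (M.vec x) = 1 → IsConj z (x : G)) ∧ (cls (M.vec x) = 2 → ¬ IsConj z (x : G)) := by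
  obtain ⟨hT, -⟩ := F.coords.classify (B.exists_fused hG)
  have key : ∀ n < 64, n ≠ 0 → cls (M.vec x) = cls (Big.bigW.getD n 0) →
      IsConj (F.coords.el n) (x : G) ∧ F.coords.el n ≠ 1 := by
    intro n hn h0 h
    have hq : n / 64 % 16 = 0 := by omega
    have hm := (F.coords.el_mem_Q n (by omega)).2 hq
    have hv := F.coords.el_vec n (by omega) ⟨_, hm⟩ rfl
    rw [Nat.mod_eq_of_lt hn] at hv
    refine ⟨M.isConj_of_cls (x := ⟨_, hm⟩) (by rw [hv]; exact h.symm) (by rw [hv]; exact bigW_getD_ne n hn h0),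
      F.coords.el_ne_one (by omega) h0⟩
  constructor
  · intro h
    have h1 := key 1 (by norm_num) (by norm_num) (by rw [h]; exact (Orb.rep_cls).1.symm)
    refine IsConj.trans ?_ h1.1
    by_contra hc
    have := (hT 1 (by norm_num)).2 ⟨by norm_num, hc⟩
    rw [(w_cls_bit 1 (by norm_num) (by norm_num)).1 Orb.rep_cls.1] at this
    simp at this
  · intro h hz
    have h1 := key 3 (by norm_num) (by norm_num) (by rw [h]; exact (Orb.rep_cls).2.1.symm)
    exact ((hT 3 (by norm_num)).1 ((w_cls_bit 3 (by norm_num) (by norm_num)).2 Orb.rep_cls.2.1)).2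
      (hz.trans h1.1.symm)

/-- The standard class over the hexad group is not the class of the first involution. -/
theorem e6_not_conj (hG : ¬ IsMulCommutative G) {e : G} (he : M.IsE6 e) : ¬ IsConj z e := by
  obtain ⟨hT, hcard⟩ := F.coords.classify (B.exists_fused hG)
  obtain ⟨e', g, he', -, y, -, hy, hye⟩ := F.coords.exists_e6_fused hT hcard
  intro hz
  exact (F.cls_class hG y).2 hy ((hz.trans (M.e6_conj he he')).trans hye.symm)

end BigData.Facts

end Cfsg.Agent.JankoFour
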