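import Cfsg.Agent.Lib.JankoFour.OCountSums
import Cfsg.Agent.Lib.JankoFour.OCountVecChecks
import Cfsg.Agent.Lib.JankoFour.OrderClasses

/-!
The involutions of the centraliser, point by point: the number of commuting conjugates of the second involution
decides the classes over the representatives.
-/

set_option autoImplicit false
set_option linter.unusedSectionVars false
set_option linter.style.haveILetI false
set_option maxRecDepth 100000

namespace Cfsg.Agent.JankoFour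

open Subgroup
open Cfsg.Agent.LargeFischer (Ctx QG)
open Cfsg.Agent.J4Module (app)
open Cfsg.Agent.J4Module.Data
open OC

variable {G : Type*} [Group G] [Finite G] {z : G} {P : Subgroup G}

theorem OC.xor_shuffle (u A B : ℕ) : u ^^^ A = (A ^^^ (B ^^^ u)) ^^^ B := by
  refine Nat.eq_of_testBit_eq fun i => ?_
  simp only [Nat.testBit_xor]
  cases u.testBit i <;> cases A.testBit i <;> cases B.testBit i <;> rfl

open Classical in
/-- One on the conjugates of an element. -/
noncomputable def clsInd (a : G) (g : ↥(centralizer ({z} : Set G))) : ℕ := if IsConj a (g : G) then 1 else 0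

theorem clsInd_le (a : G) (g : ↥(centralizer ({z} : Set G))) : clsInd a g ≤ 1 := by
  unfold clsInd; split <;> simp

theorem clsInd_conj (a : G) (h g : ↥(centralizer ({z} : Set G))) : clsInd a (h * g * h⁻¹) = clsInd a g := by
  classical
  have e : IsConj a ((h * g * h⁻¹ : ↥(centralizer ({z} : Set G))) : G) ↔ IsConj a (g : G) := by
    have hg : IsConj (g : G) ((h * g * h⁻¹ : ↥(centralizer ({z} : Set G))) : G) :=
      isConj_iff.2 ⟨(h : G), by simp⟩
    exact ⟨fun hh => hh.trans hg.symm, fun hh => hh.trans hg⟩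
  exact if_congr e rfl rfl

/-- What is known about the two classes before the counts. -/
structure OCountCtx (M : Model z P) (t : G) : Prop where
  ht : orderOf t = 2
  hzt : ¬ IsConj z t
  hall : ∀ g : G, orderOf g = 2 → IsConj g z ∨ IsConj g t
  cls_one : ∀ x : ↥(QG M.Q), cls (M.vec x) = 1 → IsConj z (x : G)
  cls_two : ∀ x : ↥(QG M.Q), cls (M.vec x) = 2 → ¬ IsConj z (x : G)
  e6 : ∀ e : G, M.IsE6 e → ¬ IsConj z e
  hcomm : commCount t z = 838596

namespace OCountCtx

variable {M : Model z P} {t : G} (K : OCountCtx M t)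
include K

theorem order_two {g : ↥(centralizer ({z} : Set G))} (hg : g * g = 1) (h1 : g ≠ 1) : orderOf (g : G) = 2 :=
  orderOf_eq_prime (by rw [pow_two]; exact congrArg Subtype.val hg) fun e => h1 (Subtype.ext e)

theorem split_one {g : ↥(centralizer ({z} : Set G))} (hg : g * g = 1) (h1 : g ≠ 1) :
    clsInd t g + clsInd z g = 1 := by
  unfold clsInd
  rcases K.hall _ (K.order_two hg h1) with h | h
  · rw [if_neg fun h' => K.hzt (h.symm.trans h'.symm), if_pos h.symm]
  · rw [if_pos h.symm, if_neg fun h' => K.hzt (h'.trans h)]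

theorem ind_sq {a : G} (ha : a = t ∨ a = z) {g : ↥(centralizer ({z} : Set G))} (h : clsInd a g ≠ 0) :
    g * g = 1 ∧ g ≠ 1 := by
  have hc : IsConj a (g : G) := by
    by_contra hn
    exact h (if_neg hn)
  have ho : orderOf (g : G) = 2 := by
    obtain ⟨c, hc⟩ := isConj_iff.1 hc
    rw [← hc, show c * a * c⁻¹ = MulAut.conj c a from rfl, MulEquiv.orderOf_eq]
    rcases ha with rfl | rfl
    · exact K.ht
    · exact M.order_z
  refine ⟨Subtype.ext ?_, fun e => by rw [e] at ho; simp at ho⟩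
  show (g : G) * g = 1
  rw [← pow_two, ← ho, pow_orderOf_eq_one]

theorem ind_eq_zero {a : G} (ha : a = t ∨ a = z) {g : ↥(centralizer ({z} : Set G))} (h : g * g ≠ 1) :
    clsInd a g = 0 := by
  by_contra hn
  exact h (K.ind_sq ha hn).1

theorem sq_mul_z (g : ↥(centralizer ({z} : Set G))) : g * M.toH M.zQ * (g * M.toH M.zQ) = g * g := by
  rw [show g * M.toH M.zQ * (g * M.toH M.zQ) = g * (M.toH M.zQ * g) * M.toH M.zQ by group, ← M.z_fix g,
    show g * (g * M.toH M.zQ) * M.toH M.zQ = g * g * (M.toH M.zQ * M.toH M.zQ) by group, M.zz, mul_one]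

/-- The two indicators together count the involutions. -/
theorem pt_total {g : ↥(centralizer ({z} : Set G))} {v : ℕ} {C : List ℕ} (hg : M.Code g v C) (h2 : g * g = 1)
    (hne : v ≠ 0 ∨ C ≠ unitC) : M.sumPt (clsInd t) v C + M.sumPt (clsInd z) v C = 2 := by
  have h1 : ∀ x, M.Code x v C → x ≠ 1 := by
    rintro x hx rfl
    obtain ⟨rfl, rfl⟩ := hx.unique M.code_one
    rcases hne with h | h <;> exact h rfl
  rw [hg.sumPt_eq, hg.sumPt_eq]
  have a := K.split_one h2 (h1 g hg)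
  have b := K.split_one (g := g * M.toH M.zQ) (by rw [K.sq_mul_z, h2]) (h1 _ hg.mul_z)
  omega

theorem pt_zero {a : G} (ha : a = t ∨ a = z) {g : ↥(centralizer ({z} : Set G))} {v : ℕ} {C : List ℕ}
    (hg : M.Code g v C) (h2 : g * g ≠ 1) : M.sumPt (clsInd a) v C = 0 := by
  rw [hg.sumPt_eq, K.ind_eq_zero ha h2, K.ind_eq_zero ha (by rw [K.sq_mul_z]; exact h2)]

theorem fixed_of_sq {g : ↥(centralizer ({z} : Set G))} {v : ℕ} {C : List ℕ} (hg : M.Code g v C)
    (h2 : g * g = 1) : app C v = v := by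
  have h := hg.mul hg
  rw [h2] at h
  exact (Nat.xor_eq_zero_iff.1 (h.unique M.code_one).1).symm

theorem elem_Q {g : ↥(centralizer ({z} : Set G))} {v : ℕ} (hg : M.Code g v unitC) :
    ∃ y : ↥(QG M.Q), M.vec y = v ∧ (y : G) = g := by
  obtain ⟨y, n, hn, ha, -, rfl, rfl⟩ := hg
  rcases M.np_Q (M.mem_Q n ha) hn with rfl | rfl
  · exact ⟨y, rfl, by simp [Model.toH]⟩
  · refine ⟨y * M.zQ, ?_, rfl⟩
    rw [M.vec_mul, show M.vec M.zQ = 0 from M.vec_z, Nat.xor_zero]

theorem unit_zero_val : M.sumPt (clsInd t) 0 unitC = 0 ∧ M.sumPt (clsInd z) 0 unitC = 1 := by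
  have hz : clsInd z (M.toH M.zQ) = 1 := if_pos (IsConj.refl z)
  have ht : clsInd t (M.toH M.zQ) = 0 := if_neg fun h => K.hzt h.symm
  have h1 : ∀ a, a = t ∨ a = z → clsInd a (1 : ↥(centralizer ({z} : Set G))) = 0 := fun a ha => by
    by_contra hn
    exact (K.ind_sq ha hn).2 rfl
  rw [M.code_one.sumPt_eq, M.code_one.sumPt_eq, one_mul, hz, ht, h1 t (Or.inl rfl), h1 z (Or.inr rfl)]
  exact ⟨rfl, rfl⟩

theorem unit_val {w : ℕ} (hw : w < 4096) :
    (w ∈ vecsA → M.sumPt (clsInd t) w unitC = 0 ∧ M.sumPt (clsInd z) w unitC = 2) ∧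
      (w ∈ vecsB → M.sumPt (clsInd t) w unitC = 2 ∧ M.sumPt (clsInd z) w unitC = 0) ∧
      (w ∉ 0 :: (vecsA ++ vecsB) → M.sumPt (clsInd t) w unitC = 0 ∧ M.sumPt (clsInd z) w unitC = 0) := by
  obtain ⟨g, hg⟩ := M.code_of_pair hw Gen.one
  have key : qbit w = false → w ≠ 0 → ∀ c, cls w = c →
      (c = 1 → clsInd t g = 0 ∧ clsInd z g = 1 ∧ clsInd t (g * M.toH M.zQ) = 0 ∧ clsInd z (g * M.toH M.zQ) = 1) ∧
      (c = 2 → clsInd t g = 1 ∧ clsInd z g = 0 ∧ clsInd t (g * M.toH M.zQ) = 1 ∧ clsInd z (g * M.toH M.zQ) = 0) := by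
    intro hq h0 c hc
    have one : ∀ x, M.Code x w unitC →
        (c = 1 → clsInd t x = 0 ∧ clsInd z x = 1) ∧ (c = 2 → clsInd t x = 1 ∧ clsInd z x = 0) := by
      intro x hx
      obtain ⟨y, hy, hyx⟩ := K.elem_Q hx
      have hx2 := hx.unit_sq.2.2 hq
      have hx1 : x ≠ 1 := fun e => h0 ((e ▸ hx).unique M.code_one).1
      have hs := K.split_one hx2 hx1
      constructor <;> intro hcc
      · have h1 : clsInd z x = 1 := if_pos (hyx ▸ K.cls_one y (by rw [hy, hc, hcc]))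
        omega
      · have h1 : clsInd z x = 0 := if_neg (hyx ▸ K.cls_two y (by rw [hy, hc, hcc]))
        omega
    exact ⟨fun h => ⟨((one g hg).1 h).1, ((one g hg).1 h).2, ((one _ hg.mul_z).1 h).1, ((one _ hg.mul_z).1 h).2⟩,
      fun h => ⟨((one g hg).2 h).1, ((one g hg).2 h).2, ((one _ hg.mul_z).2 h).1, ((one _ hg.mul_z).2 h).2⟩⟩
  refine ⟨fun h => ?_, fun h => ?_, fun h => ?_⟩
  · obtain ⟨hc, hq, h0⟩ := vecsA_spec w h
    obtain ⟨a, b, c, d⟩ := (key hq h0 _ hc).1 rfl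
    rw [hg.sumPt_eq, hg.sumPt_eq, a, b, c, d]
    exact ⟨rfl, rfl⟩
  · obtain ⟨hc, hq, h0⟩ := vecsB_spec w h
    obtain ⟨a, b, c, d⟩ := (key hq h0 _ hc).2 rfl
    rw [hg.sumPt_eq, hg.sumPt_eq, a, b, c, d]
    exact ⟨rfl, rfl⟩
  · simp only [List.mem_cons, List.mem_append, not_or] at h
    obtain ⟨h0, hA, hB⟩ := h
    have hq : qbit w = true := by
      by_contra hq
      rcases cover_V w hw (by simpa using hq) h0 with ⟨-, hm⟩ | ⟨-, hm⟩
      · exact hA (List.contains_iff_mem.1 hm)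
      · exact hB (List.contains_iff_mem.1 hm)
    have hn : g * g ≠ 1 := fun e => by rw [hg.unit_sq.2.1 e] at hq; simp at hq
    exact ⟨K.pt_zero (Or.inl rfl) hg hn, K.pt_zero (Or.inr rfl) hg hn⟩

/-- Translations move the sums of the indicators. -/
theorem translate {C : List ℕ} (hC : InL0 C) {e : ℕ} (he : e < 4096) (a : G) :
    M.sumPt (clsInd a) (app C e ^^^ e) C = M.sumPt (clsInd a) 0 C := by
  obtain ⟨h, hh⟩ := M.code_of_pair he Gen.one
  rw [hh.sumPt_conj (v := 0) (by norm_num) hC (gen_length hC)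
    (e1 := by rw [mulC_unitC (gen_length hC), unitC_mulC hC fun _ h => h])
    (e2 := by rw [J4Module.app_zero, Nat.xor_zero, Nat.xor_comm (app C e) e, Nat.xor_assoc, Nat.xor_self,
      Nat.xor_zero])]
  simp only [clsInd_conj]

theorem hexOrbit_val {p : ℕ × ℕ × ℕ} (hp : p ∈ hexOrbit) (a : G) :
    M.sumPt (clsInd a) p.1 (repM 0) = M.sumPt (clsInd a) 33 (repM 0) := by
  obtain ⟨hj, he, e⟩ := hexOrbit_spec p hp
  have hm : hexMoves.getD p.2.1 ([], 0) ∈ hexMoves := by
    rw [List.getD_eq_getElem _ _ hj]; exact List.getElem_mem hj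
  obtain ⟨hw, hc⟩ := hexMoves_spec _ hm
  obtain ⟨h, hh⟩ := M.code_of_pair he (word_InL0 hw)
  rw [hh.sumPt_conj (v := 33) (by norm_num) (repM_InL0 0) (gen_length (repM_InL0 0)) (e1 := hc)
    (e2 := by rw [e]; exact xor_shuffle _ _ _)]
  simp only [clsInd_conj]

theorem fixRest_val {w : ℕ} (hw : w ∈ fixRest) :
    M.sumPt (clsInd t) w (repM 0) = 2 ∧ M.sumPt (clsInd z) w (repM 0) = 0 := by
  obtain ⟨hfix, hq, hb⟩ := fixRest_spec w hw
  have hlt : w < 4096 := lists_lt.1 w (List.mem_append_right _ hw)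
  obtain ⟨g, hg⟩ := M.code_of_pair hlt (repM_InL0 0)
  have h2 := (hg.hex_sq hfix).2 hq
  have hne : w ≠ 0 ∨ repM 0 ≠ unitC := Or.inr (by decide +kernel)
  have hE : ∀ x, M.Code x w (repM 0) → M.IsE6 (x : G) := by
    rintro x ⟨y, n, hn, ha, -, hy, rfl⟩
    obtain ⟨l, hl, hla⟩ := M.exists_lift_bP (show 1 < 16 by norm_num)
    obtain ⟨y', hy', e⟩ : ∃ y', M.vec y' = w ∧ M.toH y * n = M.toH y' * l := by
      rcases M.lift_eqN (Model.InN.of_cent hl.1) hn hla ha with f | f
      · exact ⟨y, hy, by rw [f]⟩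
      · refine ⟨y * M.zQ, ?_, by rw [f, map_mul, M.z_fix l, mul_assoc]⟩
        rw [M.vec_mul, show M.vec M.zQ = 0 from M.vec_z, Nat.xor_zero, hy]
    obtain ⟨t', s, ht', hs, hts⟩ := M.std_reach w hlt hfix hq hb
    exact ⟨s, hs, M.isConj_val (hts.symm.trans (M.std_conj_std hb ht' ⟨y', l, hl, hla, hy', e⟩))⟩
  have hz : M.sumPt (clsInd z) w (repM 0) = 0 := by
    rw [hg.sumPt_eq, show clsInd z g = 0 from if_neg (K.e6 _ (hE g hg)),
      show clsInd z (g * M.toH M.zQ) = 0 from if_neg (K.e6 _ (hE _ hg.mul_z))]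
  refine ⟨?_, hz⟩
  have := K.pt_total hg h2 hne
  omega

theorem rest_zero {a : G} (ha : a = t ∨ a = z) :
    (∀ w < 4096, w ∉ dispU.map Prod.fst ++ hexOrbit.map Prod.fst ++ fixRest →
      M.sumPt (clsInd a) w (repM 0) = 0) ∧
      (∀ w < 4096, w ∉ dispJ.map Prod.fst → M.sumPt (clsInd a) w (repM 1) = 0) ∧
      (∀ w < 4096, w ∉ dispS.map Prod.fst → M.sumPt (clsInd a) w (repM 2) = 0) := by
  refine ⟨fun w hw hn => ?_, fun w hw hn => ?_, fun w hw hn => ?_⟩
  · obtain ⟨g, hg⟩ := M.code_of_pair hw (repM_InL0 0)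
    refine K.pt_zero ha hg fun e => hn (List.contains_iff_mem.1 (cover_U w hw (K.fixed_of_sq hg e) ?_))
    exact (hg.hex_sq (K.fixed_of_sq hg e)).1 e
  · obtain ⟨g, hg⟩ := M.code_of_pair hw (repM_InL0 1)
    exact K.pt_zero ha hg fun e => hn (List.contains_iff_mem.1 (cover_J w hw (K.fixed_of_sq hg e)))
  · obtain ⟨g, hg⟩ := M.code_of_pair hw (repM_InL0 2)
    exact K.pt_zero ha hg fun e => hn (List.contains_iff_mem.1 (cover_S w hw (K.fixed_of_sq hg e)))

theorem disp_vals (a : G) :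
    (∀ w ∈ dispU.map Prod.fst, M.sumPt (clsInd a) w (repM 0) = M.sumPt (clsInd a) 0 (repM 0)) ∧
      (∀ w ∈ dispJ.map Prod.fst, M.sumPt (clsInd a) w (repM 1) = M.sumPt (clsInd a) 0 (repM 1)) ∧
      (∀ w ∈ dispS.map Prod.fst, M.sumPt (clsInd a) w (repM 2) = M.sumPt (clsInd a) 0 (repM 2)) := by
  refine ⟨fun w hw => ?_, fun w hw => ?_, fun w hw => ?_⟩ <;> obtain ⟨p, hp, rfl⟩ := List.mem_map.1 hw
  · obtain ⟨he, e⟩ := dispU_spec p hp
    rw [e, show Big.bEl 1 = repM 0 from rfl, K.translate (repM_InL0 0) he]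
  · obtain ⟨he, e⟩ := dispJ_spec p hp
    rw [e, K.translate (repM_InL0 1) he]
  · obtain ⟨he, e⟩ := dispS_spec p hp
    rw [e, K.translate (repM_InL0 2) he]

theorem class_sums {a : G} (ha : a = t ∨ a = z) :
    (∑ w ∈ Finset.range 4096, M.sumPt (clsInd a) w (repM 0) = 16 * M.sumPt (clsInd a) 0 (repM 0) +
      48 * M.sumPt (clsInd a) 33 (repM 0) + (fixRest.map fun w => M.sumPt (clsInd a) w (repM 0)).sum) ∧
    (∑ w ∈ Finset.range 4096, M.sumPt (clsInd a) w (repM 1) = 64 * M.sumPt (clsInd a) 0 (repM 1)) ∧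
    (∑ w ∈ Finset.range 4096, M.sumPt (clsInd a) w (repM 2) = 64 * M.sumPt (clsInd a) 0 (repM 2)) := by
  obtain ⟨hdU, hdJ, hdS⟩ := K.disp_vals a
  obtain ⟨h0, h1, h2⟩ := K.rest_zero ha
  obtain ⟨l0, l1, l2, -⟩ := lists_lt
  obtain ⟨n0, n1, n2⟩ := lists_nodup
  obtain ⟨c0, c1, c2, c3, c4, -, -⟩ := vecs_lengths
  refine ⟨?_, ?_, ?_⟩
  · rw [sum_range_list n0 l0 h0, List.map_append, List.map_append, List.sum_append, List.sum_append,
      sum_map_const hdU, sum_map_const (fun w hw => by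
        obtain ⟨p, hp, rfl⟩ := List.mem_map.1 hw
        exact K.hexOrbit_val hp a), List.length_map, List.length_map, c0, c1]
  · rw [sum_range_list n1 l1 h1, sum_map_const hdJ, List.length_map, c3]
  · rw [sum_range_list n2 l2 h2, sum_map_const hdS, List.length_map, c4]

set_option maxHeartbeats 1000000 in
/-- The classes over the representatives. -/
theorem class_values :
    (M.sumPt (clsInd t) 0 (repM 0) = 1 ∧ M.sumPt (clsInd z) 0 (repM 0) = 1) ∧
    (M.sumPt (clsInd t) 33 (repM 0) = 0 ∧ M.sumPt (clsInd z) 33 (repM 0) = 2) ∧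
    (M.sumPt (clsInd t) 0 (repM 1) = 1 ∧ M.sumPt (clsInd z) 0 (repM 1) = 1) ∧
    (M.sumPt (clsInd t) 0 (repM 2) = 2 ∧ M.sumPt (clsInd z) 0 (repM 2) = 0) := by
  classical
  haveI := Fintype.ofFinite G
  haveI : Fintype ↥(centralizer ({z} : Set G)) := Fintype.ofFinite _
  have hcount : ∑ g : ↥(centralizer ({z} : Set G)), clsInd t g = 838596 := by
    rw [← K.hcomm]
    unfold commCount
    rw [← Nat.card_congr (α := {g : ↥(centralizer ({z} : Set G)) // IsConj t (g : G)})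
      { toFun := fun g => ⟨(g.1 : G), g.2, mem_centralizer_singleton_iff.1 g.1.2⟩
        invFun := fun g => ⟨⟨g.1, mem_centralizer_singleton_iff.2 g.2.2⟩, g.2.1⟩
        left_inv := fun g => rfl
        right_inv := fun g => rfl }, Nat.card_eq_fintype_card, Fintype.card_subtype, Finset.card_filter]
    exact Finset.sum_congr rfl fun g _ => by unfold clsInd; split <;> simp_all
  rw [Model.sum_classes (M := M) (clsInd t) (fun g hg => K.ind_eq_zero (Or.inl rfl) hg) (clsInd_conj t)] at hcount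
  obtain ⟨e0, e1, e2⟩ := K.class_sums (a := t) (Or.inl rfl)
  have e0' : (fixRest.map fun w => M.sumPt (clsInd t) w (repM 0)).sum = 192 := by
    rw [sum_map_const fun w hw => (K.fixRest_val hw).1, vecs_lengths.2.2.1]
  have e3 : ∑ w ∈ Finset.range 4096, M.sumPt (clsInd t) w (repM 3) = 2772 := by
    rw [show repM 3 = unitC from rfl, sum_range_list unit_nodup lists_lt.2.2.2 (fun w hw hn =>
      ((K.unit_val hw).2.2 hn).1), List.map_cons, List.sum_cons, List.map_append, List.sum_append,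
      K.unit_zero_val.1, sum_map_const (fun w hw => ((K.unit_val (lists_lt.2.2.2 w (by simp [hw]))).1 hw).1),
      sum_map_const (fun w hw => ((K.unit_val (lists_lt.2.2.2 w (by simp [hw]))).2.1 hw).1),
      vecs_lengths.2.2.2.2.2.2, mul_zero, zero_add, zero_add]
  rw [e0, e0', e1, e2, e3] at hcount
  have bound : ∀ (v : ℕ) (k : ℕ), v < 4096 → M.sumPt (clsInd t) v (repM k) ≤ 2 := fun v k hv => by
    obtain ⟨g, hg⟩ := M.code_of_pair hv (repM_InL0 k)
    rw [hg.sumPt_eq]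
    have := clsInd_le t g
    have := clsInd_le t (g * M.toH M.zQ)
    omega
  have b0 := bound 0 0 (by norm_num)
  have b1 := bound 33 0 (by norm_num)
  have b2 := bound 0 1 (by norm_num)
  have b3 := bound 0 2 (by norm_num)
  obtain ⟨va, vb, vi, vj⟩ : M.sumPt (clsInd t) 0 (repM 0) = 1 ∧ M.sumPt (clsInd t) 33 (repM 0) = 0 ∧
      M.sumPt (clsInd t) 0 (repM 1) = 1 ∧ M.sumPt (clsInd t) 0 (repM 2) = 2 := by omega
  clear hcount e0 e0' e1 e2 e3 b0 b1 b2 b3 bound
  -- the involutions over the representatives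
  have hinv : ∀ k, M.sumPt (clsInd t) 0 (repM k) ≠ 0 → repM k ≠ unitC →
      M.sumPt (clsInd t) 0 (repM k) + M.sumPt (clsInd z) 0 (repM k) = 2 := by
    intro k hk hne
    obtain ⟨g, hg⟩ := M.code_of_pair (show (0 : ℕ) < 4096 by norm_num) (repM_InL0 k)
    have h2 : g * g = 1 := by
      by_contra hn
      exact hk (K.pt_zero (Or.inl rfl) hg hn)
    exact K.pt_total hg h2 (Or.inr hne)
  obtain ⟨g, hg⟩ := M.code_of_pair (show (33 : ℕ) < 4096 by norm_num) (repM_InL0 0)
  have h33 := K.pt_total hg ((hg.hex_sq hex_base.1).2 hex_base.2) (Or.inl (by norm_num))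
  have f0 := hinv 0 (by omega) (by decide +kernel)
  have f1 := hinv 1 (by omega) (by decide +kernel)
  have f2 := hinv 2 (by omega) (by decide +kernel)
  omega

end OCountCtx

end Cfsg.Agent.JankoFour
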