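import Cfsg.Agent.Lib.JankoFour.OCountTableData
import Cfsg.Agent.Lib.JankoFour.OCountPermData
import Cfsg.Agent.Lib.JankoFour.OCountRepData
import Cfsg.Agent.Lib.JankoFour.OCountVecData

/-!
The tables of the involutions, the classes over their representatives, and the test for one pair.
-/

set_option autoImplicit false
set_option maxRecDepth 100000

namespace Cfsg.Agent.JankoFour.OC

open Cfsg.Agent.J4Module (app)
open Cfsg.Agent.J4Module.Data

/-- An entry of a table. -/
def tget (t : List (List ℕ)) (i : ℕ) : ℕ := (t.getD (i / 64) []).getD (i % 64) 0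

/-- A packed matrix of the table. -/
def LP (i : ℕ) : ℕ := tget tabD i

/-- A matrix of the table. -/
def LM (i : ℕ) : List ℕ := unp (LP i)

/-- Its class: inner, outer of 990, outer of 4158, identity. -/
def tagT (i : ℕ) : ℕ := tget tagD i

/-- The permutation by a generator. -/
def permT (k i : ℕ) : ℕ := tget ([permAD, permBD, permCD, permDD, permED].getD k []) i

/-- The packed generators. -/
def gP : List ℕ := gensL.map pkC

/-- The representative of a class. -/
def repM : ℕ → List ℕ
  | 0 => Big.bEl 1
  | 1 => Big.wordC wordJ
  | 2 => sC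
  | _ => unitC

/-- The representative of a class, packed. -/
def repP (k : ℕ) : ℕ := pkC (repM k)

/-- The vectors with one involution of the second class over a representative. -/
def wtA : ℕ → List ℕ
  | 0 => dispU.map Prod.fst
  | 1 => dispJ.map Prod.fst
  | _ => []

/-- The vectors with two involutions of the second class over a representative. -/
def wtB : ℕ → List ℕ
  | 0 => fixRest
  | 2 => dispS.map Prod.fst
  | 3 => vecsB
  | _ => []

/-- The test: the given involution is a power of the product. -/
def goodV (m F H : ℕ) (inn : Bool) (c : ℕ) : Bool :=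
  if app (unp F) c == 0 then (m % 2 == 1 || (inn && qbit (app (unp H) c))) else qbit (app (unp F) c)

/-- The number of partners over one involution. -/
def rootVal (X : XRep) (r : Root) : ℕ :=
  (wtA r.tag).countP (fun w => goodV r.Ps.length r.F r.H r.inn (X.v ^^^ app (unp X.C) (app (unp r.T) w))) +
    2 * (wtB r.tag).countP (fun w => goodV r.Ps.length r.F r.H r.inn (X.v ^^^ app (unp X.C) (app (unp r.T) w)))

/-- The checks on the powers of the product. -/
def powersOK (r : Root) : Bool :=
  (0 < r.Ps.length : Bool) && r.Ps.getD 0 0 == pkC unitC &&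
    (List.range r.Ps.length).all (fun i =>
      mulP r.K (r.Ps.getD i 0) == (if i + 1 < r.Ps.length then r.Ps.getD (i + 1) 0 else pkC unitC) &&
        (i == 0 || unp (r.Ps.getD i 0) != unitC)) &&
    prefX r.Ps r.Ps.length == r.F && prefX r.Ps (r.Ps.length / 2) == r.H &&
    (r.Ps.length % 2 == 1 || ((r.half < 6304 : Bool) && LM r.half == unp (r.Ps.getD (r.Ps.length / 2) 0) &&
      tagT r.half != 3 && r.inn == (tagT r.half == 0)))

/-- The checks on an orbit representative. -/
def rootOK (X : XRep) (r : Root) : Bool :=
  (r.idx < 6304 : Bool) && tagT r.idx == r.tag && r.word.all (fun k => (k < 5 : Bool)) && wordP gP r.word == r.T &&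
    mulP r.T (repP r.tag) == mulP (LP r.idx) r.T && mulP X.C (LP r.idx) == r.K && powersOK r &&
    rootVal X r == r.val

/-- The checks on a generator of the stabiliser. -/
def stabOK (X : XRep) (e : List ℕ × ℕ × ℕ) : Bool :=
  e.1.all (fun k => (k < 5 : Bool)) && wordP gP e.1 == e.2.1 && (e.2.2 < 4096 : Bool) &&
    mulP e.2.1 X.C == mulP X.C e.2.1 && e.2.2 ^^^ app (unp e.2.1) X.v == X.v ^^^ app (unp X.C) e.2.2

/-- The parent of a node. -/
def nPar (x : ℕ) : ℕ := x % 8192

/-- The step to a node. -/
def nGen (x : ℕ) : ℕ := x / 8192 % 16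

/-- The depth of a node. -/
def nDep (x : ℕ) : ℕ := x / 131072 % 128

/-- The root of a node. -/
def nRoot (x : ℕ) : ℕ := x / 16777216

/-- The checks on a node of the orbits of the stabiliser. -/
def forestOK (X : XRep) (i : ℕ) : Bool :=
  let x := tget X.forest i
  (nRoot x < X.roots.length : Bool) &&
    if nDep x == 0 then (X.roots.getD (nRoot x) ⟨0, 0, [], 0, 0, [], 0, 0, 0, false, 0⟩).idx == i
    else (nPar x < 6304 : Bool) && (nDep (tget X.forest (nPar x)) < nDep x : Bool) &&
      nRoot (tget X.forest (nPar x)) == nRoot x && (nGen x < X.es.length : Bool) &&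
        mulP (X.es.getD (nGen x) ([], 0, 0)).2.1 (LP (nPar x)) ==
          mulP (LP i) (X.es.getD (nGen x) ([], 0, 0)).2.1

/-- The value at one involution. -/
def valueAt (X : XRep) (i : ℕ) : ℕ := (X.roots.map Root.val).getD (nRoot (tget X.forest i)) 0

/-- The sum of the values over all involutions. -/
def totalOf (X : XRep) : ℕ := ((List.range 6304).map (valueAt X)).sum

theorem range_pieces : List.range 6304 = List.range' 0 788 ++ List.range' 788 788 ++ List.range' 1576 788 ++
    List.range' 2364 788 ++ List.range' 3152 788 ++ List.range' 3940 788 ++ List.range' 4728 788 ++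
    List.range' 5516 788 := by
  rw [List.range_eq_range', List.range'_append_1, List.range'_append_1, List.range'_append_1,
    List.range'_append_1, List.range'_append_1, List.range'_append_1, List.range'_append_1]

theorem all_pieces {p : ℕ → Bool} (h : ∀ k ∈ [0, 788, 1576, 2364, 3152, 3940, 4728, 5516],
    (List.range' k 788).all p = true) : (List.range 6304).all p = true := by
  rw [range_pieces]
  simp only [List.all_append, Bool.and_eq_true]
  exact ⟨⟨⟨⟨⟨⟨⟨h 0 (by simp), h 788 (by simp)⟩, h 1576 (by simp)⟩, h 2364 (by simp)⟩, h 3152 (by simp)⟩,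
    h 3940 (by simp)⟩, h 4728 (by simp)⟩, h 5516 (by simp)⟩

/-- The closure check of the table. -/
def closeOK (k i : ℕ) : Bool :=
  (permT k i < 6304 : Bool) && tagT (permT k i) == tagT i &&
    mulP (gP.getD k 0) (LP i) == mulP (LP (permT k i)) (gP.getD k 0)

/-- The check of the search tree of the table. -/
def treeOK (i : ℕ) : Bool :=
  let x := tget treeD i
  (tagT i < 4 : Bool) &&
    if x / 65536 == 0 then LP i == repP (tagT i)
    else (x % 8192 < 6304 : Bool) && (tget treeD (x % 8192) / 65536 < x / 65536 : Bool) &&
      (x / 8192 % 8 < 5 : Bool) && permT (x / 8192 % 8) (x % 8192) == i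

end Cfsg.Agent.JankoFour.OC
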