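import Cfsg.Agent.Lib.JankoFour.OCountCode

/-!
When the central involution is a power of the product of two involutions of different classes.
-/

set_option autoImplicit false
set_option linter.unusedSectionVars false
set_option maxRecDepth 100000

namespace Cfsg.Agent.JankoFour

open Subgroup
open Cfsg.Agent.LargeFischer (Ctx QG)
open Cfsg.Agent.J4Module (app)
open Cfsg.Agent.J4Module.Data
open OC

variable {G : Type*} [Group G] [Finite G]

namespace OC

/-- Two involutions with a product of odd order are conjugate. -/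
theorem conj_of_odd {a b : G} (ha : a * a = 1) (hb : b * b = 1) {m : ℕ} (hm : Odd m) (h : (a * b) ^ m = 1) :
    IsConj a b := by
  obtain ⟨k, rfl⟩ := hm
  have hflip : ∀ i : ℕ, a * ((a * b) ^ i)⁻¹ = (a * b) ^ i * a := by
    have hs : SemiconjBy a (a * b)⁻¹ (a * b) := by
      show a * (a * b)⁻¹ = a * b * a
      rw [_root_.mul_inv_rev, inv_eq_of_mul_eq_one_right ha, inv_eq_of_mul_eq_one_right hb, ← mul_assoc]
    intro i
    rw [← inv_pow]
    exact (hs.pow_right i).eq
  refine isConj_iff.2 ⟨(a * b) ^ k, ?_⟩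
  rw [mul_assoc ((a * b) ^ k), hflip, ← mul_assoc, ← pow_add, show k + k = 2 * k by ring]
  rw [pow_succ] at h
  rw [mul_eq_one_iff_eq_inv.1 h, _root_.mul_inv_rev, inv_eq_of_mul_eq_one_right ha,
    inv_eq_of_mul_eq_one_right hb, mul_assoc, ha, mul_one]

/-- Replacing the first involution by its product with the central one. -/
theorem mul_central_mem {x y c : G} (hc : c * c = 1) (hxc : x * c = c * x) (hyc : y * c = c * y) (hx : x * x = 1)
    (hy : y * y = 1) (hne : ¬ IsConj (x * c) y) (h : c ∈ zpowers (x * y)) : c ∈ zpowers (x * c * y) := by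
  obtain ⟨k, hk⟩ := mem_powers_iff_mem_zpowers.2 h
  replace hk : (x * y) ^ k = c := hk
  have he : x * c * y = x * y * c := by rw [mul_assoc, ← hyc, ← mul_assoc]
  have hcc : Commute (x * y) c := (show Commute x c from hxc).mul_left hyc
  rw [he]
  rcases Nat.even_or_odd k with ⟨i, hi⟩ | ho
  · refine ⟨((k : ℕ) : ℤ), ?_⟩
    show (x * y * c) ^ ((k : ℕ) : ℤ) = c
    rw [zpow_natCast, hcc.mul_pow, hk, hi, ← two_mul, pow_mul, pow_two, hc, one_pow, mul_one]
  · refine absurd (conj_of_odd (a := x * c) (b := y) ?_ hy ho ?_) hne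
    · rw [show x * c * (x * c) = x * (c * x) * c by group, ← hxc,
        show x * (x * c) * c = x * x * (c * c) by group, hx, hc, one_mul]
    · obtain ⟨i, rfl⟩ := ho
      rw [he, hcc.mul_pow, hk, pow_succ, pow_mul, pow_two, hc, one_pow, one_mul, hc]

end OC

namespace Model

variable {z : G} {P : Subgroup G} {M : Model z P}

theorem val_mem_zpowers {g h : ↥(centralizer ({z} : Set G))} :
    (g : G) ∈ zpowers (h : G) ↔ g ∈ zpowers h := by
  constructor
  · rintro ⟨i, hi⟩
    exact ⟨i, Subtype.ext (by simpa using hi)⟩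
  · rintro ⟨i, hi⟩
    exact ⟨i, by simp [← hi]⟩

/-- The order of the image rules whether the central involution is a power. -/
theorem Code.z_power {g : ↥(centralizer ({z} : Set G))} {c : ℕ} {K : List ℕ} (h : M.Code g c K) {m : ℕ}
    (hm : 0 < m) (hK : pw K m = unitC) (hmin : ∀ i < m, i ≠ 0 → pw K i ≠ unitC) :
    (sumV K c m ≠ 0 → (M.toH M.zQ ∈ zpowers g ↔ qbit (sumV K c m) = true)) ∧
      (sumV K c m = 0 → (M.toH M.zQ ∈ zpowers g ↔ g ^ m = M.toH M.zQ)) := by
  set Z := M.toH M.zQ with hZ
  set S := sumV K c m with hS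
  have hm' : M.Code (g ^ m) S unitC := hK ▸ h.pow m
  have hback : ∀ {n : ℕ}, g ^ n = Z → ∃ j, n = m * j := by
    intro n hn
    have h1 := (h.pow n).unique (hn ▸ M.code_z : M.Code (g ^ n) 0 unitC)
    have hpow : ∀ j, ∃ v, M.Code (g ^ (m * j)) v unitC := by
      intro j
      induction j with
      | zero => exact ⟨0, by rw [mul_zero, pow_zero]; exact M.code_one⟩
      | succ j ih =>
        obtain ⟨v, hv⟩ := ih
        refine ⟨v ^^^ app unitC S, ?_⟩
        rw [mul_add, mul_one, pow_add]
        have := hv.mul hm'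
        rwa [mulC_unitC rfl] at this
    obtain ⟨v, hv⟩ := hpow (n / m)
    have h2 := hv.mul (h.pow (n % m))
    rw [← pow_add, Nat.div_add_mod, (h.pow (n % m)).unit_mul] at h2
    have h3 : pw K (n % m) = unitC := (h2.unique (h.pow n)).2.trans h1.2
    refine ⟨n / m, ?_⟩
    by_cases h0 : n % m = 0
    · exact (Nat.mul_div_cancel' (Nat.dvd_of_mod_eq_zero h0)).symm
    · exact absurd h3 (hmin _ (Nat.mod_lt _ hm) h0)
  have hnat : Z ∈ zpowers g → ∃ j : ℕ, (g ^ m) ^ j = Z := by
    intro hz
    obtain ⟨n, hn⟩ := mem_powers_iff_mem_zpowers.2 hz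
    obtain ⟨j, rfl⟩ := hback hn
    exact ⟨j, by rw [← pow_mul]; exact hn⟩
  have hsq := hm'.unit_sq
  constructor
  · intro hS0
    have hmem : g ^ m ∈ zpowers g := pow_mem (mem_zpowers g) m
    constructor
    · intro hz
      obtain ⟨j, hj⟩ := hnat hz
      by_contra hq
      have h1 : g ^ m * g ^ m = 1 := hsq.2.2 (by simpa using hq)
      rcases Nat.even_or_odd j with ⟨i, rfl⟩ | ⟨i, rfl⟩
      · rw [← two_mul, pow_mul, pow_two, h1, one_pow] at hj
        exact M.z_ne hj.symm
      · rw [pow_succ, pow_mul, pow_two, h1, one_pow, one_mul] at hj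
        exact hS0 ((hj ▸ hm').unique M.code_z).1
    · intro hq
      rcases hsq.1 with e | e
      · rw [hsq.2.1 e] at hq
        exact absurd hq (by simp)
      · rw [hZ, ← e]; exact mul_mem hmem hmem
  · intro hS0
    rw [hS0] at hm'
    refine ⟨fun hz => ?_, fun e => e ▸ pow_mem (mem_zpowers g) m⟩
    obtain ⟨j, hj⟩ := hnat hz
    rcases hm'.unit_zero with e | e
    · rw [e, one_pow] at hj
      exact absurd hj.symm M.z_ne
    · exact e

end Model

end Cfsg.Agent.JankoFour
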