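import Cfsg.Agent.Lib.JankoFour.OCountGood

/-!
The number of partners of an involution of the first class over a representative, from the orbits of its
stabiliser on the matrices of the involutions.
-/

set_option autoImplicit false
set_option linter.unusedSectionVars false
set_option maxRecDepth 100000

namespace Cfsg.Agent.JankoFour

open Subgroup
open Cfsg.Agent.LargeFischer (Ctx QG)
open Cfsg.Agent.J4Module (app)
open Cfsg.Agent.J4Module.Data
open OC

variable {G : Type*} [Group G] [Finite G] {z : G} {P : Subgroup G}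

namespace Model

variable (M : Model z P)

open Classical in
/-- One on the partners of an element: conjugates of the second involution with the central one in the product. -/
noncomputable def mate (t : G) (x y : ↥(centralizer ({z} : Set G))) : ℕ :=
  clsInd t y * (if M.toH M.zQ ∈ zpowers (x * y) then 1 else 0)

/-- The number of partners. -/
noncomputable def partners [Fintype ↥(centralizer ({z} : Set G))] (t : G)
    (x : ↥(centralizer ({z} : Set G))) : ℕ := ∑ y, M.mate t x y

theorem z_mem_conj (h g : ↥(centralizer ({z} : Set G))) :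
    M.toH M.zQ ∈ zpowers (h * g * h⁻¹) ↔ M.toH M.zQ ∈ zpowers g := by
  rw [show h * g * h⁻¹ = (MulAut.conj h).toMonoidHom g from rfl, ← MonoidHom.map_zpowers]
  constructor
  · rintro ⟨w, hw, e⟩
    have h2 : (MulAut.conj h).toMonoidHom (M.toH M.zQ) = M.toH M.zQ := M.z_conj h
    exact (MulAut.conj h).injective (e.trans h2.symm) ▸ hw
  · exact fun hz => ⟨_, hz, M.z_conj h⟩

theorem mate_conj_both (t : G) (h x y : ↥(centralizer ({z} : Set G))) :
    M.mate t (h * x * h⁻¹) (h * y * h⁻¹) = M.mate t x y := by
  unfold Model.mate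
  rw [clsInd_conj]
  congr 1
  exact if_congr (by rw [show h * x * h⁻¹ * (h * y * h⁻¹) = h * (x * y) * h⁻¹ by group, M.z_mem_conj]) rfl rfl

theorem partners_conj [Fintype ↥(centralizer ({z} : Set G))] (t : G) (h x : ↥(centralizer ({z} : Set G))) :
    M.partners t (h * x * h⁻¹) = M.partners t x := by
  unfold Model.partners
  rw [← (MulAut.conj h).toEquiv.sum_comp]
  exact Finset.sum_congr rfl fun y _ => M.mate_conj_both t h x y

end Model

namespace OCountCtx

variable {M : Model z P} {t : G} (K : OCountCtx M t)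
include K

theorem mate_shift {x y : ↥(centralizer ({z} : Set G))} (hx : clsInd z x ≠ 0)
    (hx' : clsInd z (x * M.toH M.zQ) ≠ 0) : M.mate t (x * M.toH M.zQ) y = M.mate t x y := by
  by_cases hy : clsInd t y = 0
  · simp [Model.mate, hy]
  have hcon : ∀ a, clsInd z a ≠ 0 → ¬ IsConj a y := fun a ha h => by
    have hz' : IsConj z (a : G) := by by_contra hn; exact ha (if_neg hn)
    have ht' : IsConj t (y : G) := by by_contra hn; exact hy (if_neg hn)
    exact K.hzt ((hz'.trans (MonoidHom.map_isConj (centralizer ({z} : Set G)).subtype h)).trans ht'.symm)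
  have hy2 := (K.ind_sq (Or.inl rfl) hy).1
  have h1 := fun h => mul_central_mem M.zz (M.z_fix x) (M.z_fix y) (K.ind_sq (Or.inr rfl) hx).1 hy2 (hcon _ hx') h
  have h2 := fun h => mul_central_mem M.zz (M.z_fix (x * M.toH M.zQ)) (M.z_fix y) (K.ind_sq (Or.inr rfl) hx').1 hy2
    (by rw [Model.mul_zz]; exact hcon _ hx) h
  rw [Model.mul_zz] at h2
  unfold Model.mate
  congr 1
  exact if_congr ⟨h2, h1⟩ rfl rfl

/-- The stabiliser of a point permutes the partners. -/
theorem mate_stab {x h : ↥(centralizer ({z} : Set G))} {u v : ℕ} {E C : List ℕ} (hx : M.Code x v C)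
    (hh : M.Code h u E) (e1 : mulC E C = mulC C E) (e2 : u ^^^ app E v = v ^^^ app C u)
    (hxz : clsInd z x ≠ 0) (y : ↥(centralizer ({z} : Set G))) : M.mate t x (h * y * h⁻¹) = M.mate t x y := by
  rcases hx.cases (hh.conj hx hx.length e1 e2) with e | e
  · rw [← M.mate_conj_both t h x y, e]
  · have hz' : clsInd z (x * M.toH M.zQ) ≠ 0 := by rw [← e, clsInd_conj]; exact hxz
    rw [← M.mate_conj_both t h x y, e, K.mate_shift hxz hz']

theorem weight_count {k : ℕ} (hk : k < 4) (p : ℕ → Bool) :
    ∑ w ∈ Finset.range 4096, M.sumPt (clsInd t) w (repM k) * (if p w then 1 else 0) =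
      (wtA k).countP p + 2 * (wtB k).countP p := by
  obtain ⟨⟨va, -⟩, ⟨vb, -⟩, ⟨vi, -⟩, ⟨vj, -⟩⟩ := K.class_values
  obtain ⟨hdU, hdJ, hdS⟩ := K.disp_vals t
  obtain ⟨h0, h1, h2⟩ := K.rest_zero (a := t) (Or.inl rfl)
  obtain ⟨l0, l1, l2, l3⟩ := lists_lt
  obtain ⟨n0, n1, n2⟩ := lists_nodup
  obtain rfl | rfl | rfl | rfl : k = 0 ∨ k = 1 ∨ k = 2 ∨ k = 3 := by omega
  · show _ = (dispU.map Prod.fst).countP p + 2 * fixRest.countP p
    rw [sum_range_list n0 l0 (fun w hw hn => by rw [h0 w hw hn, zero_mul]), List.map_append, List.map_append,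
      List.sum_append, List.sum_append, sum_map_count (c := 1) (p := p) (fun w hw => by rw [hdU w hw, va, one_mul]),
      sum_map_count (c := 0) (p := p) (fun w hw => by
        obtain ⟨q, hq, rfl⟩ := List.mem_map.1 hw
        rw [K.hexOrbit_val hq t, vb, zero_mul]; simp),
      sum_map_count (c := 2) (p := p) (fun w hw => by rw [(K.fixRest_val hw).1]; split <;> simp)]
    ring
  · show _ = (dispJ.map Prod.fst).countP p + 2 * List.countP p []
    rw [sum_range_list n1 l1 (fun w hw hn => by rw [h1 w hw hn, zero_mul]),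
      sum_map_count (c := 1) (p := p) (fun w hw => by rw [hdJ w hw, vi, one_mul]), List.countP_nil]
    ring
  · show _ = List.countP p [] + 2 * (dispS.map Prod.fst).countP p
    rw [sum_range_list n2 l2 (fun w hw hn => by rw [h2 w hw hn, zero_mul]),
      sum_map_count (c := 2) (p := p) (fun w hw => by rw [hdS w hw, vj]; split <;> simp), List.countP_nil]
    ring
  · show ∑ w ∈ Finset.range 4096, M.sumPt (clsInd t) w unitC * _ = List.countP p [] + 2 * vecsB.countP p
    rw [sum_range_list unit_nodup l3 (fun w hw hn => by rw [((K.unit_val hw).2.2 hn).1, zero_mul]), List.map_cons,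
      List.sum_cons, List.map_append, List.sum_append, K.unit_zero_val.1, zero_mul,
      sum_map_count (c := 0) (p := p) (fun w hw => by
        rw [((K.unit_val (l3 w (by simp [hw]))).1 hw).1, zero_mul]; simp),
      sum_map_count (c := 2) (p := p) (fun w hw => by
        rw [((K.unit_val (l3 w (by simp [hw]))).2.1 hw).1]; split <;> simp), List.countP_nil]
    ring

variable [Fintype ↥(centralizer ({z} : Set G))]

/-- The partners over a root. -/
theorem root_value {X : XRep} {x : ↥(centralizer ({z} : Set G))} (hx : M.Code x X.v (unp X.C))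
    (hxz : clsInd z x ≠ 0) {r : Root} (hr : rootOK X r = true) :
    r.idx < 6304 ∧ ∑ v ∈ Finset.range 4096, M.sumPt (M.mate t x) v (LM r.idx) = r.val := by
  simp only [rootOK, Bool.and_eq_true, beq_iff_eq, decide_eq_true_eq] at hr
  obtain ⟨⟨⟨⟨⟨⟨⟨hidx, htag⟩, hword⟩, hT⟩, hTr⟩, hK⟩, hpow⟩, hval⟩ := hr
  refine ⟨hidx, ?_⟩
  have htag4 : r.tag < 4 := htag ▸ (tree_reach hidx).1
  have hT0 : InL0 (unp r.T) := by rw [← hT, wordP_eq hword]; exact word_InL0 hword
  obtain ⟨h, hh⟩ := M.code_of_pair (show (0 : ℕ) < 4096 by norm_num) hT0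
  have e1 : mulC (unp r.T) (repM r.tag) = mulC (LM r.idx) (unp r.T) := by
    rw [← repM_eq htag4, LM, ← unp_mulP, ← unp_mulP, hTr]
  have hK' : unp r.K = mulC (unp X.C) (LM r.idx) := by rw [← hK, unp_mulP]; rfl
  rw [Model.sum_matrix_conj hh (repM_InL0 _) (Model.LM_lift (M := M) hidx).1 e1, ← hval, rootVal,
    ← K.weight_count htag4]
  refine Finset.sum_congr rfl fun w hw => ?_
  obtain ⟨y0, hy0⟩ := M.code_of_pair (Finset.mem_range.1 hw) (repM_InL0 r.tag)
  have key : ∀ y, M.Code y w (repM r.tag) → M.mate t x (h * y * h⁻¹) = clsInd t y *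
      (if goodV r.Ps.length r.F r.H r.inn (X.v ^^^ app (unp X.C) (app (unp r.T) w)) then 1 else 0) := by
    intro y hy
    have hy' := hh.conj hy (length_LM r.idx) e1 (v' := app (unp r.T) w) (by simp)
    unfold Model.mate
    rw [clsInd_conj]
    by_cases h0 : clsInd t y = 0
    · rw [h0, zero_mul, zero_mul]
    · congr 1
      exact if_congr (K.good_iff hx hy' hxz (by rw [clsInd_conj]; exact h0) hpow hK') rfl rfl
  rw [hy0.sumPt_eq, hy0.sumPt_eq, key y0 hy0, key _ hy0.mul_z, add_mul]

/-- The number of partners from the certificate. -/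
theorem partners_value {X : XRep} (hF : (List.range 6304).all (forestOK X) = true)
    (hS : X.es.all (stabOK X) = true) (hR : X.roots.all (rootOK X) = true) (hT : totalOf X = X.total)
    {x : ↥(centralizer ({z} : Set G))} (hx : M.Code x X.v (unp X.C)) (hxz : clsInd z x ≠ 0) :
    M.partners t x = X.total := by
  have hsupp : ∀ y, y * y ≠ 1 → M.mate t x y = 0 := fun y hy => by
    simp [Model.mate, K.ind_eq_zero (Or.inl rfl) hy]
  have hφ : ∀ d i, i < 6304 → nDep (tget X.forest i) = d →
      ∑ v ∈ Finset.range 4096, M.sumPt (M.mate t x) v (LM i) =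
        (X.roots.map Root.val).getD (nRoot (tget X.forest i)) 0 := by
    intro d
    induction d using Nat.strong_induction_on with
    | _ d ih =>
      intro i hi hd
      have h := List.all_eq_true.1 hF i (List.mem_range.2 hi)
      simp only [forestOK, Bool.and_eq_true, decide_eq_true_eq, hd] at h
      obtain ⟨hroot, h⟩ := h
      by_cases hd0 : d = 0
      · rw [if_pos (by simp [hd0]), beq_iff_eq, List.getD_eq_getElem _ _ hroot] at h
        rw [List.getD_eq_getElem _ _ (by simpa using hroot), List.getElem_map]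
        obtain ⟨-, hv⟩ := K.root_value hx hxz (List.all_eq_true.1 hR _ (List.getElem_mem hroot))
        rwa [h] at hv
      · rw [if_neg (by simp [hd0])] at h
        simp only [Bool.and_eq_true, decide_eq_true_eq, beq_iff_eq] at h
        obtain ⟨⟨⟨⟨hp, hdep⟩, hrt⟩, hg⟩, hmul⟩ := h
        rw [← hrt, ← ih _ hdep _ hp rfl]
        rw [List.getD_eq_getElem _ _ hg] at hmul
        have he := List.all_eq_true.1 hS _ (List.getElem_mem hg)
        simp only [stabOK, Bool.and_eq_true, beq_iff_eq, decide_eq_true_eq] at he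
        obtain ⟨⟨⟨⟨hw, hwp⟩, hu⟩, hEC⟩, hpt⟩ := he
        set e := X.es[nGen (tget X.forest i)]
        have hE : InL0 (unp e.2.1) := by rw [← hwp, wordP_eq hw]; exact word_InL0 hw
        obtain ⟨h, hh⟩ := M.code_of_pair hu hE
        have hmove : mulC (unp e.2.1) (LM (nPar (tget X.forest i))) = mulC (LM i) (unp e.2.1) := by
          rw [LM, LM, ← unp_mulP, ← unp_mulP, hmul]
        rw [Model.sum_matrix_conj hh (Model.LM_lift (M := M) hp).1 (Model.LM_lift (M := M) hi).1 hmove]
        refine Finset.sum_congr rfl fun v _ => Model.sumPt_congr fun y _ => ?_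
        exact K.mate_stab hx hh (by rw [← unp_mulP, ← unp_mulP, hEC]) hpt hxz y
  rw [← hT, totalOf, ← List.sum_toFinset _ List.nodup_range, List.toFinset_range]
  unfold Model.partners
  rw [Model.sum_all (M := M) _ hsupp]
  exact Finset.sum_congr rfl fun i hi => hφ _ i (Finset.mem_range.1 hi) rfl

end OCountCtx

end Cfsg.Agent.JankoFour
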