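import Cfsg.Agent.Lib.JankoFour.OCountTable

/-!
Sums over the centraliser of the involution, point by point.
-/

set_option autoImplicit false
set_option linter.unusedSectionVars false
set_option maxRecDepth 100000

namespace Cfsg.Agent.JankoFour

open Subgroup
open Cfsg.Agent.LargeFischer (Ctx QG)
open Cfsg.Agent.J4Module (app)
open Cfsg.Agent.J4Module.Data
open OC

namespace OC

/-- A sum over the vectors is a sum over a list carrying the function. -/
theorem sum_range_list {φ : ℕ → ℕ} {l : List ℕ} (hl : l.Nodup) (hlt : ∀ w ∈ l, w < 4096)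
    (h0 : ∀ w < 4096, w ∉ l → φ w = 0) : ∑ w ∈ Finset.range 4096, φ w = (l.map φ).sum := by
  rw [← List.sum_toFinset φ hl]
  refine (Finset.sum_subset (fun w hw => ?_) fun w hw hn => h0 w (Finset.mem_range.1 hw) ?_).symm
  · exact Finset.mem_range.2 (hlt w (List.mem_toFinset.1 hw))
  · exact fun hm => hn (List.mem_toFinset.2 hm)

theorem sum_map_const {φ : ℕ → ℕ} {l : List ℕ} {c : ℕ} (h : ∀ w ∈ l, φ w = c) :
    (l.map φ).sum = l.length * c := by
  induction l with
  | nil => simp
  | cons a l ih =>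
    rw [List.map_cons, List.sum_cons, h a List.mem_cons_self, ih fun w hw => h w (List.mem_cons_of_mem _ hw),
      List.length_cons]
    ring

theorem sum_map_count {φ : ℕ → ℕ} {l : List ℕ} {c : ℕ} {p : ℕ → Bool}
    (h : ∀ w ∈ l, φ w = if p w then c else 0) : (l.map φ).sum = c * l.countP p := by
  induction l with
  | nil => simp
  | cons a l ih =>
    rw [List.map_cons, List.sum_cons, h a List.mem_cons_self, ih fun w hw => h w (List.mem_cons_of_mem _ hw),
      List.countP_cons]
    split <;> ring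

end OC

namespace Model

variable {G : Type*} [Group G] [Finite G] {z : G} {P : Subgroup G} (M : Model z P)

open Classical in
/-- The sum of a function over the two elements with given vector and matrix. -/
noncomputable def sumPt (f : ↥(centralizer ({z} : Set G)) → ℕ) (v : ℕ) (C : List ℕ) : ℕ :=
  if h : ∃ g, M.Code g v C then f h.choose + f (h.choose * M.toH M.zQ) else 0

variable {M}

theorem mul_zz (g : ↥(centralizer ({z} : Set G))) : g * M.toH M.zQ * M.toH M.zQ = g := by
  rw [mul_assoc, M.zz, mul_one]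

theorem Code.ne_mul_z {g : ↥(centralizer ({z} : Set G))} {v : ℕ} {C : List ℕ} (_ : M.Code g v C) :
    g ≠ g * M.toH M.zQ :=
  fun e => M.z_ne (left_eq_mul.1 e)

theorem Code.sumPt_eq {g : ↥(centralizer ({z} : Set G))} {v : ℕ} {C : List ℕ} (hg : M.Code g v C)
    (f : ↥(centralizer ({z} : Set G)) → ℕ) : M.sumPt f v C = f g + f (g * M.toH M.zQ) := by
  have h : ∃ g, M.Code g v C := ⟨g, hg⟩
  rw [Model.sumPt, dif_pos h]
  rcases hg.cases h.choose_spec with e | e <;> rw [e]
  rw [mul_zz, add_comm]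

theorem sumPt_congr {f f' : ↥(centralizer ({z} : Set G)) → ℕ} {v : ℕ} {C : List ℕ}
    (h : ∀ g, M.Code g v C → f g = f' g) : M.sumPt f v C = M.sumPt f' v C := by
  unfold Model.sumPt
  split
  · rename_i he
    rw [h _ he.choose_spec, h _ he.choose_spec.mul_z]
  · rfl

theorem conj_mul_z (h x : ↥(centralizer ({z} : Set G))) :
    h * (x * M.toH M.zQ) * h⁻¹ = h * x * h⁻¹ * M.toH M.zQ := by
  rw [← mul_assoc h x, mul_assoc (h * x), ← M.z_fix h⁻¹, ← mul_assoc]

/-- Conjugation moves the sums. -/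
theorem Code.sumPt_conj {h : ↥(centralizer ({z} : Set G))} {u v v' : ℕ} {E C C' : List ℕ} (hh : M.Code h u E)
    (hv : v < 4096) (hC : InL0 C) (hl : C'.length = 12) (e1 : mulC E C = mulC C' E)
    (e2 : u ^^^ app E v = v' ^^^ app C' u) (f : ↥(centralizer ({z} : Set G)) → ℕ) :
    M.sumPt f v' C' = M.sumPt (fun g => f (h * g * h⁻¹)) v C := by
  obtain ⟨x, hx⟩ := M.code_of_pair hv hC
  rw [(hh.conj hx hl e1 e2).sumPt_eq, hx.sumPt_eq]
  simp only [conj_mul_z]

theorem LM_lift {i : ℕ} (hi : i < 6304) : InL0 (LM i) ∧ ∃ h T, M.Code h 0 T ∧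
    mulC T (repM (tagT i)) = mulC (LM i) T := by
  obtain ⟨-, T, hT, e⟩ := tree_reach hi
  obtain ⟨h, hh⟩ := M.code_of_pair (show (0 : ℕ) < 4096 by norm_num) hT
  obtain ⟨x, hx⟩ := M.code_of_pair (show (0 : ℕ) < 4096 by norm_num) (repM_InL0 (tagT i))
  have := hh.conj hx (length_LM i) e (v' := 0) (by simp)
  exact ⟨this.mem_L0, h, T, hh, e⟩

variable [Fintype ↥(centralizer ({z} : Set G))]

theorem sum_fibre (f : ↥(centralizer ({z} : Set G)) → ℕ) {v : ℕ} (hv : v < 4096) {C : List ℕ} (hC : InL0 C)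
    [DecidablePred fun g => M.Code g v C] :
    ∑ g, (if M.Code g v C then f g else 0) = M.sumPt f v C := by
  classical
  obtain ⟨g, hg⟩ := M.code_of_pair hv hC
  rw [hg.sumPt_eq, ← Finset.sum_pair hg.ne_mul_z, ← Finset.sum_filter]
  refine Finset.sum_congr ?_ fun _ _ => rfl
  ext x
  simp only [Finset.mem_filter, Finset.mem_univ, true_and, Finset.mem_insert, Finset.mem_singleton]
  refine ⟨fun hx => hg.cases hx, ?_⟩
  rintro (rfl | rfl)
  · exact hg
  · exact hg.mul_z

/-- The sum over all elements with a given matrix. -/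
theorem sum_matrix (f : ↥(centralizer ({z} : Set G)) → ℕ) {C : List ℕ} (hC : InL0 C)
    [DecidablePred fun g => ∃ v, M.Code g v C] :
    ∑ v ∈ Finset.range 4096, M.sumPt f v C = ∑ g, (if ∃ v, M.Code g v C then f g else 0) := by
  classical
  rw [Finset.sum_congr rfl fun v hv => (sum_fibre f (Finset.mem_range.1 hv) hC).symm, Finset.sum_comm]
  refine Finset.sum_congr rfl fun g _ => ?_
  by_cases h : ∃ v, M.Code g v C
  · rw [if_pos h]
    obtain ⟨v, hv⟩ := h
    rw [Finset.sum_eq_single_of_mem v (Finset.mem_range.2 hv.lt) fun w _ hne =>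
      if_neg fun hw => hne (hw.unique hv).1, if_pos hv]
  · rw [if_neg h]
    exact Finset.sum_eq_zero fun v _ => if_neg fun hv => h ⟨v, hv⟩

/-- A conjugating element moves one matrix to another. -/
theorem sum_matrix_conj {h : ↥(centralizer ({z} : Set G))} {u : ℕ} {E C C' : List ℕ} (hh : M.Code h u E)
    (hC : InL0 C) (hC' : InL0 C') (e : mulC E C = mulC C' E) (f : ↥(centralizer ({z} : Set G)) → ℕ) :
    ∑ v ∈ Finset.range 4096, M.sumPt f v C' =
      ∑ v ∈ Finset.range 4096, M.sumPt (fun g => f (h * g * h⁻¹)) v C := by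
  classical
  rw [sum_matrix _ hC', sum_matrix _ hC, ← (MulAut.conj h).toEquiv.sum_comp]
  refine Finset.sum_congr rfl fun g _ => ?_
  show (if ∃ v, M.Code (h * g * h⁻¹) v C' then _ else 0) = _
  have key : (∃ v, M.Code (h * g * h⁻¹) v C') ↔ ∃ v, M.Code g v C := by
    obtain ⟨w, D, hD, hED, hDE⟩ := hh.inv_cols
    constructor
    · rintro ⟨v, hv⟩
      have h1 := (hD.mul hv).mul hh
      rw [show h⁻¹ * (h * g * h⁻¹) * h = g by group] at h1
      rw [mulC_assoc, ← e, ← mulC_assoc, hDE, unitC_mulC hC fun _ h => h] at h1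
      exact ⟨_, h1⟩
    · rintro ⟨v, hv⟩
      refine ⟨_, hh.conj hv (gen_length hC') e (v' := u ^^^ app E v ^^^ app C' u) ?_⟩
      rw [Nat.xor_assoc, Nat.xor_self, Nat.xor_zero]
  exact if_congr key rfl rfl

/-- The sum over everything of a function living on the involutions. -/
theorem sum_all (f : ↥(centralizer ({z} : Set G)) → ℕ) (hf : ∀ g, g * g ≠ 1 → f g = 0) :
    ∑ g, f g = ∑ i ∈ Finset.range 6304, ∑ v ∈ Finset.range 4096, M.sumPt f v (LM i) := by
  classical
  rw [Finset.sum_congr rfl fun i hi => sum_matrix f (LM_lift (M := M) (Finset.mem_range.1 hi)).1, Finset.sum_comm]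
  refine Finset.sum_congr rfl fun g _ => ?_
  by_cases hg : g * g = 1
  · obtain ⟨v, C, -, -, hc⟩ := M.exists_code g
    obtain ⟨i, hi, rfl⟩ := hc.exists_index hg
    rw [Finset.sum_eq_single_of_mem i (Finset.mem_range.2 hi) fun j hj hne => if_neg ?_, if_pos ⟨v, hc⟩]
    rintro ⟨w, hw⟩
    exact hne (LM_inj (Finset.mem_range.1 hj) hi (hw.unique hc).2)
  · rw [hf g hg]
    exact (Finset.sum_eq_zero fun i _ => by simp).symm

/-- The sum of a class function over the involutions, class by class. -/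
theorem sum_classes (f : ↥(centralizer ({z} : Set G)) → ℕ) (hf : ∀ g, g * g ≠ 1 → f g = 0)
    (hc : ∀ h g, f (h * g * h⁻¹) = f g) :
    ∑ g, f g = 1155 * (∑ w ∈ Finset.range 4096, M.sumPt f w (repM 0)) +
      990 * (∑ w ∈ Finset.range 4096, M.sumPt f w (repM 1)) +
      4158 * (∑ w ∈ Finset.range 4096, M.sumPt f w (repM 2)) +
      ∑ w ∈ Finset.range 4096, M.sumPt f w (repM 3) := by
  rw [sum_all (M := M) f hf, ← tag_sum fun k => ∑ w ∈ Finset.range 4096, M.sumPt f w (repM k)]
  refine Finset.sum_congr rfl fun i hi => ?_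
  obtain ⟨hL, h, T, hh, e⟩ := LM_lift (M := M) (Finset.mem_range.1 hi)
  rw [sum_matrix_conj hh (repM_InL0 _) hL e f]
  simp only [hc]

end Model

end Cfsg.Agent.JankoFour
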