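import Cfsg.Agent.Lib.JankoFour.OCountDefs
import Cfsg.Agent.Lib.JankoFour.BigChecks

/-!
The table contains every involution of the Sylow subgroup.
-/

set_option autoImplicit false
set_option maxRecDepth 100000

namespace Cfsg.Agent.JankoFour.OC

open Cfsg.Agent.J4Module.Data

/-- The places of the involutions of the Sylow subgroup. -/
def sylIdx : List ℕ :=
  [176, 235, 318, 320, 528, 678, 788, 793, 804, 813, 934, 1033, 1041, 1079,
  1184, 1569, 1588, 1669, 1670, 1793, 1806, 1921, 1922, 2020, 2032, 2091, 2446, 2508,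
  2865, 2866, 3026, 3027, 3127, 3147, 3168, 3205, 3387, 3408, 3417, 3440, 3561, 3562,
  4161, 4196, 4287, 4335, 4401, 4412, 4414, 4579, 4580, 4675, 4687, 5153, 5316, 5457,
  5490, 5493, 5511, 5519, 5634, 5686, 5696, 5720, 5984, 5994, 6006, 6019, 6020, 6057,
  6075, 6140]

theorem sylIdx_lt : ∀ i ∈ sylIdx, i < 6304 := by decide +kernel

theorem syl_all : sylow.all (fun S => mulC S S != unitC || sylIdx.any fun i => LP i == pkC S && LM i == S) = true := by
  decide +kernel

end Cfsg.Agent.JankoFour.OC
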