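import Cfsg.Agent.Lib.JankoFour.OCountDefs

/-!
The table of involutions is closed under the first two generators.
-/

set_option autoImplicit false
set_option maxRecDepth 100000
set_option Elab.async false

namespace Cfsg.Agent.JankoFour.OC

theorem close_zero_0 : (List.range' 0 788).all (closeOK 0) = true := by decide +kernel

theorem close_zero_1 : (List.range' 788 788).all (closeOK 0) = true := by decide +kernel

theorem close_zero_2 : (List.range' 1576 788).all (closeOK 0) = true := by decide +kernel

theorem close_zero_3 : (List.range' 2364 788).all (closeOK 0) = true := by decide +kernel

theorem close_zero_4 : (List.range' 3152 788).all (closeOK 0) = true := by decide +kernel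

theorem close_zero_5 : (List.range' 3940 788).all (closeOK 0) = true := by decide +kernel

theorem close_zero_6 : (List.range' 4728 788).all (closeOK 0) = true := by decide +kernel

theorem close_zero_7 : (List.range' 5516 788).all (closeOK 0) = true := by decide +kernel

theorem close_zero : (List.range 6304).all (closeOK 0) = true :=
  all_pieces fun k hk => by
    simp only [List.mem_cons, List.not_mem_nil, or_false] at hk
    rcases hk with rfl | rfl | rfl | rfl | rfl | rfl | rfl | rfl
    exacts [close_zero_0, close_zero_1, close_zero_2, close_zero_3, close_zero_4, close_zero_5, close_zero_6, close_zero_7]

theorem close_one_0 : (List.range' 0 788).all (closeOK 1) = true := by decide +kernel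

theorem close_one_1 : (List.range' 788 788).all (closeOK 1) = true := by decide +kernel

theorem close_one_2 : (List.range' 1576 788).all (closeOK 1) = true := by decide +kernel

theorem close_one_3 : (List.range' 2364 788).all (closeOK 1) = true := by decide +kernel

theorem close_one_4 : (List.range' 3152 788).all (closeOK 1) = true := by decide +kernel

theorem close_one_5 : (List.range' 3940 788).all (closeOK 1) = true := by decide +kernel

theorem close_one_6 : (List.range' 4728 788).all (closeOK 1) = true := by decide +kernel

theorem close_one_7 : (List.range' 5516 788).all (closeOK 1) = true := by decide +kernel

theorem close_one : (List.range 6304).all (closeOK 1) = true :=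
  all_pieces fun k hk => by
    simp only [List.mem_cons, List.not_mem_nil, or_false] at hk
    rcases hk with rfl | rfl | rfl | rfl | rfl | rfl | rfl | rfl
    exacts [close_one_0, close_one_1, close_one_2, close_one_3, close_one_4, close_one_5, close_one_6, close_one_7]

end Cfsg.Agent.JankoFour.OC
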