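import Cfsg.Agent.Lib.JankoFour.OCountDefs

/-!
The table of involutions is closed under the element of order four.
-/

set_option autoImplicit false
set_option maxRecDepth 100000
set_option Elab.async false

namespace Cfsg.Agent.JankoFour.OC

theorem close_two_0 : (List.range' 0 788).all (closeOK 2) = true := by decide +kernel

theorem close_two_1 : (List.range' 788 788).all (closeOK 2) = true := by decide +kernel

theorem close_two_2 : (List.range' 1576 788).all (closeOK 2) = true := by decide +kernel

theorem close_two_3 : (List.range' 2364 788).all (closeOK 2) = true := by decide +kernel

theorem close_two_4 : (List.range' 3152 788).all (closeOK 2) = true := by decide +kernel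

theorem close_two_5 : (List.range' 3940 788).all (closeOK 2) = true := by decide +kernel

theorem close_two_6 : (List.range' 4728 788).all (closeOK 2) = true := by decide +kernel

theorem close_two_7 : (List.range' 5516 788).all (closeOK 2) = true := by decide +kernel

theorem close_two : (List.range 6304).all (closeOK 2) = true :=
  all_pieces fun k hk => by
    simp only [List.mem_cons, List.not_mem_nil, or_false] at hk
    rcases hk with rfl | rfl | rfl | rfl | rfl | rfl | rfl | rfl
    exacts [close_two_0, close_two_1, close_two_2, close_two_3, close_two_4, close_two_5, close_two_6, close_two_7]

end Cfsg.Agent.JankoFour.OC
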