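import Cfsg.Agent.Lib.JankoFour.OCountDefs

/-!
The table of involutions is closed under the remaining generators.
-/

set_option autoImplicit false
set_option maxRecDepth 100000
set_option Elab.async false

namespace Cfsg.Agent.JankoFour.OC

theorem close_three_0 : (List.range' 0 788).all (closeOK 3) = true := by decide +kernel

theorem close_three_1 : (List.range' 788 788).all (closeOK 3) = true := by decide +kernel

theorem close_three_2 : (List.range' 1576 788).all (closeOK 3) = true := by decide +kernel

theorem close_three_3 : (List.range' 2364 788).all (closeOK 3) = true := by decide +kernel

theorem close_three_4 : (List.range' 3152 788).all (closeOK 3) = true := by decide +kernel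

theorem close_three_5 : (List.range' 3940 788).all (closeOK 3) = true := by decide +kernel

theorem close_three_6 : (List.range' 4728 788).all (closeOK 3) = true := by decide +kernel

theorem close_three_7 : (List.range' 5516 788).all (closeOK 3) = true := by decide +kernel

theorem close_three : (List.range 6304).all (closeOK 3) = true :=
  all_pieces fun k hk => by
    simp only [List.mem_cons, List.not_mem_nil, or_false] at hk
    rcases hk with rfl | rfl | rfl | rfl | rfl | rfl | rfl | rfl
    exacts [close_three_0, close_three_1, close_three_2, close_three_3, close_three_4, close_three_5, close_three_6, close_three_7]

theorem close_four_0 : (List.range' 0 788).all (closeOK 4) = true := by decide +kernel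

theorem close_four_1 : (List.range' 788 788).all (closeOK 4) = true := by decide +kernel

theorem close_four_2 : (List.range' 1576 788).all (closeOK 4) = true := by decide +kernel

theorem close_four_3 : (List.range' 2364 788).all (closeOK 4) = true := by decide +kernel

theorem close_four_4 : (List.range' 3152 788).all (closeOK 4) = true := by decide +kernel

theorem close_four_5 : (List.range' 3940 788).all (closeOK 4) = true := by decide +kernel

theorem close_four_6 : (List.range' 4728 788).all (closeOK 4) = true := by decide +kernel

theorem close_four_7 : (List.range' 5516 788).all (closeOK 4) = true := by decide +kernel

theorem close_four : (List.range 6304).all (closeOK 4) = true :=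
  all_pieces fun k hk => by
    simp only [List.mem_cons, List.not_mem_nil, or_false] at hk
    rcases hk with rfl | rfl | rfl | rfl | rfl | rfl | rfl | rfl
    exacts [close_four_0, close_four_1, close_four_2, close_four_3, close_four_4, close_four_5, close_four_6, close_four_7]

end Cfsg.Agent.JankoFour.OC
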