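import Cfsg.Agent.Lib.JankoFour.OCountDefs

/-!
The table of involutions is reached from the representatives and is strictly increasing.
-/

set_option autoImplicit false
set_option maxRecDepth 100000
set_option Elab.async false

namespace Cfsg.Agent.JankoFour.OC

open Cfsg.Agent.J4Module.Data

theorem tree_all_0 : (List.range' 0 788).all treeOK = true := by decide +kernel

theorem tree_all_1 : (List.range' 788 788).all treeOK = true := by decide +kernel

theorem tree_all_2 : (List.range' 1576 788).all treeOK = true := by decide +kernel

theorem tree_all_3 : (List.range' 2364 788).all treeOK = true := by decide +kernel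

theorem tree_all_4 : (List.range' 3152 788).all treeOK = true := by decide +kernel

theorem tree_all_5 : (List.range' 3940 788).all treeOK = true := by decide +kernel

theorem tree_all_6 : (List.range' 4728 788).all treeOK = true := by decide +kernel

theorem tree_all_7 : (List.range' 5516 788).all treeOK = true := by decide +kernel

theorem tree_all : (List.range 6304).all treeOK = true :=
  all_pieces fun k hk => by
    simp only [List.mem_cons, List.not_mem_nil, or_false] at hk
    rcases hk with rfl | rfl | rfl | rfl | rfl | rfl | rfl | rfl
    exacts [tree_all_0, tree_all_1, tree_all_2, tree_all_3, tree_all_4, tree_all_5, tree_all_6, tree_all_7]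

theorem sorted_all_0 : (List.range' 0 788).all (fun i => pkC (LM i) == LP i &&
    ((i + 1 == 6304 : Bool) || (LP i < LP (i + 1) : Bool))) = true := by decide +kernel

theorem sorted_all_1 : (List.range' 788 788).all (fun i => pkC (LM i) == LP i &&
    ((i + 1 == 6304 : Bool) || (LP i < LP (i + 1) : Bool))) = true := by decide +kernel

theorem sorted_all_2 : (List.range' 1576 788).all (fun i => pkC (LM i) == LP i &&
    ((i + 1 == 6304 : Bool) || (LP i < LP (i + 1) : Bool))) = true := by decide +kernel

theorem sorted_all_3 : (List.range' 2364 788).all (fun i => pkC (LM i) == LP i &&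
    ((i + 1 == 6304 : Bool) || (LP i < LP (i + 1) : Bool))) = true := by decide +kernel

theorem sorted_all_4 : (List.range' 3152 788).all (fun i => pkC (LM i) == LP i &&
    ((i + 1 == 6304 : Bool) || (LP i < LP (i + 1) : Bool))) = true := by decide +kernel

theorem sorted_all_5 : (List.range' 3940 788).all (fun i => pkC (LM i) == LP i &&
    ((i + 1 == 6304 : Bool) || (LP i < LP (i + 1) : Bool))) = true := by decide +kernel

theorem sorted_all_6 : (List.range' 4728 788).all (fun i => pkC (LM i) == LP i &&
    ((i + 1 == 6304 : Bool) || (LP i < LP (i + 1) : Bool))) = true := by decide +kernel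

theorem sorted_all_7 : (List.range' 5516 788).all (fun i => pkC (LM i) == LP i &&
    ((i + 1 == 6304 : Bool) || (LP i < LP (i + 1) : Bool))) = true := by decide +kernel

theorem sorted_all : (List.range 6304).all (fun i => pkC (LM i) == LP i &&
    ((i + 1 == 6304 : Bool) || (LP i < LP (i + 1) : Bool))) = true :=
  all_pieces fun k hk => by
    simp only [List.mem_cons, List.not_mem_nil, or_false] at hk
    rcases hk with rfl | rfl | rfl | rfl | rfl | rfl | rfl | rfl
    exacts [sorted_all_0, sorted_all_1, sorted_all_2, sorted_all_3, sorted_all_4, sorted_all_5, sorted_all_6, sorted_all_7]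

theorem tag_count : ((List.range 6304).countP fun i => tagT i == 0) = 1155 ∧
    ((List.range 6304).countP fun i => tagT i == 1) = 990 ∧
    ((List.range 6304).countP fun i => tagT i == 2) = 4158 ∧
    ((List.range 6304).countP fun i => tagT i == 3) = 1 := by decide +kernel

theorem gens_packed : gP.map unp = gensL ∧ (∀ k < 4, unp (repP k) = repM k) := by decide +kernel

end Cfsg.Agent.JankoFour.OC
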