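import Cfsg.Agent.Lib.JankoFour.OCountPairs
import Cfsg.Agent.Lib.JankoFour.OCountTableChecks
import Cfsg.Agent.Lib.JankoFour.OCountTableMid
import Cfsg.Agent.Lib.JankoFour.OCountTableMore
import Cfsg.Agent.Lib.JankoFour.OCountTreeChecks
import Cfsg.Agent.Lib.JankoFour.OCountSylChecks

/-!
What the checks on the table of involutions say: it lists each involution of the group of order 2661120 and the
identity once, and each entry is a conjugate of the representative of its class.
-/

set_option autoImplicit false
set_option linter.unusedSectionVars false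
set_option maxRecDepth 100000

namespace Cfsg.Agent.JankoFour

open Subgroup
open Cfsg.Agent.LargeFischer (Ctx QG)
open Cfsg.Agent.J4Module (app)
open Cfsg.Agent.J4Module.Data
open OC

namespace OC

theorem close_all {k : ℕ} (hk : k < 5) {i : ℕ} (hi : i < 6304) : permT k i < 6304 ∧ tagT (permT k i) = tagT i ∧
    mulC (gensL.getD k []) (LM i) = mulC (LM (permT k i)) (gensL.getD k []) := by
  have h : closeOK k i = true := by
    interval_cases k
    · exact List.all_eq_true.1 close_zero i (List.mem_range.2 hi)
    · exact List.all_eq_true.1 close_one i (List.mem_range.2 hi)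
    · exact List.all_eq_true.1 close_two i (List.mem_range.2 hi)
    · exact List.all_eq_true.1 close_three i (List.mem_range.2 hi)
    · exact List.all_eq_true.1 close_four i (List.mem_range.2 hi)
  simp only [closeOK, Bool.and_eq_true, beq_iff_eq, decide_eq_true_eq] at h
  obtain ⟨⟨h1, h2⟩, h3⟩ := h
  refine ⟨h1, h2, ?_⟩
  have e : gensL.getD k [] = unp (gP.getD k 0) := by
    have hk' : k < gP.length := hk
    rw [← gens_packed.1, List.getD_eq_getElem _ _ (by simpa using hk'), List.getElem_map,
      List.getD_eq_getElem _ _ hk']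
  rw [LM, LM, e, ← unp_mulP, ← unp_mulP, h3]

theorem LM_inj {i j : ℕ} (hi : i < 6304) (hj : j < 6304) (h : LM i = LM j) : i = j := by
  have hchk : ∀ l < 6304, pkC (LM l) = LP l ∧ (l + 1 < 6304 → LP l < LP (l + 1)) := fun l hl => by
    have := List.all_eq_true.1 sorted_all l (List.mem_range.2 hl)
    simp only [Bool.and_eq_true, Bool.or_eq_true, beq_iff_eq, decide_eq_true_eq] at this
    exact ⟨this.1, fun h => this.2.resolve_left (by omega)⟩
  have hmono : ∀ a b, a < b → b < 6304 → LP a < LP b := by
    intro a b hab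
    induction b with
    | zero => omega
    | succ b ih =>
      intro hb
      have h1 := (hchk b (by omega)).2 hb
      rcases Nat.lt_succ_iff_lt_or_eq.1 hab with h | rfl
      · exact (ih h (by omega)).trans h1
      · exact h1
  have e : LP i = LP j := by rw [← (hchk i hi).1, ← (hchk j hj).1, h]
  rcases lt_trichotomy i j with h | h | h
  · exact absurd e (hmono i j h hj).ne
  · exact h
  · exact absurd e (hmono j i h hi).ne'

theorem length_LM (i : ℕ) : (LM i).length = 12 := length_unp _

/-- The table is closed under the whole group. -/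
theorem closed_gen {E : List ℕ} (hE : InL0 E) {i : ℕ} (hi : i < 6304) :
    ∃ j < 6304, tagT j = tagT i ∧ mulC E (LM i) = mulC (LM j) E := by
  induction hE with
  | one => exact ⟨i, hi, rfl, by rw [mulC_unitC (length_LM i), LM, unitC_mul_unp]⟩
  | @mul g C hg _ ih =>
    obtain ⟨j, hj, htag, e⟩ := ih
    obtain ⟨k, hk, rfl⟩ : ∃ k < 5, gensL.getD k [] = g := by
      obtain ⟨k, hk, rfl⟩ := List.getElem_of_mem hg
      exact ⟨k, hk, List.getD_eq_getElem _ _ hk⟩
    obtain ⟨h1, h2, h3⟩ := close_all hk hj
    exact ⟨_, h1, h2.trans htag, by rw [mulC_assoc, e, ← mulC_assoc, h3, mulC_assoc]⟩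

theorem wordP_eq {w : List ℕ} (h : w.all (fun k => (k < 5 : Bool)) = true) : unp (wordP gP w) = Big.wordC w := by
  have hu : unp (pkC unitC) = unitC := by decide +kernel
  induction w with
  | nil => exact hu
  | cons k w ih =>
    simp only [List.all_cons, Bool.and_eq_true, decide_eq_true_eq] at h
    show unp (mulP (gP.getD k 0) (wordP gP w)) = mulC (gensL.getD k unitC) (Big.wordC w)
    rw [unp_mulP, ih h.2]
    have hk : k < gP.length := h.1
    congr 1
    rw [List.getD_eq_getElem _ _ hk, List.getD_eq_getElem _ _ (show k < gensL.length from h.1)]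
    have := gens_packed.1
    simp only [← this, List.getElem_map]

theorem word_InL0 {w : List ℕ} (h : w.all (fun k => (k < 5 : Bool)) = true) : InL0 (Big.wordC w) :=
  Big.wordC_mem fun k hk => by simpa using List.all_eq_true.1 h k hk

theorem repM_eq {k : ℕ} (hk : k < 4) : unp (repP k) = repM k := gens_packed.2 k hk

theorem repM_InL0 (k : ℕ) : InL0 (repM k) := by
  match k with
  | 0 => exact gen_mono (Big.bEl_InK0 (by norm_num))
  | 1 => exact Big.wordC_mem (by decide)
  | 2 =>
    have h := Gen.mul (gens := gensL) (g := sC) (by simp [gensL]) Gen.one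
    rwa [mulC_unitC rfl] at h
  | k + 3 => exact Gen.one

/-- Each entry is conjugate to the representative of its class. -/
theorem tree_reach {i : ℕ} (hi : i < 6304) :
    tagT i < 4 ∧ ∃ T, InL0 T ∧ mulC T (repM (tagT i)) = mulC (LM i) T := by
  suffices h : ∀ d i, i < 6304 → tget treeD i / 65536 = d →
      tagT i < 4 ∧ ∃ T, InL0 T ∧ mulC T (repM (tagT i)) = mulC (LM i) T from h _ i hi rfl
  intro d
  induction d using Nat.strong_induction_on with
  | _ d ih =>
    intro i hi hd
    have h := List.all_eq_true.1 tree_all i (List.mem_range.2 hi)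
    simp only [treeOK, Bool.and_eq_true, decide_eq_true_eq, hd] at h
    obtain ⟨htag, h⟩ := h
    refine ⟨htag, ?_⟩
    by_cases hd0 : d = 0
    · rw [if_pos (by simp [hd0]), beq_iff_eq] at h
      refine ⟨unitC, Gen.one, ?_⟩
      rw [← repM_eq htag, ← h, unitC_mul_unp, mulC_unitC (length_LM i)]
      rfl
    · rw [if_neg (by simp [hd0])] at h
      simp only [Bool.and_eq_true, decide_eq_true_eq, beq_iff_eq] at h
      obtain ⟨⟨⟨hp, hdep⟩, hg⟩, hperm⟩ := h
      obtain ⟨-, T, hT, e⟩ := ih _ hdep _ hp rfl
      obtain ⟨-, h2, h3⟩ := close_all hg hp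
      rw [hperm] at h2 h3
      refine ⟨mulC (gensL.getD (tget treeD i / 8192 % 8) []) T, Gen.mul ?_ hT, ?_⟩
      · rw [List.getD_eq_getElem _ _ (show tget treeD i / 8192 % 8 < gensL.length from hg)]
        exact List.getElem_mem _
      · rw [h2, mulC_assoc, e, ← mulC_assoc, h3, mulC_assoc]

theorem tag_sum (φ : ℕ → ℕ) : ∑ i ∈ Finset.range 6304, φ (tagT i) = 1155 * φ 0 + 990 * φ 1 + 4158 * φ 2 + φ 3 := by
  have hc : ∀ k, ((Finset.range 6304).filter fun i => tagT i = k).card =
      (List.range 6304).countP fun i => tagT i == k := fun k => by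
    rw [List.countP_eq_length_filter, ← List.toFinset_card_of_nodup ((List.nodup_range).filter _)]
    congr 1
    ext i
    simp
  rw [← Finset.sum_fiberwise_of_maps_to (t := Finset.range 4) (g := tagT)
    (fun i hi => Finset.mem_range.2 (tree_reach (Finset.mem_range.1 hi)).1)]
  have h : ∀ k, ∑ i ∈ (Finset.range 6304).filter (fun i => tagT i = k), φ (tagT i) =
      ((List.range 6304).countP fun i => tagT i == k) * φ k := fun k => by
    rw [← hc, Finset.sum_congr rfl fun i hi => by rw [(Finset.mem_filter.1 hi).2], Finset.sum_const, smul_eq_mul]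
  simp only [Finset.sum_range_succ, Finset.sum_range_zero, h, zero_add]
  obtain ⟨a, b, c, d⟩ := tag_count
  rw [a, b, c, d, one_mul]

end OC

namespace Model

variable {G : Type*} [Group G] [Finite G] {z : G} {P : Subgroup G} {M : Model z P}

/-- The matrix of an involution is in the table. -/
theorem Code.exists_index {g : ↥(centralizer ({z} : Set G))} {v : ℕ} {C : List ℕ} (h : M.Code g v C)
    (hg : g * g = 1) : ∃ i < 6304, LM i = C := by
  obtain ⟨k, hk⟩ := M.exists_conj_sylow (T := zpowers g) (by
    rintro ⟨_, j, rfl⟩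
    refine ⟨1, Subtype.ext ?_⟩
    show (g ^ j) ^ (2 ^ 1) = 1
    rw [pow_one, ← zpow_natCast, ← zpow_mul, mul_comm, zpow_mul, zpow_natCast, pow_two, hg, one_zpow])
  obtain ⟨S, hS, -, hSa⟩ := hk g (mem_zpowers g)
  have hS2 : mulC S S = unitC := by
    refine M.acts_unique (by rw [length_mulC]; exact sylow_len hS) rfl (M.acts_mul hSa hSa) ?_
    rw [show k * g * k⁻¹ * (k * g * k⁻¹) = k * (g * g) * k⁻¹ by group, hg, mul_one, mul_inv_cancel]
    exact M.acts_one
  have h1 := List.all_eq_true.1 syl_all S hS
  simp only [hS2, bne_self_eq_false, Bool.false_or, List.any_eq_true, Bool.and_eq_true, beq_iff_eq] at h1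
  obtain ⟨i, hi, -, hiS⟩ := h1
  obtain ⟨a, E, -, hE, hk'⟩ := M.exists_code k
  obtain ⟨b, D, hD, hED, hDE⟩ := hk'.inv_cols
  obtain ⟨j, hj, -, e⟩ := closed_gen hD.mem_L0 (sylIdx_lt i hi)
  refine ⟨j, hj, ?_⟩
  have h2 := (hD.mul ((hk'.mul h).mul hD)).mul hk'
  rw [show k⁻¹ * (k * g * k⁻¹) * k = g by group] at h2
  have hS' : mulC (mulC E C) D = S := M.acts_unique (by rw [length_mulC]; exact hD.length) (sylow_len hS)
    ((hk'.mul h).mul hD).acts hSa
  have hC := (h2.unique h).2
  rw [hS', ← hiS] at hC
  rw [← hC, e, mulC_assoc, hDE, mulC_unitC (length_LM j)]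

end Model

end Cfsg.Agent.JankoFour
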