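import Cfsg.Agent.Lib.JankoFour.OrbitData
import Cfsg.Agent.Lib.JankoFour.MoveData
import Cfsg.Agent.Lib.JankoFour.BigTables
import Cfsg.Agent.Lib.JankoFour.Checks
import Cfsg.Agent.Lib.LargeFischer.BigCount

/-!
Kernel checks on the orbits on coordinates of the large abelian subgroup.
-/

set_option autoImplicit false
set_option maxRecDepth 100000

namespace Cfsg.Agent.JankoFour.Orb

open Cfsg.Agent.J4Module (app of_chunks)
open Cfsg.Agent.J4Module.Data

/-- The generators in a form. -/
def mvC (f k : ℕ) : List ℕ := (moveTab.getD f []).getD k []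

/-- An orbit as a bit set. -/
def oMask (f j : ℕ) : ℕ := (orbMask.getD f []).getD j 0

/-- A spanning tree. -/
def tree (f j : ℕ) : List (ℕ × ℕ) :=
  [[orbTree00, orbTree01, orbTree02, orbTree03, orbTree04],
    [orbTree10, orbTree11, orbTree12, orbTree13, orbTree14]].getD f [] |>.getD j []

/-- Spread along a spanning tree. -/
def spread (f : ℕ) : List (ℕ × ℕ) → ℕ → Option ℕ
  | [], s => some s
  | (k, q) :: rest, s =>
    if s.testBit q && decide (k < 15) && decide (q < 2048) then spread f rest (s ||| (1 <<< app (mvC f k) q))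
    else none

theorem spread_ok : ∀ f < 2, ∀ j < 5,
    spread f (tree f j) (1 <<< orbRep.getD j 0) = some (oMask f j) := by decide +kernel

/-- A set of orbits together with the involution. -/
def zSet (f m : ℕ) : ℕ :=
  2 ^ 1024 ||| (if m.testBit 0 then oMask f 0 else 0) ||| (if m.testBit 1 then oMask f 1 else 0) |||
    (if m.testBit 2 then oMask f 2 else 0) ||| (if m.testBit 3 then oMask f 3 else 0) |||
      (if m.testBit 4 then oMask f 4 else 0)

theorem cover : ∀ f < 2, ∀ n < 2048,
    n = 0 ∨ n = 1024 ∨ (List.range 5).any (fun j => (oMask f j).testBit n) = true := by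
  intro f hf
  interval_cases f
  · exact of_chunks 32 (by decide +kernel)
  · exact of_chunks 32 (by decide +kernel)

theorem rep_spec : ∀ f < 2, ∀ j < 5,
    (oMask f j).testBit (orbRep.getD j 0) = true ∧ orbRep.getD j 0 < 2048 ∧ (oMask f j).testBit 0 = false ∧
      (oMask f j).testBit 1024 = false ∧ oMask f j < 2 ^ 2048 := by decide +kernel

/-- The number of triangles at a point. -/
def deg (S u : ℕ) : ℕ := ((List.range 2048).filter fun v => S.testBit v && S.testBit (u ^^^ v)).length

theorem wit_spec : ∀ t ∈ orbWit, t.2.1.testBit t.2.2 = true ∧ t.2.2 < 5 ∧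
    deg (zSet t.1 t.2.1) 1024 ≠ deg (zSet t.1 t.2.1) (orbRep.getD t.2.2 0) := by decide +kernel

theorem wit_cover_bool : ((List.range 2).all fun f => (List.range 32).all fun m =>
    m == 0 || m == 3 || m == 31 || (f == 0 && m == 16) || (f == 1 && m == 25) ||
      orbWit.any fun t => t.1 == f && t.2.1 == m) = true := by decide +kernel

theorem wit_cover {f m : ℕ} (hf : f < 2) (hm : m < 32) (h0 : m ≠ 0) :
    (∃ t ∈ orbWit, t.1 = f ∧ t.2.1 = m) ∨ m = 3 ∨ m = 31 ∨ (f = 0 ∧ m = 16) ∨ (f = 1 ∧ m = 25) := by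
  have h := wit_cover_bool
  simp only [List.all_eq_true, List.mem_range, Bool.or_eq_true, Bool.and_eq_true, beq_iff_eq,
    List.any_eq_true] at h
  rcases h f hf m hm with ((((e | e) | e) | e) | e) | e
  · exact absurd e h0
  · exact Or.inr (Or.inl e)
  · exact Or.inr (Or.inr (Or.inl e))
  · exact Or.inr (Or.inr (Or.inr (Or.inl e)))
  · exact Or.inr (Or.inr (Or.inr (Or.inr e)))
  · exact Or.inl e

/-- The set not conjugate to the central involution. -/
def tMask : ℕ := oMask 1 1 ||| oMask 1 2

theorem pairs_inv : (∀ k < 11, app pairCols (pairInv.getD k 0) = 2 ^ k ∧ pairInv.getD k 0 < 2048 ∧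
    app pairInv (pairCols.getD k 0) = 2 ^ k ∧ pairCols.getD k 0 < 2048) ∧
      pairCols.length = 11 ∧ pairInv.length = 11 := by decide +kernel

theorem bridge : ∀ i < 2048, LargeFischer.Big.isN i = tMask.testBit (app pairCols i) :=
  of_chunks 32 (by decide +kernel)

theorem zero_Q : ∀ n < 2048, n / 64 % 16 ≠ 0 ∨ n = 0 ∨ n = 1024 ∨
    ((oMask 0 0 ||| oMask 0 1).testBit n = true ∧ (oMask 1 0 ||| oMask 1 1).testBit n = true) :=
  of_chunks 32 (by decide +kernel)

theorem small_Q : ∀ n < 2048, ((oMask 0 0 ||| oMask 0 1).testBit n = true ∨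
    (oMask 1 0 ||| oMask 1 1).testBit n = true) → n / 64 % 16 = 0 :=
  of_chunks 32 (by decide +kernel)

theorem t_cls : ∀ n < 2048, tMask.testBit n = true → n / 64 % 16 = 0 →
    cls (Big.bigW.getD (n % 64) 0) = 2 :=
  of_chunks 32 (by decide +kernel)

theorem rep_cls : cls (Big.bigW.getD 1 0) = 1 ∧ cls (Big.bigW.getD 3 0) = 2 ∧ Big.bigW.getD 1 0 < 4096 ∧
    Big.bigW.getD 2 0 < 4096 := by decide +kernel

theorem cls_invariant : ∀ n < 4096, cls (app xC n) = cls n ∧ cls (app yC n) = cls n ∧ cls (app fC n) = cls n ∧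
    cls (app pC n) = cls n ∧ cls (app sC n) = cls n :=
  of_chunks 64 (by decide +kernel)

theorem pow_mod : ∀ m ≤ 11, (2 ^ m % 241 = 2048 % 241 → m = 11) ∧ (2 ^ m % 89 = 1 → m = 0 ∨ m = 11) ∧
    (2 ^ m % 89 = 2048 % 89 → m = 0 ∨ m = 11) := by decide +kernel

end Cfsg.Agent.JankoFour.Orb

namespace Cfsg.Agent.JankoFour.Orb

/-- The number of members of a bit set below 2048. -/
def size (S : ℕ) : ℕ := ((List.range 2048).filter fun v => S.testBit v).length

theorem sizes : size (zSet 0 16) = 241 ∧ size (zSet 1 25) = 1771 ∧ size (zSet 0 31) = 2047 ∧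
    size (zSet 1 31) = 2047 := by decide +kernel

end Cfsg.Agent.JankoFour.Orb

namespace Cfsg.Agent.JankoFour.Orb

open Cfsg.Agent.J4Module (app of_chunks)

theorem pair_bij : ∀ n < 2048, app pairCols n < 2048 ∧ app pairInv n < 2048 ∧
    app pairCols (app pairInv n) = n ∧ app pairInv (app pairCols n) = n :=
  of_chunks 32 (by decide +kernel)

end Cfsg.Agent.JankoFour.Orb
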