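import Cfsg.Agent.Lib.JankoFour.BigCoords
import Cfsg.Agent.Lib.JankoFour.OrbitChecks
import Cfsg.Agent.Lib.JankoFour.FusedBase
import Mathlib.GroupTheory.GroupAction.Quotient

/-!
The conjugates of the involution in the large abelian subgroup are a union of the tabulated orbits.
-/

set_option autoImplicit false
set_option linter.unusedSectionVars false
set_option maxRecDepth 100000

namespace Cfsg.Agent.JankoFour

open Subgroup
open Cfsg.Agent.LargeFischer (QG)
open Cfsg.Agent.J4Module (app)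
open Cfsg.Agent.J4Module.Data

variable {G : Type*} [Group G] [Finite G] {z : G} {P : Subgroup G}

namespace Orb

theorem exists_bits : ∀ b : Fin 5 → Bool, ∃ m < 32, ∀ i : Fin 5, m.testBit i = b i := by decide +kernel

theorem spread_mem {f : ℕ} {S : Set ℕ} (hS : ∀ k < 15, ∀ q < 2048, q ∈ S → app (mvC f k) q ∈ S) :
    ∀ (L : List (ℕ × ℕ)) (s t : ℕ), spread f L s = some t → (∀ q, s.testBit q = true → q ∈ S) →
      ∀ q, t.testBit q = true → q ∈ S
  | [], s, t, h, hs => by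
    obtain rfl : s = t := Option.some.inj h
    exact hs
  | (k, r) :: rest, s, t, h, hs => by
    rw [spread] at h
    by_cases hr : (s.testBit r && decide (k < 15) && decide (r < 2048)) = true
    · rw [if_pos hr] at h
      simp only [Bool.and_eq_true, decide_eq_true_eq] at hr
      obtain ⟨⟨hr1, hr2⟩, hr3⟩ := hr
      refine spread_mem hS rest _ t h fun q hq => ?_
      rw [Nat.testBit_or, Bool.or_eq_true] at hq
      rcases hq with hq | hq
      · exact hs q hq
      · rw [Nat.one_shiftLeft, Nat.testBit_two_pow, decide_eq_true_eq] at hq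
        exact hq ▸ hS k hr2 r hr3 (hs r hr1)
    · rw [if_neg hr] at h
      exact absurd h (by simp)

theorem zSet_bit (f m n : ℕ) : (zSet f m).testBit n = true ↔
    n = 1024 ∨ ∃ j < 5, m.testBit j = true ∧ (oMask f j).testBit n = true := by
  have hite : ∀ (b : Bool) (a : ℕ), (if b = true then a else 0).testBit n = (b && a.testBit n) := fun b a => by
    cases b <;> simp
  simp only [zSet, Nat.testBit_or, Bool.or_eq_true, hite, Nat.testBit_two_pow, Bool.and_eq_true, decide_eq_true_eq]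
  constructor
  · rintro (((((h | h) | h) | h) | h) | h)
    exacts [Or.inl h.symm, Or.inr ⟨0, by norm_num, h⟩, Or.inr ⟨1, by norm_num, h⟩, Or.inr ⟨2, by norm_num, h⟩,
      Or.inr ⟨3, by norm_num, h⟩, Or.inr ⟨4, by norm_num, h⟩]
  · rintro (h | ⟨j, hj, h⟩)
    · simp [h]
    · interval_cases j <;> simp [h]

end Orb

/-- Conjugates have the same class. -/
theorem isConj_conj_iff (g a : G) : IsConj z (g * a * g⁻¹) ↔ IsConj z a :=
  ⟨fun h => h.trans (isConj_iff.2 ⟨g⁻¹, by group⟩), fun h => h.trans (isConj_iff.2 ⟨g, rfl⟩)⟩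

namespace BigCoords

variable {M : Model z P} {B : BigData M} (C : BigCoords B)
include C

theorem el_zero : C.el 0 = 1 := by
  have h := C.el_xor 0 (by norm_num) 0 (by norm_num)
  rw [Nat.xor_self] at h
  exact left_eq_mul.1 h

theorem el_ne_one {n : ℕ} (hn : n < 2048) (h0 : n ≠ 0) : C.el n ≠ 1 := fun e =>
  h0 (C.el_inj n hn 0 (by norm_num) (e.trans C.el_zero.symm))

theorem not_conj_zero : ¬ IsConj z (C.el 0) := fun h => by
  rw [C.el_zero, isConj_one_left] at h
  exact M.ctx.xs.ne_one h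

theorem orbit_const {j : ℕ} (hj : j < 5) {n : ℕ} (hn : (Orb.oMask C.form j).testBit n = true) :
    n < 2048 ∧ (IsConj z (C.el n) ↔ IsConj z (C.el (orbRep.getD j 0))) := by
  obtain ⟨h1, h2, -, -, hlt⟩ := Orb.rep_spec C.form C.form_lt j hj
  have key := Orb.spread_mem (f := C.form) (S := {q | q < 2048 → (IsConj z (C.el q) ↔ IsConj z (C.el (orbRep.getD j 0)))})
    (fun k hk q hq hS _ => by
      obtain ⟨g, -, hg⟩ := C.moves k hk
      have hg' : g * C.el q * g⁻¹ = C.el (app (Orb.mvC C.form k) q) := hg q hq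
      rw [← hg', isConj_conj_iff]
      exact hS hq)
    (Orb.tree C.form j) _ _ (Orb.spread_ok C.form C.form_lt j hj)
    (fun q hq _ => by
      rw [Nat.one_shiftLeft, Nat.testBit_two_pow, decide_eq_true_eq] at hq
      rw [hq]) n hn
  have hn' : n < 2048 := by
    by_contra hc
    rw [Nat.testBit_lt_two_pow (hlt.trans_le (Nat.pow_le_pow_right (by norm_num) (not_lt.1 hc)))] at hn
    simp at hn
  exact ⟨hn', key hn'⟩

/-- The conjugates of the involution form one of the sets. -/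
theorem exists_set : ∃ m < 32, (∀ n < 2048, (Orb.zSet C.form m).testBit n = true ↔ IsConj z (C.el n)) ∧
    ∀ j < 5, (m.testBit j = true ↔ IsConj z (C.el (orbRep.getD j 0))) := by
  classical
  obtain ⟨m, hm, hb⟩ := Orb.exists_bits fun i : Fin 5 => decide (IsConj z (C.el (orbRep.getD i.1 0)))
  have hb' : ∀ j < 5, (m.testBit j = true ↔ IsConj z (C.el (orbRep.getD j 0))) := fun j hj => by
    rw [hb ⟨j, hj⟩, decide_eq_true_eq]
  refine ⟨m, hm, fun n hn => ?_, hb'⟩
  rw [Orb.zSet_bit]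
  constructor
  · rintro (rfl | ⟨j, hj, h1, h2⟩)
    · rw [C.el_z]
    · exact (C.orbit_const hj h2).2.2 ((hb' j hj).1 h1)
  · intro h
    rcases Orb.cover C.form C.form_lt n hn with rfl | e | e
    · exact absurd h C.not_conj_zero
    · exact Or.inl e
    · simp only [List.any_eq_true, List.mem_range] at e
      obtain ⟨j, hj, hj'⟩ := e
      exact Or.inr ⟨j, hj, (hb' j hj).2 ((C.orbit_const hj hj').2.1 h), hj'⟩

/-- The permutation of coordinates induced by an element of the normaliser. -/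
theorem exists_sigma {g : G} (hg : g ∈ normalizer (B.V : Set G)) :
    ∃ σ : ℕ → ℕ, (∀ x < 2048, σ x < 2048 ∧ C.el (σ x) = g * C.el x * g⁻¹) ∧
      (∀ x < 2048, ∀ y < 2048, σ (x ^^^ y) = σ x ^^^ σ y ∧ (σ x = σ y → x = y)) ∧
        ∀ v < 2048, ∃ x < 2048, σ x = v := by
  have hex : ∀ x, ∃ j, x < 2048 → j < 2048 ∧ C.el j = g * C.el x * g⁻¹ := fun x => by
    by_cases hx : x < 2048
    · obtain ⟨j, hj, e⟩ := C.el_surj _ ((Subgroup.mem_normalizer_iff.1 hg _).1 (C.el_mem x hx))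
      exact ⟨j, fun _ => ⟨hj, e⟩⟩
    · exact ⟨0, fun h => absurd h hx⟩
  choose σ hσ using hex
  have hlt : ∀ {x y : ℕ}, x < 2048 → y < 2048 → x ^^^ y < 2048 := fun hx hy =>
    Nat.xor_lt_two_pow (n := 11) hx hy
  refine ⟨σ, hσ, fun x hx y hy => ⟨?_, fun e => ?_⟩, fun v hv => ?_⟩
  · refine C.el_inj _ (hσ _ (hlt hx hy)).1 _ (hlt (hσ x hx).1 (hσ y hy).1) ?_
    rw [(hσ _ (hlt hx hy)).2, C.el_xor _ hx _ hy, C.el_xor _ (hσ x hx).1 _ (hσ y hy).1, (hσ x hx).2, (hσ y hy).2]
    group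
  · refine C.el_inj x hx y hy ?_
    have := (hσ x hx).2.symm.trans ((congrArg C.el e).trans (hσ y hy).2)
    exact mul_left_cancel (mul_right_cancel this)
  · obtain ⟨x, hx, e⟩ := C.el_surj _ ((Subgroup.mem_normalizer_iff.1 (inv_mem hg) _).1 (C.el_mem v hv))
    refine ⟨x, hx, C.el_inj _ (hσ x hx).1 v hv ?_⟩
    rw [(hσ x hx).2, e]
    group

/-- The number of triangles is constant on the conjugates. -/
theorem deg_const {m : ℕ} (hm : ∀ n < 2048, (Orb.zSet C.form m).testBit n = true ↔ IsConj z (C.el n))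
    {u : ℕ} (hu : u < 2048) (huO : IsConj z (C.el u)) :
    Orb.deg (Orb.zSet C.form m) 1024 = Orb.deg (Orb.zSet C.form m) u := by
  obtain ⟨g0, hg0⟩ := isConj_iff.1 huO
  obtain ⟨n, hn, e⟩ := B.fusion z B.z_mem g0 (hg0 ▸ C.el_mem u hu)
  obtain ⟨σ, hσ, hσ2, hσs⟩ := C.exists_sigma hn
  have h1024 : σ 1024 = u := C.el_inj _ (hσ 1024 (by norm_num)).1 u hu (by
    rw [(hσ 1024 (by norm_num)).2, C.el_z, e, hg0])
  set S := Orb.zSet C.form m with hS
  have hin : ∀ x < 2048, S.testBit (σ x) = S.testBit x := fun x hx => by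
    rw [Bool.eq_iff_iff, hm _ (hσ x hx).1, hm x hx, (hσ x hx).2, isConj_conj_iff]
  have hnd : ∀ x, ((List.range 2048).filter fun y => S.testBit y && S.testBit (x ^^^ y)).Nodup := fun x =>
    List.nodup_range.filter _
  unfold Orb.deg
  rw [← List.toFinset_card_of_nodup (hnd 1024), ← List.toFinset_card_of_nodup (hnd u)]
  refine Finset.card_bij (fun y _ => σ y) (fun y hy => ?_) (fun a ha b hb h => ?_) (fun v hv => ?_)
  · simp only [List.mem_toFinset, List.mem_filter, List.mem_range, Bool.and_eq_true] at hy ⊢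
    refine ⟨(hσ y hy.1).1, (hin y hy.1).trans hy.2.1, ?_⟩
    rw [← h1024, ← (hσ2 1024 (by norm_num) y hy.1).1, hin _ (Nat.xor_lt_two_pow (n := 11) (by norm_num) hy.1)]
    exact hy.2.2
  · simp only [List.mem_toFinset, List.mem_filter, List.mem_range] at ha hb
    exact (hσ2 a ha.1 b hb.1).2 h
  · simp only [List.mem_toFinset, List.mem_filter, List.mem_range, Bool.and_eq_true] at hv ⊢
    obtain ⟨x, hx, rfl⟩ := hσs v hv.1
    refine ⟨x, ⟨hx, (hin x hx).symm.trans hv.2.1, ?_⟩, rfl⟩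
    rw [← hin _ (Nat.xor_lt_two_pow (n := 11) (by norm_num) hx), (hσ2 1024 (by norm_num) x hx).1, h1024]
    exact hv.2.2

/-- The conjugates in the subgroup form one orbit of the normaliser. -/
theorem card_normalizer {m : ℕ} (hm : ∀ n < 2048, (Orb.zSet C.form m).testBit n = true ↔ IsConj z (C.el n)) :
    Nat.card ↥(normalizer (B.V : Set G)) = Orb.size (Orb.zSet C.form m) * (2 ^ 21 * 135) := by
  classical
  set N := normalizer (B.V : Set G) with hN
  rw [← C.card_stab]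
  letI := Fintype.ofFinite ↥N
  letI := Fintype.ofFinite ↥(N ⊓ centralizer ({z} : Set G) : Subgroup G)
  set S := Orb.zSet C.form m with hS
  set F := ((List.range 2048).filter fun v => S.testBit v).toFinset with hF
  have hsz : F.card = Orb.size S := List.toFinset_card_of_nodup (List.nodup_range.filter _)
  have hmemF : ∀ v, v ∈ F ↔ v < 2048 ∧ S.testBit v = true := fun v => by simp [hF]
  have hidx : ∀ n : ↥N, ∃ v ∈ F, C.el v = (n : G) * z * (n : G)⁻¹ := fun n => by
    obtain ⟨v, hv, e⟩ := C.el_surj _ ((Subgroup.mem_normalizer_iff.1 n.2 z).1 B.z_mem)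
    exact ⟨v, (hmemF v).2 ⟨hv, (hm v hv).2 (e ▸ (isConj_conj_iff _ _).2 (IsConj.refl z))⟩, e⟩
  choose f hf1 hf2 using hidx
  rw [← hsz, Nat.card_eq_fintype_card, ← Finset.card_univ,
    Finset.card_eq_sum_card_fiberwise (fun n _ => hf1 n)]
  rw [Finset.sum_const_nat]
  intro v hv
  obtain ⟨hv1, hv2⟩ := (hmemF v).1 hv
  obtain ⟨g0, hg0⟩ := isConj_iff.1 ((hm v hv1).1 hv2)
  obtain ⟨n0, hn0, e0⟩ := B.fusion z B.z_mem g0 (hg0 ▸ C.el_mem v hv1)
  rw [hg0] at e0
  rw [Nat.card_eq_fintype_card (α := ↥(N ⊓ centralizer ({z} : Set G) : Subgroup G))]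
  symm
  refine Finset.card_bij (fun a _ => (⟨n0 * a.1, mul_mem hn0 a.2.1⟩ : ↥N)) (fun a _ => ?_) (fun a _ b _ e => ?_)
    (fun n hn => ?_)
  · have hc : (a : G) * z * (a : G)⁻¹ = z := mul_inv_eq_iff_eq_mul.2 (mem_centralizer_singleton_iff.1 a.2.2)
    refine Finset.mem_filter.2 ⟨Finset.mem_univ _, ?_⟩
    refine C.el_inj _ ((hmemF _).1 (hf1 _)).1 v hv1 ((hf2 _).trans ?_)
    show n0 * a.1 * z * (n0 * a.1)⁻¹ = C.el v
    rw [← e0]
    conv_rhs => rw [← hc]
    group
  · exact Subtype.ext (mul_left_cancel (congrArg Subtype.val e))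
  · obtain ⟨-, hn⟩ := Finset.mem_filter.1 hn
    have h1 : (n : G) * z * (n : G)⁻¹ = n0 * z * n0⁻¹ := by rw [← hf2 n, hn, e0]
    refine ⟨⟨n0⁻¹ * n, mem_inf.2 ⟨N.mul_mem (N.inv_mem hn0) n.2, mem_centralizer_singleton_iff.2 ?_⟩⟩, Finset.mem_univ _,
      Subtype.ext (mul_inv_cancel_left n0 n.1)⟩
    calc n0⁻¹ * n * z = n0⁻¹ * (n * z * (n : G)⁻¹) * n := by group
      _ = z * (n0⁻¹ * n) := by rw [h1]; group

/-- Only few sets remain. -/
theorem few_sets {m : ℕ} (hm32 : m < 32)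
    (hm : ∀ n < 2048, (Orb.zSet C.form m).testBit n = true ↔ IsConj z (C.el n))
    (hb : ∀ j < 5, (m.testBit j = true ↔ IsConj z (C.el (orbRep.getD j 0))))
    (hfused : ∃ n ∈ normalizer (B.V : Set G), n * z * n⁻¹ ≠ z) :
    m = 3 ∨ m = 31 ∨ (C.form = 0 ∧ m = 16) ∨ (C.form = 1 ∧ m = 25) := by
  have h0 : m ≠ 0 := by
    rintro rfl
    obtain ⟨n, hn, hne⟩ := hfused
    obtain ⟨v, hv, e⟩ := C.el_surj _ ((Subgroup.mem_normalizer_iff.1 hn z).1 B.z_mem)
    have := (hm v hv).2 (e ▸ (isConj_conj_iff _ _).2 (IsConj.refl z))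
    rw [Orb.zSet_bit] at this
    rcases this with rfl | ⟨j, -, h, -⟩
    · exact hne (e.symm.trans C.el_z)
    · simp at h
  rcases Orb.wit_cover C.form_lt hm32 h0 with ⟨t, ht, e1, e2⟩ | h
  · obtain ⟨hbit, h5, hne⟩ := Orb.wit_spec t ht
    rw [e1, e2] at hne
    exact absurd (C.deg_const hm (Orb.rep_spec C.form C.form_lt _ h5).2.1 ((hb _ h5).1 (e2 ▸ hbit))) hne
  · exact h

end BigCoords

end Cfsg.Agent.JankoFour
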