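import Cfsg.Agent.Lib.JankoFour.Cols

/-!
The elements of the centraliser inverting P act as the semilinear involution times a linear element.
-/

set_option autoImplicit false
set_option linter.style.haveILetI false
set_option linter.unusedSectionVars false

namespace Cfsg.Agent.JankoFour

open Subgroup
open Cfsg.Agent.LargeFischer (Ctx QG VQ mkV mkV_surjective)
open Cfsg.Agent.J4Module (app phi phi_xor Rep IsModel gen mask)
open Cfsg.Agent.J4Module.Data

variable {G : Type*} [Group G] [Finite G] {z : G} {P : Subgroup G}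

namespace Shape.Coords

variable {S : Shape z P} (K : S.Coords)

/-- A semilinear permutation normalising the linear part, with the automorphism it induces. -/
structure Semi (τ : Equiv.Perm (VQ S.Q)) (α : MulAut ↥Cfsg.Spor.M22) : Prop where
  add : ∀ u v, τ (u + v) = τ u + τ v
  semi : τ * S.rho K.pElem * τ⁻¹ = S.rho K.pElem ^ 2
  conj : ∀ m c, S.Lift m c → ∃ c', S.Lift (α m) c' ∧ τ * S.rho c * τ⁻¹ = S.rho c'

theorem pi1_lift (i : ℕ) : ∃ j, S.pi1 ^ i = S.rho K.pElem ^ j := by
  obtain ⟨j, hj⟩ := K.pi1_pow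
  exact ⟨j * i, by rw [hj, ← pow_mul]⟩

theorem phi_x (n : ℕ) : phi K.b (dx n) = S.rho K.L.x (phi K.b n) + phi K.b n := by
  rw [dx, phi_xor S.ctx.two, K.hx]

theorem phi_polyX (n : ℕ) : phi K.b (polyX n) = S.rho K.L.x (phi K.b n) + (S.rho K.L.x ^ 3) (phi K.b n) +
    (S.rho K.L.x ^ 4) (phi K.b n) + (S.rho K.L.x ^ 5) (phi K.b n) + (S.rho K.L.x ^ 9) (phi K.b n) := by
  have hit : ∀ i n, phi K.b ((app xC)^[i] n) = (S.rho K.L.x ^ i) (phi K.b n) := by
    intro i
    induction i with
    | zero => intro n; rfl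
    | succ i ih =>
      intro n
      rw [Function.iterate_succ_apply', ← K.hx, ih, pow_succ', Equiv.Perm.mul_apply]
  simp only [polyX, phi_xor S.ctx.two, hit, pow_one]

/-- A semilinear map cannot commute with the element of order eleven. -/
theorem not_comm_x {τ : Equiv.Perm (VQ S.Q)} (hadd : ∀ u v, τ (u + v) = τ u + τ v)
    (hsemi : τ * S.rho K.pElem * τ⁻¹ = S.rho K.pElem ^ 2) : ¬ Commute τ (S.rho K.L.x) := by
  intro hc
  rw [mul_inv_eq_iff_eq_mul] at hsemi
  obtain ⟨u, hu, hu'⟩ := K.surj (τ (phi K.b 4))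
  set w := phi K.b (dx 4) with hw
  have hτw : τ w = phi K.b (dx u) := by
    rw [hw, K.phi_x, hadd, K.phi_x, hu', ← Equiv.Perm.mul_apply, hc.eq, Equiv.Perm.mul_apply]
  have hpw : ∀ n < 4096, S.rho K.pElem (phi K.b (dx n)) = S.rho K.L.x (phi K.b (dx n)) +
      (S.rho K.L.x ^ 3) (phi K.b (dx n)) + (S.rho K.L.x ^ 4) (phi K.b (dx n)) +
      (S.rho K.L.x ^ 5) (phi K.b (dx n)) + (S.rho K.L.x ^ 9) (phi K.b (dx n)) := fun n hn => by
    rw [K.hp, p_poly n hn, K.phi_polyX]
  have hcm : ∀ k v, τ ((S.rho K.L.x ^ k) v) = (S.rho K.L.x ^ k) (τ v) := fun k v => by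
    rw [← Equiv.Perm.mul_apply, (hc.pow_right k).eq, Equiv.Perm.mul_apply]
  have h1 : τ (S.rho K.pElem w) = S.rho K.pElem (τ w) := by
    rw [hτw, hpw u hu, hw, hpw 4 (by norm_num)]
    simp only [hadd, hcm, ← hτw, hw]
    rw [show τ (S.rho K.L.x (phi K.b (dx 4))) = S.rho K.L.x (τ (phi K.b (dx 4))) by simpa using hcm 1 _]
  have h2 : τ (S.rho K.pElem w) = S.rho K.pElem (S.rho K.pElem (τ w)) := Equiv.Perm.ext_iff.1 hsemi w
  rw [h1] at h2
  have h3 : S.rho K.pElem (τ w) = τ w := ((S.rho K.pElem).injective h2).symm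
  obtain ⟨i, hi⟩ := K.pi1_pow
  have h4 : S.pi1 (τ w) = τ w := by
    rw [hi]
    clear hi
    induction i with
    | zero => rfl
    | succ i ih => rw [pow_succ, Equiv.Perm.mul_apply, h3, ih]
  have h5 := S.pi1_fpf h4
  have h0 : τ 0 = 0 := by
    have h := hadd 0 0
    rw [add_zero] at h
    exact left_eq_add.1 h
  have h6 : w = 0 := τ.injective (h5.trans h0.symm)
  exact dx_four.2 (K.inj _ dx_four.1 0 (by norm_num) (h6.trans (by simp)))

theorem semi_not_inner {τ : Equiv.Perm (VQ S.Q)} {α : MulAut ↥Cfsg.Spor.M22} (h : K.Semi τ α) :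
    α ∉ Cfsg.Inn ↥Cfsg.Spor.M22 := by
  rintro ⟨m0, rfl⟩
  obtain ⟨c0, hc0⟩ := S.exists_lift m0
  obtain ⟨c', hc', e⟩ := h.conj _ _ K.L.hx
  set τ' := (S.rho c0)⁻¹ * τ with hτ'
  have hlift : S.Lift (gen 0) (c0⁻¹ * c' * c0) := by
    have := S.lift_mul (S.lift_mul (S.lift_inv hc0) hc') hc0
    simpa [MulAut.conj_apply, mul_assoc] using this
  have e' : τ' * S.rho K.L.x * τ'⁻¹ = S.rho (c0⁻¹ * c' * c0) := by
    rw [map_mul, map_mul, map_inv, ← e, hτ']
    group
  have hexact := S.rel_exact (n := 11) hlift K.L.hx (by norm_num) (by rw [← e', conj_pow, K.L.x11]; group) K.L.x11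
  rw [hexact, mul_inv_eq_iff_eq_mul] at e'
  have hpc : Commute (S.rho c0) (S.rho K.pElem) := by
    obtain ⟨i, hi⟩ := K.p_pow
    rw [hi]
    exact (S.rho_pi1_comm hc0).pow_right i
  refine K.not_comm_x (τ := τ') (fun u v => ?_) ?_ e'
  · rw [hτ', Equiv.Perm.mul_apply, h.add, ← map_inv, S.ctx.rhoC_add]
    rfl
  · rw [hτ', mul_inv_rev, inv_inv,
      show (S.rho c0)⁻¹ * τ * S.rho K.pElem * (τ⁻¹ * S.rho c0) =
        (S.rho c0)⁻¹ * (τ * S.rho K.pElem * τ⁻¹) * S.rho c0 by group, h.semi, mul_assoc, ← (hpc.pow_right 2).eq,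
      inv_mul_cancel_left]

/-- An additive permutation commuting with the three generators and the scalar is a scalar. -/
theorem scalar_of_comm {u : Equiv.Perm (VQ S.Q)} (hadd : ∀ v w, u (v + w) = u v + u w)
    (hx : Commute u (S.rho K.L.x)) (hy : Commute u (S.rho K.L.y)) (hf : Commute u (S.rho K.L.f))
    (hp : Commute u (S.rho K.pElem)) : ∃ i, u = S.rho K.pElem ^ i := by
  have h0 : u 0 = 0 := by
    have h := hadd 0 0
    rw [add_zero] at h
    exact left_eq_add.1 h
  obtain ⟨n, hn, hn'⟩ := K.surj (u (phi K.b 1))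
  have hfixn : app xC n = n := by
    refine K.inj _ (J4Module.col_lt n hn _ (by simp)) n hn ?_
    rw [← K.hx, hn', ← Equiv.Perm.mul_apply, ← hx.eq, Equiv.Perm.mul_apply, K.hx, fix_cases.1]
  have hne : n ≠ 0 := fun e => by
    rw [e, J4Module.phi_zero, ← h0] at hn'
    have := K.inj 0 (by norm_num) 1 (by norm_num) (by rw [J4Module.phi_zero]; exact u.injective hn')
    omega
  obtain ⟨i, hi⟩ : ∃ i, (S.rho K.pElem ^ i) (phi K.b 1) = u (phi K.b 1) := by
    have hlt := fix_x n hn hfixn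
    rw [← hn']
    interval_cases n
    · exact absurd rfl hne
    · exact ⟨0, rfl⟩
    · exact ⟨1, by rw [pow_one, K.hp, fix_cases.2.1]⟩
    · exact ⟨2, by rw [pow_two, Equiv.Perm.mul_apply, K.hp, K.hp, fix_cases.2.1, show app pC 2 = 3 by decide +kernel]⟩
  refine ⟨i, Equiv.ext fun w => ?_⟩
  obtain ⟨j, hj⟩ := K.p_pow
  have hpi : ∀ {m c}, S.Lift m c → Commute (S.rho K.pElem ^ i) (S.rho c) := fun {m c} hc => by
    rw [hj, ← pow_mul]
    exact ((S.rho_pi1_comm hc).pow_right _).symm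
  set T : Set ℕ := {q | u (phi K.b q) = (S.rho K.pElem ^ i) (phi K.b q)} with hT
  have hgrow : ∀ (C : List ℕ) (c : ↥(centralizer ({z} : Set G))), (∀ q, S.rho c (phi K.b q) = phi K.b (app C q)) →
      Commute u (S.rho c) → Commute (S.rho K.pElem ^ i) (S.rho c) → ∀ q, q ∈ T → app C q ∈ T := by
    intro C c hC hcu hcp q hq
    show u _ = _
    rw [← hC, ← Equiv.Perm.mul_apply, hcu.eq, Equiv.Perm.mul_apply, hq, ← Equiv.Perm.mul_apply, ← hcp.eq,
      Equiv.Perm.mul_apply]
  have hmask := J4Module.grow_spec (S := T) (fun g q hq => by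
      rw [J4Module.genMap]
      split_ifs
      · exact hgrow xC _ K.hx hx (hpi K.L.hx) q hq
      · exact hgrow yC _ K.hy hy (hpi K.L.hy) q hq
      · exact hgrow fC _ K.hf hf (hpi K.L.hf) q hq) (J4Module.tree 2) _ _ (J4Module.grow_ok 2) fun q hq => by
      rw [Nat.one_shiftLeft, Nat.testBit_two_pow, decide_eq_true_eq] at hq
      rw [← hq]
      exact hi.symm
  have hbase : ∀ k < 12, 2 ^ k ∈ T := fun k hk => by
    have h := span_spec k hk
    have hlt : 2 ^ k < 4096 := Nat.pow_lt_pow_right (by norm_num) hk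
    obtain ⟨j', hj', -⟩ := (J4Module.mask_cover _ hlt).2 (by positivity)
    have := cls_spec _ hlt j' hj'
    rw [h] at this
    have hj2 : j' = 2 := Fin.ext (by simp; omega)
    exact hmask _ (hj2 ▸ hj')
  obtain ⟨q, hq, rfl⟩ := K.surj w
  have hall : ∀ k, k ≤ 12 → ∀ q < 2 ^ k, q ∈ T := by
    intro k
    induction k with
    | zero =>
      intro _ q hq
      have : q = 0 := by rw [pow_zero] at hq; omega
      subst this
      show u _ = _
      rw [J4Module.phi_zero, h0]
      exact (map_zero (AddMonoidHom.mk' ⇑(S.rho (K.pElem ^ i)) (S.ctx.rhoC_add _))).symm.trans (by rw [← map_pow]; rfl)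
    | succ k ih =>
      intro hk q hq
      by_cases hlt : q < 2 ^ k
      · exact ih (by omega) q hlt
      · have hq' : q ^^^ 2 ^ k < 2 ^ k := by
          refine Nat.lt_pow_two_of_testBit _ fun a ha => ?_
          rw [Nat.testBit_xor, Nat.testBit_two_pow]
          rcases ha.lt_or_eq with h | h
          · rw [Nat.testBit_lt_two_pow (lt_of_lt_of_le hq (Nat.pow_le_pow_right (by norm_num) h))]
            simp [h.ne]
          · subst h
            have : q.testBit k = true := by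
              rw [show q = 2 ^ k + (q - 2 ^ k) by omega, Nat.testBit_two_pow_add_eq,
                Nat.testBit_lt_two_pow (by rw [pow_succ] at hq; omega)]
              rfl
            simp [this]
        have e1 := ih (by omega) _ hq'
        have e2 := hbase k (by omega)
        show u _ = _
        rw [show q = (q ^^^ 2 ^ k) ^^^ 2 ^ k by rw [Nat.xor_assoc, Nat.xor_self, Nat.xor_zero], phi_xor S.ctx.two,
          hadd, e1, e2, ← map_pow, S.ctx.rhoC_add]
  exact hall 12 le_rfl q hq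

end Shape.Coords

end Cfsg.Agent.JankoFour
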