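import Cfsg.Agent.Lib.JankoFour.ElevenClasses
import Mathlib.GroupTheory.FixedPointFree

/-!
The centraliser of an element of order eleven commuting with an involution given by a pair of points, and the
involutions inverting that element.
-/

set_option autoImplicit false
set_option linter.unusedSectionVars false

namespace Cfsg.Agent.JankoFour

open Subgroup
open Cfsg (GolayPt M24)

variable {G : Type*} [Group G] [Finite G] {z : G} {P : Subgroup G} {M : Model z P} {V : Subgroup G}

namespace Model.ElevenSetup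

variable (S : M.ElevenSetup) (hord : Nat.card G = 86775571046077562880) (D : BigPack z V)
include S hord D

/-- The centraliser of such an element: an abelian group of order 121 inverted on one side, and an involution. -/
theorem pair_centralizer {d : Finset GolayPt} (hd : d.card = 2) {y : G} (hy : orderOf y = 11)
    (hty : D.eS d * y = y * D.eS d) : ∃ (O : Subgroup G) (x : G), orderOf x = 11 ∧ x * y = y * x ∧
      O ≤ centralizer ({y} : Set G) ∧ Nat.card ↥(centralizer ({y} : Set G)) = 242 ∧
      (∀ c ∈ centralizer ({y} : Set G), Odd (orderOf c) → c ∈ O) ∧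
      (∀ c ∈ O, Odd (orderOf c)) ∧
      (∀ c ∈ centralizer ({y} : Set G), c ∈ O ∨ D.eS d * c ∈ O) ∧
      (∀ o ∈ O, ∃ a b : ℕ, o = y ^ a * x ^ b) ∧
      (∀ a b : ℕ, IsConj x (y ^ a * x ^ b) → y ^ a = 1) ∧
      D.eS d * x * (D.eS d)⁻¹ = x⁻¹ := by
  classical
  haveI : Fact (Nat.Prime 11) := ⟨by norm_num⟩
  haveI : Fact (Nat.Prime 2) := ⟨Nat.prime_two⟩
  have h121 : ∀ f : G, orderOf f = 2 ∨ orderOf f = 5 → ¬ 121 ∣ Nat.card ↥(centralizer ({f} : Set G)) := by
    rintro f (hf | hf)
    · rcases S.invol f hf with h | h <;> rw [h] <;> norm_num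
    · rw [S.cent_five f hf]; norm_num
  have hnc := D.not_cube_dvd hord h121 hd hy hty
  set t := D.eS d
  have htV : t ∈ V := D.eS_mem d
  have ht1 : t ≠ 1 := by
    intro h
    have := D.cocode.inj d (by rw [hd]; decide) (by omega) h
    rw [this] at hd
    simp at hd
  have hti : t⁻¹ = t := inv_eq_of_mul_eq_one_right (D.sq t htV)
  have ht2 : orderOf t = 2 := orderOf_eq_prime (by rw [pow_two, D.sq t htV]) ht1
  set N := normalizer (V : Set G) with hN
  have hCt : centralizer ({t} : Set G) ≤ N := D.centralizer_duad_le hd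
  have hyN : y ∈ N := hCt (mem_centralizer_singleton_iff.2 hty.symm)
  set X := centralizer ({y} : Set G) with hX
  have htX : t ∈ X := mem_centralizer_singleton_iff.2 hty
  have hfix : ∀ c ∈ X, c * t = t * c → ∃ i : ℕ, c = y ^ i ∨ c = t * y ^ i := fun c hc hct =>
    D.cent_eleven_cases hy hyN htV ht1 hty (hCt (mem_centralizer_singleton_iff.2 hct))
      (mem_centralizer_singleton_iff.1 hc)
  have h4 : ¬ 4 ∣ Nat.card ↥X := by
    intro h
    obtain ⟨K, hK, hle⟩ := Sylow.exists_subgroup_card_pow_prime_le 2 (n := 1) (m := 2)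
      (by norm_num; exact h) (zpowers (⟨t, htX⟩ : ↥X)) (by rw [Nat.card_zpowers, Subgroup.orderOf_mk, ht2, pow_one])
      (by norm_num)
    have hle' : (K.map X.subtype) ≤ zpowers t := by
      rintro _ ⟨n, hn, rfl⟩
      have hc := IsPGroup.commutative_of_card_eq_prime_sq hK ⟨n, hn⟩ ⟨_, hle (mem_zpowers _)⟩
      have hnt : (n : G) * t = t * n := congrArg (fun q : ↥K => ((q : ↥X) : G)) hc
      have h44 : (n : G) ^ 4 = 1 := orderOf_dvd_iff_pow_eq_one.1 (by
        rw [Subgroup.orderOf_coe]
        exact (Subgroup.orderOf_dvd_natCard K hn).trans (by rw [hK]; norm_num))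
      obtain ⟨i, e⟩ := hfix n n.2 hnt
      have hi : y ^ i = 1 := by
        have h4i : y ^ (i * 4) = 1 := by
          rcases e with e | e
          · rw [pow_mul, ← e, h44]
          · rw [e, ((show Commute t y from hty).pow_right i).mul_pow, show (4 : ℕ) = 2 * 2 from rfl, pow_mul,
              pow_two t, D.sq t htV, one_pow, one_mul, ← pow_mul] at h44
            exact h44
        have hd' := orderOf_dvd_of_pow_eq_one h4i
        rw [hy] at hd'
        refine orderOf_dvd_iff_pow_eq_one.1 ?_
        rw [hy]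
        exact (Nat.Coprime.dvd_of_dvd_mul_right (by norm_num) hd')
      show (n : G) ∈ _
      rcases e with e | e <;> rw [e, hi]
      · exact one_mem _
      · rw [mul_one]; exact mem_zpowers t
    have h := Subgroup.card_le_of_le hle'
    rw [card_map_of_injective X.subtype_injective, hK, Nat.card_zpowers, ht2] at h
    norm_num at h
  obtain ⟨O, hOX, hcO, hodd, hmemO⟩ := exists_odd_complement htX ht2 h4
  have hcy : ∀ a ∈ O, a * y = y * a := fun a ha => mem_centralizer_singleton_iff.1 (hOX ha)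
  have hoddO : ∀ a ∈ O, Odd (orderOf a) := fun a ha =>
    Odd.of_dvd_nat hodd (Subgroup.orderOf_dvd_natCard O ha)
  have htO : t ∉ O := fun h => by
    have := hoddO t h
    rw [ht2] at this
    norm_num at this
  have hyO : y ∈ O := hmemO y (mem_centralizer_singleton_iff.2 rfl) (by rw [hy]; decide)
  have hidx : (O.subgroupOf X).index = 2 := by
    have h := (O.subgroupOf X).card_mul_index
    rw [Nat.card_congr (subgroupOfEquivOfLe hOX).toEquiv, hcO, mul_comm 2] at h
    exact mul_left_cancel₀ Nat.card_pos.ne' h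
  have hcase : ∀ c ∈ X, c ∈ O ∨ t * c ∈ O := fun c hc => by
    by_cases h : c ∈ O
    · exact Or.inl h
    have hiff := Subgroup.mul_mem_iff_of_index_two (H := O.subgroupOf X) hidx (a := ⟨t, htX⟩) (b := ⟨c, hc⟩)
    simp only [mem_subgroupOf, Subgroup.coe_mul] at hiff
    exact Or.inr (hiff.2 ⟨fun e => absurd e htO, fun e => absurd e h⟩)
  have htn : ∀ a ∈ O, t * a * t⁻¹ ∈ O := fun a ha =>
    hmemO _ (mul_mem (mul_mem htX (hOX ha)) (inv_mem htX))
      (by rw [show t * a * t⁻¹ = MulAut.conj t a from rfl, MulEquiv.orderOf_eq]; exact hoddO a ha)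
  -- the quotient by the element is abelian
  have habel : ∀ a ∈ O, ∀ b ∈ O, a * b * a⁻¹ * b⁻¹ ∈ zpowers y := by
    set Z := (zpowers y).subgroupOf O with hZ
    haveI : Z.Normal := ⟨fun n hn g => by
      obtain ⟨k, hk⟩ := mem_zpowers_iff.1 (mem_subgroupOf.1 hn)
      refine mem_subgroupOf.2 ⟨k, ?_⟩
      show y ^ k = (g : G) * n * (g : G)⁻¹
      rw [← hk, ((show Commute (g : G) y from hcy g g.2).zpow_right k).eq, mul_inv_cancel_right]⟩
    let φ : ↥O →* ↥O := MonoidHom.mk' (fun a => ⟨t * a * t⁻¹, htn a a.2⟩) fun a b => Subtype.ext (by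
      show t * ((a : G) * b) * t⁻¹ = t * a * t⁻¹ * (t * b * t⁻¹)
      group)
    have hφZ : Z ≤ Z.comap φ := fun n hn => by
      obtain ⟨k, hk⟩ := mem_zpowers_iff.1 (mem_subgroupOf.1 hn)
      rw [Subgroup.mem_comap, hZ, mem_subgroupOf]
      refine ⟨k, ?_⟩
      show y ^ k = t * n * t⁻¹
      rw [← hk, ((show Commute t y from hty).zpow_right k).eq, mul_inv_cancel_right]
    let ψ := QuotientGroup.map Z Z φ hφZ
    have hfpf : MonoidHom.FixedPointFree ψ := by
      intro q
      induction q using QuotientGroup.induction_on with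
      | _ a =>
        intro h
        rw [QuotientGroup.map_mk, QuotientGroup.eq, mem_subgroupOf] at h
        obtain ⟨j, hj⟩ := mem_zpowers_iff.1 h
        have hj' : (t * a * t⁻¹)⁻¹ * a = y ^ j := hj.symm
        refine (QuotientGroup.eq_one_iff _).2 (mem_subgroupOf.2 ?_)
        have h1 : t * a * t⁻¹ = a * (y ^ j)⁻¹ := by rw [← hj']; group
        have h2 : (a : G) = a * (y ^ j)⁻¹ * (y ^ j)⁻¹ := by
          calc (a : G) = t * (t * a * t⁻¹) * t⁻¹ := by
                rw [show t * (t * (a : G) * t⁻¹) * t⁻¹ = (t * t) * a * (t * t)⁻¹ by group, D.sq t htV]; group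
            _ = t * a * t⁻¹ * (t * (y ^ j)⁻¹ * t⁻¹) := by
              conv_lhs => rw [h1]
              group
            _ = _ := by rw [h1, (((show Commute t y from hty).zpow_right j).inv_right).eq, mul_inv_cancel_right]
        have hj0 : y ^ j = 1 := by
          have h3 : y ^ (2 * j) = 1 := by
            rw [two_mul, zpow_add, ← inv_eq_one, mul_inv_rev]
            rwa [mul_assoc, left_eq_mul] at h2
          rw [← orderOf_dvd_iff_zpow_eq_one, hy] at h3 ⊢
          omega
        rw [hj0, inv_one, mul_one, mul_inv_eq_iff_eq_mul] at h1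
        obtain ⟨i, e | e⟩ := hfix a (hOX a.2) h1.symm
        · exact e ▸ pow_mem (mem_zpowers y) i
        · exact absurd (by simpa [e] using mul_mem a.2 (inv_mem (pow_mem hyO i))) htO
    have hinv : Function.Involutive ψ := by
      intro q
      induction q using QuotientGroup.induction_on with
      | _ a =>
        rw [QuotientGroup.map_mk, QuotientGroup.map_mk]
        refine congrArg _ (Subtype.ext ?_)
        show t * (t * (a : G) * t⁻¹) * t⁻¹ = a
        rw [show t * (t * (a : G) * t⁻¹) * t⁻¹ = (t * t) * a * (t * t)⁻¹ by group, D.sq t htV]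
        group
    intro a ha b hb
    have h := hfpf.commute_all_of_involutive hinv
      (QuotientGroup.mk (⟨a, ha⟩ : ↥O)) (QuotientGroup.mk (⟨b, hb⟩ : ↥O))
    have h' : QuotientGroup.mk' Z (⟨a, ha⟩ * ⟨b, hb⟩ * (⟨a, ha⟩ : ↥O)⁻¹ * (⟨b, hb⟩ : ↥O)⁻¹) = 1 := by
      rw [map_mul, map_mul, map_mul, map_inv, map_inv]
      show (QuotientGroup.mk _ : ↥O ⧸ Z) * _ * _ * _ = 1
      rw [QuotientGroup.mk'_apply, QuotientGroup.mk'_apply, h.eq]
      group
    exact mem_subgroupOf.1 ((QuotientGroup.eq_one_iff _).1 h')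
  -- a central element of a Sylow subgroup through the element
  obtain ⟨U, hU⟩ := S.K.exists_sylow S.card_O S.card_X hord S.other
  obtain ⟨T, hT⟩ := IsPGroup.exists_le_sylow (P := zpowers y)
    (IsPGroup.of_card (n := 1) (by rw [Nat.card_zpowers, hy, pow_one]))
  obtain ⟨g, hg⟩ := MulAction.exists_smul_eq G T U
  set u := g * y * g⁻¹ with hu
  have huO : u ∈ S.K.O := by
    rw [← hU, ← hg]
    exact ⟨y, hT (mem_zpowers y), rfl⟩
  have hcardconj : ∀ w : G, IsConj (S.F.c : G) w → 11 ^ 3 ∣ Nat.card ↥(centralizer ({w} : Set G)) := fun w h => by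
    rw [← card_cent_of_isConj h, S.card_X]; norm_num
  have hyu : IsConj y u := isConj_iff.2 ⟨g, rfl⟩
  have hu1 : u ≠ 1 := fun h => by
    rw [hu, conj_eq_one_iff] at h
    rw [h, orderOf_one] at hy
    norm_num at hy
  have huZ : u ∉ zpowers (S.F.c : G) := fun h =>
    hnc (hcardconj y ((S.conj_central hord h hu1).trans hyu.symm))
  set x := g⁻¹ * (S.F.c : G) * g with hx
  have hgx : g * x * g⁻¹ = S.F.c := by rw [hx]; group
  have hxo : orderOf x = 11 := by
    rw [show x = MulAut.conj g⁻¹ (S.F.c : G) by rw [hx, MulAut.conj_apply, inv_inv], MulEquiv.orderOf_eq, S.F.order']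
  have hxy : x * y = y * x := by
    have h := S.K.x_comm huO
    refine (MulAut.conj g).injective ?_
    show g * (x * y) * g⁻¹ = g * (y * x) * g⁻¹
    rw [show g * (x * y) * g⁻¹ = g * x * g⁻¹ * (g * y * g⁻¹) by group,
      show g * (y * x) * g⁻¹ = g * y * g⁻¹ * (g * x * g⁻¹) by group, hgx]
    exact h.symm
  have hconj : ∀ a b : ℕ, IsConj x (y ^ a * x ^ b) → y ^ a = 1 := by
    intro a b h
    have he : g * (y ^ a * x ^ b) * g⁻¹ = u ^ a * (S.F.c : G) ^ b := by
      rw [hu, ← hgx, conj_pow, conj_pow]; group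
    have hmem : u ^ a * (S.F.c : G) ^ b ∈ S.K.O := mul_mem (pow_mem huO a) (pow_mem S.K.mem b)
    have hc : IsConj (S.F.c : G) (u ^ a * (S.F.c : G) ^ b) :=
      ((isConj_iff.2 ⟨g, hgx⟩ : IsConj x (S.F.c : G)).symm.trans h).trans (isConj_iff.2 ⟨g, he⟩)
    by_cases hz : u ^ a * (S.F.c : G) ^ b ∈ zpowers (S.F.c : G)
    · have hua : u ^ a ∈ zpowers (S.F.c : G) := by
        have := mul_mem hz (inv_mem (pow_mem (mem_zpowers (S.F.c : G)) b))
        rwa [mul_inv_cancel_right] at this
      by_contra hne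
      refine huZ ?_
      have hua1 : u ^ a ≠ 1 := fun e => hne (by
        rw [hu, conj_pow] at e
        exact conj_eq_one_iff.1 e)
      have hle : zpowers (u ^ a) ≤ zpowers (S.F.c : G) := zpowers_le.2 hua
      have huo : orderOf u = 11 := ((MulAut.conj g).orderOf_eq y).trans hy
      have heq : zpowers (u ^ a) = zpowers u := eq_of_le_of_card_ge (zpowers_le.2 (pow_mem (mem_zpowers u) a)) (by
        rw [Nat.card_zpowers, Nat.card_zpowers, huo, orderOf_eq_prime (p := 11) (by
          rw [← pow_mul, mul_comm, pow_mul, ← huo, pow_orderOf_eq_one, one_pow]) hua1])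
      exact hle (heq ▸ mem_zpowers u)
    · exact absurd (hcardconj y ((hc.trans (S.conj_noncentral hord hmem hz huO huZ)).trans hyu.symm)) hnc
  have hxX : x ∈ X := mem_centralizer_singleton_iff.2 hxy
  have hxO : x ∈ O := hmemO x hxX (by rw [hxo]; decide)
  have hy11 : y ^ 11 = 1 := by rw [← hy, pow_orderOf_eq_one]
  have hx11 : x ^ 11 = 1 := by rw [← hxo, pow_orderOf_eq_one]
  -- everything of odd order centralises it
  have hOx : ∀ o ∈ O, o * x = x * o := by
    intro o ho
    obtain ⟨k, hk⟩ := (mem_powers_iff_mem_zpowers).2 (habel o ho x hxO)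
    have hk' : y ^ k = o * x * o⁻¹ * x⁻¹ := hk
    have h1 := hconj k 1 (by
      rw [pow_one, hk', inv_mul_cancel_right]
      exact isConj_iff.2 ⟨o, rfl⟩)
    rw [hk', mul_inv_eq_one, mul_inv_eq_iff_eq_mul] at h1
    exact h1
  have hinj : ∀ a b a' b' : ℕ, y ^ a * x ^ b = y ^ a' * x ^ b' → a % 11 = a' % 11 ∧ b % 11 = b' % 11 := by
    intro a b a' b' h
    have hd0 : ∀ k l : ℕ, y ^ k = x ^ l → y ^ k = 1 := fun k l e => by
      have h3 : y ^ k * x ^ 1 = x ^ (l + 1) := by rw [e, ← pow_add]
      by_contra hne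
      have hxl : x ^ l ∈ zpowers y := e ▸ pow_mem (mem_zpowers y) k
      have hle : zpowers (x ^ l) = zpowers x := eq_of_le_of_card_ge (zpowers_le.2 (pow_mem (mem_zpowers x) l)) (by
        rw [Nat.card_zpowers, Nat.card_zpowers, hxo, orderOf_eq_prime (p := 11) (by
          rw [← pow_mul, mul_comm, pow_mul, hx11, one_pow]) (e ▸ hne)])
      obtain ⟨m, hm⟩ := (mem_powers_iff_mem_zpowers).2 ((zpowers_le.2 hxl) (hle ▸ mem_zpowers x) : x ∈ zpowers y)
      have hm' : y ^ m = x := hm
      have := hconj m 0 (by rw [pow_zero, mul_one, hm'])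
      rw [hm'] at this
      rw [this, orderOf_one] at hxo
      norm_num at hxo
    have h1 : y ^ (a + 10 * a') = x ^ (b' + 10 * b) := by
      have hc : Commute y x := hxy.symm
      have e : y ^ (a + 10 * a') * x ^ (11 * b) = y ^ (11 * a') * x ^ (b' + 10 * b) := by
        calc y ^ (a + 10 * a') * x ^ (11 * b) = y ^ (10 * a') * (y ^ a * x ^ b) * x ^ (10 * b) := by
              rw [show a + 10 * a' = 10 * a' + a by ring, show 11 * b = b + 10 * b by ring, pow_add, pow_add]
              group
          _ = _ := by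
              rw [h, show 11 * a' = 10 * a' + a' by ring, pow_add, pow_add]
              group
      rwa [pow_mul x 11, hx11, one_pow, mul_one, pow_mul y 11, hy11, one_pow, one_mul] at e
    have h2 := hd0 _ _ h1
    rw [h2] at h1
    have d1 := orderOf_dvd_of_pow_eq_one h2
    have d2 := orderOf_dvd_of_pow_eq_one h1.symm
    rw [hy] at d1
    rw [hxo] at d2
    omega
  let f : Fin 11 × Fin 11 → ↥O := fun p => ⟨y ^ (p.1 : ℕ) * x ^ (p.2 : ℕ), mul_mem (pow_mem hyO _) (pow_mem hxO _)⟩
  have hf : Function.Injective f := fun p q e => by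
    have := hinj _ _ _ _ (congrArg Subtype.val e)
    rw [Nat.mod_eq_of_lt p.1.2, Nat.mod_eq_of_lt p.2.2, Nat.mod_eq_of_lt q.1.2, Nat.mod_eq_of_lt q.2.2] at this
    exact Prod.ext (Fin.ext this.1) (Fin.ext this.2)
  have hge := Nat.card_le_card_of_injective f hf
  rw [Nat.card_prod, Nat.card_fin] at hge
  have hle : Nat.card ↥O ≤ 242 := by
    rw [← card_map_of_injective (K := O) (f := (MulAut.conj g).toMonoidHom) (MulAut.conj g).injective]
    refine le_trans (Subgroup.card_le_of_le ?_) (S.card_stab_le hord huO huZ)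
    rintro _ ⟨o, ho, rfl⟩
    refine mem_inf.2 ⟨?_, mem_centralizer_singleton_iff.2 ?_⟩
    · refine (centralizer_le_normalizer _) ?_
      rw [Subgroup.zpowers_eq_closure, Subgroup.centralizer_closure, mem_centralizer_singleton_iff]
      show g * o * g⁻¹ * S.F.c = S.F.c * (g * o * g⁻¹)
      rw [← hgx]
      calc g * o * g⁻¹ * (g * x * g⁻¹) = g * (o * x) * g⁻¹ := by group
        _ = _ := by rw [hOx o ho]; group
    · show g * o * g⁻¹ * u = u * (g * o * g⁻¹)
      rw [hu]
      calc g * o * g⁻¹ * (g * y * g⁻¹) = g * (o * y) * g⁻¹ := by group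
        _ = _ := by rw [hcy o ho]; group
  have hO121 : Nat.card ↥O = 121 := by
    have hdvd : 121 ∣ Nat.card ↥O := by
      let A := zpowers y ⊔ zpowers x
      have hAO : A ≤ O := sup_le (zpowers_le.2 hyO) (zpowers_le.2 hxO)
      have hApow : IsPGroup 11 ↥A := IsPGroup.to_sup_of_normal_right'
        (IsPGroup.of_card (n := 1) (by rw [Nat.card_zpowers, hy, pow_one]))
        (IsPGroup.of_card (n := 1) (by rw [Nat.card_zpowers, hxo, pow_one]))
        (zpowers_le.2 (by
          refine (centralizer_le_normalizer _) ?_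
          rw [Subgroup.zpowers_eq_closure, Subgroup.centralizer_closure, mem_centralizer_singleton_iff]
          exact hxy.symm))
      let fA : Fin 11 × Fin 11 → ↥A := fun p => ⟨y ^ (p.1 : ℕ) * x ^ (p.2 : ℕ),
        mul_mem_sup (pow_mem (mem_zpowers y) _) (pow_mem (mem_zpowers x) _)⟩
      have hA := Nat.card_le_card_of_injective fA fun p q e => hf (Subtype.ext (congrArg (fun a : ↥A => (a : G)) e))
      obtain ⟨k, hk⟩ := IsPGroup.iff_card.1 hApow
      rw [Nat.card_prod, Nat.card_fin, hk] at hA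
      have hk2 : 2 ≤ k := by
        by_contra hlt
        have := Nat.pow_le_pow_right (show 0 < 11 by norm_num) (show k ≤ 1 by omega)
        omega
      refine dvd_trans ?_ (Subgroup.card_dvd_of_le hAO)
      rw [hk]
      exact dvd_trans (by norm_num) (pow_dvd_pow 11 hk2)
    obtain ⟨m, hm⟩ := hdvd
    have := Nat.odd_iff.1 hodd
    omega
  refine ⟨O, x, hxo, hxy, hOX, by rw [hcO, hO121], hmemO, hoddO, hcase, fun o ho => ?_, hconj, ?_⟩
  · have hb : Function.Bijective f := (Nat.bijective_iff_injective_and_card f).2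
      ⟨hf, by rw [Nat.card_prod, Nat.card_fin, hO121]⟩
    obtain ⟨⟨a, b⟩, e⟩ := hb.2 ⟨o, ho⟩
    exact ⟨a, b, (congrArg Subtype.val e).symm⟩
  · obtain ⟨k, hk⟩ := (mem_powers_iff_mem_zpowers).2
      (habel (t * x * t⁻¹) (htn x hxO) x hxO)
    have hb : Function.Bijective f := (Nat.bijective_iff_injective_and_card f).2
      ⟨hf, by rw [Nat.card_prod, Nat.card_fin, hO121]⟩
    obtain ⟨⟨a, b⟩, e⟩ := hb.2 ⟨t * x * t⁻¹, htn x hxO⟩
    have e' : t * x * t⁻¹ = y ^ (a : ℕ) * x ^ (b : ℕ) := (congrArg Subtype.val e).symm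
    have ha0 := hconj a b (e' ▸ isConj_iff.2 ⟨t, rfl⟩)
    rw [ha0, one_mul] at e'
    have hbb : x ^ ((b : ℕ) * b) = x := by
      rw [pow_mul, ← e', conj_pow, ← e',
        show t * (t * x * t⁻¹) * t⁻¹ = t * t * x * (t * t)⁻¹ by group, D.sq t htV]
      group
    have hm : (b : ℕ) * b % 11 = 1 := by
      have := pow_inj_mod.1 (hbb.trans (pow_one x).symm)
      rwa [hxo] at this
    have hb2 : (b : ℕ) = 1 ∨ (b : ℕ) = 10 := by
      have htab : ∀ r < 11, r * r % 11 = 1 → r = 1 ∨ r = 10 := by decide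
      exact htab _ b.2 hm
    rcases hb2 with h | h
    · exfalso
      rw [h, pow_one, mul_inv_eq_iff_eq_mul] at e'
      refine h121 t (Or.inl ht2) ?_
      rw [← hO121]
      refine Subgroup.card_dvd_of_le fun o ho => mem_centralizer_singleton_iff.2 ?_
      obtain ⟨⟨c, d'⟩, eo⟩ := hb.2 ⟨o, ho⟩
      rw [show o = y ^ (c : ℕ) * x ^ (d' : ℕ) from (congrArg Subtype.val eo).symm]
      exact (((show Commute t y from hty).pow_right _).mul_right ((show Commute t x from e').pow_right _)).eq.symm
    · rw [e', h, eq_inv_iff_mul_eq_one, ← pow_succ, hx11]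

/-- An involution centralising the element commutes with one of two involutions inverting it. -/
theorem commute_or {d : Finset GolayPt} (hd : d.card = 2) {y : G} (hy : orderOf y = 11)
    (hty : D.eS d * y = y * D.eS d) {w : G} (hw2 : w * w = 1) (hwy : w * y * w⁻¹ = y⁻¹)
    (hwt : w * D.eS d = D.eS d * w) {i : G} (hi2 : i * i = 1) (hiy : i * y = y * i) :
    i * w = w * i ∨ i * (D.eS d * w) = D.eS d * w * i := by
  haveI : Fact (Nat.Prime 2) := ⟨Nat.prime_two⟩
  obtain ⟨O, x, hxo, hxy, hOX, -, hmemO, hoddO, hcase, hgen, hconj, htx⟩ := S.pair_centralizer hord D hd hy hty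
  set t := D.eS d
  have htt : t * t = 1 := D.sq t (D.eS_mem d)
  have hty' : Commute t y := hty
  have hy11 : y ^ 11 = 1 := by rw [← hy, pow_orderOf_eq_one]
  have hx11 : x ^ 11 = 1 := by rw [← hxo, pow_orderOf_eq_one]
  have hxO : x ∈ O := hmemO x (mem_centralizer_singleton_iff.2 hxy) (by rw [hxo]; decide)
  -- the involution is the pair times a power of the second element
  by_cases hione : i = 1
  · rw [hione]; exact Or.inl (by group)
  have hi : ∃ b : ℕ, i = t * x ^ b := by
    by_cases hi1 : i ∈ O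
    · exfalso
      have := hoddO i hi1
      rw [orderOf_eq_prime (p := 2) (by rw [pow_two, hi2]) hione] at this
      norm_num at this
    · obtain ⟨a, b, hab⟩ := hgen _ ((hcase i (mem_centralizer_singleton_iff.2 hiy)).resolve_left hi1)
      refine ⟨b, ?_⟩
      have hy2 : Commute (y ^ a) (x ^ b) := Commute.pow_pow hxy.symm a b
      have hit : i = t * (y ^ a * x ^ b) := by rw [← hab, ← mul_assoc, htt, one_mul]
      have hconjt : t * (y ^ a * x ^ b) * t⁻¹ = y ^ a * (x ^ b)⁻¹ := by
        rw [show t * (y ^ a * x ^ b) * t⁻¹ = t * y ^ a * t⁻¹ * (t * x ^ b * t⁻¹) by group,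
          (hty'.pow_right a).eq, mul_inv_cancel_right, ← conj_pow, htx, inv_pow]
      have hsq : y ^ a * (x ^ b)⁻¹ * (y ^ a * x ^ b) = 1 := by
        have h := hi2
        rw [hit] at h
        rw [← hconjt, ← h, inv_eq_of_mul_eq_one_right htt]
        group
      have h2a : y ^ (a * 2) = 1 := by
        rw [mul_assoc, ← mul_assoc (x ^ b)⁻¹, (hy2.inv_right.symm).eq, mul_assoc (y ^ a), inv_mul_cancel,
          mul_one, ← pow_add] at hsq
        rwa [mul_two]
      have ha : y ^ a = 1 := by
        refine orderOf_dvd_iff_pow_eq_one.1 ?_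
        have := orderOf_dvd_of_pow_eq_one h2a
        rw [hy] at this ⊢
        exact Nat.Coprime.dvd_of_dvd_mul_right (by norm_num) this
      rw [hit, ha, one_mul]
  obtain ⟨b, rfl⟩ := hi
  -- the action of the inverting involution on the second element
  have hwX : w * x * w⁻¹ ∈ centralizer ({y} : Set G) := by
    refine mem_centralizer_singleton_iff.2 ?_
    have h : (w * x * w⁻¹) * (w * y * w⁻¹) = w * y * w⁻¹ * (w * x * w⁻¹) := by
      calc (w * x * w⁻¹) * (w * y * w⁻¹) = w * (x * y) * w⁻¹ := by group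
        _ = _ := by rw [hxy]; group
    rw [hwy] at h
    have := (show Commute (w * x * w⁻¹) y⁻¹ from h).inv_right
    rwa [inv_inv] at this
  obtain ⟨a', b', hab⟩ := hgen _ (hmemO _ hwX (by
    rw [show w * x * w⁻¹ = MulAut.conj w x from rfl, MulEquiv.orderOf_eq, hxo]; decide))
  rw [hconj a' b' (hab ▸ isConj_iff.2 ⟨w, rfl⟩), one_mul] at hab
  have hbb : x ^ (b' * b') = x := by
    rw [pow_mul, ← hab, conj_pow, ← hab, show w * (w * x * w⁻¹) * w⁻¹ = w * w * x * (w * w)⁻¹ by group, hw2]
    group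
  have hm : b' % 11 = 1 ∨ b' % 11 = 10 := by
    have := pow_inj_mod.1 (hbb.trans (pow_one x).symm)
    rw [hxo, Nat.mul_mod] at this
    have htab : ∀ r < 11, r * r % 11 = 1 → r = 1 ∨ r = 10 := by decide
    exact htab _ (Nat.mod_lt _ (by norm_num)) this
  rw [← pow_mod_orderOf x b', hxo] at hab
  rcases hm with h | h <;> rw [h] at hab
  · left
    rw [pow_one, mul_inv_eq_iff_eq_mul] at hab
    exact (((show Commute w t from hwt).mul_right ((show Commute w x from hab).pow_right b)).symm).eq
  · right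
    have hx' : Commute (t * w) x := by
      refine mul_inv_eq_iff_eq_mul.1 ?_
      rw [show t * w * x * (t * w)⁻¹ = t * (w * x * w⁻¹) * t⁻¹ by group, hab, ← conj_pow, htx, inv_pow,
        inv_eq_iff_mul_eq_one, ← pow_succ, hx11]
    have ht' : Commute (t * w) t := (Commute.refl t).mul_left (show Commute w t from hwt)
    exact ((ht'.mul_right (hx'.pow_right b)).symm).eq

end Model.ElevenSetup

end Cfsg.Agent.JankoFour
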