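import Cfsg.Agent.Lib.Golay.M24
import Mathlib.Topology.Compactification.OnePoint.ProjectiveLine
import Mathlib.LinearAlgebra.Matrix.SpecialLinearGroup

/-!
The projective action of the special linear group of degree two over the integers modulo 23 on the 24 points
lies in M24, and the extension of a homomorphism on it to the general linear group.
-/

set_option autoImplicit false
set_option maxRecDepth 20000

namespace Cfsg.Agent.JankoFour.PGL

open Matrix
open Cfsg (GolayPt M24 projInv)
open Cfsg.Agent.Golay (permOf_mem_M24 gens_valid gens_aut translation_eq projInv_eq)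

instance : Fact (Nat.Prime 23) := ⟨by norm_num⟩

abbrev SL23 : Type := Matrix.SpecialLinearGroup (Fin 2) (ZMod 23)

abbrev GL23 : Type := GL (Fin 2) (ZMod 23)

/-- The translation. -/
def tS : SL23 := ⟨!![1, 1; 0, 1], by simp [det_fin_two_of]⟩

/-- The inversion. -/
def wS : SL23 := ⟨!![0, -1; 1, 0], by simp [det_fin_two_of]⟩

/-- The diagonal element of order eleven modulo the centre. -/
def dS : SL23 := ⟨!![5, 0; 0, 14], by simp [det_fin_two_of]; decide⟩

theorem val_mul (g h : SL23) : (g * h).1 = g.1 * h.1 := rfl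

theorem val_inv (g : SL23) : (g⁻¹).1 = g.1.adjugate := rfl

theorem tS_pow (n : ℕ) : (tS ^ n).1 = !![1, (n : ZMod 23); 0, 1] := by
  induction n with
  | zero => rw [pow_zero, Nat.cast_zero]; ext i j; fin_cases i <;> fin_cases j <;> simp
  | succ n ih =>
    rw [pow_succ, val_mul, ih]
    show !![1, (n : ZMod 23); 0, 1] * !![1, 1; 0, 1] = _
    rw [Matrix.mul_fin_two]
    push_cast
    simp [add_comm]

theorem tS_val (x : ZMod 23) : (tS ^ x.val).1 = !![1, x; 0, 1] := by
  rw [tS_pow, ZMod.natCast_zmod_val]

/-- The word with given translations. -/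
theorem word_val (x y w : ZMod 23) : (tS ^ x.val * wS * tS ^ y.val * wS * tS ^ w.val).1 =
    !![x * y - 1, x * y * w - x - w; y, y * w - 1] := by
  simp only [val_mul, tS_val]
  show !![1, x; 0, 1] * !![0, -1; 1, 0] * !![1, y; 0, 1] * !![0, -1; 1, 0] * !![1, w; 0, 1] = _
  rw [Matrix.mul_fin_two, Matrix.mul_fin_two, Matrix.mul_fin_two, Matrix.mul_fin_two]
  congr 1 <;> ring_nf

theorem closure_gens : Subgroup.closure ({tS, wS} : Set SL23) = ⊤ := by
  set H := Subgroup.closure ({tS, wS} : Set SL23)
  have ht : tS ∈ H := Subgroup.subset_closure (by simp)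
  have hw : wS ∈ H := Subgroup.subset_closure (by simp)
  have key : ∀ g : SL23, g.1 1 0 ≠ 0 → g ∈ H := by
    intro g hc
    obtain ⟨a, b, c, d, hg⟩ : ∃ a b c d, g.1 = !![a, b; c, d] := ⟨_, _, _, _, eta_fin_two g.1⟩
    have hdet : a * d - b * c = 1 := by
      have := g.2
      rwa [hg, det_fin_two_of] at this
    have hc' : c ≠ 0 := by simpa [hg] using hc
    have e : g = tS ^ ((a + 1) / c).val * wS * tS ^ c.val * wS * tS ^ ((d + 1) / c).val := by
      refine Subtype.ext ?_
      rw [word_val, hg]
      have h1 : (a + 1) / c * c - 1 = a := by field_simp; ring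
      have h2 : c * ((d + 1) / c) - 1 = d := by field_simp; ring
      have h3 : (a + 1) / c * c * ((d + 1) / c) - (a + 1) / c - (d + 1) / c = b := by
        field_simp
        linear_combination hdet
      rw [h1, h2, h3]
    rw [e]
    exact mul_mem (mul_mem (mul_mem (mul_mem (pow_mem ht _) hw) (pow_mem ht _)) hw) (pow_mem ht _)
  refine eq_top_iff.2 fun g _ => ?_
  by_cases hc : g.1 1 0 = 0
  · have h : wS⁻¹ * g ∈ H := key _ (by
      rw [val_mul, val_inv]
      obtain ⟨a, b, c, d, hg⟩ : ∃ a b c d, g.1 = !![a, b; c, d] := ⟨_, _, _, _, eta_fin_two g.1⟩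
      have hc0 : c = 0 := by simpa [hg] using hc
      have hdet : a * d - b * c = 1 := by
        have := g.2
        rwa [hg, det_fin_two_of] at this
      show ((!![0, -1; 1, 0] : Matrix (Fin 2) (Fin 2) (ZMod 23)).adjugate * g.1) 1 0 ≠ 0
      rw [adjugate_fin_two_of, hg, Matrix.mul_fin_two]
      simp
      intro ha
      rw [ha, hc0] at hdet
      simp at hdet)
    have := mul_mem hw h
    rwa [mul_inv_cancel_left] at this
  · exact key g hc

/-- The action on the points. -/
noncomputable def act : GL23 →* Equiv.Perm GolayPt := MulAction.toPermHom GL23 (OnePoint (ZMod 23))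

/-- The action of the special linear group. -/
noncomputable def actS : SL23 →* Equiv.Perm GolayPt := act.comp Matrix.SpecialLinearGroup.toGL

theorem actS_none (g : SL23) : actS g none = if g.1 1 0 = 0 then none else some (g.1 0 0 / g.1 1 0) :=
  OnePoint.smul_infty_eq_ite (K := ZMod 23) (SpecialLinearGroup.toGL g)

theorem actS_some (g : SL23) (k : ZMod 23) : actS g (some k) =
    if g.1 1 0 * k + g.1 1 1 = 0 then none else some ((g.1 0 0 * k + g.1 0 1) / (g.1 1 0 * k + g.1 1 1)) :=
  OnePoint.smul_some_eq_ite (K := ZMod 23) (g := SpecialLinearGroup.toGL g) (k := k)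

theorem actS_tS : actS tS = Equiv.optionCongr (Equiv.addRight (1 : ZMod 23)) := by
  ext1 p
  rcases p with _ | k
  · rw [actS_none]; simp [tS]
  · rw [actS_some]; simp [tS]

theorem actS_wS : actS wS = projInv := by
  ext1 p
  rcases p with _ | k
  · rw [actS_none]; simp [wS, projInv, Cfsg.projInvFun]
  · rw [actS_some]
    simp only [wS]
    by_cases hk : k = 0
    · subst hk; simp [projInv, Cfsg.projInvFun]
    · have h : k ^ 22 = 1 := ZMod.pow_card_sub_one_eq_one hk
      simp [projInv, Cfsg.projInvFun, hk]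
      field_simp
      linear_combination h

theorem actS_mem (g : SL23) : actS g ∈ M24 := by
  have h : Subgroup.closure ({tS, wS} : Set SL23) ≤ M24.comap actS := by
    rw [Subgroup.closure_le]
    rintro _ (rfl | rfl) <;> rw [SetLike.mem_coe, Subgroup.mem_comap]
    · rw [actS_tS, translation_eq]
      exact permOf_mem_M24 (List.all_eq_true.1 gens_valid _ (List.getElem_mem _))
        (List.all_eq_true.1 gens_aut _ (List.getElem_mem _))
    · rw [actS_wS, projInv_eq]
      exact permOf_mem_M24 (List.all_eq_true.1 gens_valid _ (List.getElem_mem _))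
        (List.all_eq_true.1 gens_aut _ (List.getElem_mem _))
  rw [closure_gens] at h
  exact h (Subgroup.mem_top g)

/-- Into M24. -/
noncomputable def actM : SL23 →* ↥M24 := actS.codRestrict M24 actS_mem

theorem actM_val (g : SL23) : (actM g).1 = actS g := rfl

theorem scalar_of_fix {g : SL23} (h : actS g = 1) : g.1 1 0 = 0 ∧ g.1 0 1 = 0 ∧ g.1 0 0 = g.1 1 1 := by
  have hn := congrArg (fun σ : Equiv.Perm GolayPt => σ none) h
  have h0 := congrArg (fun σ : Equiv.Perm GolayPt => σ (some 0)) h
  have h1 := congrArg (fun σ : Equiv.Perm GolayPt => σ (some 1)) h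
  simp only [Equiv.Perm.one_apply, actS_none, actS_some, mul_zero, zero_add, mul_one] at hn h0 h1
  by_cases hc : g.1 1 0 = 0
  · have hd : g.1 1 1 ≠ 0 := fun e => by rw [if_pos e] at h0; simp at h0
    rw [if_neg hd] at h0
    have hb : g.1 0 1 = 0 := by simpa [hd] using h0
    rw [if_neg (by rw [hc, zero_add]; exact hd), hc, hb, zero_add, add_zero] at h1
    refine ⟨hc, hb, ?_⟩
    have := Option.some.inj h1
    field_simp at this
    exact this
  · rw [if_neg hc] at hn; simp at hn

/-- The diagonal matrix with determinant a sign. -/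
noncomputable def diagU (e : (ZMod 23)ˣ) : GL23 :=
  GeneralLinearGroup.mkOfDetNeZero !![(e : ZMod 23), 0; 0, 1] (by simp [det_fin_two_of])

theorem diagU_mul (e f : (ZMod 23)ˣ) : diagU (e * f) = diagU e * diagU f := by
  refine Units.ext ?_
  show !![((e * f : (ZMod 23)ˣ) : ZMod 23), 0; 0, 1] = !![(e : ZMod 23), 0; 0, 1] * !![(f : ZMod 23), 0; 0, 1]
  rw [Matrix.mul_fin_two]
  simp

theorem scalar_two (r : ZMod 23) : Matrix.scalar (Fin 2) r = !![r, 0; 0, r] := by
  ext i j
  fin_cases i <;> fin_cases j <;> simp [Matrix.scalar_apply]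

/-- The scalar matrix. -/
noncomputable def scal : (ZMod 23)ˣ →* GL23 := Units.map (Matrix.scalar (Fin 2)).toMonoidHom

theorem scal_comm (s : (ZMod 23)ˣ) (g : GL23) : scal s * g = g * scal s := by
  refine Units.ext ?_
  show Matrix.scalar (Fin 2) (s : ZMod 23) * g.1 = g.1 * Matrix.scalar (Fin 2) (s : ZMod 23)
  exact (Matrix.scalar_commute (s : ZMod 23) (fun r => Commute.all _ r) g.1).eq

/-- The sign of the determinant. -/
noncomputable def sgn : GL23 →* (ZMod 23)ˣ := (powMonoidHom 11).comp GeneralLinearGroup.det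

/-- The scalar part. -/
noncomputable def rt : GL23 →* (ZMod 23)ˣ := (powMonoidHom 6).comp GeneralLinearGroup.det

theorem sgn_cases (g : GL23) : sgn g = 1 ∨ sgn g = -1 := by
  have h : sgn g ^ 2 = 1 := by
    show ((GeneralLinearGroup.det g) ^ 11) ^ 2 = 1
    rw [← pow_mul]
    exact ZMod.units_pow_card_sub_one_eq_one 23 _
  have h' : ((sgn g : (ZMod 23)ˣ) : ZMod 23) ^ 2 = 1 := by rw [← Units.val_pow_eq_pow_val, h, Units.val_one]
  rcases sq_eq_one_iff.1 h' with e | e
  · exact Or.inl (Units.ext e)
  · exact Or.inr (Units.ext e)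

/-- The part of determinant one. -/
noncomputable def part (g : GL23) : SL23 :=
  ⟨((scal (rt g))⁻¹ * g * diagU (sgn g)).1, by
    have h : GeneralLinearGroup.det ((scal (rt g))⁻¹ * g * diagU (sgn g)) = 1 := by
      rw [map_mul, map_mul, map_inv]
      have h1 : GeneralLinearGroup.det (scal (rt g)) = rt g ^ 2 := Units.ext (by
        show (Matrix.scalar (Fin 2) ((rt g : (ZMod 23)ˣ) : ZMod 23)).det = _
        simp [Matrix.scalar, Matrix.det_diagonal])
      have h2 : GeneralLinearGroup.det (diagU (sgn g)) = sgn g := Units.ext (by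
        show (!![((sgn g : (ZMod 23)ˣ) : ZMod 23), 0; 0, 1]).det = _
        simp [det_fin_two_of])
      rw [h1, h2, mul_assoc, inv_mul_eq_one]
      show (GeneralLinearGroup.det g ^ 6) ^ 2 = GeneralLinearGroup.det g * GeneralLinearGroup.det g ^ 11
      rw [← pow_mul, ← pow_succ']
    exact congrArg Units.val h⟩

theorem part_eq (g : GL23) : SpecialLinearGroup.toGL (part g) = (scal (rt g))⁻¹ * g * diagU (sgn g) :=
  Units.ext rfl

/-- Conjugation by the outer diagonal element. -/
noncomputable def flip : SL23 →* SL23 :=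
  MonoidHom.mk' (fun g => ⟨!![g.1 0 0, -g.1 0 1; -g.1 1 0, g.1 1 1], by
    have := g.2
    rw [det_fin_two] at this
    rw [det_fin_two_of]
    linear_combination this⟩) fun g h => Subtype.ext (by
    show !![(g * h).1 0 0, -(g * h).1 0 1; -(g * h).1 1 0, (g * h).1 1 1] =
      !![g.1 0 0, -g.1 0 1; -g.1 1 0, g.1 1 1] * !![h.1 0 0, -h.1 0 1; -h.1 1 0, h.1 1 1]
    rw [Matrix.mul_fin_two, val_mul]
    simp only [Matrix.mul_apply, Fin.sum_univ_two]
    congr 1 <;> ring_nf)

theorem toGL_flip (g : SL23) :
    SpecialLinearGroup.toGL (flip g) = diagU (-1) * SpecialLinearGroup.toGL g * diagU (-1) := by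
  refine Units.ext ?_
  show !![g.1 0 0, -g.1 0 1; -g.1 1 0, g.1 1 1] =
    !![((-1 : (ZMod 23)ˣ) : ZMod 23), 0; 0, 1] * g.1 * !![((-1 : (ZMod 23)ˣ) : ZMod 23), 0; 0, 1]
  conv_rhs => rw [eta_fin_two g.1, Matrix.mul_fin_two, Matrix.mul_fin_two]
  simp

theorem diagU_sq : diagU (-1) * diagU (-1) = 1 := by
  rw [← diagU_mul, neg_mul_neg, one_mul]
  refine Units.ext ?_
  show !![((1 : (ZMod 23)ˣ) : ZMod 23), 0; 0, 1] = 1
  rw [Matrix.one_fin_two, Units.val_one]

theorem diagU_one : diagU 1 = 1 := by
  refine Units.ext ?_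
  show !![((1 : (ZMod 23)ˣ) : ZMod 23), 0; 0, 1] = 1
  rw [Matrix.one_fin_two, Units.val_one]

theorem part_mul (g h : GL23) :
    part (g * h) = part g * if sgn g = 1 then part h else flip (part h) := by
  refine SpecialLinearGroup.toGL_injective ?_
  rw [map_mul, part_eq, part_eq, map_mul, map_mul, map_mul, diagU_mul]
  have hcomm : ∀ x : GL23, (scal (rt h))⁻¹ * x = x * (scal (rt h))⁻¹ := fun x =>
    ((show Commute (scal (rt h)) x from scal_comm _ x).inv_left).eq
  have hL : (scal (rt g) * scal (rt h))⁻¹ * (g * h) * (diagU (sgn g) * diagU (sgn h)) =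
      (scal (rt g))⁻¹ * g * ((scal (rt h))⁻¹ * h * (diagU (sgn g) * diagU (sgn h))) := by
    calc _ = (scal (rt h))⁻¹ * ((scal (rt g))⁻¹ * g) * (h * (diagU (sgn g) * diagU (sgn h))) := by group
      _ = (scal (rt g))⁻¹ * g * (scal (rt h))⁻¹ * (h * (diagU (sgn g) * diagU (sgn h))) := by rw [hcomm]
      _ = _ := by group
  rw [hL]
  rcases sgn_cases g with e | e
  · rw [if_pos e, part_eq, e, diagU_one, one_mul, mul_one]
  · have hne : sgn g ≠ 1 := by rw [e]; decide
    rw [if_neg hne, toGL_flip, part_eq, e, show diagU (-1) * diagU (sgn h) = diagU (sgn h) * diagU (-1) by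
      rw [← diagU_mul, ← diagU_mul, mul_comm]]
    calc (scal (rt g))⁻¹ * g * ((scal (rt h))⁻¹ * h * (diagU (sgn h) * diagU (-1)))
        = (scal (rt g))⁻¹ * g * ((diagU (-1) * diagU (-1)) *
            ((scal (rt h))⁻¹ * h * diagU (sgn h) * diagU (-1))) := by rw [diagU_sq]; group
      _ = _ := by group

set_option maxHeartbeats 1000000 in
/-- A homomorphism on the special linear group whose kernel is that of the action extends by an involution to the
projective general linear group. -/
theorem exists_pgl {G : Type*} [Group G] (ψ : SL23 →* G) (hker : ∀ g, ψ g = 1 ↔ actS g = 1) (i : G)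
    (hi : i * i = 1) (hflip : ∀ g, i * ψ g * i⁻¹ = ψ (flip g)) (hout : ∀ g, ψ g ≠ i) :
    ∃ K : Subgroup G, Nonempty (↥K ≃* GL (Fin 2) (ZMod 23) ⧸ Subgroup.center (GL (Fin 2) (ZMod 23))) := by
  have hii : i⁻¹ = i := inv_eq_of_mul_eq_one_right hi
  let j : GL23 → G := fun g => if sgn g = 1 then 1 else i
  let Ψ : GL23 →* G := MonoidHom.mk' (fun g => ψ (part g) * j g) fun g h => by
    show ψ (part (g * h)) * j (g * h) = ψ (part g) * j g * (ψ (part h) * j h)
    rw [part_mul, map_mul]
    have hjm : j (g * h) = j g * j h := by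
      have hneg : (-1 : (ZMod 23)ˣ) ≠ 1 := by decide
      rcases sgn_cases g with e | e <;> rcases sgn_cases h with f | f <;> simp [j, e, f, hi, hneg]
    rw [hjm]
    rcases sgn_cases g with e | e
    · rw [if_pos e, show j g = 1 from if_pos e]
      group
    · have hne : sgn g ≠ 1 := by rw [e]; decide
      rw [if_neg hne, show j g = i from if_neg hne, ← hflip, hii]
      calc ψ (part g) * (i * ψ (part h) * i) * (i * j h) = ψ (part g) * (i * ψ (part h)) * (i * i) * j h := by
            group
        _ = _ := by rw [hi]; group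
  have hk : Ψ.ker = Subgroup.center GL23 := by
    ext g
    rw [MonoidHom.mem_ker]
    constructor
    · intro h
      have h' : ψ (part g) * j g = 1 := h
      have hsg : sgn g = 1 := by
        rcases sgn_cases g with e | e
        · exact e
        · exfalso
          rw [show j g = i from if_neg (by rw [e]; decide), mul_eq_one_iff_eq_inv, hii] at h'
          exact hout _ h'
      rw [show j g = 1 from if_pos hsg, mul_one, hker] at h'
      obtain ⟨hc, hb, had⟩ := scalar_of_fix h'
      have hp : (part g).1 = Matrix.scalar (Fin 2) ((part g).1 1 1) := by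
        conv_lhs => rw [eta_fin_two (part g).1, hc, hb, had]
        exact (scalar_two _).symm
      have hg : g = scal (rt g) * SpecialLinearGroup.toGL (part g) := by
        rw [part_eq, hsg, diagU_one]; group
      rw [Subgroup.mem_center_iff]
      intro x
      refine Units.ext ?_
      have hgv : g.1 = Matrix.scalar (Fin 2) (((rt g : (ZMod 23)ˣ) : ZMod 23) * (part g).1 1 1) := by
        rw [map_mul, ← hp]
        exact congrArg Units.val hg
      show x.1 * g.1 = g.1 * x.1
      rw [hgv]
      exact ((Matrix.scalar_commute _ (fun r => Commute.all _ r) x.1).eq).symm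
    · intro h
      obtain ⟨r, hr⟩ : ∃ r : ZMod 23, g.1 = Matrix.scalar (Fin 2) r := by
        have h1 := congrArg Units.val (Subgroup.mem_center_iff.1 h (SpecialLinearGroup.toGL tS))
        have h2 := congrArg Units.val (Subgroup.mem_center_iff.1 h (SpecialLinearGroup.toGL wS))
        simp only [Units.val_mul] at h1 h2
        change (!![1, 1; 0, 1] : Matrix (Fin 2) (Fin 2) (ZMod 23)) * g.1 = g.1 * !![1, 1; 0, 1] at h1
        change (!![0, -1; 1, 0] : Matrix (Fin 2) (Fin 2) (ZMod 23)) * g.1 = g.1 * !![0, -1; 1, 0] at h2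
        rw [eta_fin_two g.1, Matrix.mul_fin_two, Matrix.mul_fin_two] at h1 h2
        have e10 := congrFun (congrFun h1 0) 0
        have e00 := congrFun (congrFun h2 1) 0
        have e01 := congrFun (congrFun h2 0) 0
        simp only [Matrix.of_apply, Matrix.cons_val', Matrix.cons_val_zero, Matrix.cons_val_one,
          Matrix.cons_val_fin_one] at e10 e00 e01
        refine ⟨g.1 1 1, ?_⟩
        have hc : g.1 1 0 = 0 := by linear_combination e10
        have hb : g.1 0 1 = 0 := by linear_combination -e01 - hc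
        have ha : g.1 0 0 = g.1 1 1 := by linear_combination e00
        rw [scalar_two]
        conv_lhs => rw [eta_fin_two g.1, hc, hb, ha]
      have hdet : ((GeneralLinearGroup.det g : (ZMod 23)ˣ) : ZMod 23) = r ^ 2 := by
        show g.1.det = r ^ 2
        rw [hr, scalar_two, det_fin_two_of]
        ring
      have hr0 : r ≠ 0 := fun e => (GeneralLinearGroup.det g).ne_zero (by rw [hdet, e]; simp)
      have hsg : sgn g = 1 := Units.ext (by
        show ((GeneralLinearGroup.det g ^ 11 : (ZMod 23)ˣ) : ZMod 23) = 1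
        rw [Units.val_pow_eq_pow_val, hdet, ← pow_mul]
        exact ZMod.pow_card_sub_one_eq_one hr0)
      show ψ (part g) * j g = 1
      rw [show j g = 1 from if_pos hsg, mul_one, hker]
      have hp : (part g).1 = Matrix.scalar (Fin 2) (((rt g)⁻¹ : (ZMod 23)ˣ) * r : ZMod 23) := by
        have h := congrArg Units.val (part_eq g)
        rw [hsg, diagU_one, mul_one, ← map_inv, Units.val_mul, hr] at h
        rw [map_mul]
        exact h
      rw [scalar_two] at hp
      ext1 q
      rcases q with _ | k
      · rw [actS_none, if_pos (by rw [hp]; rfl)]; rfl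
      · have hu : (((rt g)⁻¹ : (ZMod 23)ˣ) : ZMod 23) * r ≠ 0 := mul_ne_zero (Units.ne_zero _) hr0
        rw [actS_some, hp]
        simp only [Matrix.of_apply, Matrix.cons_val', Matrix.cons_val_zero, Matrix.cons_val_one,
          Matrix.cons_val_fin_one, zero_mul, zero_add, add_zero, if_neg hu, mul_div_cancel_left₀ k hu]
        rfl
  exact ⟨Ψ.range, ⟨((QuotientGroup.quotientMulEquivOfEq hk.symm).trans
    (QuotientGroup.quotientKerEquivRange Ψ)).symm⟩⟩

end Cfsg.Agent.JankoFour.PGL
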