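import Cfsg.Agent.Lib.JankoFour.PGLCent
import Cfsg.Agent.Lib.JankoFour.PGLProj
import Cfsg.Agent.Lib.JankoFour.TCountSetup

/-!
A projective general linear group of degree two over the integers modulo 23 in a group of Janko-four type.
-/

set_option autoImplicit false
set_option linter.unusedSectionVars false

namespace Cfsg.Agent.JankoFour

open Subgroup
open Cfsg (GolayPt M24)
open scoped symmDiff

variable {G : Type*} [Group G] [Finite G] {z : G} {V : Subgroup G}

theorem BigPack.twist_even (σ : Equiv.Perm GolayPt) :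
    Even (({none} : Finset GolayPt) ∆ {σ none}).card := by
  by_cases h : (none : GolayPt) = σ none
  · rw [← h, symmDiff_self]; simp
  · have e : ({none} : Finset GolayPt) ∆ {σ none} = {none, σ none} := by
      ext a
      simp only [Finset.mem_symmDiff, Finset.mem_singleton, Finset.mem_insert]
      constructor
      · rintro (⟨h1, -⟩ | ⟨h1, -⟩) <;> simp [h1]
      · rintro (rfl | rfl)
        · exact Or.inl ⟨rfl, h⟩
        · exact Or.inr ⟨rfl, fun e => h e.symm⟩
    rw [e, Finset.card_pair h]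
    decide

namespace BigPack.Sec

variable {D : BigPack z V} (S : D.Sec)

theorem kk_conj_eS (σ : ↥M24) (s : Finset GolayPt) (hs : Even s.card) :
    S.kk σ * D.eS s * (S.kk σ)⁻¹ = D.eS (s.image ⇑σ.1) := by
  have h := D.eS_equiv ⟨S.kk σ, S.mem σ⟩ s hs
  rwa [S.sect] at h

/-- The other complement: twisted by the pairs through the extra point. -/
noncomputable def twist : D.Sec where
  kk := MonoidHom.mk' (fun σ => D.eS (({none} : Finset GolayPt) ∆ {σ.1 none}) * S.kk σ) fun σ τ => by
    have himg : (({none} : Finset GolayPt) ∆ {τ.1 none}).image ⇑σ.1 =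
        ({σ.1 none} : Finset GolayPt) ∆ {σ.1 (τ.1 none)} := by
      rw [Finset.image_symmDiff _ _ σ.1.injective, Finset.image_singleton, Finset.image_singleton]
    have hev : Even (({σ.1 none} : Finset GolayPt) ∆ {σ.1 (τ.1 none)}).card := by
      rw [← himg, Finset.card_image_of_injective _ σ.1.injective]
      exact BigPack.twist_even _
    calc D.eS (({none} : Finset GolayPt) ∆ {(σ * τ).1 none}) * S.kk (σ * τ)
        = D.eS (({none} : Finset GolayPt) ∆ {σ.1 none}) *
            D.eS (({σ.1 none} : Finset GolayPt) ∆ {σ.1 (τ.1 none)}) * (S.kk σ * S.kk τ) := by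
          rw [map_mul, ← D.eS_symmDiff _ _ (BigPack.twist_even _) hev, symmDiff_assoc,
            symmDiff_symmDiff_cancel_left]
          rfl
      _ = _ := by
          rw [← himg, ← S.kk_conj_eS σ _ (BigPack.twist_even _)]
          group
  mem σ := mul_mem (le_normalizer (D.eS_mem _)) (S.mem σ)
  sect σ := by
    have h : (⟨D.eS (({none} : Finset GolayPt) ∆ {σ.1 none}), le_normalizer (D.eS_mem _)⟩ :
        ↥(normalizer (V : Set G))) ∈ D.phi.ker := by
      rw [D.phi_ker, mem_subgroupOf]; exact D.eS_mem _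
    show D.phi (⟨_, le_normalizer (D.eS_mem _)⟩ * ⟨S.kk σ, S.mem σ⟩) = σ
    rw [map_mul, MonoidHom.mem_ker.1 h, one_mul, S.sect]

theorem twist_apply (σ : ↥M24) : S.twist.kk σ = D.eS (({none} : Finset GolayPt) ∆ {σ.1 none}) * S.kk σ := rfl

theorem kk_injective : Function.Injective S.kk := fun σ τ h => by
  rw [← S.sect σ, ← S.sect τ]
  exact congrArg D.phi (Subtype.ext h)

end BigPack.Sec

namespace PGL

theorem flip_tS : flip tS = tS⁻¹ := Subtype.ext (by
  rw [val_inv]
  show (!![(1 : ZMod 23), -1; -0, 1] : Matrix (Fin 2) (Fin 2) (ZMod 23)) = (!![1, 1; 0, 1] : Matrix _ _ (ZMod 23)).adjugate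
  rw [Matrix.adjugate_fin_two_of, neg_zero])

theorem flip_wS : flip wS = wS⁻¹ := Subtype.ext (by
  rw [val_inv]
  show (!![(0 : ZMod 23), - -1; -1, 0] : Matrix (Fin 2) (Fin 2) (ZMod 23)) = (!![0, -1; 1, 0] : Matrix _ _ (ZMod 23)).adjugate
  rw [Matrix.adjugate_fin_two_of])

theorem conj_dS : wS * dS * wS⁻¹ = dS⁻¹ ∧ dS * tS * dS⁻¹ = tS ^ 2 := by
  constructor <;> refine Subtype.ext ?_
  · rw [val_mul, val_mul, val_inv, val_inv]
    show (!![0, -1; 1, 0] : Matrix (Fin 2) (Fin 2) (ZMod 23)) * !![5, 0; 0, 14] *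
      (!![0, -1; 1, 0] : Matrix (Fin 2) (Fin 2) (ZMod 23)).adjugate =
        (!![5, 0; 0, 14] : Matrix (Fin 2) (Fin 2) (ZMod 23)).adjugate
    decide +kernel
  · rw [val_mul, val_mul, val_inv, tS_pow]
    show (!![5, 0; 0, 14] : Matrix (Fin 2) (Fin 2) (ZMod 23)) * !![1, 1; 0, 1] *
      (!![5, 0; 0, 14] : Matrix (Fin 2) (Fin 2) (ZMod 23)).adjugate = !![1, ((2 : ℕ) : ZMod 23); 0, 1]
    decide +kernel

theorem dS_pow_val (n : ℕ) : (dS ^ n).1 = !![5 ^ n, 0; 0, 14 ^ n] := by
  induction n with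
  | zero => rw [pow_zero, pow_zero, pow_zero]; exact Matrix.one_fin_two
  | succ n ih =>
    rw [pow_succ, val_mul, ih]
    show !![(5 : ZMod 23) ^ n, 0; 0, 14 ^ n] * !![5, 0; 0, 14] = _
    rw [Matrix.mul_fin_two]
    simp [pow_succ]

theorem actS_dS_eleven : actS (dS ^ 11) = 1 := by
  have h : (dS ^ 11).1 = !![(22 : ZMod 23), 0; 0, 22] := by
    rw [dS_pow_val, show (5 : ZMod 23) ^ 11 = 22 by decide, show (14 : ZMod 23) ^ 11 = 22 by decide]
  ext1 p
  rcases p with _ | k
  · rw [actS_none, h]; rfl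
  · rw [actS_some, h]
    have h22 : (22 : ZMod 23) ≠ 0 := by decide
    simp [h22]

theorem actS_dS_fix : actS dS none = none ∧ actS dS (some 0) = some 0 ∧ actS dS (some 1) ≠ some 1 := by
  refine ⟨?_, ?_, ?_⟩
  · rw [actS_none]; rfl
  · rw [actS_some]
    simp only [dS]
    decide +kernel
  · rw [actS_some]
    simp only [dS]
    decide +kernel

theorem actS_wS_swap : actS wS none = some 0 ∧ actS wS (some 0) = none ∧ actS wS * actS wS = 1 := by
  rw [actS_wS]
  refine ⟨rfl, rfl, ?_⟩
  ext1 p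
  exact Cfsg.projInv.left_inv p

theorem actS_tS_fix : actS tS none = none ∧ actS tS (some 0) = some 1 := by
  rw [actS_tS]
  exact ⟨rfl, rfl⟩

theorem orderOf_actM_dS : orderOf (actM dS) = 11 := by
  haveI : Fact (Nat.Prime 11) := ⟨by norm_num⟩
  refine orderOf_eq_prime (Subtype.ext ?_) fun h => actS_dS_fix.2.2 ?_
  · rw [← map_pow]; exact actS_dS_eleven
  · rw [← actM_val, h]; rfl

theorem orderOf_actM_tS : orderOf (actM tS) = 23 := by
  refine orderOf_eq_prime ?_ fun h => ?_
  · rw [← map_pow, show tS ^ 23 = 1 from Subtype.ext (by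
      rw [tS_pow, ZMod.natCast_self]; exact Matrix.one_fin_two.symm), map_one]
  · have h1 := actS_tS_fix.2
    rw [← actM_val, h] at h1
    simp at h1

end PGL

open PGL in
/-- The subgroup, given the facts at eleven and at twenty-three. -/
theorem Model.ElevenSetup.exists_pgl_subgroup {P : Subgroup G} {M : Model z P} (S : M.ElevenSetup)
    (hord : Nat.card G = 86775571046077562880) (D : BigPack z V) (Sc : D.Sec)
    (h23 : ∀ U : Sylow 23 G, centralizer ((U : Subgroup G) : Set G) = (U : Subgroup G) ∧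
      Nat.card ↥(normalizer ((U : Subgroup G) : Set G)) = 23 * 22) :
    ∃ K : Subgroup G, Nonempty (↥K ≃* GL (Fin 2) (ZMod 23) ⧸ Subgroup.center (GL (Fin 2) (ZMod 23))) := by
  classical
  haveI : Fact (Nat.Prime 11) := ⟨by norm_num⟩
  set d : Finset GolayPt := {none, some 0} with hd
  have hdc : d.card = 2 := by decide
  have hde : Even d.card := by rw [hdc]; decide
  set q := Sc.kk (actM tS) with hq
  set y := Sc.kk (actM dS) with hy
  set w := Sc.kk (actM wS) with hw
  set v := D.eS d with hv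
  have hyo : orderOf y = 11 := by rw [hy, orderOf_injective Sc.kk Sc.kk_injective, orderOf_actM_dS]
  have hqo : orderOf q = 23 := by rw [hq, orderOf_injective Sc.kk Sc.kk_injective, orderOf_actM_tS]
  have hvy : v * y = y * v := by
    have h := Sc.kk_conj_eS (actM dS) d hde
    rw [hd, Finset.image_insert, Finset.image_singleton, actM_val, actS_dS_fix.1, actS_dS_fix.2.1] at h
    exact (mul_inv_eq_iff_eq_mul.1 h).symm
  have hwv : w * v = v * w := by
    have h := Sc.kk_conj_eS (actM wS) d hde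
    rw [hd, Finset.image_insert, Finset.image_singleton, actM_val, actS_wS_swap.1, actS_wS_swap.2.1,
      Finset.pair_comm (some 0 : GolayPt) none, ← hd] at h
    exact mul_inv_eq_iff_eq_mul.1 h
  have hw2 : w * w = 1 := by
    rw [hw, ← map_mul, show actM wS * actM wS = 1 from Subtype.ext actS_wS_swap.2.2, map_one]
  have hwy : w * y * w⁻¹ = y⁻¹ := by
    rw [hw, hy, ← map_mul, ← map_inv, ← map_mul, ← map_inv, ← map_mul, ← map_inv, ← map_mul, ← map_inv,
      conj_dS.1]
  have hyq : y * q * y⁻¹ = q ^ 2 := by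
    rw [hy, hq, ← map_mul, ← map_inv, ← map_mul, ← map_pow, ← map_mul, ← map_inv, ← map_mul, ← map_pow, conj_dS.2]
  -- the element inverting the element of order twenty-three
  have hfac : (Nat.card G).factorization 23 = 1 := by
    rw [hord, show (86775571046077562880 : ℕ) = 23 ^ 1 * 3772850915046850560 by norm_num,
      Nat.factorization_mul (by norm_num) (by norm_num), Finsupp.add_apply,
      Nat.Prime.factorization_pow (by norm_num), Finsupp.single_eq_same,
      Nat.factorization_eq_zero_of_not_dvd (by norm_num)]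
  obtain ⟨hC, hN⟩ : centralizer (zpowers q : Set G) = zpowers q ∧
      Nat.card ↥(normalizer (zpowers q : Set G)) = 23 * 22 :=
    h23 (Sylow.ofCard (zpowers q) (by rw [hfac, Nat.card_zpowers, hqo, pow_one]))
  have hcent : ∀ c : G, c * q = q * c → c ∈ zpowers q := fun c hc => by
    rw [← hC, Subgroup.zpowers_eq_closure, Subgroup.centralizer_closure]
    exact mem_centralizer_singleton_iff.2 hc
  obtain ⟨n0, hn0⟩ : ∃ n : G, n * q * n⁻¹ = q⁻¹ := by
    set ρ := (zpowers q).normalizerMonoidHom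
    have htop : ρ.range = ⊤ := by
      refine Subgroup.eq_top_of_card_eq _ ?_
      have h := Subgroup.card_eq_card_quotient_mul_card_subgroup ρ.ker
      rw [Nat.card_congr (QuotientGroup.quotientKerEquivRange ρ).toEquiv, hN,
        show ρ.ker = _ from Subgroup.normalizerMonoidHom_ker _, hC,
        Nat.card_congr (subgroupOfEquivOfLe (le_normalizer (H := zpowers q))).toEquiv, Nat.card_zpowers, hqo] at h
      rw [IsCyclic.card_mulAut, Nat.card_zpowers, hqo, Nat.totient_prime (by norm_num)]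
      omega
    let α : MulAut ↥(zpowers q) :=
      { Equiv.inv ↥(zpowers q) with
        map_mul' := fun a b => by
          obtain ⟨k, hk⟩ := mem_zpowers_iff.1 a.2
          obtain ⟨l, hl⟩ := mem_zpowers_iff.1 b.2
          refine Subtype.ext ?_
          show ((a : G) * b)⁻¹ = (a : G)⁻¹ * (b : G)⁻¹
          rw [← hk, ← hl]
          group }
    obtain ⟨n, hn⟩ := MonoidHom.mem_range.1 (htop ▸ mem_top α : α ∈ ρ.range)
    exact ⟨n, congrArg Subtype.val (DFunLike.congr_fun hn (⟨q, mem_zpowers q⟩ : ↥(zpowers q)))⟩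
  have hpowq : ∀ g ∈ zpowers y, g⁻¹ * q * g ∈ zpowers q := by
    have hyN : y ∈ normalizer (zpowers q : Set G) := by
      refine mem_normalizer_fintype fun a ha => ?_
      obtain ⟨k, rfl⟩ := mem_zpowers_iff.1 ha
      rw [← conj_zpow, hyq]
      exact zpow_mem (pow_mem (mem_zpowers q) 2) k
    intro g hg
    have := (Subgroup.mem_normalizer_iff.1 (inv_mem ((zpowers_le.2 hyN) hg)) q).1 (mem_zpowers q)
    rwa [inv_inv] at this
  let X := {n : G // n * q * n⁻¹ = q⁻¹}
  have hact : ∀ g ∈ zpowers y, ∀ n : G, n * q * n⁻¹ = q⁻¹ → g * n * g⁻¹ * q * (g * n * g⁻¹)⁻¹ = q⁻¹ := by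
    intro g hg n hn
    obtain ⟨a, ha⟩ := mem_zpowers_iff.1 (hpowq g hg)
    calc g * n * g⁻¹ * q * (g * n * g⁻¹)⁻¹ = g * (n * (g⁻¹ * q * g) * n⁻¹) * g⁻¹ := by group
      _ = g * (g⁻¹ * q * g)⁻¹ * g⁻¹ := by rw [← ha, ← conj_zpow, hn, inv_zpow]
      _ = q⁻¹ := by group
  letI : MulAction ↥(zpowers y) X :=
    { smul := fun g n => ⟨(g : G) * n.1 * (g : G)⁻¹, hact g g.2 n.1 n.2⟩
      one_smul := fun n => Subtype.ext (by
        show ((1 : ↥(zpowers y)) : G) * n.1 * ((1 : ↥(zpowers y)) : G)⁻¹ = n.1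
        simp)
      mul_smul := fun g k n => Subtype.ext (by
        show ((g * k : ↥(zpowers y)) : G) * n.1 * ((g * k : ↥(zpowers y)) : G)⁻¹ =
          (g : G) * ((k : G) * n.1 * (k : G)⁻¹) * (g : G)⁻¹
        rw [Subgroup.coe_mul]
        group) }
  have hX : Nat.card X = 23 := by
    rw [← hqo, ← Nat.card_zpowers]
    refine Nat.card_congr
      { toFun := fun n => ⟨n0⁻¹ * n.1, hcent _ ?_⟩
        invFun := fun c => ⟨n0 * c, ?_⟩
        left_inv := fun n => Subtype.ext (mul_inv_cancel_left _ _)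
        right_inv := fun c => Subtype.ext (inv_mul_cancel_left _ _) }
    · rw [← mul_inv_eq_iff_eq_mul]
      calc n0⁻¹ * n.1 * q * (n0⁻¹ * n.1)⁻¹ = n0⁻¹ * (n.1 * q * n.1⁻¹) * n0 := by group
        _ = n0⁻¹ * (n0 * q * n0⁻¹) * n0 := by rw [n.2, hn0]
        _ = q := by group
    · obtain ⟨k, hk⟩ := mem_zpowers_iff.1 c.2
      rw [← hk, show n0 * q ^ k * q * (n0 * q ^ k)⁻¹ = n0 * q * n0⁻¹ by group, hn0]
  obtain ⟨⟨i, hiq⟩, hfix⟩ := (IsPGroup.of_card (p := 11) (n := 1) (G := ↥(zpowers y))
    (by rw [Nat.card_zpowers, hyo, pow_one])).nonempty_fixed_point_of_prime_not_dvd_card X (by rw [hX]; norm_num)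
  have hiy : i * y = y * i := by
    have := congrArg Subtype.val (hfix ⟨y, mem_zpowers y⟩)
    exact (mul_inv_eq_iff_eq_mul.1 this).symm
  have hi2 : i * i = 1 := by
    have hc : i * i * q = q * (i * i) := by
      rw [← mul_inv_eq_iff_eq_mul]
      calc i * i * q * (i * i)⁻¹ = i * (i * q * i⁻¹) * i⁻¹ := by group
        _ = i * q⁻¹ * i⁻¹ := by rw [hiq]
        _ = (i * q * i⁻¹)⁻¹ := by group
        _ = q := by rw [hiq, inv_inv]
    obtain ⟨m, hm⟩ := mem_zpowers_iff.1 (hcent _ hc)
    have h2 : q ^ (2 * m) = q ^ m := by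
      rw [zpow_mul, show q ^ (2 : ℤ) = q ^ 2 from zpow_ofNat q 2, ← hyq, conj_zpow, hm,
        (((show Commute i y from hiy).mul_left (show Commute i y from hiy)).symm).eq, mul_inv_cancel_right]
    rw [two_mul, zpow_add, mul_eq_left] at h2
    rw [← hm, h2]
  have hi1 : i ≠ 1 := fun h => by
    rw [h, one_mul, inv_one, mul_one, ← mul_eq_one_iff_eq_inv, ← pow_two] at hiq
    have := orderOf_dvd_of_pow_eq_one hiq
    rw [hqo] at this
    norm_num at this
  -- pick the complement
  obtain ⟨S', hq', hy', hiw⟩ : ∃ S' : D.Sec, S'.kk (actM tS) = q ∧ S'.kk (actM dS) = y ∧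
      i * S'.kk (actM wS) = S'.kk (actM wS) * i := by
    have hd0 : D.eS ∅ = 1 := by
      have h := D.eS_symmDiff ∅ ∅ (by simp) (by simp)
      rw [symmDiff_self] at h
      exact mul_eq_left.1 h.symm
    rcases S.commute_or hord D hdc hyo hvy hw2 hwy hwv hi2 hiy with h | h
    · exact ⟨Sc, rfl, rfl, h⟩
    · refine ⟨Sc.twist, ?_, ?_, ?_⟩
      · rw [Sc.twist_apply, actM_val, actS_tS_fix.1, symmDiff_self]
        show D.eS ∅ * _ = q
        rw [hd0, one_mul]
      · rw [Sc.twist_apply, actM_val, actS_dS_fix.1, symmDiff_self]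
        show D.eS ∅ * _ = y
        rw [hd0, one_mul]
      · have e : Sc.twist.kk (actM wS) = v * w := by
          rw [Sc.twist_apply, actM_val, actS_wS_swap.1, hv, hd]
          congr 2
        rw [e]; exact h
  let ψ : SL23 →* G := S'.kk.comp actM
  have hker : ∀ g, ψ g = 1 ↔ actS g = 1 := fun g => by
    show S'.kk (actM g) = 1 ↔ _
    rw [map_eq_one_iff _ S'.kk_injective]
    exact ⟨fun h => congrArg Subtype.val h, fun h => Subtype.ext h⟩
  have hflip : ∀ g, i * ψ g * i⁻¹ = ψ (flip g) := by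
    have h : Set.EqOn ((MulAut.conj i).toMonoidHom.comp ψ) (ψ.comp flip) ({tS, wS} : Set SL23) := by
      rintro _ (rfl | rfl)
      · show i * S'.kk (actM tS) * i⁻¹ = ψ (flip tS)
        rw [flip_tS, map_inv, hq', hiq]
        exact congrArg (·⁻¹) hq'.symm
      · show i * S'.kk (actM wS) * i⁻¹ = ψ (flip wS)
        rw [flip_wS, map_inv, hiw, mul_inv_cancel_right, eq_inv_iff_mul_eq_one]
        show S'.kk (actM wS) * S'.kk (actM wS) = 1
        rw [← map_mul, show actM wS * actM wS = 1 from Subtype.ext actS_wS_swap.2.2, map_one]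
    have h' := MonoidHom.eqOn_closure h
    intro g
    exact h' (by rw [closure_gens]; exact mem_top g)
  have hout : ∀ g, ψ g ≠ i := by
    intro g hg
    have hσy : actM g * actM dS = actM dS * actM g := S'.kk_injective (by
      rw [map_mul, map_mul, hy', show S'.kk (actM g) = i from hg, hiy])
    have hσ2 : actM g ^ 2 = 1 := S'.kk_injective (by
      rw [map_pow, map_one, show S'.kk (actM g) = i from hg, pow_two, hi2])
    have hσ11 : actM g ^ 11 = 1 := by
      have hm : actM g ∈ centralizer ({actM dS} : Set ↥M24) := mem_centralizer_singleton_iff.2 hσy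
      have h := Subgroup.orderOf_dvd_natCard _ hm
      rw [ElevenM24.card_centralizer orderOf_actM_dS] at h
      exact orderOf_dvd_iff_pow_eq_one.1 h
    have h1 : actM g = 1 := by
      calc actM g = actM g ^ 11 * ((actM g ^ 2) ^ 5)⁻¹ := by group
        _ = 1 := by rw [hσ11, hσ2]; group
    exact hi1 (by rw [← hg]; show S'.kk (actM g) = 1; rw [h1, map_one])
  exact exists_pgl ψ hker i hi2 hflip hout

end Cfsg.Agent.JankoFour
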