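import Cfsg.Agent.Lib.JankoFour.TenMain

/-!
Transfer to any self-centralising elementary abelian subgroup of order 2^10.
-/

set_option autoImplicit false

namespace Cfsg.Agent.JankoFour

open Subgroup
open Ten

namespace Model

variable {G : Type*} [Group G] [Finite G] {z : G} {P : Subgroup G} {M : Model z P} (L : M.TLift)
  (hL : ∀ n < 1024, (IsConj z (L.el n) ↔ tDec.testBit n = true)) (E : M.Gens) (hs : E.s * E.s = 1)

theorem mem_normalizer_conj (g : G) {n : G} (H : Subgroup G) :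
    n ∈ normalizer ((H.map (MulAut.conj g).toMonoidHom : Subgroup G) : Set G) ↔
      g⁻¹ * n * g ∈ normalizer (H : Set G) := by
  rw [← map_equiv_normalizer_eq H (MulAut.conj g)]
  constructor
  · rintro ⟨m, hm, rfl⟩
    rw [show g⁻¹ * (MulAut.conj g).toMonoidHom m * g = m by show g⁻¹ * (g * m * g⁻¹) * g = m; group]
    exact hm
  · intro h
    exact ⟨_, h, show g * (g⁻¹ * n * g) * g⁻¹ = n by group⟩

include hL hs in
theorem ten_split {A : Subgroup G} (hel : Cfsg.IsElementaryAbelian 2 A) (hc : Nat.card ↥A = 1024)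
    (hself : centralizer (A : Set G) = A) :
    (∃ B : Subgroup G, B ≤ normalizer (A : Set G) ∧ B ⊓ A = ⊥ ∧ B ⊔ A = normalizer (A : Set G) ∧
      Nonempty (↥B ≃* Matrix.SpecialLinearGroup (Fin 5) (ZMod 2))) ∧
    ∀ W : Subgroup G, W ≤ A → normalizer (A : Set G) ≤ normalizer (W : Set G) → W = ⊥ ∨ W = A := by
  obtain ⟨g, rfl⟩ := M.conjugate_tG A hel hc hself
  have hi : Function.Injective (MulAut.conj g).toMonoidHom := (MulAut.conj g).injective
  have hn : (normalizer (M.tG : Set G)).map (MulAut.conj g).toMonoidHom =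
      normalizer ((M.tG.map (MulAut.conj g).toMonoidHom : Subgroup G) : Set G) :=
    map_equiv_normalizer_eq M.tG (MulAut.conj g)
  constructor
  · obtain ⟨K, h1, h2, h3, ⟨e⟩⟩ := L.exists_complement hL E hs
    refine ⟨K.map (MulAut.conj g).toMonoidHom, ?_, ?_, ?_, ⟨(K.equivMapOfInjective _ hi).symm.trans e⟩⟩
    · rw [← hn]; exact map_mono h1
    · rw [← map_inf _ _ _ hi, h2, Subgroup.map_bot]
    · rw [← Subgroup.map_sup, h3, hn]
  · intro W hW hN
    set W0 := W.comap (MulAut.conj g).toMonoidHom with hW0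
    have hWm : W0.map (MulAut.conj g).toMonoidHom = W := map_comap_eq_self_of_surjective (MulAut.conj g).surjective W
    have hle : W0 ≤ M.tG := fun x hx => by
      obtain ⟨y, hy, e⟩ := hW (hx : (MulAut.conj g).toMonoidHom x ∈ W)
      exact hi e ▸ hy
    have hinv : normalizer (M.tG : Set G) ≤ normalizer (W0 : Set G) := fun n hn' => by
      have h := hN (hn ▸ mem_map_of_mem (MulAut.conj g).toMonoidHom hn')
      rw [← hWm, mem_normalizer_conj] at h
      rwa [show g⁻¹ * (MulAut.conj g).toMonoidHom n * g = n by show g⁻¹ * (g * n * g⁻¹) * g = n; group] at h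
    rcases L.irreducible hL E hs W0 hle hinv with h | h <;> rw [← hWm, h]
    · exact Or.inl (Subgroup.map_bot _)
    · exact Or.inr rfl

include hL hs in
theorem ten_orbits {A : Subgroup G} (hel : Cfsg.IsElementaryAbelian 2 A) (hc : Nat.card ↥A = 1024)
    (hself : centralizer (A : Set G) = A) :
    ∃ a b : G, a ∈ A ∧ b ∈ A ∧ Set.ncard {v : G | ∃ n ∈ normalizer (A : Set G), n * a * n⁻¹ = v} = 155 ∧
      Set.ncard {v : G | ∃ n ∈ normalizer (A : Set G), n * b * n⁻¹ = v} = 868 := by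
  obtain ⟨g, rfl⟩ := M.conjugate_tG A hel hc hself
  have key : ∀ a : G, Set.ncard {v : G | ∃ n ∈ normalizer ((M.tG.map (MulAut.conj g).toMonoidHom : Subgroup G) : Set G),
      n * (g * a * g⁻¹) * n⁻¹ = v} = Set.ncard {v : G | ∃ n ∈ normalizer (M.tG : Set G), n * a * n⁻¹ = v} := by
    intro a
    rw [← Set.ncard_image_of_injective {v : G | ∃ n ∈ normalizer (M.tG : Set G), n * a * n⁻¹ = v}
      (MulAut.conj g).injective]
    congr 1
    ext v
    constructor
    · rintro ⟨n, hn, rfl⟩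
      exact ⟨_, ⟨_, (mem_normalizer_conj g M.tG).1 hn, rfl⟩,
        show g * (g⁻¹ * n * g * a * (g⁻¹ * n * g)⁻¹) * g⁻¹ = n * (g * a * g⁻¹) * n⁻¹ by group⟩
    · rintro ⟨w, ⟨n, hn, rfl⟩, rfl⟩
      refine ⟨g * n * g⁻¹, (mem_normalizer_conj g M.tG).2 ?_,
        show g * n * g⁻¹ * (g * a * g⁻¹) * (g * n * g⁻¹)⁻¹ = g * (n * a * n⁻¹) * g⁻¹ by group⟩
      rwa [show g⁻¹ * (g * n * g⁻¹) * g = n by group]
  refine ⟨g * z * g⁻¹, g * L.el tT0 * g⁻¹, ⟨z, M.z_mem_tG, rfl⟩, ⟨_, L.el_mem _, rfl⟩, ?_, ?_⟩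
  · rw [key]; exact L.card_short hL
  · rw [key]; exact L.card_long hL E hs

end Model

end Cfsg.Agent.JankoFour
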