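import Cfsg.Agent.Lib.JankoFour.TenTables
import Cfsg.Agent.Lib.JankoFour.TenStars
import Cfsg.Agent.Lib.JankoFour.Data
import Cfsg.Agent.Lib.J4Module.SylowChecks

/-!
Decidable facts about the projective frame on the second abelian subgroup.
-/

set_option autoImplicit false
set_option maxRecDepth 100000
set_option synthInstance.maxSize 4000
set_option synthInstance.maxHeartbeats 200000

namespace Cfsg.Agent.JankoFour.Ten

open Cfsg.Agent.J4Module (app clearLow of_chunks)

/-- The pairs of five points. -/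
def pairs5 : List (ℕ × ℕ) := [(0, 1), (0, 2), (0, 3), (0, 4), (1, 2), (1, 3), (1, 4), (2, 3), (2, 4), (3, 4)]

/-- The exterior product of two vectors. -/
def wedge (u v : ℕ) : ℕ :=
  pairs5.foldr (fun p r => (if (u.testBit p.1 && v.testBit p.2) ^^ (u.testBit p.2 && v.testBit p.1) then 1 else 0) + 2 * r) 0

/-- The element of a line. -/
def wd (u v : ℕ) : ℕ := app tSol (wedge u v)

/-- The lines through a point, as a bit set. -/
def St (a : ℕ) : ℕ := tSt.getD a 0

/-- The lines meeting a line. -/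
def meetM (t : ℕ × ℕ × ℕ) : ℕ := St t.1 ||| St t.2.1 ||| St (t.1 ^^^ t.2.1)

/-- The lines through a point. -/
def stT (a : ℕ) : List (ℕ × ℕ × ℕ) := tLines.filter fun t => (St a).testBit t.2.2

/-- The action of a linear map of the five space on the lines of a basis. -/
def liftC (g : List ℕ) : List ℕ := pairs5.map fun p => wd (g.getD p.1 0) (g.getD p.2 0)

/-- The two generators on the subgroup. -/
def genA (i n : ℕ) : ℕ := app (liftC (tGL.getD i [])) (app tPhi n)

/-- Elements reached by a list of steps. -/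
def reachT : List (ℕ × ℕ) → ℕ → ℕ
  | [], s => s
  | (i, x) :: rest, s => if s.testBit x && decide (i < 2) && decide (x < 1024) then reachT rest (s ||| 1 <<< genA i x) else 0

theorem lines_spec : ∀ t ∈ tLines, t.1 < 32 ∧ t.2.1 < 32 ∧ t.1 ≠ 0 ∧ t.2.1 ≠ 0 ∧ t.1 ≠ t.2.1 ∧ t.2.2 < 1024 ∧
    tDec.testBit t.2.2 = true := by decide +kernel

theorem lines_cover : ∀ n < 1024, tDec.testBit n = true → (tLines.any fun t => t.2.2 == n) = true :=
  of_chunks 16 (by decide +kernel)

theorem lines_distinct : (tLines.map fun t => t.2.2).Nodup ∧ tLines.length = 155 := by decide +kernel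

theorem mem_st : ∀ t ∈ tLines, ∀ c < 32, ((St c).testBit t.2.2 = true ↔ (c = t.1 ∨ c = t.2.1 ∨ c = t.1 ^^^ t.2.1)) := by
  decide +kernel

theorem st_two : ∀ a < 32, ∀ b < 32, a ≠ 0 → b ≠ 0 → a ≠ b →
    wd a b < 1024 ∧ tDec.testBit (wd a b) = true ∧ St a &&& St b = 2 ^ wd a b ∧ (St (a ^^^ b)).testBit (wd a b) = true := by
  decide +kernel

theorem st_star : ∀ a < 32, a ≠ 0 → (stT a).length = 15 ∧
    ∀ s ∈ stT a, ∀ t ∈ stT a, s.2.2 ≠ t.2.2 → (St a).testBit (s.2.2 ^^^ t.2.2) = true := by decide +kernel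

theorem st_dec : ∀ a < 32, St a &&& tDec = St a ∧ St 0 = 0 := by decide +kernel

theorem st_lt : ∀ a < 32, St a < 2 ^ 1024 := by decide +kernel

theorem meet_spec : ∀ s ∈ tLines, ∀ t ∈ tLines, tDec.testBit (s.2.2 ^^^ t.2.2) = true →
    (meetM s).testBit t.2.2 = true := by decide +kernel

theorem outside_four : ∀ a < 32, a ≠ 0 → ∀ s ∈ stT a, ∀ t ∈ stT a, s.2.2 ≠ t.2.2 →
    clearLow 4 ((meetM s &&& meetM t) ^^^ (meetM s &&& meetM t &&& St a)) = 0 := by decide +kernel

theorem inside_three : ∀ a < 32, a ≠ 0 → ∀ t ∈ tLines, (St a).testBit t.2.2 = false →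
    clearLow 3 (St a &&& meetM t) = 0 := by decide +kernel

theorem sol_spec : tSol = liftC [1, 2, 4, 8, 16] ∧ (∀ c ∈ tSol, c < 1024 ∧ tDec.testBit c = true) ∧
    (∀ c ∈ tPhi, c < 1024) ∧ tGL.length = 2 := by decide +kernel

theorem sol_phi : ∀ n < 1024, app tSol (app tPhi n) = n :=
  of_chunks 16 (by decide +kernel)

theorem reach_all : reachT tSteps (1 <<< tT0) = (2 ^ 1024 - 1) ^^^ (tDec ||| 1) := by decide +kernel

theorem t0_spec : tT0 < 1024 ∧ tT0 ≠ 0 ∧ tDec.testBit tT0 = false ∧ tDec.testBit 0 = false ∧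
    tDec.testBit 512 = true ∧ tDec < 2 ^ 1024 := by decide +kernel

theorem dec_size : ((List.range 1024).filter fun n => tDec.testBit n).length = 155 := by decide +kernel

theorem toBits_xor : ∀ a < 32, ∀ b < 32, ∀ i < 5, (a ^^^ b).testBit i = (a.testBit i ^^ b.testBit i) := by
  decide +kernel

end Cfsg.Agent.JankoFour.Ten
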