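/-!
Words and tables for the stabiliser of a singular line of the first class and for an element of order seven.
-/

namespace Cfsg.Agent.JankoFour.Trio

/-- Words carrying the hexad space onto the five hexad spaces through the line. -/
def fiveWords : List (List Nat) :=
  [[0, 0, 1], [1, 0, 0, 1], [2, 0, 0, 1], [0, 1, 2, 1], [1, 1, 0, 0, 1]]

/-- Words for four generators of the kernel on the five hexad spaces. -/
def kerWords : List (List Nat) :=
  [[1, 0, 2, 0, 0, 2, 0, 1, 0, 2, 2, 2, 0], [0, 2, 0, 0, 2, 0, 1, 0, 2, 2, 2, 0, 1], [0, 3, 2, 2, 1, 2, 0, 0, 1, 2, 0, 2, 0, 0], [2, 0, 1, 2, 0, 2, 2, 0, 0, 0, 2, 0, 0, 1, 2]]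

/-- A word inducing a transposition of the five. -/
def swapWord : List Nat := [0, 2, 0, 0, 2, 0, 0, 2, 0]

/-- The permutations of the five by the element of order five and by that word. -/
def fivePerm : List (List Nat) := [[1, 4, 3, 0, 2], [4, 1, 2, 3, 0]]

/-- The permutations of the kernel by conjugation with these two elements. -/
def kerPerm : List (List Nat) :=
  [[0, 6, 1, 7, 10, 12, 11, 13, 9, 15, 8, 14, 3, 5, 2, 4],
  [0, 5, 13, 8, 4, 1, 9, 12, 3, 6, 14, 11, 7, 2, 10, 15]]

/-- The inverse of the basis generated by a vector under the element of order seven and the scalar. -/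
def invSeven : List Nat := [1, 2, 12, 1813, 3161, 97, 348, 175, 3626, 2630, 663, 1667]

/-- The elements of the kernel on the five, numbered by bits over the four generators. -/
def kerCols : List (List Nat) :=
  [[1, 2, 4, 8, 16, 32, 64, 128, 256, 512, 1024, 2048],
  [389, 3982, 384, 1902, 1783, 1859, 1827, 3852, 3848, 1250, 738, 3942],
  [2069, 1674, 2064, 3695, 3724, 3650, 3618, 3815, 1910, 1139, 627, 3720],
  [2452, 492, 2449, 483, 132, 459, 427, 2433, 401, 2686, 3198, 260],
  [2644, 872, 2641, 866, 453, 842, 3008, 1007, 2106, 976, 3391, 901],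
  [3024, 3300, 3029, 1028, 1826, 1065, 3235, 3171, 1586, 1330, 3037, 1251],
  [581, 3338, 576, 1519, 1974, 1474, 3400, 1378, 1699, 3404, 931, 3559],
  [964, 2668, 961, 2659, 2494, 2635, 705, 516, 68, 833, 3502, 619],
  [1636, 860, 1633, 851, 1323, 2964, 3057, 990, 1083, 4049, 2516, 2910],
  [2016, 3280, 2021, 1077, 972, 3319, 3218, 3154, 2611, 2355, 3894, 3128],
  [3696, 1492, 3701, 3380, 2999, 1526, 1427, 3513, 589, 2466, 4007, 3542],
  [4081, 690, 4084, 696, 1471, 2687, 2586, 2783, 1194, 1967, 426, 602],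
  [3124, 2268, 3121, 2259, 3089, 20, 2203, 2139, 1518, 1774, 2052, 2097],
  [3504, 1872, 3509, 4021, 2806, 1911, 4088, 2007, 3046, 12, 3814, 3927],
  [1061, 1726, 1056, 3678, 2658, 1692, 3603, 3798, 2935, 2162, 1688, 1619],
  [1444, 472, 1441, 466, 1130, 2325, 410, 2480, 3472, 1663, 2197, 2527]]

/-- A basis of the vectors orthogonal to the line. -/
def perpBasis : List Nat := [5, 10, 19, 34, 66, 130, 259, 515, 1027, 2050]

end Cfsg.Agent.JankoFour.Trio
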