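import Cfsg.Agent.Lib.JankoFour.FiveChecks
import Cfsg.Agent.Lib.JankoFour.TrioData

/-!
Kernel checks for the centraliser of an element of order seven in the concrete group: a linear or semilinear
map commuting with it, or inverting it, is determined by the image of one vector.
-/

set_option autoImplicit false
set_option maxRecDepth 100000

namespace Cfsg.Agent.JankoFour.Seven

open Cfsg.Agent.J4Module (app of_chunks)
open Cfsg.Agent.J4Module.Data
open Big Split Trio

/-- The element of order seven. -/
def sevC : List ℕ := wordC [3, 1, 2, 1, 0]

/-- The images of the basis generated by a vector, under the transported element and scalar. -/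
def basisOf (S R : List ℕ) (v : ℕ) : List ℕ :=
  (List.range 6).flatMap fun i => [(app S)^[i] v, app R ((app S)^[i] v)]

/-- The maps with the given transport surviving two tests on the classes. -/
def maps (S R : List ℕ) : List (List ℕ) :=
  let B := basisOf sevC pC 1
  let c1 := cls (app B 118)
  let c2 := cls (app B 273)
  let c3 := cls (app B 269)
  (((List.range 4096).filter fun i => cls i == 3).filter fun i =>
    let D := basisOf S R i
    cls (app D 118) == c1 && cls (app D 273) == c2 && cls (app D 269) == c3).map fun i => mulC (basisOf S R i) invSeven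

theorem basis_spec : mulC (basisOf sevC pC 1) invSeven = unitC ∧ powC sevC 7 = unitC ∧ sevC ≠ unitC ∧
    (∀ k ∈ ([3, 1, 2, 1, 0] : List ℕ), k < 4) ∧ app (basisOf sevC pC 1) 118 < 4096 ∧
    app (basisOf sevC pC 1) 273 < 4096 ∧ app (basisOf sevC pC 1) 269 < 4096 ∧ cls 1 = 3 := by decide +kernel

theorem fix_seven : ∀ n < 4096, app sevC n = n → n = 0 :=
  of_chunks 64 (by decide +kernel)

theorem maps_lin : (maps sevC pC).length ≤ 21 ∧ (maps sevC pC).Nodup ∧ ∀ C ∈ maps sevC pC, powC C 21 = unitC := by
  decide +kernel

theorem maps_semi : (maps sevC p2C).length ≤ 21 ∧ (maps sevC p2C).Nodup := by decide +kernel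

theorem maps_inv : maps (powC sevC 6) pC = [] ∧ maps (powC sevC 6) p2C = [] := by decide +kernel

end Cfsg.Agent.JankoFour.Seven
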