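import Cfsg.Agent.Lib.JankoFour.FiveChecks
import Cfsg.Agent.Lib.JankoFour.TrioData

/-!
Kernel checks for the pointwise stabiliser of a singular line of the first class.
-/

set_option autoImplicit false
set_option maxRecDepth 100000

namespace Cfsg.Agent.JankoFour.Trio

open Cfsg.Agent.J4Module (app of_chunks grow mask rep)
open Cfsg.Agent.J4Module.Data
open Big Split FiveTab

/-- The hexad spaces through the line. -/
def hexOf (a : ℕ) : List ℕ := bigW.map (app (wordC (fiveWords.getD a [])))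

/-- The generators on the five. -/
def gT (j : ℕ) : List ℕ := if j = 0 then yC else wordC swapWord

/-- An element of the kernel. -/
def kE (i : ℕ) : List ℕ := kerCols.getD i []

/-- Orthogonality to the line. -/
def perpEll (n : ℕ) : Bool := bbit n 5 == false && bbit n 2282 == false

theorem five_spec : (∀ a < 5, ∀ k ∈ fiveWords.getD a [], k < 4) ∧ (∀ k ∈ swapWord, k < 4) ∧
    (∀ a < 5, ∀ n ∈ ell, n ∈ hexOf a) ∧ (∀ a < 5, ∀ b < 5, (∀ n ∈ hexOf a, n ∈ hexOf b) → a = b) ∧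
    (∀ j < 2, app (gT j) 5 = 5 ∧ ∀ a < 5, (fivePerm.getD j []).getD a 0 < 5 ∧
      ∀ n ∈ hexOf a, app (gT j) n ∈ hexOf ((fivePerm.getD j []).getD a 0)) := by
  decide +kernel

theorem ker_words : (∀ w ∈ kerWords, ∀ k ∈ w, k < 4) ∧ (kerWords.map wordC = [kE 1, kE 2, kE 4, kE 8]) ∧
    kE 0 = unitC ∧ kerCols.Nodup ∧ kerCols.length = 16 ∧
    (∀ i < 16, ∀ j < 16, mulC (kE i) (kE j) = kE (i ^^^ j)) := by
  decide +kernel

theorem ker_hex : ∀ i ∈ [1, 2, 4, 8], app (kE i) 5 = 5 ∧ ∀ a < 5, ∀ n ∈ hexOf a, app (kE i) n ∈ hexOf a := by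
  decide +kernel

theorem ker_perm : ∀ j < 2, ∀ i < 16, (kerPerm.getD j []).getD i 0 < 16 ∧
    mulC (gT j) (kE i) = mulC (kE ((kerPerm.getD j []).getD i 0)) (gT j) := by
  decide +kernel

theorem ker_moved : ∀ i < 16, i ≠ 0 → app (kE i) 10 ≠ 10 ∨ app (kE i) 19 ≠ 19 := by decide +kernel

theorem ker_comm : ∀ n < 4096, perpEll n = true → ∀ i ∈ [1, 2, 4, 8], app (kE i) n ^^^ n ∈ 0 :: ell :=
  of_chunks 64 (by decide +kernel)

theorem perp_spec : (∀ n ∈ [10, 19, 34] ++ perpBasis, n < 4096 ∧ perpEll n = true) ∧ bbit 10 34 = true ∧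
    (∀ a b : Bool, ∃ n < 4, bbit n 5 = a ∧ bbit n 2282 = b) := by decide +kernel

theorem perp_radical : ∀ n < 4096, perpEll n = true → (∀ m ∈ perpBasis, bbit n m = false) → n ∈ 0 :: ell :=
  of_chunks 64 (by decide +kernel)

theorem line_spec : app pC 5 ∈ ell ∧ app pC 5 ≠ 5 ∧ app sC 5 ∈ ell ∧
    (∀ n ∈ ell, n = 5 ∨ n = app pC 5 ∨ n = app pC (app pC 5)) ∧
    ((List.range 4096).filter fun n => cls n == 1).length = 693 ∧ rep 0 = 5 := by decide +kernel

/-- One round of closing up a set of kernel elements. -/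
def closeK (l : List ℕ) : List ℕ :=
  (l ++ l.map (fun i => (kerPerm.getD 0 []).getD i 0) ++ l.map (fun i => (kerPerm.getD 1 []).getD i 0) ++
    l.flatMap fun a => l.map (a ^^^ ·)).eraseDups

theorem irreducible : ∀ i < 16, i ≠ 0 → ∀ j < 16, j ∈ closeK (closeK (closeK (closeK [i]))) := by decide +kernel

end Cfsg.Agent.JankoFour.Trio
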