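import Cfsg.Agent.Lib.JankoFour.FiveLine
import Cfsg.Agent.Lib.JankoFour.TrioChecks

/-!
The centraliser of the group of order eight: an extension of a group of order 2^15 by the symmetric group of
degree five acting on five hexad spaces.
-/

set_option autoImplicit false
set_option linter.unusedSectionVars false
set_option maxRecDepth 20000

namespace Cfsg.Agent.JankoFour

open Subgroup
open Cfsg.Agent.LargeFischer (QG)
open Cfsg.Agent.J4Module (app)
open Cfsg.Agent.J4Module.Data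
open FiveTab Big Trio

theorem Trio.kE_induct {p : List ℕ → Prop} (h0 : p unitC) (hg : ∀ i ∈ [1, 2, 4, 8], p (kE i))
    (hm : ∀ A B, p A → p B → p (mulC A B)) : ∀ i < 16, p (kE i) := by
  have hdec : ∀ i < 16, i = 0 ∨ ∃ g ∈ [1, 2, 4, 8], i ^^^ g < i := by decide
  intro i
  induction i using Nat.strong_induction_on with
  | _ i ih =>
    intro hi
    rcases hdec i hi with rfl | ⟨g, hg', hlt⟩
    · rw [ker_words.2.2.1]; exact h0
    · have e := ker_words.2.2.2.2.2 (i ^^^ g) (by omega) g (by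
        simp only [List.mem_cons, List.not_mem_nil, or_false] at hg'; omega)
      rw [Nat.xor_assoc, Nat.xor_self, Nat.xor_zero] at e
      exact e ▸ hm _ _ (ih _ hlt (by omega)) (hg g hg')

theorem Trio.kE_K {i : ℕ} (hi : i < 16) : InK0 (kE i) := by
  refine kE_induct Gen.one (fun g hg => ?_) (fun A B hA hB => gen_mul (fun _ h => gensK_sub h) hA hB) i hi
  obtain ⟨hw, he, -⟩ := ker_words
  have : kE g ∈ kerWords.map wordC := by
    rw [he]
    simp only [List.mem_cons, List.not_mem_nil, or_false] at hg ⊢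
    rcases hg with rfl | rfl | rfl | rfl <;> simp
  obtain ⟨w, hw', e⟩ := List.mem_map.1 this
  exact e ▸ wordC_memK (hw w hw')

theorem Trio.kE_fix {i : ℕ} (hi : i < 16) :
    app (kE i) 5 = 5 ∧ ∀ a < 5, ∀ n ∈ hexOf a, app (kE i) n ∈ hexOf a := by
  refine kE_induct (p := fun C => app C 5 = 5 ∧ ∀ a < 5, ∀ n ∈ hexOf a, app C n ∈ hexOf a) ?_ ker_hex
    (fun A B hA hB => ⟨by rw [app_mulC, hB.1, hA.1], fun a ha n hn => by
      rw [app_mulC]; exact hA.2 a ha _ (hB.2 a ha n hn)⟩) i hi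
  refine ⟨app_unitC 5 (by norm_num), fun a ha n hn => ?_⟩
  rw [app_unitC n ?_]
  · exact hn
  obtain ⟨w, -, rfl⟩ := List.mem_map.1 hn
  exact gen_app_lt (gen_mono (wordC_memK (five_spec.1 a ha))) _

theorem Trio.line_images : app pC 5 = 2282 ∧ app p2C 5 = 2287 ∧ app sC 5 = 5 ∧ app sC 2282 = 2287 ∧
    ((List.range 4096).filter fun n => perpEll n).length = 1024 := by decide +kernel

theorem Trio.hex_lt {a : ℕ} (ha : a < 5) {n : ℕ} (hn : n ∈ hexOf a) : n < 4096 := by
  obtain ⟨w, -, rfl⟩ := List.mem_map.1 hn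
  exact gen_app_lt (gen_mono (wordC_memK (five_spec.1 a ha))) _

namespace Model

variable {G : Type*} [Group G] [Finite G] {z : G} {P : Subgroup G} (M : Model z P)

/-- The centraliser of the group of order eight, inside the centraliser of the involution. -/
def cE : Subgroup ↥(centralizer ({z} : Set G)) :=
  (centralizer (M.eG : Set G)).subgroupOf (centralizer ({z} : Set G))

theorem centralizer_eG_le : centralizer (M.eG : Set G) ≤ centralizer ({z} : Set G) := fun _ hg =>
  mem_centralizer_singleton_iff.2 (mem_centralizer_iff.1 hg z M.z_mem_eG).symm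

theorem mem_cE {c : ↥(centralizer ({z} : Set G))} :
    c ∈ M.cE ↔ ∀ x : ↥(QG M.Q), M.vec x ∈ 0 :: ell → M.ctx.conjQ c x = x := by
  rw [cE, mem_subgroupOf, mem_centralizer_iff]
  constructor
  · intro h x hx
    exact (M.cfix_comm x).2 (h _ (M.mem_eG.2 hx)).symm
  · rintro h _ ⟨x, rfl, hx⟩
    exact ((M.cfix_comm x).1 (h x hx)).symm

/-- Elements fixing two lifts fix the group of order eight. -/
theorem mem_cE_of {c : ↥(centralizer ({z} : Set G))} {e5 e2 : ↥(QG M.Q)} (h5 : M.vec e5 = 5)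
    (h2 : M.vec e2 = 2282) (f5 : M.ctx.conjQ c e5 = e5) (f2 : M.ctx.conjQ c e2 = e2) : c ∈ M.cE := by
  have fz : M.ctx.conjQ c M.zQ = M.zQ := Subtype.ext (by
    show (c : G) * z * (c : G)⁻¹ = z
    rw [mem_centralizer_singleton_iff.1 c.2, mul_inv_cancel_right])
  refine M.mem_cE.2 fun x hx => ?_
  obtain ⟨u, hu, fu⟩ : ∃ u, M.vec u = M.vec x ∧ M.ctx.conjQ c u = u := by
    simp only [ell, List.mem_cons, List.not_mem_nil, or_false] at hx
    rcases hx with e | e | e | e
    · exact ⟨1, by rw [e, M.vec_one], map_one _⟩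
    · exact ⟨e5, by rw [e, h5], f5⟩
    · exact ⟨e2, by rw [e, h2], f2⟩
    · exact ⟨e5 * e2, by rw [e, M.vec_mul, h5, h2]; rfl, by rw [map_mul, f5, f2]⟩
  rcases M.eq_or_mul_z hu with e | e
  · rw [show x = u from Subtype.ext e, fu]
  · rw [show x = u * M.zQ from Subtype.ext e, map_mul, fu, fz]

theorem acts_cE {c : ↥(centralizer ({z} : Set G))} (hc : c ∈ M.cE) {C : List ℕ} (hC : InL0 C)
    (ha : M.Acts c C) : InK0 C ∧ app C 5 = 5 := by
  have hfix : ∀ n ∈ ell, app C n = n := fun n hn => by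
    obtain ⟨x, hx⟩ := M.vec_surj n (FiveTab.fix_classes.2.2.1 _ hn).1
    rw [← hx, ← ha x, M.mem_cE.1 hc x (by rw [hx]; exact List.mem_cons_of_mem _ hn)]
  have h5 := hfix 5 (by simp [ell])
  refine ⟨(K_or_outer hC).resolve_right ?_, h5⟩
  rintro ⟨D, hD, rfl⟩
  have h := hfix (app pC 5) (by rw [Trio.line_images.1]; simp [ell])
  rw [← app_mulC, mulC_assoc, lin_of_K hD, ← mulC_assoc, FiveTab.gens_p.2.2.2.1, mulC_assoc, app_mulC, h5,
    Trio.line_images.2.1, Trio.line_images.1] at h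
  norm_num at h

/-- Conjugation by an element of the extraspecial subgroup. -/
theorem conjQ_toH (q x : ↥(QG M.Q)) :
    M.ctx.conjQ (M.toH q) x = if bbit (M.vec q) (M.vec x) = false then x else x * M.zQ := by
  by_cases hb : bbit (M.vec q) (M.vec x) = false
  · rw [if_pos hb]
    exact (M.cfix_comm x).2 ((M.comm_iff q x).2 hb)
  · rw [if_neg hb]
    rcases M.toH_cases (x := x) (y := M.ctx.conjQ (M.toH q) x)
      (by rw [M.acts_of_mem_Q (M.toH_mem q) x, app_unitC _ (M.vec_lt x)]) with e | e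
    · exact absurd ((M.comm_iff q x).1 ((M.cfix_comm x).1 (M.toH_injective e))) hb
    · exact M.toH_injective (by rw [map_mul]; exact e)

/-- An element moving two vectors can be adjusted to move chosen lifts to chosen lifts. -/
theorem adjust {h : ↥(centralizer ({z} : Set G))} {C : List ℕ} (ha : M.Acts h C) (hC : InL0 C)
    {e5 e2 a b : ↥(QG M.Q)} (ha5 : M.vec a = 5) (hb2 : M.vec b = 2282 ∨ M.vec b = 2287)
    (h5 : app C (M.vec e5) = M.vec a) (h2 : app C (M.vec e2) = M.vec b) :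
    ∃ c, M.Acts c C ∧ M.ctx.conjQ c e5 = a ∧ M.ctx.conjQ c e2 = b := by
  have key : ∀ e t, app C (M.vec e) = M.vec t → ∃ i : Bool, M.ctx.conjQ h e = if i then t * M.zQ else t := by
    intro e t het
    rcases M.toH_cases (x := t) (y := M.ctx.conjQ h e) (by rw [ha e, het]) with f | f
    · exact ⟨false, M.toH_injective f⟩
    · exact ⟨true, M.toH_injective (by rw [if_pos rfl, map_mul]; exact f)⟩
  obtain ⟨i, hi⟩ := key _ _ h5
  obtain ⟨j, hj⟩ := key _ _ h2
  have hzz : ∀ t : ↥(QG M.Q), t * M.zQ * M.zQ = t := fun t => by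
    rw [mul_assoc, show M.zQ * M.zQ = 1 from Subtype.ext M.ctx.xs.sq, mul_one]
  obtain ⟨n, hn, hn5, hn2⟩ := Trio.perp_spec.2.2 i (if M.vec b = 2282 then j else i ^^ j)
  obtain ⟨q, rfl⟩ := M.vec_surj n (by omega)
  have hqb : bbit (M.vec q) (M.vec b) = j := by
    rcases hb2 with e | e
    · rw [e, hn2, if_pos e]
    · have hx := M.bbit_xor (a := 5) (b := 2282) (c := M.vec q) (by norm_num) (by norm_num) (M.vec_lt q)
      rw [show (5 : ℕ) ^^^ 2282 = 2287 from by decide] at hx
      rw [bbit_comm, e, hx, bbit_comm 5, bbit_comm 2282, hn5, hn2, if_neg (by omega)]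
      cases i <;> cases j <;> rfl
  refine ⟨M.toH q * h, ?_, ?_, ?_⟩
  · have := M.acts_mul (M.acts_of_mem_Q (M.toH_mem q)) ha
    rwa [unitC_mulC hC (fun _ h => h)] at this
  · rw [M.ctx.conjQ_mul, hi, M.conjQ_toH]
    cases i <;> simp [M.vec_mul_z, ha5, hn5, hzz]
  · rw [M.ctx.conjQ_mul, hj, M.conjQ_toH]
    cases j <;> simp [M.vec_mul_z, hqb, hzz]

/-- Lifts inside the centraliser. -/
theorem lift_cE {C : List ℕ} (hC : InK0 C) (h5 : app C 5 = 5) : ∃ c ∈ M.cE, M.Acts c C := by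
  obtain ⟨h, ha⟩ := M.exists_elem C (gen_mono hC)
  obtain ⟨e5, he5⟩ := M.vec_surj 5 (by norm_num)
  obtain ⟨e2, he2⟩ := M.vec_surj 2282 (by norm_num)
  have h2 : app C 2282 = 2282 := by
    rw [← Trio.line_images.1, ← app_mulC, lin_of_K hC, app_mulC, h5]
  obtain ⟨c, hc, f5, f2⟩ := M.adjust ha (gen_mono hC) (e5 := e5) (e2 := e2) (a := e5) (b := e2) he5 (Or.inl he2)
    (by rw [he5, h5]) (by rw [he2, h2])
  exact ⟨c, M.mem_cE_of he5 he2 f5 f2, hc⟩

/-- The elements with vectors in a list. -/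
theorem card_vec_in {l : List ℕ} (hnd : l.Nodup) (hlt : ∀ n ∈ l, n < 4096) :
    Nat.card {x : ↥(QG M.Q) // M.vec x ∈ l} = 2 * l.length := by
  classical
  have hX : ∀ n : {n // n ∈ l.toFinset}, ∃ x : ↥(QG M.Q), M.vec x = n.1 := fun n =>
    M.vec_surj _ (hlt _ (List.mem_toFinset.1 n.2))
  choose X hX using hX
  let u : {n // n ∈ l.toFinset} × Bool → ↥(QG M.Q) := fun nb => if nb.2 then X nb.1 * M.zQ else X nb.1
  have hu : ∀ nb, M.vec (u nb) = nb.1.1 := fun nb => by
    rcases nb with ⟨n, _ | _⟩ <;> simp [u, hX, M.vec_mul_z]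
  let ψ : {n // n ∈ l.toFinset} × Bool → {x : ↥(QG M.Q) // M.vec x ∈ l} := fun nb =>
    ⟨u nb, by rw [hu]; exact List.mem_toFinset.1 nb.1.2⟩
  have hψ : Function.Bijective ψ := by
    refine ⟨fun a b e => ?_, fun ⟨x, hv⟩ => ?_⟩
    · have e' : u a = u b := congrArg Subtype.val e
      have hn : a.1 = b.1 := Subtype.ext (by rw [← hu a, ← hu b, e'])
      obtain ⟨n, s⟩ := a
      obtain ⟨m, t⟩ := b
      cases hn
      cases s <;> cases t <;> simp only [u, Bool.false_eq_true, if_false, if_true] at e' ⊢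
      · exact absurd (congrArg M.toH (left_eq_mul.1 e')) (by rw [map_one]; exact M.z_ne)
      · exact absurd (congrArg M.toH (left_eq_mul.1 e'.symm)) (by rw [map_one]; exact M.z_ne)
    · rcases M.eq_or_mul_z (hX ⟨_, List.mem_toFinset.2 hv⟩) with e | e
      · exact ⟨(⟨_, List.mem_toFinset.2 hv⟩, false), Subtype.ext (Subtype.ext e.symm)⟩
      · exact ⟨(⟨_, List.mem_toFinset.2 hv⟩, true), Subtype.ext (Subtype.ext (e.symm ▸ rfl))⟩
  rw [← Nat.card_congr (Equiv.ofBijective ψ hψ), Nat.card_prod, Nat.card_eq_fintype_card, Fintype.card_coe,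
    List.toFinset_card_of_nodup hnd, Nat.card_eq_fintype_card, Fintype.card_bool, mul_comm]

theorem card_cE : Nat.card ↥M.cE = 2 ^ 18 * 15 := by
  classical
  letI : MulAction ↥(centralizer ({z} : Set G)) ↥(QG M.Q) :=
    { smul := fun c x => M.ctx.conjQ c x
      one_smul := fun x => Subtype.ext (by show ((1 : ↥(centralizer ({z} : Set G))) : G) * x * _ = x; simp)
      mul_smul := fun c d x => M.ctx.conjQ_mul c d x }
  obtain ⟨e5, he5⟩ := M.vec_surj 5 (by norm_num)
  obtain ⟨e2, he2⟩ := M.vec_surj 2282 (by norm_num)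
  set l1 := (List.range 4096).filter fun n => cls n == 1 with hl1
  have horb : MulAction.orbit ↥(centralizer ({z} : Set G)) e5 = {x | M.vec x ∈ l1} := by
    have hc5 : cls 5 = 1 := (FiveTab.fix_classes.2.2.1 5 (by simp [ell])).2.1
    ext x
    constructor
    · rintro ⟨c, rfl⟩
      obtain ⟨C, hC, ha⟩ := M.exists_cols c
      show M.vec (M.ctx.conjQ c e5) ∈ l1
      rw [hl1, List.mem_filter, List.mem_range, ha e5, he5, cls_InL0 hC 5 (by norm_num), hc5]
      exact ⟨gen_app_lt hC 5, rfl⟩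
    · intro hx
      simp only [Set.mem_ofPred_eq, hl1, List.mem_filter, List.mem_range, beq_iff_eq] at hx
      have hS : ∀ g q, q ∈ {q | ∃ C, InL0 C ∧ app C 5 = q} →
          app (J4Module.genMap g) q ∈ {q | ∃ C, InL0 C ∧ app C 5 = q} := by
        rintro g q ⟨C, hC, rfl⟩
        refine ⟨mulC (J4Module.genMap g) C, Gen.mul ?_ hC, app_mulC _ _ _⟩
        unfold J4Module.genMap
        split_ifs <;> simp [gensL]
      obtain ⟨k, hk⟩ : ∃ k : Fin 3, (J4Module.mask k).testBit (M.vec x) = true := by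
        have h0 : M.vec x ≠ 0 := fun h => by rw [h, cls_zero] at hx; simp at hx
        obtain ⟨k, hk, -⟩ := (J4Module.mask_cover _ (M.vec_lt x)).2 h0
        exact ⟨k, hk⟩
      have hk0 : k = 0 := by
        have := cls_spec _ (M.vec_lt x) k hk
        exact Fin.ext (by omega)
      subst hk0
      obtain ⟨C, hC, hCx⟩ := J4Module.grow_spec hS (J4Module.tree 0) _ _ (J4Module.grow_ok 0)
        (fun q hq => ⟨unitC, Gen.one, by
          rw [Trio.line_spec.2.2.2.2.2, Nat.one_shiftLeft, Nat.testBit_two_pow, decide_eq_true_eq] at hq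
          rw [app_unitC 5 (by norm_num), hq]⟩) _ hk
      obtain ⟨h, ha⟩ := M.exists_elem C hC
      rcases M.toH_cases (x := x) (y := M.ctx.conjQ h e5) (by rw [ha e5, he5, hCx]) with f | f
      · exact ⟨h, M.toH_injective f⟩
      · obtain ⟨w, hw, hbw⟩ : ∃ w < 4096, bbit w (M.vec x) = true := by
          by_contra hno
          simp only [not_exists, not_and, Bool.not_eq_true] at hno
          have := M.nondeg (M.vec_lt x) fun m hm => by rw [bbit_comm]; exact hno m hm
          rw [this, cls_zero] at hx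
          simp at hx
        obtain ⟨q, rfl⟩ := M.vec_surj w hw
        refine ⟨M.toH q * h, ?_⟩
        show M.ctx.conjQ (M.toH q * h) e5 = x
        rw [M.ctx.conjQ_mul, M.toH_injective (show M.toH (M.ctx.conjQ h e5) = M.toH (x * M.zQ) by rw [map_mul]; exact f),
          M.conjQ_toH, M.vec_mul_z, hbw, if_neg (by simp), mul_assoc,
          show M.zQ * M.zQ = 1 from Subtype.ext M.ctx.xs.sq, mul_one]
  set S := MulAction.stabilizer ↥(centralizer ({z} : Set G)) e5 with hS
  have hcS : Nat.card ↥S = 2 ^ 20 * 15 := by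
    have h := S.card_mul_index
    rw [hS, MulAction.index_stabilizer, horb, M.card_cent,
      show ({x : ↥(QG M.Q) | M.vec x ∈ l1}).ncard = Nat.card {x : ↥(QG M.Q) // M.vec x ∈ l1} from
        (Nat.card_coe_set_eq _).symm,
      M.card_vec_in (List.Nodup.filter _ List.nodup_range) (fun n hn => List.mem_range.1 (List.mem_filter.1 hn).1),
      Trio.line_spec.2.2.2.2.1, ← hS] at h
    omega
  have horb2 : MulAction.orbit ↥S e2 = {x | M.vec x ∈ [2282, 2287]} := by
    ext x
    constructor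
    · rintro ⟨⟨c, hc⟩, rfl⟩
      obtain ⟨C, hC, ha⟩ := M.exists_cols c
      show M.vec (M.ctx.conjQ c e2) ∈ ([2282, 2287] : List ℕ)
      have h5 : app C 5 = 5 := by
        rw [← he5, ← ha e5, show M.ctx.conjQ c e5 = e5 from hc]
      rw [ha e2, he2, ← Trio.line_images.1, ← app_mulC]
      rcases K_or_outer hC with hK | ⟨D, hD, rfl⟩
      · rw [lin_of_K hK, app_mulC, h5, Trio.line_images.1]; simp
      · rw [mulC_assoc, lin_of_K hD, ← mulC_assoc, FiveTab.gens_p.2.2.2.1, mulC_assoc, app_mulC, h5,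
          Trio.line_images.2.1]; simp
    · intro hx
      simp only [Set.mem_ofPred_eq, List.mem_cons, List.not_mem_nil, or_false] at hx
      have hC : ∃ C, InL0 C ∧ app C 5 = 5 ∧ app C 2282 = M.vec x := by
        rcases hx with e | e
        · exact ⟨unitC, Gen.one, app_unitC 5 (by norm_num), by rw [e]; exact app_unitC _ (by norm_num)⟩
        · exact ⟨sC, sC_L, Trio.line_images.2.2.1, by rw [e]; exact Trio.line_images.2.2.2.1⟩
      obtain ⟨C, hC, h5, h2⟩ := hC
      obtain ⟨h, ha⟩ := M.exists_elem C hC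
      obtain ⟨c, -, f5, f2⟩ := M.adjust ha hC (e5 := e5) (e2 := e2) (a := e5) (b := x) he5 hx
        (by rw [he5, h5]) (by rw [he2, h2])
      exact ⟨⟨c, f5⟩, f2⟩
  have hst : Nat.card ↥(MulAction.stabilizer ↥S e2) = Nat.card ↥M.cE := Nat.card_congr
    { toFun := fun c => ⟨c.1.1, M.mem_cE_of he5 he2 c.1.2 c.2⟩
      invFun := fun c => ⟨⟨c.1, M.mem_cE.1 c.2 e5 (by rw [he5]; simp [ell])⟩,
        M.mem_cE.1 c.2 e2 (by rw [he2]; simp [ell])⟩
      left_inv := fun _ => rfl
      right_inv := fun _ => rfl }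
  have h := (MulAction.stabilizer ↥S e2).card_mul_index
  rw [MulAction.index_stabilizer, horb2, hcS, hst,
    show ({x : ↥(QG M.Q) | M.vec x ∈ [2282, 2287]}).ncard = Nat.card {x : ↥(QG M.Q) // M.vec x ∈ [2282, 2287]} from
      (Nat.card_coe_set_eq _).symm,
    M.card_vec_in (by decide) (by decide), List.length_cons, List.length_cons, List.length_nil] at h
  omega

/-- The elements acting on the five hexad spaces as the identity. -/
def lE : Subgroup ↥(centralizer ({z} : Set G)) :=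
  { toSubmonoid :=
      { carrier := {c | c ∈ M.cE ∧ ∃ i < 16, M.Acts c (kE i)}
        one_mem' := ⟨one_mem _, 0, by norm_num, by rw [ker_words.2.2.1]; exact M.acts_one⟩
        mul_mem' := by
          rintro a b ⟨ha, i, hi, hai⟩ ⟨hb, j, hj, hbj⟩
          exact ⟨mul_mem ha hb, i ^^^ j, Nat.xor_lt_two_pow (n := 4) hi hj,
            ker_words.2.2.2.2.2 i hi j hj ▸ M.acts_mul hai hbj⟩ }
    inv_mem' := by
      rintro c ⟨hc, i, hi, hci⟩
      refine ⟨inv_mem hc, i, hi, ?_⟩
      have h2 : c * c ∈ M.Q := M.mem_Q _ (by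
        have := M.acts_mul hci hci
        rwa [ker_words.2.2.2.2.2 i hi i hi, Nat.xor_self, ker_words.2.2.1] at this)
      refine M.acts_mul_Q hci ?_ (gen_length (kE_K hi))
      rw [← _root_.mul_inv_rev]
      exact inv_mem h2 }

theorem mem_lE {c : ↥(centralizer ({z} : Set G))} : c ∈ M.lE ↔ c ∈ M.cE ∧ ∃ i < 16, M.Acts c (kE i) := Iff.rfl

theorem card_lE : Nat.card ↥M.lE = 2 ^ 15 := by
  classical
  haveI := M.normal
  set f : ↥M.lE →* ↥(centralizer ({z} : Set G)) ⧸ M.Q := (QuotientGroup.mk' M.Q).comp M.lE.subtype with hf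
  have hl : ∀ i : Fin 16, ∃ c : ↥M.lE, M.Acts c (kE i) := fun i => by
    obtain ⟨c, hc, ha⟩ := M.lift_cE (kE_K i.2) (kE_fix i.2).1
    exact ⟨⟨c, hc, i, i.2, ha⟩, ha⟩
  choose L hL using hl
  have hrange : Nat.card ↥f.range = 16 := by
    let φ : Fin 16 → ↥f.range := fun i => ⟨f (L i), L i, rfl⟩
    have hφ : Function.Bijective φ := by
      refine ⟨fun i j e => ?_, ?_⟩
      · have hm : ((L i).1)⁻¹ * (L j).1 ∈ M.Q := QuotientGroup.eq.1 (congrArg Subtype.val e)
        have e' := M.acts_unique (gen_length (kE_K i.2)) (gen_length (kE_K j.2))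
          (M.acts_mul_Q (hL i) hm (gen_length (kE_K i.2))) (hL j)
        have hi : (i : ℕ) < kerCols.length := by rw [ker_words.2.2.2.2.1]; exact i.2
        have hj : (j : ℕ) < kerCols.length := by rw [ker_words.2.2.2.2.1]; exact j.2
        rw [kE, kE, List.getD_eq_getElem _ _ hi, List.getD_eq_getElem _ _ hj,
          List.Nodup.getElem_inj_iff ker_words.2.2.2.1] at e'
        exact Fin.ext e'
      · rintro ⟨_, h, rfl⟩
        obtain ⟨-, i, hi, ha⟩ := h.2
        exact ⟨⟨i, hi⟩, Subtype.ext (QuotientGroup.eq.2 (M.inv_mul_mem (hL ⟨i, hi⟩) ha))⟩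
    rw [← Nat.card_congr (Equiv.ofBijective φ hφ), Nat.card_fin]
  set l := (List.range 4096).filter fun n => perpEll n with hl
  have hker : Nat.card ↥f.ker = 2048 := by
    have hiff : ∀ x : ↥(QG M.Q), M.toH x ∈ M.cE ↔ M.vec x ∈ l := by
      intro x
      rw [hl, List.mem_filter, List.mem_range, perpEll, Bool.and_eq_true, beq_iff_eq, beq_iff_eq]
      have hfx : ∀ y, M.ctx.conjQ (M.toH x) y = y ↔ bbit (M.vec x) (M.vec y) = false := fun y =>
        (M.cfix_comm y).trans (M.comm_iff x y)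
      obtain ⟨e5, he5⟩ := M.vec_surj 5 (by norm_num)
      obtain ⟨e2, he2⟩ := M.vec_surj 2282 (by norm_num)
      constructor
      · intro h
        refine ⟨M.vec_lt x, ?_, ?_⟩
        · rw [← he5]; exact (hfx e5).1 (M.mem_cE.1 h e5 (by rw [he5]; simp [ell]))
        · rw [← he2]; exact (hfx e2).1 (M.mem_cE.1 h e2 (by rw [he2]; simp [ell]))
      · rintro ⟨-, h5, h2⟩
        exact M.mem_cE_of he5 he2 ((hfx e5).2 (by rw [he5]; exact h5)) ((hfx e2).2 (by rw [he2]; exact h2))
    let ψ : {x : ↥(QG M.Q) // M.vec x ∈ l} → ↥f.ker := fun x =>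
      ⟨⟨M.toH x.1, (hiff x.1).2 x.2, 0, by norm_num, by rw [ker_words.2.2.1]; exact M.acts_of_mem_Q (M.toH_mem x.1)⟩,
        (QuotientGroup.eq_one_iff _).2 (M.toH_mem x.1)⟩
    have hψ : Function.Bijective ψ := by
      refine ⟨fun a b e => Subtype.ext (M.toH_injective (congrArg (fun t : ↥f.ker => t.1.1) e)), fun h => ?_⟩
      obtain ⟨x, hx⟩ := M.toH_surj ((QuotientGroup.eq_one_iff _).1 h.2)
      exact ⟨⟨x, (hiff x).1 (by rw [hx]; exact h.1.2.1)⟩, Subtype.ext (Subtype.ext hx)⟩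
    rw [← Nat.card_congr (Equiv.ofBijective ψ hψ),
      M.card_vec_in (List.Nodup.filter _ List.nodup_range) (fun n hn => List.mem_range.1 (List.mem_filter.1 hn).1),
      Trio.line_images.2.2.2.2]
  rw [Subgroup.card_eq_card_quotient_mul_card_subgroup f.ker, hker,
    Nat.card_congr (QuotientGroup.quotientKerEquivRange f).toEquiv, hrange]
  norm_num

/-- The first generator on the five. -/
def p5 : Equiv.Perm (Fin 5) := [0, 1, 4, 2, 3].formPerm

theorem p5_spec : (∀ a : Fin 5, ((fivePerm.getD 0 []).getD a.1 0 : ℕ) = (p5 a).1) ∧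
    (∀ a : Fin 5, ((fivePerm.getD 1 []).getD a.1 0 : ℕ) = (Equiv.swap (0 : Fin 5) 4 a).1) := by
  decide +kernel

/-- The pairs of an element and the permutation it induces on the five hexad spaces. -/
def rel5M : Submonoid (↥(centralizer ({z} : Set G)) × Equiv.Perm (Fin 5)) :=
      { carrier := {p | p.1 ∈ M.cE ∧ ∀ (a : Fin 5) (x : ↥(QG M.Q)), M.vec x ∈ hexOf a →
          M.vec (M.ctx.conjQ p.1 x) ∈ hexOf (p.2 a : Fin 5)}
        one_mem' := ⟨one_mem _, fun a x hx => by
          show M.vec (M.ctx.conjQ (1 : ↥(centralizer ({z} : Set G))) x) ∈ hexOf a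
          rwa [M.acts_one x, app_unitC _ (M.vec_lt x)]⟩
        mul_mem' := by
          rintro p q ⟨hp, hp'⟩ ⟨hq, hq'⟩
          refine ⟨mul_mem hp hq, fun a x hx => ?_⟩
          show M.vec (M.ctx.conjQ (p.1 * q.1) x) ∈ hexOf (p.2 (q.2 a) : Fin 5)
          rw [M.ctx.conjQ_mul]
          exact hp' _ _ (hq' a x hx) }

/-- The pairs, as a subgroup. -/
def rel5 : Subgroup (↥(centralizer ({z} : Set G)) × Equiv.Perm (Fin 5)) :=
  { toSubmonoid := M.rel5M
    inv_mem' := by
      intro p hp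
      obtain ⟨n, hn⟩ : ∃ n : ℕ, p⁻¹ = p ^ n :=
        ⟨orderOf p - 1, inv_eq_of_mul_eq_one_right (by
          rw [← pow_succ', Nat.sub_add_cancel (orderOf_pos p), pow_orderOf_eq_one])⟩
      rw [hn]
      exact Submonoid.pow_mem M.rel5M hp n }

/-- The action on the five hexad spaces. -/
theorem exists_phi : ∃ φ : ↥M.cE →* Equiv.Perm (Fin 5), Function.Surjective φ ∧
    ∀ c : ↥M.cE, φ c = 1 ↔ (c : ↥(centralizer ({z} : Set G))) ∈ M.lE := by
  classical
  let fs : ↥M.rel5 →* ↥M.cE := ((MonoidHom.fst _ _).comp M.rel5.subtype).codRestrict M.cE fun p => p.2.1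
  let sn : ↥M.rel5 →* Equiv.Perm (Fin 5) := (MonoidHom.snd _ _).comp M.rel5.subtype
  have hinj : Function.Injective fs := by
    rw [injective_iff_map_eq_one]
    intro p hp
    have h1 : p.1.1 = 1 := congrArg Subtype.val hp
    refine Subtype.ext (Prod.ext h1 (Equiv.ext fun a => Fin.ext ?_))
    refine (five_spec.2.2.2.1 a.1 a.2 _ (p.1.2 a).2 fun n hn => ?_).symm
    obtain ⟨x, hx⟩ := M.vec_surj n (hex_lt a.2 hn)
    have := p.2.2 a x (hx ▸ hn)
    rwa [h1, M.acts_one x, app_unitC _ (M.vec_lt x), hx] at this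
  have hgen : ∀ j < 2, ∀ π : Equiv.Perm (Fin 5), (∀ a : Fin 5, (fivePerm.getD j []).getD a.1 0 = (π a).1) →
      π ∈ sn.range := by
    intro j hj π hπ
    obtain ⟨h5, hmv⟩ := five_spec.2.2.2.2 j hj
    have hK : InK0 (gT j) := by
      unfold gT
      split_ifs
      · exact yC_K
      · exact wordC_memK five_spec.2.1
    obtain ⟨c, hc, ha⟩ := M.lift_cE hK h5
    refine ⟨⟨(c, π), hc, fun a x hx => ?_⟩, rfl⟩
    show M.vec (M.ctx.conjQ c x) ∈ hexOf (π a : Fin 5)
    rw [ha x, ← hπ a]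
    exact (hmv a.1 a.2).2 _ hx
  have htop : sn.range = ⊤ := by
    rw [eq_top_iff]
    have hcl : Subgroup.closure {p5, Equiv.swap (0 : Fin 5) 4} = ⊤ :=
      Equiv.Perm.closure_prime_cycle_swap (by decide) (List.isCycle_formPerm (by decide) (by decide))
        (by decide) ⟨0, 4, by decide, rfl⟩
    rw [← hcl, Subgroup.closure_le]
    rintro π (rfl | rfl)
    · exact hgen 0 (by norm_num) _ p5_spec.1
    · exact hgen 1 (by norm_num) _ p5_spec.2
  have hsurj : Function.Surjective sn := MonoidHom.range_eq_top.1 htop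
  have hker : ∀ c : ↥M.lE, ((c.1, (1 : Equiv.Perm (Fin 5)))) ∈ M.rel5 := fun ⟨c, hc, i, hi, ha⟩ =>
    ⟨hc, fun a x hx => by
      show M.vec (M.ctx.conjQ c x) ∈ hexOf a
      rw [ha x]; exact (kE_fix hi).2 a.1 a.2 _ hx⟩
  let ι : ↥M.lE → ↥sn.ker := fun c => ⟨⟨_, hker c⟩, rfl⟩
  have hιinj : Function.Injective ι := fun a b e => Subtype.ext (congrArg (fun t : ↥sn.ker => t.1.1.1) e)
  have hcard : Nat.card ↥M.rel5 = 120 * Nat.card ↥sn.ker := by
    rw [Subgroup.card_eq_card_quotient_mul_card_subgroup sn.ker,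
      Nat.card_congr (QuotientGroup.quotientKerEquivOfSurjective sn hsurj).toEquiv, Nat.card_perm, Nat.card_fin]
    rfl
  have h1 := Nat.card_le_card_of_injective fs hinj
  have h2 := Nat.card_le_card_of_injective ι hιinj
  rw [hcard, M.card_cE] at h1
  rw [M.card_lE] at h2
  have hbij : Function.Bijective fs := (Nat.bijective_iff_injective_and_card _).2
    ⟨hinj, by rw [hcard, M.card_cE]; omega⟩
  have hιbij : Function.Bijective ι := (Nat.bijective_iff_injective_and_card _).2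
    ⟨hιinj, by rw [M.card_lE]; omega⟩
  let e := MulEquiv.ofBijective fs hbij
  refine ⟨sn.comp e.symm.toMonoidHom, hsurj.comp e.symm.surjective, fun c => ⟨fun h => ?_, fun h => ?_⟩⟩
  · obtain ⟨l, hl⟩ := hιbij.2 ⟨e.symm c, h⟩
    have : (e.symm c).1.1 = l.1 := (congrArg (fun t : ↥sn.ker => t.1.1.1) hl).symm
    rw [show (c : ↥(centralizer ({z} : Set G))) = (e.symm c).1.1 from
      (congrArg Subtype.val (e.apply_symm_apply c)).symm, this]
    exact l.2
  · have : e.symm c = ⟨_, hker ⟨c.1, h⟩⟩ := e.injective ((e.apply_symm_apply c).trans (Subtype.ext rfl))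
    show sn (e.symm c) = 1
    rw [this]
    rfl

end Model

end Cfsg.Agent.JankoFour
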