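import Cfsg.Agent.Lib.JankoFour.FiveCent
import Cfsg.Agent.Lib.JankoFour.SevenChecks
import Cfsg.Agent.Lib.JankoFour.TrioCent

/-!
An element of order seven inside the centraliser of the involution: its centraliser there is small, and it is
not inverted there.
-/

set_option autoImplicit false
set_option linter.unusedSectionVars false
set_option maxRecDepth 20000

namespace Cfsg.Agent.JankoFour

open Subgroup
open Cfsg.Agent.LargeFischer (QG)
open Cfsg.Agent.J4Module (app)
open Cfsg.Agent.J4Module.Data
open Seven Split Big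

theorem Seven.powC_eight : powC sevC 8 = sevC := by decide +kernel

theorem Seven.sevC_K : InK0 sevC := wordC_memK Seven.basis_spec.2.2.2.1

/-- A map transporting the element of order seven and the scalar is among the tabulated ones. -/
theorem Seven.mem_maps {S R C : List ℕ} (hC : InL0 C) (hS : mulC C sevC = mulC S C)
    (hR : mulC C pC = mulC R C) : C ∈ maps S R := by
  obtain ⟨hb, -, -, -, h1, h2, h3, hc1⟩ := Seven.basis_spec
  have hit : ∀ (i v : ℕ), app C ((app sevC)^[i] v) = (app S)^[i] (app C v) := by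
    intro i v
    induction i with
    | zero => rfl
    | succ i ih => rw [Function.iterate_succ_apply', Function.iterate_succ_apply', ← app_mulC, hS, app_mulC, ih]
  have hp : ∀ n, app C (app pC n) = app R (app C n) := fun n => by rw [← app_mulC, hR, app_mulC]
  have he : mulC C (basisOf sevC pC 1) = basisOf S R (app C 1) := by
    simp only [mulC, basisOf, List.map_flatMap]
    refine List.flatMap_congr fun i _ => ?_
    simp only [List.map_cons, List.map_nil, hp, hit]
  have hs : ∀ m, app (basisOf sevC pC 1) m < 4096 →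
      cls (app (basisOf S R (app C 1)) m) = cls (app (basisOf sevC pC 1) m) := fun m hm => by
    rw [← he, app_mulC, cls_InL0 hC _ hm]
  unfold maps
  simp only [List.mem_map, List.mem_filter, List.mem_range, beq_iff_eq, Bool.and_eq_true]
  refine ⟨app C 1, ⟨⟨gen_app_lt hC 1, ?_⟩, ⟨hs _ h1, hs _ h2⟩, hs _ h3⟩, ?_⟩
  · rw [cls_InL0 hC 1 (by norm_num), hc1]
  · rw [← he, mulC_assoc, hb, mulC_unitC (gen_length hC)]

/-- Every element of the group commutes with the scalar or inverts it. -/
theorem lin_or_semi {C : List ℕ} (hC : InL0 C) : mulC C pC = mulC pC C ∨ mulC C pC = mulC p2C C := by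
  rcases K_or_outer hC with h | ⟨D, hD, rfl⟩
  · exact Or.inl (lin_of_K h)
  · exact Or.inr (by rw [mulC_assoc, lin_of_K hD, ← mulC_assoc, FiveTab.gens_p.2.2.2.1, mulC_assoc])

namespace Model

variable {G : Type*} [Group G] [Finite G] {z : G} {P : Subgroup G} (M : Model z P)

theorem exists_seven : ∃ c : ↥(centralizer ({z} : Set G)), c ^ 7 = 1 ∧ orderOf c = 7 ∧ M.Acts c sevC := by
  haveI : Fact (Nat.Prime 7) := ⟨by norm_num⟩
  obtain ⟨c, hcP, hc⟩ := M.cent_elem sevC Seven.sevC_K
  have hP : ((c ^ 7 : ↥(centralizer ({z} : Set G))) : G) ∈ centralizer (P : Set G) := by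
    rw [SubmonoidClass.coe_pow]; exact pow_mem hcP 7
  have h7 : c ^ 7 ∈ M.Q := M.mem_Q _ (Seven.basis_spec.2.1 ▸ M.acts_pow hc 7)
  have h14 : c ^ 14 = 1 := by
    rw [show (14 : ℕ) = 7 + 7 from rfl, pow_add]
    rcases M.cent_Q h7 hP with e | e <;> rw [e]
    · exact one_mul _
    · exact M.zz
  have hp : (c ^ 8) ^ 7 = 1 := by rw [← pow_mul, show 8 * 7 = 14 * 4 from rfl, pow_mul, h14, one_pow]
  have ha : M.Acts (c ^ 8) sevC := by
    have h := M.acts_pow hc 8
    rwa [Seven.powC_eight] at h
  refine ⟨c ^ 8, hp, orderOf_eq_prime hp fun e => ?_, ha⟩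
  exact Seven.basis_spec.2.2.1 (M.acts_unique (gen_length Seven.sevC_K) (by decide) ha (e ▸ M.acts_one))

include M in
/-- Elements of order seven are conjugate inside the centraliser of the involution up to powers. -/
theorem exists_conj_seven {c d : ↥(centralizer ({z} : Set G))} (hc : orderOf c = 7) (hd : orderOf d = 7) :
    ∃ y : ↥(centralizer ({z} : Set G)), (zpowers d).map (MulAut.conj y).toMonoidHom = zpowers c := by
  haveI : Fact (Nat.Prime 7) := ⟨by norm_num⟩
  have hfac : (Nat.card ↥(centralizer ({z} : Set G))).factorization 7 = 1 := by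
    rw [M.card_cent, show 2 ^ 21 * 10395 = 7 ^ 1 * (2 ^ 21 * 1485) by norm_num,
      Nat.factorization_mul (by norm_num) (by norm_num), Finsupp.add_apply,
      Nat.Prime.factorization_pow (by norm_num), Nat.factorization_eq_zero_of_not_dvd (by norm_num)]
    simp
  let Sc : Sylow 7 ↥(centralizer ({z} : Set G)) :=
    Sylow.ofCard (zpowers c) (by rw [hfac, Nat.card_zpowers, hc, pow_one])
  let Sd : Sylow 7 ↥(centralizer ({z} : Set G)) :=
    Sylow.ofCard (zpowers d) (by rw [hfac, Nat.card_zpowers, hd, pow_one])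
  obtain ⟨y, hy⟩ := MulAction.exists_smul_eq ↥(centralizer ({z} : Set G)) Sd Sc
  refine ⟨y, ?_⟩
  rw [show zpowers c = (Sc : Subgroup _) from rfl, ← hy]
  rfl

/-- The size of the centraliser of the standard element. -/
theorem cent_seven {c : ↥(centralizer ({z} : Set G))} (hc : M.Acts c sevC) :
    Nat.card ↥(centralizer ({c} : Set ↥(centralizer ({z} : Set G)))) ≤ 84 ∧
      ¬ 8 ∣ Nat.card ↥(centralizer ({c} : Set ↥(centralizer ({z} : Set G)))) := by
  classical
  haveI := M.normal
  set K := centralizer ({c} : Set ↥(centralizer ({z} : Set G))) with hK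
  have hcomm : ∀ h ∈ K, ∀ C, InL0 C → M.Acts h C → mulC C sevC = mulC sevC C := fun h hh C hC ha =>
    M.acts_unique (by rw [length_mulC]; exact gen_length Seven.sevC_K) (by rw [length_mulC]; exact gen_length hC)
      (M.acts_mul ha hc) (by rw [mem_centralizer_singleton_iff.1 hh]; exact M.acts_mul hc ha)
  have hQ : ∀ h ∈ K, h ∈ M.Q → h = 1 ∨ h = M.toH M.zQ := by
    intro h hh hhQ
    obtain ⟨x, rfl⟩ := M.toH_surj hhQ
    have hfix : M.ctx.conjQ c x = x :=
      (M.cfix_comm x).2 (congrArg Subtype.val (mem_centralizer_singleton_iff.1 hh)).symm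
    have h0 : M.vec x = 0 := Seven.fix_seven _ (M.vec_lt x) (by rw [← hc x, hfix])
    rcases M.vec_eq_zero.1 h0 with e | e
    · exact Or.inl (Subtype.ext e)
    · exact Or.inr (Subtype.ext e)
  refine ⟨?_, fun h8 => ?_⟩
  · set f : ↥K →* ↥(centralizer ({z} : Set G)) ⧸ M.Q := (QuotientGroup.mk' M.Q).comp K.subtype with hf
    have hker : Nat.card ↥f.ker ≤ 2 := by
      let g : ↥f.ker → Bool := fun h => decide (h.1.1 = 1)
      refine (Nat.card_le_card_of_injective g fun a b e => ?_).trans (by rw [Nat.card_eq_fintype_card, Fintype.card_bool])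
      have e' : (a.1.1 = 1 ↔ b.1.1 = 1) := decide_eq_decide.1 e
      refine Subtype.ext (Subtype.ext ?_)
      rcases hQ _ a.1.2 ((QuotientGroup.eq_one_iff _).1 a.2) with ha | ha <;>
        rcases hQ _ b.1.2 ((QuotientGroup.eq_one_iff _).1 b.2) with hb | hb
      · rw [ha, hb]
      · rw [ha, e'.1 ha]
      · rw [e'.2 hb, hb]
      · rw [ha, hb]
    let T := (maps sevC pC ++ maps sevC p2C).toFinset
    have hsel : ∀ r : ↥f.range, ∃ C : {C // C ∈ T}, ∃ h : ↥K, f h = r.1 ∧ M.Acts h C.1 := by
      rintro ⟨r, h, rfl⟩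
      obtain ⟨C, hC, ha⟩ := M.exists_cols h.1
      refine ⟨⟨C, List.mem_toFinset.2 (List.mem_append.2 ?_)⟩, h, rfl, ha⟩
      exact (lin_or_semi hC).imp (Seven.mem_maps hC (hcomm _ h.2 C hC ha)) (Seven.mem_maps hC (hcomm _ h.2 C hC ha))
    choose sel hsel using hsel
    have hinj : Function.Injective sel := by
      intro r r' e
      obtain ⟨h, hh, ha⟩ := hsel r
      obtain ⟨h', hh', ha'⟩ := hsel r'
      rw [← e] at ha'
      exact Subtype.ext (by rw [← hh, ← hh']; exact QuotientGroup.eq.2 (M.inv_mul_mem ha ha'))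
    have hrange : Nat.card ↥f.range ≤ 42 := by
      refine (Nat.card_le_card_of_injective sel hinj).trans ?_
      rw [Nat.card_eq_fintype_card, Fintype.card_coe]
      refine (List.toFinset_card_le _).trans ?_
      rw [List.length_append]
      have := Seven.maps_lin.1
      have := Seven.maps_semi.1
      omega
    rw [Subgroup.card_eq_card_quotient_mul_card_subgroup f.ker,
      Nat.card_congr (QuotientGroup.quotientKerEquivRange f).toEquiv]
    exact (Nat.mul_le_mul hrange hker).trans le_rfl
  · haveI : Fact (Nat.Prime 2) := ⟨Nat.prime_two⟩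
    obtain ⟨R, hR⟩ := Sylow.exists_subgroup_card_pow_prime 2 (n := 3) (show 2 ^ 3 ∣ Nat.card ↥K by norm_num; exact h8)
    have h8a : ∀ a : ↥R, ((a : ↥K) : ↥(centralizer ({z} : Set G))) ^ 8 = 1 := fun a => by
      have := congrArg (fun t : ↥R => t.1.1) (pow_card_eq_one' (x := a))
      rw [hR] at this
      simpa using this
    have hlin : ∀ (a : ↥R) C, InL0 C → M.Acts a.1.1 C → mulC C pC = mulC pC C →
        a.1.1 = 1 ∨ a.1.1 = M.toH M.zQ := by
      intro a C hC ha hl
      refine hQ _ a.1.2 ?_
      have h21 : a.1.1 ^ 21 ∈ M.Q := M.mem_Q _ (Seven.maps_lin.2.2 C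
        (Seven.mem_maps hC (hcomm _ a.1.2 C hC ha) hl) ▸ M.acts_pow ha 21)
      have e : a.1.1 = (a.1.1 ^ 21) ^ 5 := by
        rw [← pow_mul, show 21 * 5 = 8 * 13 + 1 from rfl, pow_succ, pow_mul, h8a a, one_pow, one_mul]
      rw [e]
      exact pow_mem h21 5
    have hcard : Nat.card ↥R ≤ 4 := by
      by_cases hall : ∀ a : ↥R, a.1.1 = 1 ∨ a.1.1 = M.toH M.zQ
      · let g : ↥R → Bool := fun a => decide (a.1.1 = 1)
        refine (Nat.card_le_card_of_injective g fun a b e => ?_).trans (by rw [Nat.card_eq_fintype_card, Fintype.card_bool]; norm_num)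
        have e' : (a.1.1 = 1 ↔ b.1.1 = 1) := decide_eq_decide.1 e
        refine Subtype.ext (Subtype.ext ?_)
        rcases hall a with ha | ha <;> rcases hall b with hb | hb
        · rw [ha, hb]
        · rw [ha, e'.1 ha]
        · rw [e'.2 hb, hb]
        · rw [ha, hb]
      · obtain ⟨a0, ha0⟩ := not_forall.1 hall
        obtain ⟨C0, hC0, ha0C⟩ := M.exists_cols a0.1.1
        have hs0 : mulC C0 pC = mulC p2C C0 := (lin_or_semi hC0).resolve_left fun h => ha0 (hlin a0 C0 hC0 ha0C h)
        have hcases : ∀ b : ↥R, (b.1.1 = 1 ∨ b.1.1 = M.toH M.zQ) ∨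
            ((a0 * b).1.1 = 1 ∨ (a0 * b).1.1 = M.toH M.zQ) := by
          intro b
          obtain ⟨C, hC, hb⟩ := M.exists_cols b.1.1
          rcases lin_or_semi hC with h | h
          · exact Or.inl (hlin b C hC hb h)
          · refine Or.inr (hlin _ (mulC C0 C) (gen_mul (fun _ h => h) hC0 hC) (M.acts_mul ha0C hb) ?_)
            have e : mulC C0 p2C = mulC pC C0 := by
              rw [← FiveTab.gens_p.2.2.2.2.2.2.2.2.1, ← mulC_assoc, hs0, mulC_assoc, hs0, ← mulC_assoc]
              congr 1
            rw [mulC_assoc, h, ← mulC_assoc, e, mulC_assoc]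
        let g : ↥R → Bool × Bool := fun b =>
          if b.1.1 = 1 ∨ b.1.1 = M.toH M.zQ then (true, decide (b.1.1 = 1)) else (false, decide ((a0 * b).1.1 = 1))
        refine (Nat.card_le_card_of_injective g fun a b e => ?_).trans (by
          rw [Nat.card_eq_fintype_card, Fintype.card_prod, Fintype.card_bool])
        have two : ∀ {u v : ↥(centralizer ({z} : Set G))}, (u = 1 ∨ u = M.toH M.zQ) →
            (v = 1 ∨ v = M.toH M.zQ) → decide (u = 1) = decide (v = 1) → u = v := by
          intro u v hu hv e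
          have e' : (u = 1 ↔ v = 1) := decide_eq_decide.1 e
          rcases hu with hu | hu <;> rcases hv with hv | hv
          · rw [hu, hv]
          · rw [hu, e'.1 hu]
          · rw [e'.2 hv, hv]
          · rw [hu, hv]
        simp only [g] at e
        split_ifs at e with ha hb hb <;> rw [Prod.mk.injEq] at e
        · exact Subtype.ext (Subtype.ext (two ha hb e.2))
        · exact absurd e.1 (by simp)
        · exact absurd e.1 (by simp)
        · have := two ((hcases a).resolve_left ha) ((hcases b).resolve_left hb) e.2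
          exact mul_left_cancel (Subtype.ext (Subtype.ext this) : a0 * a = a0 * b)
    omega

/-- The standard element is not inverted inside the centraliser of the involution. -/
theorem no_invert {c h : ↥(centralizer ({z} : Set G))} (hc : M.Acts c sevC) (hc7 : c ^ 7 = 1)
    (hh : h * c * h⁻¹ = c⁻¹) : False := by
  obtain ⟨C, hC, ha⟩ := M.exists_cols h
  have h6 : h * c = c ^ 6 * h := by
    rw [← mul_inv_eq_iff_eq_mul, hh, inv_eq_of_mul_eq_one_right]
    rw [← pow_succ', hc7]
  have hS : mulC C sevC = mulC (powC sevC 6) C :=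
    M.acts_unique (by rw [length_mulC]; exact gen_length Seven.sevC_K) (by rw [length_mulC]; exact gen_length hC)
      (M.acts_mul ha hc) (by rw [h6]; exact M.acts_mul (M.acts_pow hc 6) ha)
  rcases lin_or_semi hC with hR | hR
  · have := Seven.mem_maps hC hS hR
    rw [Seven.maps_inv.1] at this
    simp at this
  · have := Seven.mem_maps hC hS hR
    rw [Seven.maps_inv.2] at this
    simp at this

end Model

end Cfsg.Agent.JankoFour
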