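import Cfsg.Agent.Lib.JankoFour.TwoCentralizerMain
import Cfsg.Agent.Lib.Golay.Local.Seven

/-! Janko-four type: an element of order seven centralising an involution of the second class of the large
abelian subgroup has a small common centraliser with it. -/

set_option autoImplicit false
set_option maxRecDepth 20000

namespace Cfsg.Agent.JankoFour

open Subgroup
open Cfsg (GolayPt M24)
open Cfsg.Agent.Golay Cfsg.Agent.Golay.Local Cfsg.Agent.PermCert Cfsg.Agent.Golay.Cert
open scoped symmDiff Pointwise

namespace SevenDuad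

/-- The listed elements commuting with the standard element of order seven and preserving two positions. -/
def keep (a b : ℕ) : List Elt :=
  norm7.filter fun g => sameF (cmpF g.1 rep7.1) (cmpF rep7.1 g.1) &&
    ((Nat.beq (get 5 g.1 a) a || Nat.beq (get 5 g.1 a) b) &&
      (Nat.beq (get 5 g.1 b) a || Nat.beq (get 5 g.1 b) b))

theorem fixed_check :
    ((List.range 24).filter fun i => Nat.beq (get 5 rep7.1 i) i) = [6, 14, 18] ∧
      ∀ a ∈ [6, 14, 18], ∀ b ∈ [6, 14, 18], a ≠ b → (keep a b).length ≤ 14 := by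
  decide +kernel

theorem fixed_mem {p : GolayPt} (h : R7 p = p) : idx p ∈ [6, 14, 18] := by
  rw [← fixed_check.1, List.mem_filter, List.mem_range]
  exact ⟨idx_lt p, by rw [code_R7 p, h]; simp⟩

/-- The centraliser of an element of order seven in the stabiliser of a fixed pair of points. -/
theorem card_cent_pair {σ : ↥M24} (hσ : orderOf σ = 7) {p q : GolayPt} (hpq : p ≠ q)
    (hp : σ.1 p = p) (hq : σ.1 q = q) :
    Nat.card {m : ↥M24 // m * σ = σ * m ∧ ({p, q} : Finset GolayPt).image m.1 = {p, q}} ≤ 14 := by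
  haveI : Fact (Nat.Prime 7) := ⟨by norm_num⟩
  obtain ⟨g, s, hs, hgen, hgs⟩ := exists_conj_seven (S := zpowers σ) (by rw [Nat.card_zpowers, hσ])
  have hfix : ∀ r : GolayPt, σ.1 r = r → R7 (g.1 r) = g.1 r := fun r hr => by
    obtain ⟨k, rfl⟩ := mem_zpowers_iff.1 hs
    rw [← hgs]
    simp only [Equiv.Perm.mul_apply, Equiv.Perm.coe_inv, Equiv.symm_apply_apply, SubgroupClass.coe_zpow]
    rw [Equiv.Perm.zpow_apply_eq_self_of_apply_eq_self hr k]
  set a := idx (g.1 p) with ha
  set b := idx (g.1 q) with hb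
  have hab : a ≠ b := fun h => hpq (g.1.injective (idx_injective h))
  have hlen := fixed_check.2 a (fixed_mem (hfix p hp)) b (fixed_mem (hfix q hq)) hab
  have hmem : ∀ m : {m : ↥M24 // m * σ = σ * m ∧ ({p, q} : Finset GolayPt).image m.1 = {p, q}},
      ((g * m.1 * g⁻¹ : ↥M24) : Equiv.Perm GolayPt) ∈ ((keep a b).map permOf).toFinset := by
    rintro ⟨m, hm, himg⟩
    have hms : m.1 * s.1 = s.1 * m.1 := by
      obtain ⟨k, rfl⟩ := mem_zpowers_iff.1 hs
      exact congrArg Subtype.val ((show Commute m σ from hm).zpow_right k).eq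
    set c := ((g * m * g⁻¹ : ↥M24) : Equiv.Perm GolayPt) with hc
    have hce : c = g.1 * m.1 * g.1⁻¹ := rfl
    have hcR : c * R7 = R7 * c := by
      rw [hce, ← hgs]
      calc g.1 * m.1 * g.1⁻¹ * (g.1 * s.1 * g.1⁻¹) = g.1 * (m.1 * s.1) * g.1⁻¹ := by group
        _ = g.1 * (s.1 * m.1) * g.1⁻¹ := by rw [hms]
        _ = g.1 * s.1 * g.1⁻¹ * (g.1 * m.1 * g.1⁻¹) := by group
    obtain ⟨e, he, hec⟩ := norm7_upper (g * m * g⁻¹).2 le_rfl (by norm_num) (by rw [pow_one]; exact hcR)
    have hcode : Code e.1 c := by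
      have h := code_permOf (eltOK_spec (allF_iff.1 norm7_facts.1 e he)).1
      rwa [hec] at h
    have hpt : ∀ r : GolayPt, r = p ∨ r = q → idx (c (g.1 r)) = a ∨ idx (c (g.1 r)) = b := by
      intro r hr
      have h1 : m.1 r ∈ ({p, q} : Finset GolayPt) := by
        rw [← himg]
        exact Finset.mem_image_of_mem _ (by simpa using hr)
      have h2 : c (g.1 r) = g.1 (m.1 r) := by simp [hce]
      rw [h2]
      rcases Finset.mem_insert.1 h1 with h | h
      · exact Or.inl (by rw [h])
      · exact Or.inr (by rw [Finset.mem_singleton.1 h])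
    rw [List.mem_toFinset, List.mem_map]
    refine ⟨e, List.mem_filter.2 ⟨he, ?_⟩, hec⟩
    rw [Bool.and_eq_true, Bool.and_eq_true, Bool.or_eq_true, Bool.or_eq_true, Nat.beq_eq, Nat.beq_eq,
      Nat.beq_eq, Nat.beq_eq, ha, hb, hcode (g.1 p), hcode (g.1 q)]
    exact ⟨(sameF_iff (hcode.cmp code_R7) (code_R7.cmp hcode)).2 hcR, hpt p (Or.inl rfl), hpt q (Or.inr rfl)⟩
  have hinj : Function.Injective fun m => (⟨_, hmem m⟩ : ↥((keep a b).map permOf).toFinset) := by
    intro x y h
    have h1 := congrArg Subtype.val h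
    exact Subtype.ext (mul_left_cancel (mul_right_cancel (Subtype.ext h1 : g * x.1 * g⁻¹ = g * y.1 * g⁻¹)))
  refine (Nat.card_le_card_of_injective _ hinj).trans ?_
  rw [Nat.card_eq_fintype_card, Fintype.card_coe]
  exact ((List.toFinset_card_le _).trans (by rw [List.length_map])).trans hlen

/-- An element of order seven fixes at most three points. -/
theorem card_fixed {σ : ↥M24} (hσ : orderOf σ = 7) {F : Finset GolayPt} (hF : ∀ p ∈ F, σ.1 p = p) :
    F.card ≤ 3 := by
  haveI : Fact (Nat.Prime 7) := ⟨by norm_num⟩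
  obtain ⟨g, s, hs, -, hgs⟩ := exists_conj_seven (S := zpowers σ) (by rw [Nat.card_zpowers, hσ])
  have hsub : F.image (fun p => idx (g.1 p)) ⊆ ([6, 14, 18] : List ℕ).toFinset := by
    refine Finset.image_subset_iff.2 fun p hp => List.mem_toFinset.2 (fixed_mem ?_)
    obtain ⟨k, rfl⟩ := mem_zpowers_iff.1 hs
    rw [← hgs]
    simp only [Equiv.Perm.mul_apply, Equiv.Perm.coe_inv, Equiv.symm_apply_apply, SubgroupClass.coe_zpow]
    rw [Equiv.Perm.zpow_apply_eq_self_of_apply_eq_self (hF p hp) k]
  have hi : Function.Injective fun p => idx (g.1 p) := fun a b h => g.1.injective (idx_injective h)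
  have h := Finset.card_le_card hsub
  rw [Finset.card_image_of_injective _ hi] at h
  exact h.trans (List.toFinset_card_le _)

variable {G : Type*} [Group G] [Finite G] {z : G} {V : Subgroup G}

/-- The elements of the subgroup centralising an element of order seven of the normaliser. -/
theorem fixed_in_V (D : BigPack z V) {n : ↥(normalizer (V : Set G))} (h7 : orderOf (D.phi n) = 7)
    {v : G} (hv : v ∈ V) (hc : (n : G) * v = v * (n : G)) (h1 : v ≠ 1) :
    ∃ p q : GolayPt, p ≠ q ∧ (D.phi n).1 p = p ∧ (D.phi n).1 q = q ∧ v = D.eS {p, q} := by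
  classical
  haveI : Fact (Nat.Prime 7) := ⟨by norm_num⟩
  set σ := (D.phi n).1 with hσ
  have hσ7 : σ ^ 7 = 1 := by
    rw [hσ, ← SubmonoidClass.coe_pow, ← h7, pow_orderOf_eq_one]; rfl
  -- a set invariant under the element consists of fixed points, having fewer than seven points
  have hfixpts : ∀ T : Finset GolayPt, T.card < 7 → T.image σ = T → ∀ p ∈ T, σ p = p := by
    intro T hT hT' p hp
    by_contra hne
    have hinv : ∀ k : ℕ, (σ ^ k) p ∈ T := by
      intro k
      induction k with
      | zero => simpa using hp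
      | succ k ih =>
        rw [pow_succ', Equiv.Perm.mul_apply, ← hT']
        exact Finset.mem_image_of_mem _ ih
    have hper : Function.minimalPeriod σ p = 7 := by
      refine Function.minimalPeriod_eq_prime ?_ fun h => hne h
      show (σ^[7]) p = p
      rw [Equiv.Perm.iterate_eq_pow, hσ7]; rfl
    have hinj : Set.InjOn (fun k : ℕ => (σ ^ k) p) (Finset.range 7 : Set ℕ) := by
      intro i hi j hj hij
      simp only [Finset.coe_range, Set.mem_Iio] at hi hj
      have := Function.iterate_injOn_Iio_minimalPeriod (f := σ) (x := p)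
        (by rw [Set.mem_Iio, hper]; exact hi) (by rw [Set.mem_Iio, hper]; exact hj)
      exact this (by simpa only [Equiv.Perm.iterate_eq_pow] using hij)
    have h := Finset.card_le_card (s := (Finset.range 7).image fun k => (σ ^ k) p) (t := T)
      (Finset.image_subset_iff.2 fun k _ => hinv k)
    rw [Finset.card_image_of_injOn hinj, Finset.card_range] at h
    omega
  obtain ⟨T, hT, hT4, rfl⟩ := D.eS_surj v hv
  have hstep : ∀ k : ℕ, D.eS (T.image ⇑(σ ^ k)) = D.eS T := by
    intro k
    have h := D.eS_equiv (n ^ k) T hT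
    rw [map_pow, SubmonoidClass.coe_pow, SubmonoidClass.coe_pow] at h
    rw [← h, ((show Commute (n : G) (D.eS T) from hc).pow_left k).eq, mul_inv_cancel_right]
  have hcard : ∀ k : ℕ, (T.image ⇑(σ ^ k)).card = T.card := fun k =>
    Finset.card_image_of_injective _ (σ ^ k).injective
  have heq : ∀ i j : ℕ, T.image ⇑(σ ^ i) ≠ T.image ⇑(σ ^ j) →
      T.card = 4 ∧ Disjoint (T.image ⇑(σ ^ i)) (T.image ⇑(σ ^ j)) := by
    intro i j hij
    have hc' := TwoCent.card_symm (T.image ⇑(σ ^ i)) (T.image ⇑(σ ^ j))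
    rw [hcard, hcard] at hc'
    have h8 : ¬ ((T.image ⇑(σ ^ i)) ∆ (T.image ⇑(σ ^ j))).card ≤ 6 := fun h =>
      hij (D.cocode.kap_inj (by rw [hcard]; exact hT) (by rw [hcard]; exact hT) h
        ((hstep i).trans (hstep j).symm))
    exact ⟨by omega, Finset.disjoint_iff_inter_eq_empty.2 (Finset.card_eq_zero.1 (by omega))⟩
  have hinvT : T.image σ = T := by
    by_contra hne
    -- then seven disjoint sets of four points
    have hpair : ∀ i < 7, ∀ j < 7, i < j → T.image ⇑(σ ^ i) ≠ T.image ⇑(σ ^ j) := by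
      intro i hi j hj hij h
      apply hne
      have hd : T.image ⇑(σ ^ (j - i)) = T := by
        refine Finset.image_injective (σ ^ i).injective ?_
        rw [Finset.image_image, ← Equiv.Perm.coe_mul, ← pow_add, show i + (j - i) = j by omega, h]
      obtain ⟨m, -, hm⟩ := Nat.exists_mul_mod_eq_one_of_coprime (k := 7) (n := j - i)
        (((Nat.Prime.coprime_iff_not_dvd (by norm_num)).2
          (Nat.not_dvd_of_pos_of_lt (by omega) (by omega))).symm) (by norm_num)
      have hall : ∀ l : ℕ, T.image ⇑(σ ^ ((j - i) * l)) = T := by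
        intro l
        induction l with
        | zero => simp
        | succ l ih =>
          rw [mul_add, mul_one, pow_add, Equiv.Perm.coe_mul, ← Finset.image_image, hd, ih]
      have := hall m
      rwa [pow_eq_pow_mod _ hσ7, hm, pow_one] at this
    have hdis : Set.PairwiseDisjoint (Finset.range 7 : Set ℕ) fun i => T.image ⇑(σ ^ i) := by
      intro i hi j hj hij
      simp only [Finset.coe_range, Set.mem_Iio] at hi hj
      rcases Nat.lt_or_gt_of_ne hij with h | h
      · exact (heq i j (hpair i hi j hj h)).2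
      · exact ((heq j i (hpair j hj i hi h)).2).symm
    have h4 := (heq 0 1 (hpair 0 (by norm_num) 1 (by norm_num) (by norm_num))).1
    have h := Finset.card_le_univ ((Finset.range 7).biUnion fun i => T.image ⇑(σ ^ i))
    rw [Finset.card_biUnion hdis, Finset.sum_congr rfl (fun i _ => hcard i), h4,
      show Fintype.card GolayPt = 24 from rfl] at h
    simp at h
  have hfix := hfixpts T (by omega) hinvT
  -- at most three fixed points
  have h3 : T.card ≤ 3 := card_fixed h7 hfix
  rw [Nat.even_iff] at hT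
  rcases (show T.card = 0 ∨ T.card = 2 by omega) with h | h
  · rw [Finset.card_eq_zero.1 h, show D.eS ∅ = 1 from D.cocode.kap_empty] at h1
    exact absurd rfl h1
  · obtain ⟨p, q, hpq, rfl⟩ := Finset.card_eq_two.1 h
    exact ⟨p, q, hpq, hfix p (by simp), hfix q (by simp), rfl⟩

end SevenDuad

variable {G : Type*} [Group G] [Finite G] {z : G} {V : Subgroup G}

/-- The common centraliser of an involution of the second class and an element of order seven. -/
theorem cent_duad_seven (D : BigPack z V) {t s : G} (ht : t ∈ V) (ht1 : t ≠ 1) (htn : ¬ IsConj z t)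
    (hs : orderOf s = 7) (hst : s * t = t * s) :
    Nat.card ↥(centralizer ({t} : Set G) ⊓ centralizer ({s} : Set G) : Subgroup G) ∣ 56 := by
  classical
  haveI : Fact (Nat.Prime 7) := ⟨by norm_num⟩
  obtain ⟨d, hd, rfl⟩ : ∃ d : Finset GolayPt, d.card = 2 ∧ D.eS d = t := D.cocode.exists_duad ht ht1 htn
  have hle := D.centralizer_duad_le hd
  set n : ↥(normalizer (V : Set G)) := ⟨s, hle (mem_centralizer_singleton_iff.2 hst)⟩ with hn
  have h7 : orderOf (D.phi n) = 7 := by
    refine orderOf_eq_prime ?_ fun h => ?_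
    · rw [← map_pow, show n ^ 7 = 1 from Subtype.ext
        (show s ^ 7 = 1 by rw [← hs, pow_orderOf_eq_one]), map_one]
    · have hV : s ∈ V := mem_subgroupOf.1 (D.phi_ker ▸ MonoidHom.mem_ker.2 h : n ∈ V.subgroupOf _)
      have h2 := orderOf_dvd_of_pow_eq_one (x := s) (n := 2) (by rw [pow_two]; exact D.sq s hV)
      rw [hs] at h2
      exact absurd (Nat.le_of_dvd (by norm_num) h2) (by norm_num)
  obtain ⟨p, q, hpq, hp, hq, hdpq⟩ := SevenDuad.fixed_in_V D h7 ht hst ht1
  obtain rfl : d = {p, q} := by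
    refine D.cocode.kap_inj (by rw [hd]; decide) (by rw [Finset.card_pair hpq]; decide) ?_ hdpq
    have := TwoCent.card_symm d {p, q}
    rw [hd, Finset.card_pair hpq] at this
    omega
  set L := centralizer ({D.eS ({p, q} : Finset GolayPt)} : Set G) ⊓ centralizer ({s} : Set G) with hL
  have hLN : L ≤ normalizer (V : Set G) := inf_le_left.trans hle
  set ψ : ↥L →* ↥M24 := D.phi.comp (Subgroup.inclusion hLN) with hψ
  have hker4 : Nat.card ↥ψ.ker ≤ 4 := by
    set F : Finset GolayPt := Finset.univ.filter fun r => (D.phi n).1 r = r with hF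
    have hF3 : F.card ≤ 3 := SevenDuad.card_fixed h7 fun r hr => (Finset.mem_filter.1 hr).2
    set W : Finset G := insert 1 ((Finset.powersetCard 2 F).image D.eS) with hW
    have hmem : ∀ k : ↥ψ.ker, ((k : ↥L) : G) ∈ W := by
      rintro ⟨⟨k, hk⟩, hkk⟩
      have hkV : k ∈ V := by
        have h1 : (Subgroup.inclusion hLN ⟨k, hk⟩) ∈ D.phi.ker := hkk
        rw [D.phi_ker, mem_subgroupOf] at h1
        exact h1
      rw [hW, Finset.mem_insert]
      by_cases h1 : k = 1
      · exact Or.inl h1
      · obtain ⟨a, b, hab, ha, hb, rfl⟩ := SevenDuad.fixed_in_V D h7 hkV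
          (show s * k = k * s from (mem_centralizer_singleton_iff.1 (mem_inf.1 hk).2).symm) h1
        exact Or.inr (Finset.mem_image_of_mem _ (Finset.mem_powersetCard.2
          ⟨by simp [Finset.insert_subset_iff, hF, ha, hb], Finset.card_pair hab⟩))
    have hW4 : W.card ≤ 4 := by
      refine (Finset.card_insert_le _ _).trans (Nat.succ_le_succ (Finset.card_image_le.trans ?_))
      rw [Finset.card_powersetCard]
      exact (Nat.choose_le_choose 2 hF3).trans (by decide)
    refine (Nat.card_le_card_of_injective (fun k => (⟨_, hmem k⟩ : ↥W))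
      fun a b h => Subtype.ext (Subtype.ext (congrArg Subtype.val h :))).trans ?_
    rw [Nat.card_eq_fintype_card, Fintype.card_coe]
    exact hW4
  have hker : Nat.card ↥ψ.ker ∣ 4 := by
    have hkV : ψ.ker.map L.subtype ≤ V := by
      rintro _ ⟨k, hk, rfl⟩
      have h1 : (Subgroup.inclusion hLN k) ∈ D.phi.ker := hk
      rw [D.phi_ker, mem_subgroupOf] at h1
      exact h1
    have h1 : Nat.card ↥ψ.ker ∣ 2048 := by
      rw [← D.card, ← card_map_of_injective L.subtype_injective]
      exact card_dvd_of_le hkV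
    rw [show (2048 : ℕ) = 2 ^ 11 from rfl] at h1
    obtain ⟨i, -, hi⟩ := (Nat.dvd_prime_pow Nat.prime_two).1 h1
    rw [hi] at hker4 ⊢
    rw [show (4 : ℕ) = 2 ^ 2 from rfl] at hker4 ⊢
    exact pow_dvd_pow 2 ((Nat.pow_le_pow_iff_right (by norm_num)).1 hker4)
  set σ := D.phi n with hσ
  set H : Subgroup ↥M24 := centralizer ({σ} : Set ↥M24) ⊓ MulAction.stabilizer ↥M24 ({p, q} : Finset GolayPt)
    with hH
  have hHle : Nat.card ↥H ≤ 14 := by
    refine le_trans ?_ (SevenDuad.card_cent_pair h7 hpq hp hq)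
    refine Nat.card_le_card_of_injective (fun m => ⟨m.1, mem_centralizer_singleton_iff.1 (mem_inf.1 m.2).1, ?_⟩)
      (fun a b h => Subtype.ext (congrArg Subtype.val h :))
    exact (TwoCent.smul_finset_eq_image _ _).symm.trans (mem_inf.1 m.2).2
  have hH7 : 7 ∣ Nat.card ↥H := by
    rw [← h7, ← Nat.card_zpowers]
    refine card_dvd_of_le (zpowers_le.2 (mem_inf.2 ⟨mem_centralizer_singleton_iff.2 rfl, ?_⟩))
    show σ • ({p, q} : Finset GolayPt) = {p, q}
    rw [TwoCent.smul_finset_eq_image, Finset.image_insert, Finset.image_singleton, hp, hq]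
  have hH14 : Nat.card ↥H ∣ 14 := by
    obtain ⟨c, hc⟩ := hH7
    have hpos := Nat.card_pos (α := ↥H)
    have : c = 1 ∨ c = 2 := by omega
    rcases this with rfl | rfl <;> rw [hc]
    norm_num
  have hrange : Nat.card ↥ψ.range ∣ 14 := by
    refine (card_dvd_of_le (K := H) ?_).trans hH14
    rintro _ ⟨k, rfl⟩
    refine mem_inf.2 ⟨mem_centralizer_singleton_iff.2 ?_, ?_⟩
    · rw [hψ, MonoidHom.comp_apply, hσ, ← map_mul, ← map_mul]
      exact congrArg D.phi (Subtype.ext (mem_centralizer_singleton_iff.1 (mem_inf.1 k.2).2))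
    · show ψ k • ({p, q} : Finset GolayPt) = {p, q}
      rw [TwoCent.smul_finset_eq_image]
      exact D.cocode.image_duad (n := Subgroup.inclusion hLN k) hd
        (mem_centralizer_singleton_iff.1 (mem_inf.1 k.2).1)
  have h := Subgroup.card_eq_card_quotient_mul_card_subgroup ψ.ker
  rw [Nat.card_congr (QuotientGroup.quotientKerEquivRange ψ).toEquiv] at h
  rw [h, show (56 : ℕ) = 14 * 4 from rfl]
  exact Nat.mul_dvd_mul hrange hker

end Cfsg.Agent.JankoFour
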