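import Cfsg.Agent.Lib.JankoFour.TrioSpecial
import Cfsg.Agent.Lib.JankoFour.SevenCent
import Cfsg.Agent.Lib.JankoFour.SevenDuad

/-!
The centraliser of an element of order seven: the direct product with a symmetric group of degree five.
-/

set_option autoImplicit false
set_option linter.unusedSectionVars false
set_option maxRecDepth 20000

namespace Cfsg.Agent.JankoFour

open Subgroup
open Cfsg.Agent.LargeFischer (QG)

/-- Two involutions are conjugate or centralise a common involution of the group they generate. -/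
theorem invol_between {G : Type*} [Group G] [Finite G] {H : Subgroup G} {a b : G} (haH : a ∈ H) (hbH : b ∈ H)
    (ha : a * a = 1) (hb : b * b = 1) :
    IsConj b a ∨ ∃ w ∈ H, w * w = 1 ∧ w ≠ 1 ∧ w * a = a * w ∧ b * w = w * b := by
  set r := a * b with hr
  have hai : a⁻¹ = a := inv_eq_of_mul_eq_one_right ha
  have hbi : b⁻¹ = b := inv_eq_of_mul_eq_one_right hb
  have h : (a * b)⁻¹ = b * a := by rw [_root_.mul_inv_rev, hai, hbi]
  have har : a * r * a⁻¹ = r⁻¹ := by rw [hr, h, hai, ← mul_assoc, ha, one_mul]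
  have hbr : b * r * b⁻¹ = r⁻¹ := by rw [hr, h, hbi, mul_assoc, mul_assoc, hb, mul_one]
  rcases Nat.even_or_odd (orderOf r) with ⟨j, hj⟩ | ⟨j, hj⟩
  · set w := r ^ j with hw
    have hw2 : w * w = 1 := by rw [hw, ← pow_add, ← hj, pow_orderOf_eq_one]
    have hw1 : w ≠ 1 := fun h => by
      have h1 := orderOf_dvd_of_pow_eq_one h
      have hpos := orderOf_pos r
      rw [hj] at h1 hpos
      rcases j with _ | j
      · omega
      · have := Nat.le_of_dvd (by omega) h1
        omega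
    have hwi : w⁻¹ = w := inv_eq_of_mul_eq_one_right hw2
    refine Or.inr ⟨w, pow_mem (mul_mem haH hbH) j, hw2, hw1, ?_, ?_⟩
    · have h : a * w * a⁻¹ = w := by rw [hw, ← conj_pow, har, inv_pow, ← hw, hwi]
      exact (mul_inv_eq_iff_eq_mul.1 h).symm
    · have h : b * w * b⁻¹ = w := by rw [hw, ← conj_pow, hbr, inv_pow, ← hw, hwi]
      exact mul_inv_eq_iff_eq_mul.1 h
  · refine Or.inl (isConj_iff.2 ⟨r ^ (j + 1), ?_⟩)
    have hh : b * r ^ (j + 1) * b⁻¹ = (r ^ (j + 1))⁻¹ := by rw [← conj_pow, hbr, inv_pow]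
    have h1 : b * (r ^ (j + 1))⁻¹ = r ^ (j + 1) * b := by rw [← hh, ← mul_assoc, ← mul_assoc, hb, one_mul, hbi]
    calc r ^ (j + 1) * b * (r ^ (j + 1))⁻¹ = r ^ (j + 1) * (r ^ (j + 1) * b) := by rw [mul_assoc, h1]
      _ = r ^ (2 * j + 1) * r * b := by rw [← mul_assoc, ← pow_add, ← pow_succ]; ring_nf
      _ = a := by rw [← hj, pow_orderOf_eq_one, one_mul, hr, mul_assoc, hb, mul_one]

namespace Trio

/-- The transposition. -/
def tPerm : Equiv.Perm (Fin 5) := Equiv.swap 0 1

/-- The double transposition. -/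
def dPerm : Equiv.Perm (Fin 5) := Equiv.swap 0 1 * Equiv.swap 2 3

theorem perm5_invol : ∀ x : Equiv.Perm (Fin 5), x * x = 1 → x ≠ 1 →
    ∃ k : Equiv.Perm (Fin 5), k * x * k⁻¹ = tPerm ∨ k * x * k⁻¹ = dPerm := by
  decide +kernel

theorem perm5_cents : Fintype.card {k : Equiv.Perm (Fin 5) // k * tPerm = tPerm * k} = 12 ∧
    Fintype.card {k : Equiv.Perm (Fin 5) // k * dPerm = dPerm * k} = 8 ∧ tPerm * tPerm = 1 ∧ tPerm ≠ 1 ∧
    dPerm * dPerm = 1 ∧ dPerm ≠ 1 := by
  decide +kernel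

end Trio

namespace Model.Five

variable {G : Type*} [Group G] [Finite G] {z : G} {P : Subgroup G} {M : Model z P} (F : M.Five)
  {B : BigData M} (Cc : BigCoords B)
  (hT : ∀ n < 2048, (Orb.tMask.testBit n = true ↔ n ≠ 0 ∧ ¬ IsConj z (Cc.el n)))
  (D : BigPack z B.V) (hinto : ∀ t : G, orderOf t = 2 → ∃ g : G, g * t * g⁻¹ ∈ B.V)
include F Cc hT D hinto

/-- The centraliser of a commuting pair of an involution and an element of order seven. -/
theorem pair_bound {t s : G} (ht : orderOf t = 2) (hs : orderOf s = 7) (hst : s * t = t * s) :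
    (IsConj z t → Nat.card ↥(centralizer ({t} : Set G) ⊓ centralizer ({s} : Set G) : Subgroup G) ≤ 84 ∧
      ¬ 8 ∣ Nat.card ↥(centralizer ({t} : Set G) ⊓ centralizer ({s} : Set G) : Subgroup G)) ∧
    (¬ IsConj z t → Nat.card ↥(centralizer ({t} : Set G) ⊓ centralizer ({s} : Set G) : Subgroup G) ∣ 56) := by
  classical
  have hmove : ∀ g : G, Nat.card ↥(centralizer ({t} : Set G) ⊓ centralizer ({s} : Set G) : Subgroup G) =
      Nat.card ↥(centralizer ({g * t * g⁻¹} : Set G) ⊓ centralizer ({g * s * g⁻¹} : Set G) : Subgroup G) := fun g => by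
    refine Nat.card_congr ((MulAut.conj g).toEquiv.subtypeEquiv fun a => ?_)
    show a ∈ centralizer ({t} : Set G) ⊓ centralizer ({s} : Set G) ↔ g * a * g⁻¹ ∈ _
    simp only [mem_inf, mem_centralizer_singleton_iff]
    refine and_congr ?_ ?_ <;> constructor <;> intro h
    · calc g * a * g⁻¹ * (g * t * g⁻¹) = g * (a * t) * g⁻¹ := by group
        _ = _ := by rw [h]; group
    · calc a * t = g⁻¹ * (g * a * g⁻¹ * (g * t * g⁻¹)) * g := by group
        _ = _ := by rw [h]; group
    · calc g * a * g⁻¹ * (g * s * g⁻¹) = g * (a * s) * g⁻¹ := by group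
        _ = _ := by rw [h]; group
    · calc a * s = g⁻¹ * (g * a * g⁻¹ * (g * s * g⁻¹)) * g := by group
        _ = _ := by rw [h]; group
  have hcomm : ∀ g : G, (g * s * g⁻¹) * (g * t * g⁻¹) = (g * t * g⁻¹) * (g * s * g⁻¹) := fun g => by
    calc g * s * g⁻¹ * (g * t * g⁻¹) = g * (s * t) * g⁻¹ := by group
      _ = _ := by rw [hst]; group
  have hord : ∀ g : G, orderOf (g * s * g⁻¹) = 7 := fun g => ((MulAut.conj g).orderOf_eq s).trans hs
  refine ⟨fun hz => ?_, fun hz => ?_⟩
  · obtain ⟨g, hg⟩ := isConj_iff.1 hz.symm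
    rw [hmove g]
    have hc := hcomm g
    have hd := hord g
    generalize g * s * g⁻¹ = s' at hc hd
    rw [hg] at hc ⊢
    have hsH : s' ∈ centralizer ({z} : Set G) := mem_centralizer_singleton_iff.2 hc
    set d : ↥(centralizer ({z} : Set G)) := ⟨s', hsH⟩ with hdd
    have hdo : orderOf d = 7 := by rw [← Subgroup.orderOf_coe]; exact hd
    obtain ⟨c, -, hco, hca⟩ := M.exists_seven
    obtain ⟨y, hy⟩ := M.exists_conj_seven hco hdo
    have e1 : Nat.card ↥(centralizer ({z} : Set G) ⊓ centralizer ({s'} : Set G) : Subgroup G) =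
        Nat.card ↥(centralizer ({d} : Set ↥(centralizer ({z} : Set G)))) := by
      refine Nat.card_congr
        { toFun := fun a => ⟨⟨a.1, (mem_inf.1 a.2).1⟩, mem_centralizer_singleton_iff.2
            (Subtype.ext (mem_centralizer_singleton_iff.1 (mem_inf.1 a.2).2))⟩
          invFun := fun a => ⟨a.1.1, mem_inf.2 ⟨a.1.2, mem_centralizer_singleton_iff.2
            (congrArg Subtype.val (mem_centralizer_singleton_iff.1 a.2) :)⟩⟩
          left_inv := fun _ => rfl
          right_inv := fun _ => rfl }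
    have e2 : Nat.card ↥(centralizer ({d} : Set ↥(centralizer ({z} : Set G)))) =
        Nat.card ↥(centralizer ({c} : Set ↥(centralizer ({z} : Set G)))) := by
      refine Nat.card_congr ((MulAut.conj y).toEquiv.subtypeEquiv fun a => ?_)
      show a ∈ _ ↔ y * a * y⁻¹ ∈ _
      have h1 : y * d * y⁻¹ ∈ zpowers c := hy ▸ ⟨d, mem_zpowers d, rfl⟩
      have h2 : c ∈ zpowers (y * d * y⁻¹) := by
        obtain ⟨v, hv, e⟩ := (hy.ge (mem_zpowers c) : c ∈ (zpowers d).map (MulAut.conj y).toMonoidHom)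
        obtain ⟨i, rfl⟩ := mem_zpowers_iff.1 hv
        exact ⟨i, by show (y * d * y⁻¹) ^ i = c; rw [conj_zpow, ← e]; rfl⟩
      have hmono : ∀ {u v b : ↥(centralizer ({z} : Set G))}, u ∈ zpowers v → b * v = v * b → b * u = u * b := by
        intro u v b hu h
        obtain ⟨i, rfl⟩ := mem_zpowers_iff.1 hu
        exact ((show Commute b v from h).zpow_right i).eq
      simp only [mem_centralizer_singleton_iff]
      constructor <;> intro h
      · refine hmono h2 ?_
        calc y * a * y⁻¹ * (y * d * y⁻¹) = y * (a * d) * y⁻¹ := by group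
          _ = _ := by rw [h]; group
      · have h' := hmono h1 h
        calc a * d = y⁻¹ * (y * a * y⁻¹ * (y * d * y⁻¹)) * y := by group
          _ = _ := by rw [h']; group
    rw [e1, e2]
    exact M.cent_seven hca
  · obtain ⟨g, hg⟩ := hinto t ht
    rw [hmove g]
    refine cent_duad_seven D hg ?_ ?_ (hord g) (hcomm g)
    · intro h
      rw [conj_eq_one_iff] at h
      rw [h, orderOf_one] at ht
      norm_num at ht
    · exact fun h => hz (h.trans (isConj_iff.2 ⟨g⁻¹, by group⟩))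

/-- An element of order seven normalising the group of order eight, and the symmetric group centralising it. -/
theorem exists_sym : ∃ (s : G) (I : Subgroup G), orderOf s = 7 ∧ s ∈ normalizer (M.eG : Set G) ∧
    s ∉ centralizer (M.eG : Set G) ∧
    I ≤ centralizer (M.eG : Set G) ∧ (∀ i ∈ I, s * i = i * s) ∧ zpowers s ⊓ I = ⊥ ∧
    Nonempty (↥I ≃* Equiv.Perm (Fin 5)) := by
  classical
  haveI : Fact (Nat.Prime 7) := ⟨by norm_num⟩
  haveI : Fact (Nat.Prime 2) := ⟨Nat.prime_two⟩
  obtain ⟨φ, θ, hφ, hk, hθ, hker, hπ, hθ2⟩ := F.exists_theta Cc hT D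
  obtain ⟨⟨s, hsK⟩, hs⟩ := exists_prime_orderOf_dvd_card' (G := ↥F.K) 7 (by rw [F.card_K Cc hT D]; norm_num)
  rw [Subgroup.orderOf_mk] at hs
  have hsN := F.K_le Cc hT D hsK
  have hsC : s ∉ centralizer (M.eG : Set G) := fun h => by
    have := Subgroup.orderOf_dvd_natCard _ h
    rw [hs, M.card_centralizer_eG] at this
    norm_num at this
  set sN : ↥(normalizer (M.eG : Set G)) := ⟨s, hsN⟩
  have hπ1 : (θ sN).1 = 1 := by
    have h7 : (θ sN).1 ^ 7 = 1 := by
      rw [← Prod.pow_fst, ← map_pow, show sN ^ 7 = 1 from Subtype.ext (by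
        rw [SubmonoidClass.coe_pow, show ((sN : G)) = s from rfl, ← hs, pow_orderOf_eq_one]; rfl), map_one, Prod.fst_one]
    have h1 := orderOf_dvd_of_pow_eq_one h7
    have h2 := orderOf_dvd_natCard (θ sN).1
    rw [Nat.card_perm, Nat.card_fin] at h2
    exact orderOf_eq_one_iff.1 (Nat.eq_one_of_dvd_one (by
      have := Nat.dvd_gcd h1 h2
      rwa [show Nat.gcd 7 (Nat.factorial 5) = 1 by decide] at this))
  let Cg := centralizer (M.eG : Set G)
  have hsfix : ∀ c : ↥Cg, φ ⟨s * c * s⁻¹, M.conj_mem_centralizer hsN c.2⟩ = φ c := fun c => by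
    rw [hπ sN c, hπ1, one_mul, inv_one, mul_one]
  set I := Cg ⊓ centralizer ({s} : Set G) with hI
  have hsurj : ∀ σ, ∃ c : ↥Cg, φ c = σ ∧ s * c = c * s := by
    intro σ
    obtain ⟨c, rfl⟩ := hφ σ
    let X := {d : ↥Cg // φ d = φ c}
    let Z := zpowers sN
    letI : MulAction ↥Z X :=
      { smul := fun g d => ⟨⟨(g.1 : G) * d.1 * (g.1 : G)⁻¹, M.conj_mem_centralizer g.1.2 d.1.2⟩, by
          have h1 : (θ g.1).1 = 1 := by
            obtain ⟨i, hi⟩ := mem_zpowers_iff.1 g.2
            rw [← hi, map_zpow, Prod.pow_fst, hπ1, one_zpow]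
          rw [hπ g.1 d.1, h1, one_mul, inv_one, mul_one, d.2]⟩
        one_smul := fun d => Subtype.ext (Subtype.ext (by
          show ((1 : ↥Z).1 : G) * d.1 * ((1 : ↥Z).1 : G)⁻¹ = d.1
          simp))
        mul_smul := fun g k d => Subtype.ext (Subtype.ext (by
          show (((g * k : ↥Z)).1 : G) * d.1 * (((g * k : ↥Z)).1 : G)⁻¹ =
            (g.1 : G) * ((k.1 : G) * d.1 * (k.1 : G)⁻¹) * (g.1 : G)⁻¹
          rw [Subgroup.coe_mul, Subgroup.coe_mul]
          group)) }
    have hp : IsPGroup 7 ↥Z := IsPGroup.of_card (n := 1) (by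
      rw [Nat.card_zpowers, pow_one, ← Subgroup.orderOf_coe]; exact hs)
    have hX : Nat.card X = 2 ^ 15 := by
      rw [← M.card_lG]
      refine Nat.card_congr
        { toFun := fun d => ⟨((c⁻¹ * d.1 : ↥Cg) : G), (hk _).1 (by rw [map_mul, map_inv, d.2, inv_mul_cancel])⟩
          invFun := fun l => ⟨c * ⟨l.1, M.lG_le l.2⟩, by rw [map_mul, (hk ⟨l.1, M.lG_le l.2⟩).2 l.2, mul_one]⟩
          left_inv := fun d => Subtype.ext (Subtype.ext (by simp))
          right_inv := fun l => Subtype.ext (by simp) }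
    obtain ⟨d, hd⟩ := hp.nonempty_fixed_point_of_prime_not_dvd_card X (by rw [hX]; norm_num)
    refine ⟨d.1, d.2, ?_⟩
    have := congrArg (fun t : X => (t.1 : G)) (hd ⟨sN, mem_zpowers sN⟩)
    exact mul_inv_eq_iff_eq_mul.1 this
  let ψ : ↥I →* Equiv.Perm (Fin 5) := φ.comp (Subgroup.inclusion inf_le_left)
  have hψs : Function.Surjective ψ := fun σ => by
    obtain ⟨c, h1, h2⟩ := hsurj σ
    exact ⟨⟨c, mem_inf.2 ⟨c.2, mem_centralizer_singleton_iff.2 h2.symm⟩⟩, h1⟩
  have hψk : ψ.ker = ⊥ := by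
    by_contra hne
    have hle : Nat.card ↥ψ.ker ∣ 2 ^ 15 := by
      rw [← M.card_lG]
      have hm : ψ.ker.map I.subtype ≤ M.lG := by
        rintro _ ⟨x, hx, rfl⟩
        exact (hk _).1 hx
      rw [← card_map_of_injective I.subtype_injective]
      exact card_dvd_of_le hm
    obtain ⟨m, -, hm⟩ := (Nat.dvd_prime_pow Nat.prime_two).1 hle
    rcases m with _ | m
    · exact hne (Subgroup.card_eq_one.1 (by rw [hm, pow_zero]))
    have hcard : Nat.card ↥I = 120 * Nat.card ↥ψ.ker := by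
      rw [Subgroup.card_eq_card_quotient_mul_card_subgroup ψ.ker,
        Nat.card_congr (QuotientGroup.quotientKerEquivOfSurjective ψ hψs).toEquiv, Nat.card_perm, Nat.card_fin]
      rfl
    obtain ⟨R, hR⟩ := Sylow.exists_subgroup_card_pow_prime 2 (n := 4)
      (show 2 ^ 4 ∣ Nat.card ↥I by rw [hcard, hm, pow_succ 2 m]; exact ⟨15 * 2 ^ m, by ring⟩)
    haveI : Nontrivial ↥R := Finite.one_lt_card_iff_nontrivial.1 (by rw [hR]; norm_num)
    have hR2 : IsPGroup 2 ↥R := IsPGroup.of_card (n := 4) hR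
    haveI := hR2.center_nontrivial
    have hd : 2 ∣ Nat.card ↥(Subgroup.center ↥R) := by
      obtain ⟨k, hk'⟩ := IsPGroup.iff_card.1 (hR2.to_subgroup (Subgroup.center ↥R))
      rcases k with _ | k
      · have := Finite.one_lt_card (α := ↥(Subgroup.center ↥R))
        omega
      · rw [hk', pow_succ]; exact dvd_mul_left 2 _
    obtain ⟨u, hu⟩ := exists_prime_orderOf_dvd_card' 2 hd
    set u0 : G := (((u : ↥R) : ↥I) : G)
    have hu0 : orderOf u0 = 2 := by
      rw [← hu]
      exact (Subgroup.orderOf_coe _).trans ((Subgroup.orderOf_coe _).trans (Subgroup.orderOf_coe _))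
    have hus : s * u0 = u0 * s := (mem_centralizer_singleton_iff.1 (mem_inf.1 ((u : ↥R) : ↥I).2).2).symm
    have hle' : (R.map I.subtype) ≤ centralizer ({u0} : Set G) ⊓ centralizer ({s} : Set G) := by
      rintro _ ⟨r, hr, rfl⟩
      refine mem_inf.2 ⟨mem_centralizer_singleton_iff.2 ?_, (mem_inf.1 r.2).2⟩
      exact congrArg (fun t : ↥R => ((t : ↥I) : G)) (mem_center_iff.1 u.2 ⟨r, hr⟩)
    have h16 := card_dvd_of_le hle'
    rw [card_map_of_injective I.subtype_injective, hR] at h16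
    obtain ⟨hA, hB⟩ := F.pair_bound Cc hT D hinto hu0 hs hus
    by_cases hz : IsConj z u0
    · exact (hA hz).2 ((show 8 ∣ 2 ^ 4 by norm_num).trans h16)
    · have := h16.trans (hB hz)
      norm_num at this
  refine ⟨s, I, hs, hsN, hsC, inf_le_left, fun i hi => (mem_centralizer_singleton_iff.1 (mem_inf.1 hi).2).symm, ?_,
    ⟨MulEquiv.ofBijective ψ ⟨(MonoidHom.ker_eq_bot_iff ψ).1 hψk, hψs⟩⟩⟩
  refine (Subgroup.eq_bot_iff_forall _).2 fun x hx => ?_
  obtain ⟨hx1, hx2⟩ := mem_inf.1 hx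
  have h1 := Subgroup.orderOf_dvd_natCard _ hx1
  have h2 := Subgroup.orderOf_dvd_natCard _ (mem_inf.1 hx2).1
  rw [Nat.card_zpowers, hs] at h1
  rw [M.card_centralizer_eG] at h2
  have := Nat.dvd_gcd h1 h2
  norm_num at this
  exact this

end Model.Five

end Cfsg.Agent.JankoFour
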