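import Cfsg.Agent.Lib.JankoFour.BigFusion
import Cfsg.Agent.Lib.JankoFour.ModelBasics
import Cfsg.Agent.Lib.JankoFour.SplitChecks
import Cfsg.Agent.Lib.Solvable.Gaschutz

/-!
Lifts in the normaliser of the subgroup of order three: a complement to the large abelian subgroup in the
Sylow 2-subgroup of the centraliser, as soon as the outer lift is an involution.
-/

set_option autoImplicit false
set_option linter.unusedSectionVars false
set_option linter.style.haveILetI false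

namespace Cfsg.Agent.JankoFour

open Subgroup
open Cfsg.Agent.LargeFischer (Ctx QG)
open Cfsg.Agent.J4Module (app)
open Cfsg.Agent.J4Module.Data
open Big Split

namespace Model

variable {G : Type*} [Group G] [Finite G] {z : G} {P : Subgroup G} (M : Model z P)

/-- An element normalises the subgroup of order three. -/
def InN (c : ↥(centralizer ({z} : Set G))) : Prop := (c : G) ∈ normalizer (P : Set G)

theorem InN.mul {c d : ↥(centralizer ({z} : Set G))} (hc : InN (P := P) c) (hd : InN (P := P) d) :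
    InN (P := P) (c * d) := mul_mem (s := normalizer (P : Set G)) hc hd

theorem InN.inv {c : ↥(centralizer ({z} : Set G))} (hc : InN (P := P) c) : InN (P := P) c⁻¹ :=
  inv_mem (s := (normalizer (P : Set G))) hc

theorem InN.of_cent {c : ↥(centralizer ({z} : Set G))} (hc : (c : G) ∈ centralizer (P : Set G)) :
    InN (P := P) c := centralizer_le_normalizer _ hc

theorem p_pow : (M.pElem : G) ^ 3 = 1 := by
  have : orderOf (M.pElem : G) = 3 := by
    rw [← Nat.card_zpowers]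
    exact (congrArg (fun K : Subgroup G => Nat.card ↥K) M.p_gen).trans M.card_P
  rw [← this, pow_orderOf_eq_one]

include M in
theorem P_inf_Q {a : G} (haP : a ∈ P) (haQ : a ∈ QG M.Q) : a = 1 := by
  have h3 : a ^ 3 = 1 := by
    have := congrArg Subtype.val (pow_card_eq_one' (x := (⟨a, haP⟩ : ↥P)))
    rw [M.card_P] at this
    simpa using this
  have h4 : a ^ 4 = 1 := by
    have hv : M.vec (⟨a, haQ⟩ * ⟨a, haQ⟩) = 0 := by rw [M.vec_mul, Nat.xor_self]
    rcases M.vec_eq_zero.1 hv with h | h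
    · have h' : a * a = 1 := h
      rw [show a ^ 4 = a * a * (a * a) by simp [pow_succ, mul_assoc], h', one_mul]
    · have h' : a * a = z := h
      rw [show a ^ 4 = a * a * (a * a) by simp [pow_succ, mul_assoc], h', M.ctx.xs.sq]
  calc a = a ^ 4 * (a ^ 3)⁻¹ := by group
    _ = 1 := by rw [h3, h4]; simp

theorem np_Q {c : ↥(centralizer ({z} : Set G))} (hQ : c ∈ M.Q) (hc : InN (P := P) c) :
    c = 1 ∨ c = M.toH M.zQ := by
  refine M.cent_Q hQ (mem_centralizer_iff.2 fun g hg => ?_)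
  haveI := M.normal
  have hgH : g ∈ centralizer ({z} : Set G) := by
    rw [← M.p_gen] at hg
    exact zpowers_le.2 M.pElem.2 hg
  set d : ↥(centralizer ({z} : Set G)) := ⟨g, hgH⟩ with hd
  have h1 : c * (d * c⁻¹ * d⁻¹) ∈ M.Q := mul_mem hQ (M.normal.conj_mem _ (inv_mem hQ) d)
  have h2 : (c : G) * g * (c : G)⁻¹ ∈ P := (Subgroup.mem_normalizer_iff.1 hc g).1 hg
  have h3 : ((c * (d * c⁻¹ * d⁻¹) : ↥(centralizer ({z} : Set G))) : G) ∈ P := by
    simpa [hd, mul_assoc] using mul_mem h2 (inv_mem hg)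
  have h4 := M.P_inf_Q h3 ((M.mem_Q_iff _).1 h1)
  have : (c : G) * g * (c : G)⁻¹ * g⁻¹ = 1 := by simpa [hd, mul_assoc] using h4
  rw [mul_inv_eq_one, mul_inv_eq_iff_eq_mul] at this
  exact this.symm

theorem lift_eqN {c d : ↥(centralizer ({z} : Set G))} {C : List ℕ} (hc : InN (P := P) c)
    (hd : InN (P := P) d) (hcC : M.Acts c C) (hdC : M.Acts d C) :
    d = c ∨ d = c * M.toH M.zQ := by
  rcases M.np_Q (M.inv_mul_mem hcC hdC) (hc.inv.mul hd) with h | h
  · exact Or.inl (inv_mul_eq_one.1 h).symm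
  · exact Or.inr (inv_mul_eq_iff_eq_mul.1 h)

theorem zz : M.toH M.zQ * M.toH M.zQ = 1 := Subtype.ext M.ctx.xs.sq

theorem z_ne : M.toH M.zQ ≠ 1 := fun e => M.ctx.xs.ne_one (congrArg Subtype.val e)

theorem z_conj (c : ↥(centralizer ({z} : Set G))) : c * M.toH M.zQ * c⁻¹ = M.toH M.zQ := by
  rw [M.z_fix, mul_inv_cancel_right]

theorem sq_lift_eqN {c d : ↥(centralizer ({z} : Set G))} {C : List ℕ} (hc : InN (P := P) c)
    (hd : InN (P := P) d) (hcC : M.Acts c C) (hdC : M.Acts d C) : d * d = c * c := by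
  rcases M.lift_eqN hc hd hcC hdC with rfl | rfl
  · rfl
  · rw [show c * M.toH M.zQ * (c * M.toH M.zQ) = c * (M.toH M.zQ * c) * M.toH M.zQ by group, ← M.z_fix c,
      show c * (c * M.toH M.zQ) * M.toH M.zQ = c * c * (M.toH M.zQ * M.toH M.zQ) by group, M.zz, mul_one]

theorem exists_liftN {C : List ℕ} (hC : C ∈ sylow) :
    ∃ c : ↥(centralizer ({z} : Set G)), InN (P := P) c ∧ M.Acts c C := by
  obtain ⟨c, hc⟩ := M.exists_elem C (Big.sylow_InL0 hC)
  obtain ⟨q, hq, n, hn, he⟩ := M.decomp c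
  refine ⟨⟨n, (mem_inf.1 hn).2⟩, (mem_inf.1 hn).1, M.acts_mul_Q hc ?_ (sylow_shape.2.2 C hC)⟩
  haveI := M.normal
  have hqH : q ∈ centralizer ({z} : Set G) := M.mem_H hq
  set q' : ↥(centralizer ({z} : Set G)) := ⟨q, hqH⟩ with hq'
  have hq'Q : q' ∈ M.Q := (M.mem_Q_iff q').2 hq
  have : c⁻¹ * ⟨n, (mem_inf.1 hn).2⟩ = c⁻¹ * q'⁻¹ * c⁻¹⁻¹ := by
    refine Subtype.ext ?_
    simp [hq', he, mul_assoc]
  rw [this]
  exact M.normal.conj_mem _ (inv_mem hq'Q) _

/-- A lift of a conjugate of an element of the hexad subgroup squares to one. -/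
theorem sq_one_of_conj {w : List ℕ} {X : List ℕ} {j : ℕ} (hw : ∀ k ∈ w, k < 4) (hj : j < 16)
    (he : mulC (wordC w) (bEl j) = mulC X (wordC w)) {x : ↥(centralizer ({z} : Set G))}
    (hx : InN (P := P) x) (hxX : M.Acts x X) : x * x = 1 := by
  obtain ⟨g, hg, hga⟩ := M.cent_elem _ (wordC_memK hw)
  obtain ⟨l, hl, hla⟩ := M.exists_lift_bP hj
  rw [M.sq_lift_eqN (((InN.of_cent hg).mul (InN.of_cent hl.1)).mul (InN.of_cent hg).inv) hx
      (M.acts_conj hga hla he) hxX, show g * l * g⁻¹ * (g * l * g⁻¹) = g * (l * l) * g⁻¹ by group, M.bP_sq hl,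
    mul_one, mul_inv_cancel]

/-- Chosen lifts of the three generators. -/
structure Gens where
  a : ↥(centralizer ({z} : Set G))
  b : ↥(centralizer ({z} : Set G))
  s : ↥(centralizer ({z} : Set G))
  a_N : InN (P := P) a
  b_N : InN (P := P) b
  s_N : InN (P := P) s
  a_acts : M.Acts a dA
  b_acts : M.Acts b dB
  s_acts : M.Acts s dS

theorem exists_gens : Nonempty M.Gens := by
  obtain ⟨a, ha, ha'⟩ := M.exists_liftN gens_syl.1
  obtain ⟨b, hb, hb'⟩ := M.exists_liftN gens_syl.2.1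
  obtain ⟨s, hs, hs'⟩ := M.exists_liftN gens_syl.2.2.1
  exact ⟨⟨a, b, s, ha, hb, hs, ha', hb', hs'⟩⟩

variable {M} (E : M.Gens)

theorem Gens.a_sq : E.a * E.a = 1 :=
  M.sq_one_of_conj (w := wordA) (words_ok _ (by simp)) (j := 6) (by norm_num) inner_conj.1 E.a_N E.a_acts

theorem Gens.b_sq : E.b * E.b = 1 :=
  M.sq_one_of_conj (w := wordB) (words_ok _ (by simp)) (j := 12) (by norm_num) inner_conj.2.1 E.b_N E.b_acts

theorem Gens.d_four : E.a * E.b * (E.a * E.b) * (E.a * E.b * (E.a * E.b)) = 1 :=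
  M.sq_one_of_conj (w := wordZ) (words_ok _ (by simp)) (j := 15) (by norm_num) inner_conj.2.2
    ((E.a_N.mul E.b_N).mul (E.a_N.mul E.b_N))
    (M.acts_mul (M.acts_mul E.a_acts E.b_acts) (M.acts_mul E.a_acts E.b_acts))

theorem Gens.s_sq_cases : E.s * E.s = 1 ∨ E.s * E.s = M.toH M.zQ :=
  M.np_Q (M.mem_Q _ (gens_syl.2.2.2 ▸ M.acts_mul E.s_acts E.s_acts)) (E.s_N.mul E.s_N)

theorem Gens.s_comm_of_conj {w X : List ℕ} (hw : ∀ k ∈ w, k < 4) {x : ↥(centralizer ({z} : Set G))}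
    (hx : x * x = 1) (hxN : InN (P := P) x) (hxX : M.Acts x X)
    (he : mulC (wordC w) dS = mulC (mulC X dS) (wordC w)) : x * E.s = E.s * x := by
  obtain ⟨g, hg, hga⟩ := M.cent_elem _ (wordC_memK hw)
  have h := M.sq_lift_eqN (((InN.of_cent hg).mul E.s_N).mul (InN.of_cent hg).inv) (hxN.mul E.s_N)
    (M.acts_conj hga E.s_acts he) (M.acts_mul hxX E.s_acts)
  have hε : g * (E.s * E.s) * g⁻¹ = E.s * E.s := by
    rcases E.s_sq_cases with e | e <;> rw [e]
    · group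
    · exact M.z_conj g
  rw [show g * E.s * g⁻¹ * (g * E.s * g⁻¹) = g * (E.s * E.s) * g⁻¹ by group, hε] at h
  have h2 : x * E.s * x = E.s := mul_right_cancel (b := E.s) (by rw [← h]; group)
  calc x * E.s = x * E.s * (x * x) := by rw [hx, mul_one]
    _ = x * E.s * x * x := by group
    _ = E.s * x := by rw [h2]

theorem Gens.a_comm : E.a * E.s = E.s * E.a :=
  E.s_comm_of_conj (words_ok _ (by simp)) E.a_sq E.a_N E.a_acts outer_conj.1

theorem Gens.b_comm : E.b * E.s = E.s * E.b :=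
  E.s_comm_of_conj (words_ok _ (by simp)) E.b_sq E.b_N E.b_acts outer_conj.2

/-- The rotation. -/
def Gens.d : ↥(centralizer ({z} : Set G)) := E.a * E.b

theorem Gens.d_pow : E.d ^ 4 = 1 := by
  simp only [pow_succ, pow_zero, one_mul]
  rw [mul_assoc (E.d * E.d)]
  exact E.d_four

theorem Gens.s_comm_d : E.d * E.s = E.s * E.d :=
  ((show Commute E.a E.s from E.a_comm).mul_left (show Commute E.b E.s from E.b_comm)).eq

theorem Gens.a_d : E.a * E.d = E.d⁻¹ * E.a := by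
  have hb : E.b⁻¹ = E.b := inv_eq_of_mul_eq_one_right E.b_sq
  have ha : E.a⁻¹ = E.a := inv_eq_of_mul_eq_one_right E.a_sq
  rw [Gens.d, _root_.mul_inv_rev, ha, hb, ← mul_assoc, E.a_sq, one_mul, mul_assoc, E.a_sq, mul_one]

theorem Gens.d_acts (i : ℕ) : M.Acts (E.d ^ i) (powC dD i) := by
  induction i with
  | zero => rw [pow_zero]; exact M.acts_one
  | succ i ih => rw [pow_succ]; exact M.acts_mul ih (M.acts_mul E.a_acts E.b_acts)

theorem Gens.el_acts (k i j : ℕ) : M.Acts (E.s ^ k * E.d ^ i * E.a ^ j) (dEl k i j) := by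
  have hp : ∀ (c : ↥(centralizer ({z} : Set G))) (C : List ℕ), M.Acts c C → ∀ m, M.Acts (c ^ m) (powC C m) := by
    intro c C hc m
    induction m with
    | zero => rw [pow_zero]; exact M.acts_one
    | succ m ih => rw [pow_succ]; exact M.acts_mul ih hc
  exact M.acts_mul (M.acts_mul (hp _ _ E.s_acts k) (E.d_acts i)) (hp _ _ E.a_acts j)

/-- The part of the complement outside the extraspecial subgroup. -/
def Gens.R : Subgroup ↥(centralizer ({z} : Set G)) := closure {E.a, E.b, E.s}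

/-- The numbered elements. -/
def Gens.el (t : ℕ) : ↥(centralizer ({z} : Set G)) := E.s ^ (t / 8) * E.d ^ (t / 2 % 4) * E.a ^ (t % 2)

theorem Gens.el_acts' (t : ℕ) : M.Acts (E.el t) (dT t) := E.el_acts _ _ _

theorem Gens.el_mem (t : ℕ) : E.el t ∈ E.R := by
  have ha : E.a ∈ E.R := subset_closure (by simp)
  have hb : E.b ∈ E.R := subset_closure (by simp)
  have hs : E.s ∈ E.R := subset_closure (by simp)
  exact mul_mem (mul_mem (pow_mem hs _) (pow_mem (mul_mem ha hb) _)) (pow_mem ha _)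

theorem Gens.mem_R_el (hs : E.s * E.s = 1) {x : ↥(centralizer ({z} : Set G))} (hx : x ∈ E.R) :
    ∃ t < 16, x = E.el t := by
  have hsk : ∀ k : ℕ, E.s ^ k = E.s ^ (k % 2) := fun k =>
    pow_eq_pow_mod k (by rw [pow_two]; exact hs)
  have hdi : ∀ i : ℕ, E.d ^ i = E.d ^ (i % 4) := fun i => pow_eq_pow_mod i E.d_pow
  have haj : ∀ j : ℕ, E.a ^ j = E.a ^ (j % 2) := fun j => pow_eq_pow_mod j (by rw [pow_two]; exact E.a_sq)
  have mk : ∀ k i j : ℕ, ∃ t < 16, E.s ^ k * E.d ^ i * E.a ^ j = E.el t := by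
    intro k i j
    refine ⟨k % 2 * 8 + i % 4 * 2 + j % 2, by omega, ?_⟩
    rw [Gens.el, hsk k, hdi i, haj j, show (k % 2 * 8 + i % 4 * 2 + j % 2) / 8 = k % 2 by omega,
      show (k % 2 * 8 + i % 4 * 2 + j % 2) / 2 % 4 = i % 4 by omega,
      show (k % 2 * 8 + i % 4 * 2 + j % 2) % 2 = j % 2 by omega]
  have hd3 : E.d⁻¹ = E.d ^ 3 := inv_eq_of_mul_eq_one_right (by rw [← pow_succ']; exact E.d_pow)
  have hadi : ∀ i : ℕ, E.a * E.d ^ i = E.d ^ (3 * i) * E.a := by
    intro i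
    induction i with
    | zero => simp
    | succ i ih =>
      rw [pow_succ, ← mul_assoc, ih, mul_assoc, E.a_d, hd3, ← mul_assoc, ← pow_add]
      congr 2
  have hsa : ∀ k : ℕ, E.a * E.s ^ k = E.s ^ k * E.a := fun k =>
    ((show Commute E.a E.s from E.a_comm).pow_right k).eq
  have hleft_a : ∀ k i j, ∃ t < 16, E.a * (E.s ^ k * E.d ^ i * E.a ^ j) = E.el t := fun k i j => by
    obtain ⟨t, ht, e⟩ := mk k (3 * i) (j + 1)
    refine ⟨t, ht, ?_⟩
    rw [← e, ← mul_assoc, ← mul_assoc, hsa, mul_assoc (E.s ^ k), hadi, pow_succ']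
    group
  have hb : E.b = E.a * E.d := by rw [Gens.d, ← mul_assoc, E.a_sq, one_mul]
  have hleft_b : ∀ k i j, ∃ t < 16, E.b * (E.s ^ k * E.d ^ i * E.a ^ j) = E.el t := fun k i j => by
    obtain ⟨t, ht, e⟩ := hleft_a k (i + 1) j
    refine ⟨t, ht, ?_⟩
    have hds : E.d * E.s ^ k = E.s ^ k * E.d := ((show Commute E.d E.s from E.s_comm_d).pow_right k).eq
    rw [← e, hb, mul_assoc E.a]
    congr 1
    rw [← mul_assoc, ← mul_assoc, hds, pow_succ', ← mul_assoc]
  have hleft_s : ∀ k i j, ∃ t < 16, E.s * (E.s ^ k * E.d ^ i * E.a ^ j) = E.el t := fun k i j => by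
    obtain ⟨t, ht, e⟩ := mk (k + 1) i j
    exact ⟨t, ht, by rw [← e, pow_succ']; group⟩
  refine closure_induction_left (p := fun x _ => ∃ t < 16, x = E.el t) ?_ ?_ ?_ hx
  · exact ⟨0, by norm_num, by simp [Gens.el]⟩
  · rintro g hg y - ⟨t, -, rfl⟩
    simp only [Set.mem_insert_iff, Set.mem_singleton_iff] at hg
    rcases hg with rfl | rfl | rfl
    exacts [hleft_a _ _ _, hleft_b _ _ _, hleft_s _ _ _]
  · rintro g hg y - ⟨t, -, rfl⟩
    have hg' : g⁻¹ = g := by
      simp only [Set.mem_insert_iff, Set.mem_singleton_iff] at hg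
      rcases hg with rfl | rfl | rfl
      exacts [inv_eq_of_mul_eq_one_right E.a_sq, inv_eq_of_mul_eq_one_right E.b_sq, inv_eq_of_mul_eq_one_right hs]
    rw [hg']
    simp only [Set.mem_insert_iff, Set.mem_singleton_iff] at hg
    rcases hg with rfl | rfl | rfl
    exacts [hleft_a _ _ _, hleft_b _ _ _, hleft_s _ _ _]

theorem Gens.el_zero : E.el 0 = 1 := by simp [Gens.el]

theorem dT_len (t : ℕ) : (dT t).length = 12 := by
  have hpow : ∀ (C : List ℕ), C.length = 12 → ∀ m, (powC C m).length = 12 := by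
    intro C hC m
    cases m with
    | zero => rfl
    | succ m => rw [powC, length_mulC, hC]
  rw [dT, dEl, length_mulC]
  exact hpow _ (sylow_shape.2.2 _ gens_syl.1) _

variable (M)

/-- The opposite abelian part of the extraspecial subgroup. -/
def uQ : Subgroup ↥(QG M.Q) where
  carrier := {x | M.vec x ∈ wU ∧ x * M.ctx.conjQ M.pElem x * M.ctx.conjQ M.pElem (M.ctx.conjQ M.pElem x) = 1}
  one_mem' := by
    refine ⟨?_, by simp⟩
    rw [M.vec_one, ← wU_spec.2.2.2.2, List.getD_eq_getElem _ _ (show 0 < wU.length by rw [wU_spec.1]; norm_num)]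
    exact List.getElem_mem _
  mul_mem' := by
    rintro x y ⟨hx, hx1⟩ ⟨hy, hy1⟩
    obtain ⟨hl, -, hxor, -⟩ := wU_spec
    refine ⟨?_, ?_⟩
    · obtain ⟨i, hi, ei⟩ := List.getElem_of_mem hx
      obtain ⟨j, hj, ej⟩ := List.getElem_of_mem hy
      have hk : i ^^^ j < wU.length := by rw [hl] at hi hj ⊢; exact Nat.xor_lt_two_pow (n := 6) hi hj
      have := hxor i (hl ▸ hi) j (hl ▸ hj)
      rw [List.getD_eq_getElem _ _ hi, List.getD_eq_getElem _ _ hj, List.getD_eq_getElem _ _ hk, ei, ej] at this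
      rw [M.vec_mul, this]
      exact List.getElem_mem hk
    · have hp : ∀ u, M.vec u ∈ wU → M.vec (M.ctx.conjQ M.pElem u) ∈ wU := fun u hu => by
        rw [M.p_acts u]; exact (wU_p _ hu).1
      have hc : ∀ u v : ↥(QG M.Q), M.vec u ∈ wU → M.vec v ∈ wU → u * v = v * u := fun u v hu hv =>
        Subtype.ext ((M.comm_iff u v).2 (wU_perp _ hu _ hv))
      set px := M.ctx.conjQ M.pElem x with hpx
      set py := M.ctx.conjQ M.pElem y with hpy
      set qx := M.ctx.conjQ M.pElem px with hqx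
      set qy := M.ctx.conjQ M.pElem py with hqy
      simp only [map_mul, ← hpx, ← hpy, ← hqx, ← hqy]
      calc x * y * (px * py) * (qx * qy) = x * (y * px) * py * (qx * qy) := by group
        _ = x * (px * y) * py * (qx * qy) := by rw [hc y px hy (hp _ hx)]
        _ = x * px * (y * py * qx) * qy := by group
        _ = x * px * (qx * (y * py)) * qy := by
            rw [show y * py * qx = qx * (y * py) by
              rw [mul_assoc, hc py qx (hp _ hy) (hp _ (hp _ hx)), ← mul_assoc, hc y qx hy (hp _ (hp _ hx)), mul_assoc]]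
        _ = x * px * qx * (y * py * qy) := by group
        _ = 1 := by rw [hx1, hy1, one_mul]
  inv_mem' := by
    rintro x ⟨hx, hx1⟩
    have h2 : x * x = 1 := Subtype.ext ((M.sq_iff x).2 (wU_spec.2.1 _ hx).2)
    rw [inv_eq_of_mul_eq_one_right h2]
    exact ⟨hx, hx1⟩

theorem mem_uQ {x : ↥(QG M.Q)} : x ∈ M.uQ ↔ M.vec x ∈ wU ∧
    x * M.ctx.conjQ M.pElem x * M.ctx.conjQ M.pElem (M.ctx.conjQ M.pElem x) = 1 := Iff.rfl

theorem uQ_sq {x : ↥(QG M.Q)} (hx : x ∈ M.uQ) : x * x = 1 :=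
  Subtype.ext ((M.sq_iff x).2 (wU_spec.2.1 _ hx.1).2)

theorem zQ_notMem_uQ : M.zQ ∉ M.uQ := by
  rintro ⟨-, h⟩
  have hz : ∀ c, M.ctx.conjQ c M.zQ = M.zQ := fun c => Subtype.ext (by
    show c.1 * z * c.1⁻¹ = z
    rw [mem_centralizer_singleton_iff.1 c.2, mul_inv_cancel_right])
  have hzz : M.zQ * M.zQ = 1 := Subtype.ext M.ctx.xs.sq
  rw [hz, hz, hzz, one_mul] at h
  exact M.ctx.xs.ne_one (congrArg Subtype.val h)

theorem exists_uQ {n : ℕ} (hn : n ∈ wU) : ∃ x ∈ M.uQ, M.vec x = n := by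
  obtain ⟨x, hx⟩ := M.vec_surj n (wU_spec.2.1 n hn).1
  have hz : ∀ c, M.ctx.conjQ c M.zQ = M.zQ := fun c => Subtype.ext (by
    show c.1 * z * c.1⁻¹ = z
    rw [mem_centralizer_singleton_iff.1 c.2, mul_inv_cancel_right])
  have hzz : M.zQ * M.zQ = 1 := Subtype.ext M.ctx.xs.sq
  have hzc : ∀ u : ↥(QG M.Q), u * M.zQ = M.zQ * u := fun u => Subtype.ext (M.ctx.xs.comm u.2)
  set px := M.ctx.conjQ M.pElem x with hpx
  set qx := M.ctx.conjQ M.pElem px with hqx
  have hv : M.vec (x * px * qx) = 0 := by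
    rw [M.vec_mul, M.vec_mul, show M.vec qx = app pC (M.vec px) from M.p_acts px,
      show M.vec px = app pC (M.vec x) from M.p_acts x, hx, ← (wU_p n hn).2]
    ac_rfl
  rcases M.vec_eq_zero.1 hv with h | h
  · exact ⟨x, ⟨by rw [hx]; exact hn, Subtype.ext h⟩, hx⟩
  · refine ⟨x * M.zQ, ⟨by rw [M.vec_mul, hx, show M.vec M.zQ = 0 from M.vec_z, Nat.xor_zero]; exact hn, ?_⟩,
      by rw [M.vec_mul, hx, show M.vec M.zQ = 0 from M.vec_z, Nat.xor_zero]⟩
    have hprod : x * px * qx = M.zQ := Subtype.ext h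
    simp only [map_mul, hz, ← hpx, ← hqx]
    calc x * M.zQ * (px * M.zQ) * (qx * M.zQ) = x * (M.zQ * px) * (M.zQ * qx) * M.zQ := by group
      _ = x * (px * M.zQ) * (qx * M.zQ) * M.zQ := by rw [← hzc px, ← hzc qx]
      _ = x * px * (M.zQ * qx) * (M.zQ * M.zQ) := by group
      _ = x * px * qx * M.zQ := by rw [← hzc qx, hzz, mul_one]; group
      _ = 1 := by rw [hprod, hzz]

theorem uQ_conj {c : ↥(centralizer ({z} : Set G))} {C : List ℕ} (hc : InN (P := P) c) (hC : M.Acts c C)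
    (hw : ∀ n ∈ wU, app C n ∈ wU) {x : ↥(QG M.Q)} (hx : x ∈ M.uQ) : M.ctx.conjQ c x ∈ M.uQ := by
  refine ⟨by rw [hC x]; exact hw _ hx.1, ?_⟩
  set q := c⁻¹ * M.pElem * c with hq
  have hqP : (q : G) ∈ P := by
    have := (Subgroup.mem_normalizer_iff.1 hc.inv (M.pElem : G)).1 (M.p_gen.le (mem_zpowers _))
    simpa [hq] using this
  obtain ⟨e, he, hqe⟩ : ∃ e < 3, q = M.pElem ^ e := by
    rw [← M.p_gen, ← mem_powers_iff_mem_zpowers] at hqP
    obtain ⟨e, he⟩ := hqP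
    refine ⟨e % 3, Nat.mod_lt _ (by norm_num), Subtype.ext ?_⟩
    rw [SubmonoidClass.coe_pow, ← he]
    exact pow_eq_pow_mod e M.p_pow
  have hne : e ≠ 0 := by
    rintro rfl
    rw [pow_zero, hq, mul_eq_one_iff_eq_inv, inv_mul_eq_iff_eq_mul, mul_inv_cancel] at hqe
    have h1 : (M.pElem : G) = 1 := congrArg Subtype.val hqe
    have := M.card_P
    rw [← M.p_gen, h1, zpowers_one_eq_bot, Subgroup.card_bot] at this
    norm_num at this
  have hpc : M.pElem * c = c * q := by rw [hq]; group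
  have hx2 := hx.2
  set px := M.ctx.conjQ M.pElem x with hpx
  set qx := M.ctx.conjQ M.pElem px with hqx
  have h1 : M.ctx.conjQ M.pElem (M.ctx.conjQ c x) = M.ctx.conjQ c (M.ctx.conjQ q x) := by
    rw [← M.ctx.conjQ_mul, hpc, M.ctx.conjQ_mul]
  have h2 : M.ctx.conjQ M.pElem (M.ctx.conjQ c (M.ctx.conjQ q x)) =
      M.ctx.conjQ c (M.ctx.conjQ q (M.ctx.conjQ q x)) := by
    rw [← M.ctx.conjQ_mul, hpc, M.ctx.conjQ_mul]
  rw [h1, h2, ← map_mul, ← map_mul]
  have hone : M.ctx.conjQ c 1 = 1 := map_one _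
  rw [← hone]
  congr 1
  have hp : ∀ u, M.vec u ∈ wU → M.vec (M.ctx.conjQ M.pElem u) ∈ wU := fun u hu => by
    rw [M.p_acts u]; exact (wU_p _ hu).1
  have hp3 : M.pElem ^ 3 = 1 := by
    exact Subtype.ext (by rw [SubmonoidClass.coe_pow, M.p_pow]; rfl)
  rcases (show e = 1 ∨ e = 2 by omega) with rfl | rfl
  · rw [hqe, pow_one]; exact hx2
  · have e1 : M.ctx.conjQ q x = qx := by rw [hqe, pow_two, M.ctx.conjQ_mul]
    have e2 : M.ctx.conjQ q qx = px := by
      rw [← e1, ← M.ctx.conjQ_mul, hqe, ← pow_add, show 2 + 2 = 3 + 1 from rfl, pow_succ, hp3, one_mul]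
    rw [e1, e2, mul_assoc, show qx * px = px * qx from
      Subtype.ext ((M.comm_iff qx px).2 (wU_perp _ (hp _ (hp _ hx.1)) _ (hp _ hx.1))), ← mul_assoc]
    exact hx2

theorem dA_dB_dS_U {g : ↥(centralizer ({z} : Set G))} (E : M.Gens) (hg : g ∈ ({E.a, E.b, E.s} : Set _))
    {x : ↥(QG M.Q)} (hx : x ∈ M.uQ) : M.ctx.conjQ g x ∈ M.uQ := by
  simp only [Set.mem_insert_iff, Set.mem_singleton_iff] at hg
  rcases hg with rfl | rfl | rfl
  · exact M.uQ_conj E.a_N E.a_acts (fun n hn => (wU_stab n hn).1) hx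
  · exact M.uQ_conj E.b_N E.b_acts (fun n hn => (wU_stab n hn).2.1) hx
  · exact M.uQ_conj E.s_N E.s_acts (fun n hn => (wU_stab n hn).2.2) hx

variable {M}

/-- The complement inside the centraliser. -/
def Gens.S0 (E : M.Gens) : Subgroup ↥(centralizer ({z} : Set G)) := M.uQ.map M.toH ⊔ E.R

theorem Gens.R_norm (E : M.Gens) : E.R ≤ normalizer ((M.uQ.map M.toH : Subgroup _) : Set ↥(centralizer ({z} : Set G))) := by
  rw [Gens.R, closure_le]
  intro g hg
  have h : ∀ y ∈ M.uQ.map M.toH, g * y * g⁻¹ ∈ M.uQ.map M.toH := by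
    rintro _ ⟨x, hx, rfl⟩
    exact ⟨_, M.dA_dB_dS_U E hg hx, (M.toH_conj g x).symm⟩
  exact mem_normalizer_fintype h

theorem Gens.mem_S0 (E : M.Gens) (hs : E.s * E.s = 1) {x : ↥(centralizer ({z} : Set G))} (hx : x ∈ E.S0) :
    ∃ u ∈ M.uQ, ∃ t < 16, x = M.toH u * E.el t := by
  rw [Gens.S0, SolvBasic.mem_sup_iff_of_le_normalizer E.R_norm] at hx
  obtain ⟨_, ⟨u, hu, rfl⟩, r, hr, rfl⟩ := hx
  obtain ⟨t, ht, rfl⟩ := E.mem_R_el hs hr
  exact ⟨u, hu, t, ht, rfl⟩

theorem Gens.acts_S0 (E : M.Gens) (u : ↥(QG M.Q)) (t : ℕ) (ht : dT t ∈ sylow) :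
    M.Acts (M.toH u * E.el t) (dT t) := by
  have h := M.acts_mul (M.acts_of_mem_Q (M.toH_mem u)) (E.el_acts' t)
  rwa [unitC_mulC (Big.sylow_InL0 ht) fun _ h => h] at h

theorem dT_mem (t : ℕ) : dT t ∈ sylow := by
  have hpow : ∀ C ∈ sylow, ∀ m, powC C m ∈ sylow := by
    intro C hC m
    induction m with
    | zero => exact Big.unit_mem_sylow
    | succ m ih => exact Big.sylow_mul ih hC
  exact Big.sylow_mul (Big.sylow_mul (hpow _ gens_syl.2.2.1 _)
    (hpow _ (Big.sylow_mul gens_syl.1 gens_syl.2.1) _)) (hpow _ gens_syl.1 _)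

theorem Gens.S0_le (E : M.Gens) (hs : E.s * E.s = 1) : E.S0 ≤ M.syl := fun _ hx => by
  obtain ⟨u, -, t, -, rfl⟩ := E.mem_S0 hs hx
  exact ⟨_, dT_mem t, E.acts_S0 u t (dT_mem t)⟩

theorem Gens.S0_inf (E : M.Gens) (hs : E.s * E.s = 1) : E.S0 ⊓ M.vH = ⊥ := by
  rw [eq_bot_iff]
  intro x hx
  obtain ⟨hx1, a, ha, l, hl, hxe⟩ := mem_inf.1 hx
  obtain ⟨u, hu, t, ht, rfl⟩ := E.mem_S0 hs hx1
  obtain ⟨hlP, i, hi, hli⟩ := hl
  have hla : M.Acts (M.toH a * l) (bEl i) := by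
    have h := M.acts_mul (M.acts_of_mem_Q (M.toH_mem a)) hli
    rwa [unitC_mulC (Big.sylow_InL0 (bEl_spec.1 _ hi).1) fun _ h => h] at h
  have hti : dT t = bEl i := M.acts_unique (dT_len t) (bEl_spec.1 _ hi).2 (E.acts_S0 u t (dT_mem t)) (hxe ▸ hla)
  obtain rfl := (dT_spec t ht).2 i hi hti
  rw [E.el_zero, mul_one] at hxe ⊢
  have hi0 : i = 0 := by
    refine bEl_unit hi ?_
    rw [← hti]
    simp [dT, dEl, powC, mulC_unitC (show unitC.length = 12 from rfl)]
  subst hi0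
  rw [bEl_spec.2.1] at hli
  have hua : u ∈ M.aQ := by
    rcases M.cent_Q (M.mem_Q l hli) hlP with rfl | rfl
    · rw [mul_one] at hxe
      exact M.toH_injective hxe ▸ ha
    · rw [← map_mul] at hxe
      exact M.toH_injective hxe ▸ mul_mem ha M.zQ_aQ
  have hu0 : M.vec u = 0 := wU_bigW _ hu.1 (M.mem_aQ.1 hua)
  rcases M.vec_eq_zero.1 hu0 with h | h
  · rw [show u = 1 from Subtype.ext h, map_one]
    exact mem_bot.2 rfl
  · exact absurd ((show u = M.zQ from Subtype.ext h) ▸ hu) M.zQ_notMem_uQ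

theorem Gens.card_S0 (E : M.Gens) : 1024 ≤ Nat.card ↥E.S0 := by
  classical
  choose u hu huv using fun i : Fin 64 => M.exists_uQ (n := wU.getD i 0) (by
    rw [List.getD_eq_getElem _ _ (show i.1 < wU.length by rw [wU_spec.1]; exact i.2)]
    exact List.getElem_mem _)
  let f : Fin 64 × Fin 16 → ↥E.S0 := fun p => ⟨M.toH (u p.1) * E.el p.2,
    mul_mem (mem_sup_left ⟨u p.1, hu _, rfl⟩) (mem_sup_right (E.el_mem _))⟩
  have hf : Function.Injective f := by
    rintro ⟨i, t⟩ ⟨j, t'⟩ h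
    have h' : M.toH (u i) * E.el t = M.toH (u j) * E.el t' := congrArg Subtype.val h
    have htt : t = t' := Fin.ext (dT_inj _ t.2 _ t'.2
      (M.acts_unique (dT_len _) (dT_len _) (E.acts_S0 (u i) t (dT_mem _)) (h' ▸ E.acts_S0 (u j) t' (dT_mem _))))
    subst htt
    have := M.toH_injective (mul_right_cancel h')
    have hij : i = j := Fin.ext (wU_spec.2.2.2.1 _ i.2 _ j.2 (by rw [← huv, ← huv, this]))
    rw [hij]
  have := Nat.card_le_card_of_injective f hf
  simpa [Nat.card_prod] using this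

/-- The Sylow subgroup is a product of the large abelian subgroup and the complement. -/
theorem Gens.sup_S0 (E : M.Gens) (hs : E.s * E.s = 1) : M.vH ⊔ E.S0 = M.syl := by
  classical
  have hle : M.vH ⊔ E.S0 ≤ M.syl := sup_le M.vH_le (E.S0_le hs)
  refine Subgroup.eq_of_le_of_card_ge hle ?_
  let f : ↥M.vH × ↥E.S0 → ↥(M.vH ⊔ E.S0 : Subgroup _) :=
    fun p => ⟨p.1 * p.2, mul_mem (mem_sup_left p.1.2) (mem_sup_right p.2.2)⟩
  have hf : Function.Injective f := by
    rintro ⟨v, x⟩ ⟨v', x'⟩ h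
    have h' : (v : ↥(centralizer ({z} : Set G))) * x = v' * x' := congrArg Subtype.val h
    have h2 : (v' : ↥(centralizer ({z} : Set G)))⁻¹ * v = x' * (x : ↥(centralizer ({z} : Set G)))⁻¹ := by
      rw [inv_mul_eq_iff_eq_mul, ← mul_assoc, eq_mul_inv_iff_mul_eq, h']
    have h3 : (v' : ↥(centralizer ({z} : Set G)))⁻¹ * v ∈ E.S0 ⊓ M.vH :=
      mem_inf.2 ⟨h2 ▸ mul_mem x'.2 (inv_mem x.2), mul_mem (inv_mem v'.2) v.2⟩
    rw [E.S0_inf hs, mem_bot] at h3
    have hv : v = v' := Subtype.ext (inv_mul_eq_one.1 h3).symm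
    subst hv
    rw [Subtype.ext (mul_left_cancel h') ]
  have := Nat.card_le_card_of_injective f hf
  rw [Nat.card_prod, M.vH_card] at this
  rw [M.card_syl]
  have := E.card_S0
  omega

end Model

end Cfsg.Agent.JankoFour
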