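import Cfsg.Agent.Lib.JankoFour.TCountDefs

/-!
Decidable facts on the records of the involutions of the stabiliser of a pair.
-/

set_option autoImplicit false
set_option maxRecDepth 100000
set_option maxHeartbeats 0
set_option Elab.async false

namespace Cfsg.Agent.JankoFour.TC

open Cfsg.Agent.J4Module (app of_chunks)
open Cfsg.Agent.PermCert (Elt validElt)
open Cfsg.Agent.Golay (isAutB spanList imgMask)
open Cfsg.Agent.Golay.Local (cmpF sameF idC conjF)

/-- The generator of a link. -/
def genL (i : ℕ) : Elt := stabG.getD ((ent i).2.2.2.1 % 2) (0, 0)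

/-- The parent of a link. -/
def parL (i : ℕ) : ℕ := (ent i).2.2.2.1 / 2

/-- The packed columns of a generator. -/
def genP (b : ℕ) : ℕ :=
  [1859566564307911998021054076846872532, 2017228318427323676158777740958372544].getD b 0

/-- The sort key. -/
def key (i : ℕ) : ℕ := cmpF (ent i).1 idC

/-- The index at a rank. -/
def srt (r : ℕ) : ℕ := nth 0 (r % 256) (nth [] (r / 256) sortBlocks)

/-- The checks on a record. -/
def chkInv (i : ℕ) : Bool :=
  validElt 5 24 (eI i) && Nat.beq (ent i).2.2.1 (matP (eI i)) && Nat.beq (imgMask (eI i) 3) 3 &&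
    sameF (cmpF (ent i).1 (ent i).1) idC && !(sameF (ent i).1 idC) &&
    (Nat.beq i (rootI i) || (Nat.blt (parL i) i && Nat.beq (rootI (parL i)) (rootI i) &&
      sameF (ent i).1 (conjF (genL i) (ent (parL i)).1) &&
      basI i == (basI (parL i)).map (appQ (genP ((ent i).2.2.2.1 % 2))))) &&
    Nat.beq (srt (ent i).2.2.2.2) i && Nat.blt (ent i).2.2.2.2 2871

theorem rec_all0 : ((List.range' 0 256).all chkInv) = true := by decide +kernel

theorem rec_all1 : ((List.range' 256 256).all chkInv) = true := by decide +kernel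

theorem rec_all2 : ((List.range' 512 256).all chkInv) = true := by decide +kernel

theorem rec_all3 : ((List.range' 768 256).all chkInv) = true := by decide +kernel

theorem rec_all4 : ((List.range' 1024 256).all chkInv) = true := by decide +kernel

theorem rec_all5 : ((List.range' 1280 256).all chkInv) = true := by decide +kernel

theorem rec_all6 : ((List.range' 1536 256).all chkInv) = true := by decide +kernel

theorem rec_all7 : ((List.range' 1792 256).all chkInv) = true := by decide +kernel

theorem rec_all8 : ((List.range' 2048 256).all chkInv) = true := by decide +kernel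

theorem rec_all9 : ((List.range' 2304 256).all chkInv) = true := by decide +kernel

theorem rec_all10 : ((List.range' 2560 256).all chkInv) = true := by decide +kernel

theorem rec_all11 : ((List.range' 2816 55).all chkInv) = true := by decide +kernel

theorem rec_ok : ∀ i < 2871, chkInv i = true := by
  intro i hi
  have h : ∀ a n, ((List.range' a n).all chkInv) = true → a ≤ i → i < a + n → chkInv i = true :=
    fun a n h h1 h2 => List.all_eq_true.1 h i (List.mem_range'_1.2 ⟨h1, h2⟩)
  rcases (show i < 256 ∨ (256 ≤ i ∧ i < 512) ∨ (512 ≤ i ∧ i < 768) ∨ (768 ≤ i ∧ i < 1024) ∨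
      (1024 ≤ i ∧ i < 1280) ∨ (1280 ≤ i ∧ i < 1536) ∨ (1536 ≤ i ∧ i < 1792) ∨ (1792 ≤ i ∧ i < 2048) ∨
      (2048 ≤ i ∧ i < 2304) ∨ (2304 ≤ i ∧ i < 2560) ∨ (2560 ≤ i ∧ i < 2816) ∨ 2816 ≤ i by omega) with
    h' | h' | h' | h' | h' | h' | h' | h' | h' | h' | h' | h'
  · exact h _ _ rec_all0 (Nat.zero_le _) h'
  · exact h _ _ rec_all1 h'.1 h'.2
  · exact h _ _ rec_all2 h'.1 h'.2
  · exact h _ _ rec_all3 h'.1 h'.2
  · exact h _ _ rec_all4 h'.1 h'.2
  · exact h _ _ rec_all5 h'.1 h'.2
  · exact h _ _ rec_all6 h'.1 h'.2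
  · exact h _ _ rec_all7 h'.1 h'.2
  · exact h _ _ rec_all8 h'.1 h'.2
  · exact h _ _ rec_all9 h'.1 h'.2
  · exact h _ _ rec_all10 h'.1 h'.2
  · exact h _ _ rec_all11 h' hi

theorem sort_all : ((List.range 2870).all fun r => Nat.blt (key (srt r)) (key (srt (r + 1)))) = true := by
  decide +kernel

theorem sort_ok : ∀ r < 2870, key (srt r) < key (srt (r + 1)) := fun r hr =>
  Nat.le_of_ble_eq_true (List.all_eq_true.1 sort_all r (List.mem_range.2 hr))

theorem list_beq : (invList == (List.range 2871).map ent) = true := by decide +kernel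

theorem list_ok : invList = (List.range 2871).map ent := eq_of_beq list_beq

theorem genP_ok : ∀ b < 2, genP b = matP (stabG.getD b (0, 0)) := by decide +kernel

theorem stab_ok : ∀ g ∈ stabG, validElt 5 24 g = true ∧ isAutB g = true ∧ imgMask g 3 = 3 ∧
    app (matC g) 2 = 2 := by decide +kernel

theorem genL_mem : ∀ b < 2, stabG.getD b (0, 0) ∈ stabG := by decide +kernel

/-- The roots. -/
def roots : List ℕ := [0, 330, 1485]

theorem root_ok : ∀ r < 3, roots.getD r 0 < 2871 ∧ rootI (roots.getD r 0) = roots.getD r 0 ∧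
    validElt 5 24 (rootK.getD r (0, 0)) = true ∧ isAutB (rootK.getD r (0, 0)) = true ∧
    sameF (ent (roots.getD r 0)).1 (conjF (rootK.getD r (0, 0)) (cE (jI (roots.getD r 0))).1) = true ∧
    jI (roots.getD r 0) < 2 := by decide +kernel

theorem root_span : ∀ r < 3,
    (∀ c ∈ cC (jI (roots.getD r 0)),
      app (matC (rootK.getD r (0, 0))) c ∈ spI (roots.getD r 0) ∧
      (c ∈ cD (jI (roots.getD r 0)) ↔
        app (matC (rootK.getD r (0, 0))) c ∈ (spI (roots.getD r 0)).take (nD (roots.getD r 0)))) := by
  decide +kernel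

theorem root_span' : ∀ r < 3, ∀ u ∈ spI (roots.getD r 0),
    (cC (jI (roots.getD r 0))).any (fun c => app (matC (rootK.getD r (0, 0))) c == u) = true := by
  decide +kernel

theorem root_nodup : ∀ r < 3, (spI (roots.getD r 0)).Nodup := by decide +kernel

theorem root_disp : ∀ r < 3, ∀ d ∈ (spI (roots.getD r 0)).take (nD (roots.getD r 0)),
    (List.range 2048).any (fun x => x ^^^ app (colI (roots.getD r 0)) x == d) = true := by decide +kernel

theorem root_rep : ∀ r < 3, ∀ ε : Bool, ∀ u ∈ zL ε (roots.getD r 0),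
    u ^^^ repZ ε (roots.getD r 0) ∈ (spI (roots.getD r 0)).take (nD (roots.getD r 0)) := by decide +kernel

theorem rep_vals : repZ true 0 = 0 ∧ repZ false 0 = 0 ∧ repZ true 330 = 0 ∧ repZ false 330 = 0 ∧
    repZ true 1485 = 0 ∧ repZ false 1485 = 1479 := by decide +kernel

theorem zL_length : ∀ r < 3, ∀ ε : Bool,
    (zL ε (roots.getD r 0)).length = (if roots.getD r 0 < 1485 then 16 else 32) := by decide +kernel

/-- The checks on an orbit in the abelian subgroup. -/
def chkOrb (L : List ℕ) (k : ℕ) : Bool :=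
  Nat.blt (orbU L k) 2048 && (Nat.beq k 0 || (Nat.blt (orbP L k / 2) k &&
    Nat.beq (appQ (genP (orbP L k % 2)) (orbU L (orbP L k / 2))) (orbU L k)))

theorem orbA_all : orbA.length = 231 ∧ ((List.range 231).all (chkOrb orbA)) = true := by decide +kernel

theorem orbA_ok : orbA.length = 231 ∧ ∀ k < 231, chkOrb orbA k = true :=
  ⟨orbA_all.1, fun k hk => List.all_eq_true.1 orbA_all.2 k (List.mem_range.2 hk)⟩

theorem orbB_all : orbB.length = 1540 ∧ ((List.range 1540).all (chkOrb orbB)) = true := by decide +kernel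

theorem orbB_ok : orbB.length = 1540 ∧ ∀ k < 1540, chkOrb orbB k = true :=
  ⟨orbB_all.1, fun k hk => List.all_eq_true.1 orbB_all.2 k (List.mem_range.2 hk)⟩

/-- The orbits as lists of coordinates. -/
def orbL : List ℕ := orbA.map (· / 8192) ++ orbB.map (· / 8192)

theorem zV_sub : (zV.all fun u => (maskOf orbL).testBit u) = true := by decide +kernel

theorem orb_sub : (orbL.all fun u => (maskOf zV).testBit u) = true := by decide +kernel

theorem zV_length : zV.length = 1771 := by decide +kernel

theorem tV_ok : tV.Nodup ∧ tV.length = 276 ∧ ∀ u ∈ tV, u < 2048 ∧ u ≠ 0 := by decide +kernel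

theorem two_mem : 2 ∈ tV := by decide +kernel

theorem idE_ok : validElt 5 24 idE = true ∧ isAutB idE = true ∧ (List.range 11).map (fld idP) = matC idE := by
  decide +kernel

end Cfsg.Agent.JankoFour.TC
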