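/-!
Two elements of the extraspecial subgroup as permutations of the points, with their fixed coordinates.
-/

namespace Cfsg.Agent.JankoFour.TC

/-- The vectors of the two elements. -/
def clsV : List Nat := [276, 10]

/-- Their permutations of the points, packed by five bits with inverses. -/
def clsE : List (Nat × Nat) :=
  [(979625952280772473349890862876859393, 979625952280772473349890862876859393),
    (799871982157801151830147482345580644, 799871982157801151830147482345580644)]

/-- Bases of the fixed coordinates. -/
def clsC : List (List Nat) := [[2, 32, 64, 156, 281, 536, 1028], [60, 92, 128, 263, 518, 1028]]

/-- Bases of the displacements. -/
def clsD : List (List Nat) := [[2, 485, 740, 1124], [60, 220, 347, 602, 1028]]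

/-- A fixed coordinate over which the involution is of the first class. -/
def clsZ : List Nat := [96, 92]

/-- Permutations commuting with the first one. -/
def clsG : List (Nat × Nat) :=
  [(255261219974394403622648987903931424, 469443477684939974417548071058082848),
    (812244161123087251729424116338984992, 878290098769464999508756923141064736)]

end Cfsg.Agent.JankoFour.TC
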