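import Cfsg.Agent.Lib.JankoFour.TCountSetup
import Cfsg.Agent.Lib.JankoFour.TCountClassData
import Cfsg.Agent.Lib.JankoFour.HintoPairChecks

/-!
Decidable facts on the two elements of the extraspecial subgroup acting as involutions of the points.
-/

set_option autoImplicit false
set_option maxRecDepth 100000

namespace Cfsg.Agent.JankoFour.TC

open Cfsg.Agent.J4Module (app of_chunks)
open Cfsg.Agent.J4Module.Data
open Cfsg.Agent.PermCert (Elt validElt get)
open Cfsg.Agent.Golay (isAutB spanList)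
open Cfsg.Agent.Golay.Local (cmpF sameF idC)
open Hinto (pk nbL)

/-- The element with index j. -/
def cE (j : ℕ) : Elt := clsE.getD j (0, 0)

/-- Its vector. -/
def cV (j : ℕ) : ℕ := clsV.getD j 0

/-- Its fixed coordinates. -/
def cC (j : ℕ) : List ℕ := spanList (clsC.getD j [])

/-- Its displacements. -/
def cD (j : ℕ) : List ℕ := spanList (clsD.getD j [])

/-- The image of a point. -/
def cF (j i : ℕ) : ℕ := get 5 (cE j).1 i

theorem elt_spec : ∀ j < 2, validElt 5 24 (cE j) = true ∧ isAutB (cE j) = true ∧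
    cV j < 4096 ∧ qbit (cV j) = false ∧ bigFix.testBit (cV j) = false ∧ cls (cV j) = 2 := by decide +kernel

theorem nb_ok : ∀ j < 2, ∀ i < 24, cF j i < 24 ∧
    ∀ r ∈ [(nbL.getD i (0, 0)).1, (nbL.getD i (0, 0)).2],
      r < 24 ∧ r ≠ i ∧ cF j r ≠ cF j i ∧ pk i r / 64 % 16 = 0 ∧
        pk (cF j i) (cF j r) =
          pk i r ^^^ (if bbit (cV j) (Big.bigW.getD (pk i r % 64) 0) then 1024 else 0) := by
  decide +kernel

theorem nb_ne' : ∀ j < 2, ∀ i < 24, cF j (nbL.getD i (0, 0)).1 ≠ cF j (nbL.getD i (0, 0)).2 := by decide +kernel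

/-- The fixed coordinates, tested in a bit set. -/
def maskOf (l : List ℕ) : ℕ := l.foldl (fun a n => a ||| (1 <<< n)) 0

theorem fix_ok : ∀ j < 2, ∀ u < 2048,
    (app (matC (cE j)) u == u) = (maskOf (cC j)).testBit u := by
  intro j hj
  interval_cases j
  · exact of_chunks 32 (by decide +kernel)
  · exact of_chunks 32 (by decide +kernel)

theorem disp_ok : ∀ j < 2, ∀ u < 2048, (maskOf (cD j)).testBit (app (matC (cE j)) u ^^^ u) = true := by
  intro j hj
  interval_cases j
  · exact of_chunks 32 (by decide +kernel)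
  · exact of_chunks 32 (by decide +kernel)

theorem disp_mem : ∀ j < 2, ∀ d ∈ cD j, d < 2048 ∧ (List.range 2048).any (fun u => app (matC (cE j)) u ^^^ u == d) := by
  decide +kernel

theorem coset_ok : ∀ j < 2, ∀ u ∈ cC j, u < 2048 ∧ (app pairCols u / 64 % 16 = 0 →
    bbit (cV j) (Big.bigW.getD (app pairCols u % 64) 0) = false ∧
    qbit (cV j ^^^ Big.bigW.getD (app pairCols u % 64) 0) = false ∧
    ((maskOf (cD j)).testBit (u ^^^ clsZ.getD j 0) = (cls (cV j ^^^ Big.bigW.getD (app pairCols u % 64) 0) == 1))) ∧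
    (app pairCols u / 64 % 16 ≠ 0 → (maskOf (cD j)).testBit (u ^^^ clsZ.getD j 0) = false) := by
  decide +kernel

theorem z_mem : ∀ j < 2, clsZ.getD j 0 ∈ cC j ∧ clsZ.getD j 0 < 2048 := by decide +kernel

theorem comm_ok : ∀ g ∈ clsG, validElt 5 24 g = true ∧ isAutB g = true ∧
    sameF (cmpF g.1 (cE 0).1) (cmpF (cE 0).1 g.1) = true := by decide +kernel

theorem inv_ok : ∀ u ∈ cC 0, (∀ g ∈ clsG, (maskOf (cD 0)).testBit (app (matC g) u ^^^ u) = true) →
    (maskOf (cD 0)).testBit u = true := by decide +kernel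

theorem two_ok : ∀ u ∈ cC 1, (maskOf (cD 1)).testBit u = false →
    ∀ w ∈ cC 1, (maskOf (cD 1)).testBit w = false → (maskOf (cD 1)).testBit (u ^^^ w) = true := by decide +kernel

theorem sq_ok : ∀ j < 2, sameF (cmpF (cE j).1 (cE j).1) idC = true := by decide +kernel

theorem zero_mem_cD : ∀ j < 2, 0 ∈ cD j := by decide +kernel

theorem cD_xor : ∀ j < 2, ∀ a ∈ cD j, ∀ b ∈ cD j, a ^^^ b ∈ cD j := by decide +kernel

end Cfsg.Agent.JankoFour.TC
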