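import Cfsg.Agent.Lib.JankoFour.TCountClassChecks

/-!
The classes of the involutions outside the large abelian subgroup over the two classes of involutions of the
group of the code.
-/

set_option autoImplicit false
set_option linter.unusedSectionVars false
set_option maxRecDepth 100000

namespace Cfsg.Agent.JankoFour

open Subgroup
open Cfsg (GolayPt M24)
open Cfsg.Agent.LargeFischer (Ctx QG)
open Cfsg.Agent.LargeFischer.Big (ev pair_inj)
open Cfsg.Agent.Golay (idx pt idx_lt idx_injective idx_pt permOf idx_permOf permOf_mem_M24)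
open Cfsg.Agent.Golay.Local (cmpF sameF idC Code code_permOf sameF_iff code_idC)
open Cfsg.Agent.PermCert (Elt validElt)
open Cfsg.Agent.J4Module (app)
open Cfsg.Agent.J4Module.Data
open Hinto (pk nbL)

namespace TC

theorem maskOf_mem {l : List ℕ} {n : ℕ} : (maskOf l).testBit n = true ↔ n ∈ l := by
  have key : ∀ (l : List ℕ) (a : ℕ),
      (l.foldl (fun a n => a ||| (1 <<< n)) a).testBit n = true ↔ a.testBit n = true ∨ n ∈ l := by
    intro l
    induction l with
    | nil => simp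
    | cons m l ih =>
      intro a
      rw [List.foldl_cons, ih, Nat.testBit_or, Nat.one_shiftLeft, Nat.testBit_two_pow]
      simp only [Bool.or_eq_true, decide_eq_true_eq, List.mem_cons]
      constructor
      · rintro ((h | rfl) | h) <;> simp_all
      · rintro (h | rfl | h) <;> simp_all
  simpa [maskOf] using key l 0

theorem fix_mem {j : ℕ} (hj : j < 2) {u : ℕ} (hu : u < 2048) : app (matC (cE j)) u = u ↔ u ∈ cC j := by
  rw [← maskOf_mem, ← fix_ok j hj u hu, beq_iff_eq]

/-- The permutation. -/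
noncomputable def piP (j : ℕ) (hj : j < 2) : ↥M24 :=
  ⟨permOf (cE j), permOf_mem_M24 (elt_spec j hj).1 (elt_spec j hj).2.1⟩

end TC

variable {G : Type*} [Group G] [Finite G] {z : G} {P : Subgroup G} {M : Model z P} {B : BigData M}

namespace BigData.Facts

open TC

variable (F : B.Facts) [IsSimpleGroup G]
include F

omit [IsSimpleGroup G] in
theorem evG_el (D : BigPack z B.V) (hD : D.eS = F.coords.eS) {u : ℕ} (hu : u < 2048) :
    D.evG u = F.coords.el (app pairCols u) := by
  rw [BigPack.evG, hD, BigCoords.eS, ev_liftS hu]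

omit [IsSimpleGroup G] in
theorem phi_elem (D : BigPack z B.V) (hD : D.eS = F.coords.eS) {j : ℕ} (hj : j < 2) {x : ↥(QG M.Q)}
    (hx : M.vec x = cV j) :
    (D.phi ⟨(x : G), B.QG_le_normalizer x.2⟩).1 = permOf (cE j) := by
  refine Cfsg.Agent.Golay.eq_permOf (elt_spec j hj).1 fun p => ?_
  set ρ := (D.phi ⟨(x : G), B.QG_le_normalizer x.2⟩).1 with hρ
  obtain ⟨hp, hn⟩ := nb_ok j hj (idx p) (idx_lt p)
  show idx (ρ p) = cF j (idx p)
  have key : ∀ r ∈ [(nbL.getD (idx p) (0, 0)).1, (nbL.getD (idx p) (0, 0)).2],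
      ∃ q : GolayPt, idx q = cF j r ∧ ρ p ∈ ({pt ⟨cF j (idx p), hp⟩, q} : Finset GolayPt) := by
    intro r hr
    obtain ⟨hr24, hri, hpr, h0, hmv⟩ := hn r hr
    have hp24 : cF j r < 24 := (nb_ok j hj r hr24).1
    refine ⟨pt ⟨cF j r, hp24⟩, by rw [idx_pt], ?_⟩
    have hpq : p ≠ pt ⟨r, hr24⟩ := fun e => hri (by rw [e, idx_pt])
    have hrs : pt ⟨cF j (idx p), hp⟩ ≠ pt ⟨cF j r, hp24⟩ := fun e => hpr (by
      have := congrArg idx e
      rw [idx_pt, idx_pt] at this
      exact this.symm)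
    have h := D.eS_equiv ⟨(x : G), B.QG_le_normalizer x.2⟩ {p, pt ⟨r, hr24⟩}
      (by rw [Finset.card_pair hpq]; decide)
    rw [Finset.image_insert, Finset.image_singleton, hD, F.coords.eS_pair hpq, idx_pt] at h
    have hm : F.coords.el (pk (idx p) r) ∈ QG M.Q :=
      (F.coords.el_mem_Q _ (F.coords.pk_lt _ _ (idx_lt p) hr24)).2 h0
    have hvec := F.coords.el_vec _ (F.coords.pk_lt _ _ (idx_lt p) hr24) ⟨_, hm⟩ rfl
    have hc := M.comm_iff x ⟨_, hm⟩
    rw [hx, hvec] at hc
    have hmoved : (x : G) * F.coords.el (pk (idx p) r) * (x : G)⁻¹ = F.coords.el (pk (cF j (idx p)) (cF j r)) := by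
      rw [hmv]
      cases hb : bbit (cV j) (Big.bigW.getD (pk (idx p) r % 64) 0) with
      | false =>
        simp only [Bool.false_eq_true, if_false, Nat.xor_zero]
        rw [mul_inv_eq_iff_eq_mul]
        exact hc.2 hb
      | true =>
        simp only [if_true]
        rw [F.coords.el_xor _ (F.coords.pk_lt _ _ (idx_lt p) hr24) 1024 (by norm_num), F.coords.el_z]
        rcases M.toH_cases (x := ⟨_, hm⟩) (y := M.ctx.conjQ (M.toH x) ⟨_, hm⟩)
          (by rw [(M.acts_of_mem_Q (M.toH_mem x)) _, app_unitC _ (M.vec_lt _)]) with f | f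
        · exfalso
          have h := mul_inv_eq_iff_eq_mul.1 (congrArg Subtype.val ((M.toH_conj _ _).trans f))
          rw [hc.1 h] at hb
          simp at hb
        · exact congrArg Subtype.val ((M.toH_conj _ _).trans f)
    rw [hmoved] at h
    have h' : F.coords.eS {pt ⟨cF j (idx p), hp⟩, pt ⟨cF j r, hp24⟩} = F.coords.eS {ρ p, ρ (pt ⟨r, hr24⟩)} := by
      rw [← h, F.coords.eS_pair hrs, idx_pt, idx_pt]
    rw [pair_inj (Finset.card_pair hrs) (Finset.card_pair (ρ.injective.ne hpq)) (F.coords.eS_inj h')]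
    exact Finset.mem_insert_self _ _
  obtain ⟨q, hq, hq'⟩ := key _ List.mem_cons_self
  obtain ⟨s, hs, hs'⟩ := key _ (List.mem_cons_of_mem _ List.mem_cons_self)
  rw [Finset.mem_insert, Finset.mem_singleton] at hq' hs'
  rcases hq' with e | e
  · rw [e, idx_pt]
  rcases hs' with f | f
  · rw [f, idx_pt]
  · exact absurd (by rw [← hq, ← hs, ← e, ← f]) (nb_ne' j hj _ (idx_lt p))

/-- The classes in a coset, up to a translation. -/
theorem coset_class (hG : ¬ IsMulCommutative G) (D : BigPack z B.V) (hD : D.eS = F.coords.eS) (S : D.Sec)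
    {j : ℕ} (hj : j < 2) : ∃ u0 ∈ cC j, ∀ u ∈ cC j,
      (IsConj z (S.el u (piP j hj)) ↔ (maskOf (cD j)).testBit (u ^^^ u0) = true) := by
  obtain ⟨hv, hA, hlt, hq, hb, -⟩ := elt_spec j hj
  have hM := permOf_mem_M24 hv hA
  obtain ⟨x, hx⟩ := M.vec_surj (cV j) hlt
  have hx2 : (x : G) * x = 1 := (M.sq_iff x).2 (by rw [hx]; exact hq)
  have hxV : (x : G) ∉ B.V := fun h => by
    have := (B.inf_Q x).1 h
    rw [hx, hb] at this
    simp at this
  obtain ⟨a, ha, σ, he⟩ := S.el_surj (B.QG_le_normalizer x.2)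
  have hσ : σ = piP j hj := by
    have h1 := S.phi_el a σ
    rw [← h1]
    refine Subtype.ext ?_
    rw [show (⟨S.el a σ, S.el_mem a σ⟩ : ↥(normalizer (B.V : Set G))) = ⟨(x : G), B.QG_le_normalizer x.2⟩ from
      Subtype.ext he]
    exact F.phi_elem D hD hj hx
  subst hσ
  have hmlt : app (matC (cE j)) a < 2048 := by
    rw [← ev_smul hv ha]; exact LargeFischer.Big.ev_lt _
  have haC : a ∈ cC j := by
    rw [← fix_mem hj ha]
    have h1 := S.el_mul hv hM ha ha (piP j hj)
    rw [show S.el a ⟨permOf (cE j), hM⟩ = (x : G) from he, show S.el a (piP j hj) = (x : G) from he, hx2] at h1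
    have h0 : S.el 0 1 = 1 := by rw [BigPack.Sec.el, D.evG_zero, map_one, one_mul]
    have h2 := (S.el_inj (Nat.xor_lt_two_pow (n := 11) ha hmlt) (by norm_num) (h1.symm.trans h0.symm)).1
    exact (Nat.xor_eq_zero_iff.1 h2).symm
  obtain ⟨hz, hzlt⟩ := TC.z_mem j hj
  have hcl : ∀ p ∈ cC j, ∀ q ∈ cC j, p ^^^ q ∈ cC j := fun p hp q hq => by
    have hp' := (coset_ok j hj p hp).1
    have hq' := (coset_ok j hj q hq).1
    have hx' := Nat.xor_lt_two_pow (n := 11) hp' hq'
    rw [← fix_mem hj hx', J4Module.app_xor, (fix_mem hj hp').2 hp, (fix_mem hj hq').2 hq]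
  refine ⟨a ^^^ clsZ.getD j 0, hcl _ haC _ hz, fun u hu => ?_⟩
  have hu' := (coset_ok j hj u hu).1
  set w := u ^^^ a with hw
  have hwC : w ∈ cC j := hcl _ hu _ haC
  obtain ⟨hwlt, hwQ, hwN⟩ := coset_ok j hj w hwC
  have hel : S.el u (piP j hj) = D.evG w * (x : G) := by
    rw [← he, BigPack.Sec.el, BigPack.Sec.el, ← mul_assoc, ← D.evG_xor hwlt ha, hw, Nat.xor_assoc,
      Nat.xor_self, Nat.xor_zero]
  have hbit : (maskOf (cD j)).testBit (u ^^^ (a ^^^ clsZ.getD j 0)) =
      (maskOf (cD j)).testBit (w ^^^ clsZ.getD j 0) := by rw [hw, Nat.xor_assoc]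
  rw [hbit, hel, F.evG_el D hD hwlt]
  have hk : app pairCols w < 2048 := (Orb.pair_bij w hwlt).1
  by_cases hQ : app pairCols w / 64 % 16 = 0
  · obtain ⟨-, hqb, hcls⟩ := hwQ hQ
    have hmem := (F.coords.el_mem_Q _ hk).2 hQ
    set y : ↥(QG M.Q) := ⟨F.coords.el (app pairCols w) * x, mul_mem hmem x.2⟩
    have hy : M.vec y = cV j ^^^ Big.bigW.getD (app pairCols w % 64) 0 := by
      have h := M.vec_mul ⟨_, hmem⟩ x
      rw [F.coords.el_vec _ hk ⟨_, hmem⟩ rfl, hx, Nat.xor_comm] at h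
      exact h
    have hne : M.vec y ≠ 0 := by
      intro h0
      rw [hy, Nat.xor_eq_zero_iff] at h0
      have hW : M.vec ⟨_, hmem⟩ ∈ Big.bigW :=
        (Big.bigW_iff _ (M.vec_lt _)).1 ((B.inf_Q ⟨_, hmem⟩).1 (F.coords.el_mem _ hk))
      rw [F.coords.el_vec _ hk ⟨_, hmem⟩ rfl, ← h0, ← Big.bigW_iff _ hlt, hb] at hW
      simp at hW
    rw [hcls, beq_iff_eq, ← hy]
    rw [← hy] at hqb
    refine ⟨fun h => ?_, fun h => (F.cls_class hG y).1 h⟩
    obtain ⟨k, hk', -⟩ := (J4Module.mask_cover _ (M.vec_lt y)).2 hne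
    have hc := cls_spec _ (M.vec_lt y) k hk'
    have h3 := cls_qbit _ (M.vec_lt y)
    rw [hqb] at h3
    fin_cases k
    · exact hc
    · exact absurd h ((F.cls_class hG y).2 hc)
    · simp at hc
      rw [hc] at h3
      simp at h3
  · rw [hwN hQ]
    simp only [Bool.false_eq_true, iff_false]
    set d := F.coords.el (app pairCols w)
    have hd : d ∈ B.V := F.coords.el_mem _ hk
    have h2 : d * (x : G) * (d * (x : G)) = 1 := by
      rw [show d * (x : G) = S.el u (piP j hj) by rw [hel, F.evG_el D hD hwlt]]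
      have h1 := S.el_mul hv hM hu' hu' (piP j hj)
      rw [show S.el u ⟨permOf (cE j), hM⟩ = S.el u (piP j hj) from rfl, (fix_mem hj hu').2 hu, Nat.xor_self] at h1
      rw [h1, BigPack.Sec.el, D.evG_zero, one_mul]
      refine (congrArg S.kk (?_ : _ = (1 : ↥M24))).trans (map_one _)
      rw [show (⟨permOf (cE j), hM⟩ : ↥M24) = piP j hj from rfl, piP]
      refine Subtype.ext ?_
      exact (sameF_iff ((code_permOf hv).cmp (code_permOf hv)) code_idC).1 (sq_ok j hj)
    have hcomm : d * (x : G) = (x : G) * d := by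
      have e := inv_eq_of_mul_eq_one_right h2
      rw [mul_inv_rev, inv_eq_of_mul_eq_one_right hx2, inv_eq_of_mul_eq_one_right (B.sq d hd)] at e
      exact e.symm
    rw [hcomm]
    exact F.e6_not_conj hG (B.e6_of_prod hxV hd (fun h => hQ ((F.coords.el_mem_Q _ hk).1 h))
      (by rw [← hcomm]; exact h2))

/-- Over the first permutation the first class is exactly the displacements. -/
theorem class_A (hG : ¬ IsMulCommutative G) (D : BigPack z B.V) (hD : D.eS = F.coords.eS) (S : D.Sec) :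
    ∀ u ∈ cC 0, (IsConj z (S.el u (piP 0 (by norm_num))) ↔ (maskOf (cD 0)).testBit u = true) := by
  obtain ⟨u0, hu0, h⟩ := F.coset_class hG D hD S (show 0 < 2 by norm_num)
  have hu0' := (coset_ok 0 (by norm_num) u0 hu0).1
  have hinv : (maskOf (cD 0)).testBit u0 = true := by
    refine inv_ok u0 hu0 fun g hg => ?_
    obtain ⟨hv, haut, hc⟩ := comm_ok g hg
    set σ : ↥M24 := ⟨permOf g, permOf_mem_M24 hv haut⟩ with hσ
    have hcomm : σ * piP 0 (by norm_num) = piP 0 (by norm_num) * σ := Subtype.ext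
      ((sameF_iff ((code_permOf hv).cmp (code_permOf (elt_spec 0 (by norm_num)).1))
        ((code_permOf (elt_spec 0 (by norm_num)).1).cmp (code_permOf hv))).1 hc)
    have hlt : app (matC g) u0 < 2048 := by rw [← ev_smul hv hu0']; exact LargeFischer.Big.ev_lt _
    have hconj : S.kk σ * S.el u0 (piP 0 (by norm_num)) * (S.kk σ)⁻¹ =
        S.el (app (matC g) u0) (piP 0 (by norm_num)) := by
      rw [BigPack.Sec.el, BigPack.Sec.el, ← S.kk_conj hv (permOf_mem_M24 hv haut) hu0']
      calc S.kk σ * (D.evG u0 * S.kk (piP 0 _)) * (S.kk σ)⁻¹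
          = S.kk σ * D.evG u0 * (S.kk σ)⁻¹ * (S.kk σ * S.kk (piP 0 (by norm_num)) * (S.kk σ)⁻¹) := by group
        _ = _ := by rw [← map_mul, hcomm, map_mul, mul_inv_cancel_right]
    have hmem : app (matC g) u0 ∈ cC 0 := by
      rw [← fix_mem (by norm_num) hlt]
      have e := congrArg (fun τ : ↥M24 => S.kk τ * D.evG u0 * (S.kk τ)⁻¹) hcomm
      simp only [map_mul] at e
      refine D.evG_inj (by
        rw [← ev_smul (elt_spec 0 (by norm_num)).1 hlt]; exact LargeFischer.Big.ev_lt _) hlt ?_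
      rw [← S.kk_conj (elt_spec 0 (by norm_num)).1 (piP 0 (by norm_num)).2 hlt,
        ← S.kk_conj hv (permOf_mem_M24 hv haut) hu0']
      calc S.kk (piP 0 (by norm_num)) * (S.kk σ * D.evG u0 * (S.kk σ)⁻¹) * (S.kk (piP 0 (by norm_num)))⁻¹
          = S.kk (piP 0 (by norm_num)) * S.kk σ * D.evG u0 * (S.kk (piP 0 (by norm_num)) * S.kk σ)⁻¹ := by group
        _ = S.kk σ * (S.kk (piP 0 (by norm_num)) * D.evG u0 * (S.kk (piP 0 (by norm_num)))⁻¹) * (S.kk σ)⁻¹ := by
          rw [← e]; group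
        _ = _ := by
          rw [show S.kk (piP 0 (by norm_num)) * D.evG u0 * (S.kk (piP 0 (by norm_num)))⁻¹ = D.evG u0 by
            have := S.kk_conj (elt_spec 0 (by norm_num)).1 (piP 0 (by norm_num)).2 hu0'
            rw [(fix_mem (by norm_num) hu0').2 hu0] at this
            exact this]
    have h1 : IsConj z (S.el u0 (piP 0 (by norm_num))) := (h u0 hu0).2 (by
      rw [Nat.xor_self]; exact maskOf_mem.2 (zero_mem_cD 0 (by norm_num)))
    exact (h _ hmem).1 (h1.trans (isConj_iff.2 ⟨_, hconj⟩))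
  intro u hu
  rw [h u hu, maskOf_mem, maskOf_mem]
  have hd := maskOf_mem.1 hinv
  exact ⟨fun h1 => by simpa [Nat.xor_assoc] using cD_xor 0 (by norm_num) _ h1 _ hd,
    fun h1 => cD_xor 0 (by norm_num) _ h1 _ hd⟩

/-- Over the second permutation the first class is one of the two cosets of the displacements. -/
theorem class_B (hG : ¬ IsMulCommutative G) (D : BigPack z B.V) (hD : D.eS = F.coords.eS) (S : D.Sec) :
    ∃ ε : Bool, ∀ u ∈ cC 1,
      (IsConj z (S.el u (piP 1 (by norm_num))) ↔ (maskOf (cD 1)).testBit u = ε) := by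
  obtain ⟨u0, hu0, h⟩ := F.coset_class hG D hD S (show 1 < 2 by norm_num)
  refine ⟨(maskOf (cD 1)).testBit u0, fun u hu => (h u hu).trans ?_⟩
  cases hb : (maskOf (cD 1)).testBit u0 with
  | true =>
    have hd := maskOf_mem.1 hb
    rw [maskOf_mem, maskOf_mem]
    exact ⟨fun h1 => by simpa [Nat.xor_assoc] using cD_xor 1 (by norm_num) _ h1 _ hd,
      fun h1 => cD_xor 1 (by norm_num) _ h1 _ hd⟩
  | false =>
    constructor
    · intro h1
      by_contra h2
      rw [Bool.not_eq_false] at h2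
      have := cD_xor 1 (by norm_num) _ (maskOf_mem.1 h1) _ (maskOf_mem.1 h2)
      rw [Nat.xor_comm (u ^^^ u0), ← Nat.xor_assoc, Nat.xor_self, Nat.zero_xor, ← maskOf_mem, hb] at this
      simp at this
    · intro h1
      exact two_ok u hu h1 u0 hu0 hb

end BigData.Facts

end Cfsg.Agent.JankoFour
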