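import Cfsg.Agent.Lib.JankoFour.TCountClassChecks
import Cfsg.Agent.Lib.JankoFour.TCountData

/-!
Computable functions for the count inside the centraliser of a pair.
-/

set_option autoImplicit false

namespace Cfsg.Agent.JankoFour.TC

open Cfsg.Agent.J4Module (app)
open Cfsg.Agent.PermCert (Elt validElt)
open Cfsg.Agent.Golay (spanList imgMask)
open Cfsg.Agent.Golay.Local (cmpF sameF idC conjF)
open Cfsg.Agent.LargeFischer.Big (pairs pp)

/-- An entry of a list, cheap for the kernel. -/
def nth {α : Type} (d : α) (n : ℕ) : List α → α :=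
  Nat.rec (fun l => l.headD d) (fun _ r l => r l.tail) n

/-- The record of an involution. -/
def ent (i : ℕ) : ℕ × ℕ × ℕ × ℕ × ℕ := nth (0, 0, 0, 0, 0) (i % 256) (nth [] (i / 256) invBlocks)

/-- An involution of the stabiliser. -/
def eI (i : ℕ) : Elt := ((ent i).1, (ent i).1)

/-- A field of eleven bits. -/
def fld (n j : ℕ) : ℕ := n / 2 ^ (11 * j) % 2048

/-- Its columns. -/
def colI (i : ℕ) : List ℕ := (List.range 11).map (fld (ent i).2.2.1)

/-- The root of its orbit. -/
def rootI (i : ℕ) : ℕ := if i < 330 then 0 else if i < 1485 then 330 else 1485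

/-- The index of the standard involution it is conjugate to. -/
def jI (i : ℕ) : ℕ := if i < 1485 then 0 else 1

/-- Its basis of fixed coordinates, ending with a basis of the displacements. -/
def basI (i : ℕ) : List ℕ := (List.range (if i < 1485 then 7 else 6)).map (fld (ent i).2.1)

/-- The fixed coordinates. -/
def spI (i : ℕ) : List ℕ := spanList (basI i)

/-- The number of displacements. -/
def nD (i : ℕ) : ℕ := if i < 1485 then 16 else 32

/-- Whether the first class is the displacements. -/
def side (ε : Bool) (i : ℕ) : Bool := decide (i < 1485) || ε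

/-- The first class over an involution. -/
def zL (ε : Bool) (i : ℕ) : List ℕ := if side ε i then (spI i).take (nD i) else (spI i).drop (nD i)

/-- The second class over an involution. -/
def tL (ε : Bool) (i : ℕ) : List ℕ := if side ε i then (spI i).drop (nD i) else (spI i).take (nD i)

/-- The pairs, as coordinates. -/
def tV : List ℕ := pairs.map fun a => pp a.1 ^^^ pp a.2

/-- The first class inside the abelian subgroup. -/
def zV : List ℕ := (List.range 2048).filter fun u => !(Nat.beq u 0) && !((maskOf tV).testBit u)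

/-- A bit. -/
def tb (n k : ℕ) : ℕ := Nat.mod (Nat.shiftRight n k) 2

/-- The map with packed columns. -/
def appQ (P n : ℕ) : ℕ :=
  Nat.mod (Nat.xor (Nat.mul (tb n 0) P) (Nat.xor (Nat.mul (tb n 1) (Nat.shiftRight P 11))
    (Nat.xor (Nat.mul (tb n 2) (Nat.shiftRight P 22)) (Nat.xor (Nat.mul (tb n 3) (Nat.shiftRight P 33))
    (Nat.xor (Nat.mul (tb n 4) (Nat.shiftRight P 44)) (Nat.xor (Nat.mul (tb n 5) (Nat.shiftRight P 55))
    (Nat.xor (Nat.mul (tb n 6) (Nat.shiftRight P 66)) (Nat.xor (Nat.mul (tb n 7) (Nat.shiftRight P 77))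
    (Nat.xor (Nat.mul (tb n 8) (Nat.shiftRight P 88)) (Nat.xor (Nat.mul (tb n 9) (Nat.shiftRight P 99))
    (Nat.mul (tb n 10) (Nat.shiftRight P 110)))))))))))) 2048

/-- The points of the sets with unit coordinates. -/
def setPts : List (List ℕ) := setCols.map fun m => (List.range 24).filter fun p => m.testBit p

/-- The columns of a permutation, from the images of the points. -/
def matF (e : Elt) : List ℕ :=
  setPts.map fun l => l.foldr (fun p a => Nat.xor (pp (Cfsg.Agent.Golay.Local.g5 e.1 p)) a) 0

/-- The packed columns. -/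
def matP (e : Elt) : ℕ := (matF e).foldr (fun c a => c + 2048 * a) 0

/-- The partial norm of a product of two packed maps. -/
def fsum (Ps Pt k c : ℕ) : ℕ := Nat.rec 0 (fun _ r => Nat.xor c (appQ Ps (appQ Pt r))) k

/-- The number of subset sums with a given value. -/
def cntR (l : List ℕ) : ℕ → ℕ :=
  List.rec (fun t => bif Nat.beq t 0 then 1 else 0) (fun b _ r t => Nat.add (r t) (r (Nat.xor t b))) l

/-- The order of a code. -/
def findN (r : ℕ) : ℕ → ℕ → ℕ → ℕ
  | 0, _, _ => 0
  | fuel + 1, p, k => if sameF p idC then k else findN r fuel (cmpF r p) (k + 1)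

/-- The order of the product of two codes. -/
def prodN (s t : ℕ) : ℕ := let r := cmpF s t; findN r 30 r 1

/-- The identity. -/
def idE : Elt := (idC, idC)

/-- The identity with packed columns. -/
def idP : ℕ := (List.range 11).foldr (fun j a => 2 ^ j + 2048 * a) 0

/-- All records. -/
def invList : List (ℕ × ℕ × ℕ × ℕ × ℕ) := invBlocks.flatten

/-- Good partners over the identity. -/
def cntV (s Ps u : ℕ) : ℕ :=
  let n := prodN s idC
  let tgt := Nat.xor 2 (fsum Ps idP n u)
  (tV.filter fun w => Nat.beq (fsum Ps idP n (appQ Ps w)) tgt).length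

/-- Good partners over an involution: among all fixed coordinates, and among the displacements. -/
def cntE (s Ps u : ℕ) (b : Bool) (e : ℕ × ℕ × ℕ × ℕ × ℕ) : ℕ × ℕ :=
  let Pt := e.2.2.1
  let n := prodN s e.1
  let tgt := Nat.xor 2 (fsum Ps Pt n u)
  let im := ((List.range (bif b then 6 else 7)).map (fld e.2.1)).map fun c => fsum Ps Pt n (appQ Ps c)
  (cntR im tgt, cntR (im.drop (bif b then 1 else 3)) tgt)

/-- The three sums deciding the value at an element of the first class. -/
def gsums (s Ps u : ℕ) : ℕ × ℕ × ℕ :=
  let A := (invList.take 1485).map (cntE s Ps u false)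
  let B := (invList.drop 1485).map (cntE s Ps u true)
  (cntV s Ps u + (A.map fun p => p.1 - p.2).sum, (B.map fun p => p.1 - p.2).sum, (B.map fun p => p.2).sum)

/-- The value at an element of the first class. -/
def gval (s Ps u : ℕ) (ε : Bool) : ℕ :=
  let g := gsums s Ps u
  g.1 + if ε then g.2.1 else g.2.2

/-- The representative in the first class over a root. -/
def repZ (ε : Bool) (i : ℕ) : ℕ := (zL ε i).getD 0 0

/-- An element of an orbit in the abelian subgroup. -/
def orbU (L : List ℕ) (k : ℕ) : ℕ := nth 0 k L / 8192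

/-- Its link. -/
def orbP (L : List ℕ) (k : ℕ) : ℕ := nth 0 k L % 8192

end Cfsg.Agent.JankoFour.TC
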