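import Cfsg.Agent.Lib.JankoFour.TCountCentData
import Cfsg.Agent.Lib.Golay.Local.Cents
import Cfsg.Agent.Lib.JankoFour.DuadAut
import Cfsg.Agent.S1875

/-!
An upper bound on the involutions of the group of the code fixing a pair of points.
-/

set_option autoImplicit false
set_option maxRecDepth 100000

namespace Cfsg.Agent.JankoFour.TC

open Subgroup
open Cfsg (GolayPt M24)
open Cfsg.Agent.PermCert (Elt validElt checkCert certOrder)
open Cfsg.Agent.Golay (maskSet toMask imgMask maskSet_imgMask maskSet_toMask idx idx_lt permOf genPerm card_M24)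
open Cfsg.Agent.Golay.Local
open scoped Pointwise

/-- The standard pair. -/
def duad2 : Finset GolayPt := maskSet 3

theorem card_duad2 : duad2.card = 2 := by decide +kernel

/-- The pairs fixed by a coded permutation. -/
def fixedMasks (e : Elt) : List ℕ :=
  (((List.range 24).flatMap fun b => (List.range b).map fun a => 2 ^ a + 2 ^ b)).filter fun m =>
    Nat.beq (imgMask e m) m

theorem cenA_elts : allF eltOK₂ cenAGens = true := by decide +kernel

theorem cenA_cert : checkCert 5 24 cenAGens [] cenALevels = true := by decide +kernel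

theorem cenA_order : certOrder cenALevels = 21504 ∧
    allF (fun g => sameF (cmpF g.1 rep2A.1) (cmpF rep2A.1 g.1)) cenAGens = true := by decide +kernel

theorem fixed_len : (fixedMasks rep2A).length ≤ 36 ∧ (fixedMasks rep2B).length ≤ 12 := by decide +kernel

theorem fixed_duads_le {e : Elt} (he : validElt 5 24 e = true) (R : ↥M24) (hR : (R : Equiv.Perm GolayPt) = permOf e) :
    Nat.card {D : Finset GolayPt // D.card = 2 ∧ R • D = D} ≤ (fixedMasks e).length := by
  classical
  rw [Nat.card_eq_fintype_card, Fintype.card_subtype]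
  refine le_trans (Finset.card_le_card (t := ((fixedMasks e).map maskSet).toFinset) fun D hD => ?_) ?_
  · obtain ⟨h2, hf⟩ := (Finset.mem_filter.1 hD).2
    obtain ⟨p, q, hpq, rfl⟩ := Finset.card_eq_two.1 h2
    rw [List.mem_toFinset, List.mem_map]
    clear hD
    wlog hlt : idx p < idx q generalizing p q
    · rw [Finset.pair_comm] at hf ⊢
      refine this q p hpq.symm (by rwa [Finset.pair_comm] at h2) hf ?_
      rcases Nat.lt_or_ge (idx q) (idx p) with h | h
      · exact h
      · exact absurd (Cfsg.Agent.Golay.idx_injective (le_antisymm h (not_lt.1 hlt))) hpq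
    refine ⟨2 ^ idx p + 2 ^ idx q, ?_, ?_⟩
    · have hset : maskSet (2 ^ idx p + 2 ^ idx q) = {p, q} := by
        ext x
        rw [Cfsg.Agent.Golay.mem_maskSet, Finset.mem_insert, Finset.mem_singleton]
        have key : ∀ a < 24, ∀ b < 24, a < b → ∀ i < 24,
            (2 ^ a + 2 ^ b).testBit i = (i == a || i == b) := by decide +kernel
        rw [key _ (idx_lt p) _ (idx_lt q) hlt _ (idx_lt x)]
        simp [Cfsg.Agent.Golay.idx_injective.eq_iff]
      refine List.mem_filter.2 ⟨List.mem_flatMap.2 ⟨idx q, List.mem_range.2 (idx_lt q),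
        List.mem_map.2 ⟨idx p, List.mem_range.2 hlt, rfl⟩⟩, ?_⟩
      rw [Nat.beq_eq]
      have h := maskSet_imgMask he (2 ^ idx p + 2 ^ idx q)
      rw [hset] at h
      have hf' : permOf e • ({p, q} : Finset GolayPt) = {p, q} := by rw [← hR]; exact hf
      rw [hf', ← hset] at h
      have hlt24 : 2 ^ idx p + 2 ^ idx q < 2 ^ 24 := by
        have key : ∀ b < 24, ∀ a < b, 2 ^ a + 2 ^ b < 2 ^ 24 := by decide +kernel
        exact key _ (idx_lt q) _ hlt
      rw [← Cfsg.Agent.Golay.toMask_maskSet (m := imgMask e _) (Cfsg.Agent.Golay.mkMask_lt _ _), ← h,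
        Cfsg.Agent.Golay.toMask_maskSet hlt24]
    · ext x
      rw [Cfsg.Agent.Golay.mem_maskSet, Finset.mem_insert, Finset.mem_singleton]
      have key : ∀ a < 24, ∀ b < 24, a < b → ∀ i < 24,
          (2 ^ a + 2 ^ b).testBit i = (i == a || i == b) := by decide +kernel
      rw [key _ (idx_lt p) _ (idx_lt q) hlt _ (idx_lt x)]
      simp [Cfsg.Agent.Golay.idx_injective.eq_iff]
  · exact (List.toFinset_card_le _).trans_eq (List.length_map _)

theorem exists_map_pair {D : Finset GolayPt} (hD : D.card = 2) : ∃ g : ↥M24, g • D = duad2 := by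
  obtain ⟨g, hg⟩ := TwoCent.exists_map_finset (s := D) (t := duad2) (by rw [hD, card_duad2]) (by omega)
  exact ⟨g, hg⟩

theorem fix_count_le (R : ↥M24) (c f : ℕ) (hc : c ≤ Nat.card ↥(centralizer ({R} : Set ↥M24)))
    (hf : Nat.card {D : Finset GolayPt // D.card = 2 ∧ R • D = D} ≤ f) :
    Nat.card {σ : ↥M24 // IsConj R σ ∧ σ • duad2 = duad2} * 276 * c ≤ 244823040 * f := by
  classical
  set Y := {q : ↥M24 × Finset GolayPt // IsConj R q.1 ∧ q.2.card = 2 ∧ q.1 • q.2 = q.2}
  have h1 : Nat.card Y = Nat.card {σ : ↥M24 // IsConj R σ} *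
      Nat.card {D : Finset GolayPt // D.card = 2 ∧ R • D = D} := by
    have e : Y ≃ Σ σ : {σ : ↥M24 // IsConj R σ}, {D : Finset GolayPt // D.card = 2 ∧ σ.1 • D = D} :=
      { toFun := fun q => ⟨⟨q.1.1, q.2.1⟩, q.1.2, q.2.2⟩
        invFun := fun s => ⟨(s.1.1, s.2.1), s.1.2, s.2.2⟩
        left_inv := fun q => rfl
        right_inv := fun s => rfl }
    have hw : ∀ σ : {σ : ↥M24 // IsConj R σ}, Nat.card {D : Finset GolayPt // D.card = 2 ∧ σ.1 • D = D} =
        Nat.card {D : Finset GolayPt // D.card = 2 ∧ R • D = D} := by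
      rintro ⟨σ, hσ⟩
      obtain ⟨k, rfl⟩ := isConj_iff.1 hσ
      refine (Nat.card_congr (Equiv.subtypeEquiv (MulAction.toPerm k) fun D => ?_)).symm
      show _ ↔ (k • D).card = 2 ∧ (k * R * k⁻¹) • k • D = k • D
      rw [Finset.card_smul_finset, mul_smul, mul_smul, inv_smul_smul, smul_left_cancel_iff]
    rw [Nat.card_congr e, Nat.card_sigma, Finset.sum_congr rfl fun w _ => hw w, Finset.sum_const, smul_eq_mul,
      Finset.card_univ, ← Nat.card_eq_fintype_card]
  have h2 : Nat.card Y = 276 * Nat.card {σ : ↥M24 // IsConj R σ ∧ σ • duad2 = duad2} := by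
    have e : Y ≃ Σ D : {D : Finset GolayPt // D.card = 2}, {σ : ↥M24 // IsConj R σ ∧ σ • D.1 = D.1} :=
      { toFun := fun q => ⟨⟨q.1.2, q.2.2.1⟩, q.1.1, q.2.1, q.2.2.2⟩
        invFun := fun s => ⟨(s.2.1, s.1.1), s.2.2.1, s.1.2, s.2.2.2⟩
        left_inv := fun q => rfl
        right_inv := fun s => rfl }
    have hw : ∀ D : {D : Finset GolayPt // D.card = 2}, Nat.card {σ : ↥M24 // IsConj R σ ∧ σ • D.1 = D.1} =
        Nat.card {σ : ↥M24 // IsConj R σ ∧ σ • duad2 = duad2} := by
      rintro ⟨D, hD⟩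
      obtain ⟨k, hk⟩ := exists_map_pair hD
      refine Nat.card_congr (Equiv.subtypeEquiv (MulAut.conj k).toEquiv fun σ => and_congr ?_ ?_)
      · exact ⟨fun h => h.trans (isConj_iff.2 ⟨k, rfl⟩),
          fun h => h.trans (isConj_iff.2 ⟨k⁻¹, by simp [mul_assoc]⟩)⟩
      · show _ ↔ (k * σ * k⁻¹) • duad2 = duad2
        rw [← hk, mul_smul, mul_smul, inv_smul_smul, smul_left_cancel_iff]
    rw [Nat.card_congr e, Nat.card_sigma, Finset.sum_congr rfl fun w _ => hw w, Finset.sum_const, smul_eq_mul,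
      Finset.card_univ, Fintype.card_finset_len, show Fintype.card GolayPt = 24 from rfl,
      show Nat.choose 24 2 = 276 by decide]
  have h3 : Nat.card {σ : ↥M24 // IsConj R σ} * Nat.card ↥(centralizer ({R} : Set ↥M24)) = 244823040 :=
    (S1875.card_class_mul R).trans card_M24
  calc Nat.card {σ : ↥M24 // IsConj R σ ∧ σ • duad2 = duad2} * 276 * c
      ≤ Nat.card Y * Nat.card ↥(centralizer ({R} : Set ↥M24)) := by
        rw [h2, Nat.mul_comm 276]; exact Nat.mul_le_mul_left _ hc
    _ = 244823040 * Nat.card {D : Finset GolayPt // D.card = 2 ∧ R • D = D} := by rw [h1, ← h3]; ring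
    _ ≤ _ := Nat.mul_le_mul_left _ hf

/-- The involutions fixing the standard pair. -/
theorem stab_invol_le :
    Nat.card {σ : ↥M24 // σ * σ = 1 ∧ σ ≠ 1 ∧ σ • duad2 = duad2} ≤ 2871 := by
  classical
  set RA : ↥M24 := ⟨R2A, reps_spec.1.2⟩
  set RB : ↥M24 := ⟨R2B, reps_spec.2.1.2⟩
  have hA : 21504 ≤ Nat.card ↥(centralizer ({RA} : Set ↥M24)) := by
    have hle := genPerm_le cenA_elts
    have hcard : Nat.card ↥((genPerm cenAGens).subgroupOf M24) = 21504 := by
      rw [Nat.card_congr (subgroupOfEquivOfLe hle).toEquiv, card_genPerm cenA_cert, cenA_order.1]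
    rw [← hcard]
    refine card_le_of_le fun g hg => ?_
    rw [mem_centralizer_singleton_iff]
    have h : genPerm cenAGens ≤ centralizer {R2A} := genPerm_induction _ fun e he => by
      rw [mem_centralizer_singleton_iff]
      have hv := (eltOK_spec (allF_iff.1 cenA_elts e he)).1
      exact (sameF_iff ((code_permOf hv).cmp code_R2A) (code_R2A.cmp (code_permOf hv))).1
        (allF_iff.1 cenA_order.2 e he)
    exact Subtype.ext (mem_centralizer_singleton_iff.1 (h hg))
  have hB : 7680 ≤ Nat.card ↥(centralizer ({RB} : Set ↥M24)) := by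
    rw [← card_C2B, ← Nat.card_congr (subgroupOfEquivOfLe (show C2B ≤ M24 from
      fun c hc => (mem_C2B_iff.1 hc).1)).toEquiv]
    refine card_le_of_le fun g hg => ?_
    rw [mem_centralizer_singleton_iff]
    exact Subtype.ext (mem_C2B_iff.1 hg).2
  have a := fix_count_le RA _ _ hA ((fixed_duads_le reps_spec.1.1 RA rfl).trans fixed_len.1)
  have b := fix_count_le RB _ _ hB ((fixed_duads_le reps_spec.2.1.1 RB rfl).trans fixed_len.2)
  have hsub : Nat.card {σ : ↥M24 // σ * σ = 1 ∧ σ ≠ 1 ∧ σ • duad2 = duad2} ≤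
      Nat.card {σ : ↥M24 // IsConj RA σ ∧ σ • duad2 = duad2} +
        Nat.card {σ : ↥M24 // IsConj RB σ ∧ σ • duad2 = duad2} := by
    simp only [Nat.card_eq_fintype_card, Fintype.card_subtype]
    refine le_trans (Finset.card_le_card fun σ hσ => ?_) (Finset.card_union_le _ _)
    obtain ⟨-, h2, h1, hd⟩ := Finset.mem_filter.1 hσ
    have ho : orderOf (σ : Equiv.Perm GolayPt) = 2 := orderOf_eq_prime
      (by rw [pow_two]; exact congrArg Subtype.val h2) fun e => h1 (Subtype.ext e)
    obtain ⟨k, hk, e | e⟩ := class2 σ.2 ho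
    · exact Finset.mem_union_left _ (Finset.mem_filter.2 ⟨Finset.mem_univ _,
        isConj_iff.2 ⟨⟨k, hk⟩, Subtype.ext e.symm⟩, hd⟩)
    · exact Finset.mem_union_right _ (Finset.mem_filter.2 ⟨Finset.mem_univ _,
        isConj_iff.2 ⟨⟨k, hk⟩, Subtype.ext e.symm⟩, hd⟩)
  omega

end Cfsg.Agent.JankoFour.TC
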