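import Cfsg.Agent.Lib.JankoFour.TCountClasses
import Cfsg.Agent.Lib.JankoFour.TCountChecks
import Cfsg.Agent.Lib.JankoFour.TCountFast
import Cfsg.Agent.Lib.JankoFour.TCountStab

/-!
The involutions of the centraliser of a pair in coordinates, with their classes.
-/

set_option autoImplicit false
set_option linter.unusedSectionVars false
set_option maxRecDepth 100000

namespace Cfsg.Agent.JankoFour

open Subgroup
open Cfsg (GolayPt M24)
open Cfsg.Agent.LargeFischer (Ctx QG)
open Cfsg.Agent.LargeFischer.Big (ev)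
open Cfsg.Agent.Golay (maskSet toMask imgMask maskSet_imgMask permOf permOf_mem_M24 spanList)
open Cfsg.Agent.Golay.Local (cmpF sameF idC conjF Code code_permOf sameF_iff code_idC)
open Cfsg.Agent.PermCert (Elt validElt)
open Cfsg.Agent.J4Module (app)
open scoped Pointwise

namespace TC

theorem mem_drop_iff {l : List ℕ} (h : l.Nodup) (n : ℕ) (v : ℕ) : v ∈ l.drop n ↔ v ∈ l ∧ v ∉ l.take n := by
  conv_rhs => rw [← List.take_append_drop n l, List.mem_append]
  have hd := List.disjoint_take_drop h (le_refl n)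
  constructor
  · intro hv
    refine ⟨Or.inr hv, fun ht => hd ?_ hv⟩
    simpa using ht
  · rintro ⟨h1 | h1, h2⟩
    · exact absurd (by simpa using h1) h2
    · exact h1

theorem mem_take_iff {l : List ℕ} (h : l.Nodup) (n : ℕ) (v : ℕ) : v ∈ l.take n ↔ v ∈ l ∧ v ∉ l.drop n := by
  rw [mem_drop_iff h]
  exact ⟨fun hv => ⟨List.mem_of_mem_take hv, fun h' => h'.2 hv⟩, fun ⟨h1, h2⟩ => by
    by_contra h3; exact h2 ⟨h1, h3⟩⟩

theorem chk {i : ℕ} (hi : i < 2871) :
    validElt 5 24 (eI i) = true ∧ (ent i).2.2.1 = matP (eI i) ∧ imgMask (eI i) 3 = 3 ∧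
      sameF (cmpF (ent i).1 (ent i).1) idC = true ∧ sameF (ent i).1 idC = false ∧
      (i = rootI i ∨ (parL i < i ∧ rootI (parL i) = rootI i ∧
        sameF (ent i).1 (conjF (genL i) (ent (parL i)).1) = true ∧
        basI i = (basI (parL i)).map (appQ (genP ((ent i).2.2.2.1 % 2))))) ∧
      srt (ent i).2.2.2.2 = i ∧ (ent i).2.2.2.2 < 2871 := by
  have h := rec_ok i hi
  simp only [chkInv, Bool.and_eq_true, Bool.or_eq_true, Bool.not_eq_true', Nat.beq_eq, Nat.blt_eq,
    beq_iff_eq] at h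
  obtain ⟨⟨⟨⟨⟨⟨⟨h1, h2⟩, h3⟩, h4⟩, h5⟩, h6⟩, h7⟩, h8⟩ := h
  exact ⟨h1, h2, h3, h4, h5, h6.imp id fun ⟨⟨⟨a, b⟩, c⟩, d⟩ => ⟨a, b, c, d⟩, h7, h8⟩

theorem rootI_cases (i : ℕ) : ∃ r < 3, rootI i = roots.getD r 0 := by
  rw [rootI]
  split_ifs
  · exact ⟨0, by norm_num, rfl⟩
  · exact ⟨1, by norm_num, rfl⟩
  · exact ⟨2, by norm_num, rfl⟩

theorem same_class {p i : ℕ} (h : rootI p = rootI i) :
    nD p = nD i ∧ jI p = jI i ∧ ∀ ε, side ε p = side ε i := by
  have hc : p < 1485 ↔ i < 1485 := by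
    unfold rootI at h
    split_ifs at h <;> omega
  simp [nD, jI, side, hc]

theorem gen_spec (i : ℕ) : validElt 5 24 (genL i) = true ∧ Cfsg.Agent.Golay.isAutB (genL i) = true ∧
    imgMask (genL i) 3 = 3 ∧ app (matC (genL i)) 2 = 2 :=
  stab_ok _ (genL_mem _ (Nat.mod_lt _ (by norm_num)))

theorem genP_cols (b : ℕ) (hb : b < 2) (n : ℕ) :
    appQ (genP b) n = app (matC (stabG.getD b (0, 0))) n :=
  cols_eq (stab_ok _ (genL_mem b hb)).1 (genP_ok b hb) n

theorem genP_gen (i n : ℕ) : appQ (genP ((ent i).2.2.2.1 % 2)) n = app (matC (genL i)) n :=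
  genP_cols _ (Nat.mod_lt _ (by norm_num)) n

theorem conj_perm {i : ℕ} {k : Elt} (hi : validElt 5 24 (eI i) = true) (hk : validElt 5 24 k = true) {e : ℕ}
    {σ : Equiv.Perm GolayPt} (he : Code e σ) (h : sameF (ent i).1 (conjF k e) = true) :
    permOf (eI i) = permOf k * σ * (permOf k)⁻¹ :=
  (sameF_iff (code_permOf hi) (he.conj hk)).1 h

theorem perm_mem : ∀ i < 2871, permOf (eI i) ∈ M24 := by
  intro i
  induction i using Nat.strong_induction_on with
  | _ i ih =>
    intro hi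
    obtain ⟨hv, -, -, -, -, hor, -, -⟩ := chk hi
    rcases hor with e | ⟨hp, -, hc, -⟩
    · obtain ⟨r, hr, hrr⟩ := rootI_cases i
      obtain ⟨-, -, hkv, hka, hks, hj⟩ := root_ok r hr
      rw [← hrr, ← e] at hks hj
      obtain ⟨hcv, hca, -⟩ := elt_spec _ hj
      rw [conj_perm hv hkv (code_permOf hcv) hks]
      exact mul_mem (mul_mem (permOf_mem_M24 hkv hka) (permOf_mem_M24 hcv hca))
        (inv_mem (permOf_mem_M24 hkv hka))
    · obtain ⟨hgv, hga, -, -⟩ := gen_spec i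
      have hpv := (chk (hp.trans hi)).1
      rw [conj_perm hv hgv (code_permOf hpv) hc]
      exact mul_mem (mul_mem (permOf_mem_M24 hgv hga) (ih _ hp (hp.trans hi))) (inv_mem (permOf_mem_M24 hgv hga))

/-- The involution with a given index. -/
noncomputable def sig (i : ℕ) : ↥M24 :=
  if h : permOf (eI i) ∈ M24 then ⟨permOf (eI i), h⟩ else 1

theorem sig_coe {i : ℕ} (hi : i < 2871) : (sig i : Equiv.Perm GolayPt) = permOf (eI i) := by
  rw [sig, dif_pos (perm_mem i hi)]

theorem sig_eq {i : ℕ} (hi : i < 2871) : sig i = ⟨permOf (eI i), perm_mem i hi⟩ := Subtype.ext (sig_coe hi)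

theorem sig_conj {i : ℕ} (hi : i < 2871) (hn : i ≠ rootI i) :
    sig i = ⟨permOf (genL i), permOf_mem_M24 (gen_spec i).1 (gen_spec i).2.1⟩ * sig (parL i) *
      (⟨permOf (genL i), permOf_mem_M24 (gen_spec i).1 (gen_spec i).2.1⟩ : ↥M24)⁻¹ := by
  obtain ⟨hv, -, -, -, -, hor, -, -⟩ := chk hi
  obtain ⟨hp, -, hc, -⟩ := hor.resolve_left hn
  refine Subtype.ext ?_
  rw [Subgroup.coe_mul, Subgroup.coe_mul, Subgroup.coe_inv, sig_coe hi, sig_coe (hp.trans hi)]
  exact conj_perm hv (gen_spec i).1 (code_permOf (chk (hp.trans hi)).1) hc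

theorem smul_duad2 {e : Elt} (he : validElt 5 24 e = true) (h3 : imgMask e 3 = 3) {σ : ↥M24}
    (hσ : (σ : Equiv.Perm GolayPt) = permOf e) : σ • duad2 = duad2 := by
  show (σ : Equiv.Perm GolayPt) • maskSet 3 = maskSet 3
  rw [hσ, maskSet_imgMask he, h3]

theorem sig_spec {i : ℕ} (hi : i < 2871) : sig i * sig i = 1 ∧ sig i ≠ 1 ∧ sig i • duad2 = duad2 := by
  obtain ⟨hv, -, h3, h4, h5, -⟩ := chk hi
  refine ⟨Subtype.ext ?_, fun e => ?_, smul_duad2 hv h3 (sig_coe hi)⟩
  · rw [Subgroup.coe_mul, sig_coe hi]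
    exact (sameF_iff ((code_permOf hv).cmp (code_permOf hv)) code_idC).1 h4
  · have := (sameF_iff (code_permOf hv) code_idC).2 (by rw [← sig_coe hi, e]; rfl)
    rw [show (eI i).1 = (ent i).1 from rfl, h5] at this
    exact absurd this (by simp)

theorem sig_inj {i j : ℕ} (hi : i < 2871) (hj : j < 2871) (h : sig i = sig j) : i = j := by
  obtain ⟨hvi, -, -, -, -, -, hsi, hri⟩ := chk hi
  obtain ⟨hvj, -, -, -, -, -, hsj, hrj⟩ := chk hj
  have hk : key i = key j := (code_permOf hvi).cmpF_congr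
    (by rw [← sig_coe hi, h, sig_coe hj]; exact code_permOf hvj) code_idC
  have hmono : ∀ a b, a < b → b < 2871 → key (srt a) < key (srt b) := by
    intro a b hab hb
    induction hab with
    | refl => exact sort_ok a (by omega)
    | step hle ih => exact (ih (by omega)).trans (sort_ok _ (by omega))
  rcases lt_trichotomy (ent i).2.2.2.2 (ent j).2.2.2.2 with e | e | e
  · have := hmono _ _ e hrj; rw [hsi, hsj] at this; omega
  · rw [← hsi, ← hsj, e]
  · have := hmono _ _ e hri; rw [hsi, hsj] at this; omega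

/-- The list is complete. -/
theorem sig_surj {σ : ↥M24} (h2 : σ * σ = 1) (h1 : σ ≠ 1) (hd : σ • duad2 = duad2) :
    ∃ i < 2871, sig i = σ := by
  classical
  let f : Fin 2871 → {σ : ↥M24 // σ * σ = 1 ∧ σ ≠ 1 ∧ σ • duad2 = duad2} := fun i => ⟨sig i, sig_spec i.2⟩
  have hinj : Function.Injective f := fun a b e => Fin.ext (sig_inj a.2 b.2 (congrArg Subtype.val e))
  have hb := hinj.bijective_of_nat_card_le (by rw [Nat.card_fin]; exact stab_invol_le)
  obtain ⟨i, hi⟩ := hb.2 ⟨σ, h2, h1, hd⟩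
  exact ⟨i, i.2, congrArg Subtype.val hi⟩

end TC

variable {G : Type*} [Group G] [Finite G] {z : G} {P : Subgroup G} {M : Model z P} {B : BigData M}
  {D : BigPack z B.V}

namespace BigPack.Sec

open TC

variable (S : D.Sec)

theorem el_zero_one : S.el 0 1 = 1 := by rw [el, D.evG_zero, map_one, one_mul]

theorem el_one (u : ℕ) : S.el u 1 = D.evG u := by rw [el, map_one, mul_one]

theorem map_lt {e : Elt} (he : validElt 5 24 e = true) {u : ℕ} (hu : u < 2048) : app (matC e) u < 2048 := by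
  rw [← ev_smul he hu]; exact LargeFischer.Big.ev_lt _

theorem conj_el {e : Elt} (he : validElt 5 24 e = true) (hm : permOf e ∈ M24) {u : ℕ} (hu : u < 2048)
    (σ : ↥M24) :
    S.kk ⟨permOf e, hm⟩ * S.el u σ * (S.kk ⟨permOf e, hm⟩)⁻¹ =
      S.el (app (matC e) u) (⟨permOf e, hm⟩ * σ * (⟨permOf e, hm⟩ : ↥M24)⁻¹) := by
  rw [el, el, ← S.kk_conj he hm hu, map_mul, map_mul, map_inv]
  group

include S in
theorem map_inj {e : Elt} (he : validElt 5 24 e = true) (hm : permOf e ∈ M24) {u v : ℕ} (hu : u < 2048)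
    (hv : v < 2048) (h : app (matC e) u = app (matC e) v) : u = v := by
  refine D.evG_inj hu hv ?_
  have h1 := S.kk_conj he hm hu
  rw [h, ← S.kk_conj he hm hv] at h1
  exact mul_left_cancel (mul_right_cancel h1)

include S in
theorem map_surj {e : Elt} (he : validElt 5 24 e = true) (hm : permOf e ∈ M24) {v : ℕ} (hv : v < 2048) :
    ∃ u < 2048, app (matC e) u = v := by
  let f : Fin 2048 → Fin 2048 := fun u => ⟨app (matC e) u, map_lt he u.2⟩
  have hf : Function.Injective f := fun a b h => Fin.ext (S.map_inj he hm a.2 b.2 (congrArg Fin.val h))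
  obtain ⟨u, hu⟩ := (Finite.injective_iff_surjective.1 hf) ⟨v, hv⟩
  exact ⟨u, u.2, congrArg Fin.val hu⟩

/-- Fixed coordinates and the first class over an involution of the code's group. -/
structure Fib (σ : ↥M24) (C Z : List ℕ) : Prop where
  lt : ∀ u ∈ C, u < 2048
  sq : ∀ u, u < 2048 → (S.el u σ * S.el u σ = 1 ↔ u ∈ C)
  sub : ∀ u ∈ Z, u ∈ C
  cls : ∀ u ∈ C, (IsConj z (S.el u σ) ↔ u ∈ Z)

theorem Fib.conj {σ : ↥M24} {C Z : List ℕ} (h : S.Fib σ C Z) {e : Elt} (he : validElt 5 24 e = true)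
    (hm : permOf e ∈ M24) {C' Z' : List ℕ} (hC : ∀ v, v ∈ C' ↔ ∃ u ∈ C, app (matC e) u = v)
    (hZ : ∀ v, v ∈ Z' ↔ ∃ u ∈ Z, app (matC e) u = v) :
    S.Fib (⟨permOf e, hm⟩ * σ * (⟨permOf e, hm⟩ : ↥M24)⁻¹) C' Z' := by
  refine ⟨fun v hv => ?_, fun v hv => ?_, fun v hv => ?_, fun v hv => ?_⟩
  · obtain ⟨u, hu, rfl⟩ := (hC v).1 hv
    exact map_lt he (h.lt u hu)
  · obtain ⟨u, hu, rfl⟩ := S.map_surj he hm hv
    rw [← S.conj_el he hm hu, conj_mul, conj_eq_one_iff, h.sq u hu, hC]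
    exact ⟨fun hc => ⟨u, hc, rfl⟩, fun ⟨w, hw, e'⟩ => S.map_inj he hm (h.lt w hw) hu e' ▸ hw⟩
  · obtain ⟨u, hu, rfl⟩ := (hZ v).1 hv
    exact (hC _).2 ⟨u, h.sub u hu, rfl⟩
  · obtain ⟨u, hu, rfl⟩ := (hC v).1 hv
    rw [← S.conj_el he hm (h.lt u hu), hZ]
    constructor
    · intro hc
      exact ⟨u, (h.cls u hu).1 (hc.trans (isConj_iff.2 ⟨S.kk _, rfl⟩).symm), rfl⟩
    · rintro ⟨w, hw, e'⟩
      rw [← S.map_inj he hm (h.lt w (h.sub w hw)) (h.lt u hu) e']
      exact ((h.cls w (h.sub w hw)).2 hw).trans (isConj_iff.2 ⟨S.kk _, rfl⟩)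

theorem el_sq {e : Elt} (he : validElt 5 24 e = true) (hm : permOf e ∈ M24)
    (h2 : (⟨permOf e, hm⟩ : ↥M24) * ⟨permOf e, hm⟩ = 1) {u : ℕ} (hu : u < 2048) :
    S.el u ⟨permOf e, hm⟩ * S.el u ⟨permOf e, hm⟩ = 1 ↔ app (matC e) u = u := by
  rw [S.el_mul he hm hu hu, h2, ← S.el_zero_one]
  constructor
  · intro h
    exact (Nat.xor_eq_zero_iff.1 (S.el_inj (Nat.xor_lt_two_pow (n := 11) hu (map_lt he hu)) (by norm_num) h).1).symm
  · intro h
    rw [h, Nat.xor_self]

/-- The first class over the standard involution. -/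
def baseZ (ε : Bool) (j : ℕ) : List ℕ :=
  if side ε (if j = 0 then 0 else 1485) then cD j else (cC j).filter fun u => !((maskOf (cD j)).testBit u)

theorem fib_base (F : B.Facts) [IsSimpleGroup G] (hG : ¬ IsMulCommutative G) (hD : D.eS = F.coords.eS) :
    ∃ ε : Bool, ∀ j, ∀ hj : j < 2, S.Fib (piP j hj) (cC j) (baseZ ε j) := by
  obtain ⟨ε, hB⟩ := F.class_B hG D hD S
  refine ⟨ε, fun j hj => ?_⟩
  obtain ⟨hv, haut, -⟩ := elt_spec j hj
  have h2 : piP j hj * piP j hj = 1 := Subtype.ext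
    ((sameF_iff ((code_permOf hv).cmp (code_permOf hv)) code_idC).1 (sq_ok j hj))
  have hlt : ∀ u ∈ cC j, u < 2048 := fun u hu => (coset_ok j hj u hu).1
  have hDC : ∀ j, j < 2 → ∀ u ∈ cD j, u ∈ cC j := by decide +kernel
  refine ⟨hlt, fun u hu => ?_, fun u hu => ?_, fun u hu => ?_⟩
  · exact (S.el_sq hv (permOf_mem_M24 hv haut) h2 hu).trans (fix_mem hj hu)
  · rw [baseZ] at hu
    generalize side ε (if j = 0 then 0 else 1485) = b at hu
    cases b
    · exact (List.mem_filter.1 hu).1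
    · exact hDC j hj u hu
  · interval_cases j
    · rw [baseZ, if_pos (by simp [side]), ← maskOf_mem]
      exact F.class_A hG D hD S u hu
    · rw [hB u hu, baseZ]
      cases ε
      · rw [if_neg (by simp [side]), List.mem_filter]
        simp [hu]
      · rw [if_pos (by simp [side]), ← maskOf_mem]

theorem fib_sig (F : B.Facts) [IsSimpleGroup G] (hG : ¬ IsMulCommutative G) (hD : D.eS = F.coords.eS) :
    ∃ ε : Bool, ∀ i < 2871, S.Fib (sig i) (spI i) (zL ε i) ∧ (spI i).Nodup := by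
  obtain ⟨ε, hb⟩ := S.fib_base F hG hD
  refine ⟨ε, fun i => ?_⟩
  induction i using Nat.strong_induction_on with
  | _ i ih =>
    intro hi
    obtain ⟨hv, -, -, -, -, hor, -, -⟩ := chk hi
    by_cases e : i = rootI i
    · obtain ⟨r, hr, hrr⟩ := rootI_cases i
      obtain ⟨-, -, hkv, hka, hks, hj⟩ := root_ok r hr
      have hsp := root_span r hr
      have hsp' := root_span' r hr
      have hnd := root_nodup r hr
      rw [← hrr, ← e] at hks hj hsp hsp' hnd
      refine ⟨?_, hnd⟩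
      set k := rootK.getD r (0, 0)
      set j := jI i with hjdef
      have hkm := permOf_mem_M24 hkv hka
      have hσ : sig i = ⟨permOf k, hkm⟩ * piP j hj * (⟨permOf k, hkm⟩ : ↥M24)⁻¹ := by
        refine Subtype.ext ?_
        rw [Subgroup.coe_mul, Subgroup.coe_mul, Subgroup.coe_inv, sig_coe hi]
        exact conj_perm hv hkv (code_permOf (elt_spec j hj).1) hks
      rw [hσ]
      have hC : ∀ v, v ∈ spI i ↔ ∃ u ∈ cC j, app (matC k) u = v := fun v =>
        ⟨fun hv' => by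
          obtain ⟨u, hu, e'⟩ := List.any_eq_true.1 (hsp' v hv')
          exact ⟨u, hu, beq_iff_eq.1 e'⟩, fun ⟨u, hu, e'⟩ => e' ▸ (hsp u hu).1⟩
      refine (hb j hj).conj S hkv hkm hC fun v => ?_
      have hside : side ε i = side ε (if j = 0 then 0 else 1485) := by
        rw [hjdef, jI]
        by_cases h : i < 1485 <;> simp [side, h]
      have hDC : ∀ j, j < 2 → ∀ u ∈ cD j, u ∈ cC j := by decide +kernel
      rw [zL, baseZ, hside]
      generalize side ε (if j = 0 then 0 else 1485) = b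
      cases b
      case true =>
        simp only [if_true]
        refine ⟨fun hv' => ?_, fun ⟨u, hu, e'⟩ => e' ▸ (hsp u (hDC j hj u hu)).2.1 hu⟩
        obtain ⟨u, hu, rfl⟩ := (hC v).1 (List.mem_of_mem_take hv')
        exact ⟨u, (hsp u hu).2.2 hv', rfl⟩
      case false =>
        simp only [Bool.false_eq_true, if_false]
        rw [mem_drop_iff hnd]
        constructor
        · rintro ⟨h1, h2⟩
          obtain ⟨u, hu, rfl⟩ := (hC v).1 h1
          refine ⟨u, List.mem_filter.2 ⟨hu, ?_⟩, rfl⟩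
          rw [Bool.not_eq_true', ← Bool.not_eq_true, maskOf_mem]
          exact fun hd => h2 ((hsp u hu).2.1 hd)
        · rintro ⟨u, hu, rfl⟩
          obtain ⟨hu1, hu2⟩ := List.mem_filter.1 hu
          rw [Bool.not_eq_true', ← Bool.not_eq_true, maskOf_mem] at hu2
          exact ⟨(hsp u hu1).1, fun h => hu2 ((hsp u hu1).2.2 h)⟩
    · obtain ⟨hp, hroot, -, hbas⟩ := hor.resolve_left e
      obtain ⟨hfib, hnd⟩ := ih _ hp (hp.trans hi)
      have hlist : spI i = (spI (parL i)).map (app (matC (genL i))) := by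
        rw [spI, spI, hbas, funext (genP_gen i),
          spanList_map (J4Module.app_zero _) (J4Module.app_xor _)]
      have hm := permOf_mem_M24 (gen_spec i).1 (gen_spec i).2.1
      obtain ⟨hn, -, hs⟩ := same_class hroot
      have hz : zL ε i = (zL ε (parL i)).map (app (matC (genL i))) := by
        rw [zL, zL, hs ε, hn, hlist]
        split_ifs
        · rw [List.map_take]
        · rw [List.map_drop]
      refine ⟨?_, ?_⟩
      · rw [sig_conj hi e, hlist, hz]
        exact hfib.conj S (gen_spec i).1 hm (fun v => by rw [List.mem_map]) fun v => by rw [List.mem_map]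
      · rw [hlist]
        exact hnd.map_on fun a ha b hb' h => S.map_inj (gen_spec i).1 hm (hfib.lt a ha) (hfib.lt b hb') h

end BigPack.Sec

end Cfsg.Agent.JankoFour
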