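import Cfsg.Agent.Lib.JankoFour.TenRankChecks
import Cfsg.Agent.Lib.JankoFour.SplitChecks

/-!
Decidable facts about the second abelian subgroup in the concrete group.
-/

set_option autoImplicit false
set_option maxRecDepth 100000

namespace Cfsg.Agent.JankoFour.Ten

open Cfsg.Agent.J4Module (app elemI)
open Cfsg.Agent.J4Module.Data
open Big

/-- The element of order seven. -/
def t7 : List ℕ := wordC tWord7

/-- The element of order three. -/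
def t3 : List ℕ := wordC tWord3

theorem tWords_ok : (∀ w ∈ tWords, ∀ k ∈ w, k < 4) ∧ tWords.length = 8 ∧ (∀ k ∈ tConjWord, k < 4) ∧
    (∀ k ∈ tWord7, k < 4) ∧ ∀ k ∈ tWord3, k < 4 := by decide +kernel

theorem tEl_spec : (∀ i < 8, tEl i ∈ sylow ∧ (tEl i).length = 12) ∧ tEl 0 = unitC ∧ tEl 1 = bEl 9 ∧
    (∀ i < 8, ∀ j < 8, mulC (tEl i) (tEl j) = tEl (i ^^^ j)) ∧
      ∀ i < 8, ∀ j < 8, tEl i = tEl j → i = j := by
  decide +kernel

theorem tW_spec : tW.length = 64 ∧ (∀ n ∈ tW, n < 4096) ∧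
    (∀ i < 64, ∀ j < 64, tW.getD i 0 ^^^ tW.getD j 0 = tW.getD (i ^^^ j) 0) ∧
      (∀ i < 64, ∀ j < 64, tW.getD i 0 = tW.getD j 0 → i = j) ∧ tW.getD 0 0 = 0 := by
  decide +kernel

theorem tW_sing : ∀ n ∈ tW, qbit n = false := by decide +kernel

theorem tW_perp : ∀ m ∈ tW, ∀ n ∈ tW, bbit m n = false := by decide +kernel

theorem tW_p : ∀ n ∈ tW, app pC n ∈ tW ∧ app pC (app pC n) ^^^ app pC n ^^^ n = 0 := by decide +kernel

theorem tEl_fix : ∀ i < 8, ∀ n ∈ tW, app (tEl i) n = n := by decide +kernel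

theorem tEl_disp : ∀ i < 8, ∀ k < 12, app (tEl i) (2 ^ k) ^^^ 2 ^ k ∈ tW := by decide +kernel

theorem sylow_fix_tW : ∀ g ∈ sylow, (∀ n ∈ tW, app g n = n) → ∃ i < 8, g = tEl i := by decide +kernel

theorem t7_spec : (∀ n ∈ tW, app t7 n ∈ tW) ∧
    (∀ i < 8, tPerm7.getD i 0 < 8 ∧ mulC t7 (tEl i) = mulC (tEl (tPerm7.getD i 0)) t7) ∧
    ∀ i < 8, i = 0 ∨ ∃ k < 7, i = (fun j => tPerm7.getD j 0)^[k] 1 := by decide +kernel

theorem t3_spec : (∀ n ∈ tW, app t3 n ∈ tW) ∧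
    ∀ i < 8, tPerm3.getD i 0 < 8 ∧ mulC t3 (tEl i) = mulC (tEl (tPerm3.getD i 0)) t3 := by decide +kernel

theorem orders : (fun g => mulC t7 g)^[7] unitC = unitC ∧ t7 ≠ unitC ∧ (fun g => mulC t3 g)^[3] unitC = unitC ∧
    t3 ≠ unitC ∧ t3 ≠ pC ∧ t3 ≠ p2C ∧ mulC t3 pC = mulC pC t3 ∧ ∀ i < 8, mulC (tEl i) pC = mulC pC (tEl i) := by
  decide +kernel

theorem split_spec : (∀ n ∈ Split.wU, n ∈ tW → n = 0) ∧ (∀ t < 16, ∀ i < 8, Split.dT t = tEl i → t = 0) ∧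
    ∀ g ∈ [Split.dA, Split.dB, Split.dS], (∀ n ∈ tW, app g n ∈ tW) ∧
      ∀ i < 8, ∃ j < 8, mulC g (tEl i) = mulC (tEl j) g := by
  decide +kernel

theorem cls_count : (tW.countP fun n => cls n == 1) = 21 ∧ (tW.countP fun n => cls n == 2) = 42 ∧
    (bigW.countP fun n => cls n == 2) = 18 := by decide +kernel

end Cfsg.Agent.JankoFour.Ten
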