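import Cfsg.Agent.Lib.JankoFour.TenChecks
import Cfsg.Agent.Lib.JankoFour.TenStars
import Cfsg.Agent.Lib.JankoFour.CoordChecks
import Cfsg.Agent.Lib.JankoFour.OrbitChecks

/-!
Decidable facts for the classes of the elements of the second abelian subgroup.
-/

set_option autoImplicit false
set_option maxRecDepth 100000

namespace Cfsg.Agent.JankoFour.Ten

open Cfsg.Agent.J4Module (app of_chunks)
open Cfsg.Agent.J4Module.Data
open Big Coord

/-- The sign picked up by the canonical element of a vector when conjugating a lift. -/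
def fK (k v : ℕ) : Bool :=
  bbit (p2 v) (app pC (app (tEl k) v)) ^^ bbit (p2 (app (tEl k) v)) (app pC (app (tEl k) v))

/-- A vector with given displacement. -/
def tRep (k w : ℕ) : ℕ := (tReps.getD k []).getD w 0

/-- The twist of a lift. -/
def sBit (s k : ℕ) : Bool :=
  [false, false, false, s.testBit 0, false, s.testBit 1, s.testBit 2, s.testBit 3].getD k false

/-- The twisted set of decomposable elements. -/
def Zs (s n : ℕ) : Bool := tDec.testBit (if sBit s (n / 64 % 8) then n ^^^ 512 else n)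

/-- The number of triangles at an element. -/
def degZ (s x : ℕ) : ℕ := ((List.range 1024).filter fun y => Zs s y && Zs s (x ^^^ y)).length

/-- The number of conjugates of the involution in a pair. -/
def fm (c s m : ℕ) : ℕ :=
  if m / 64 = 0 then (if m = 0 then 1 else if cls (tW.getD (m % 64) 0) = 2 then 0 else 2)
  else if tRep (m / 64) (m % 64) = 4096 then 2 * c else s

theorem tW_add : ∀ i < 64, ∀ j < 64, bbit (p2 (tW.getD i 0)) (app pC (tW.getD j 0)) = false := by decide +kernel

theorem t_comm : (∀ k < 8, mulC pC (tEl k) = mulC (tEl k) pC) ∧ mulC pC t7 = mulC t7 pC := by decide +kernel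

theorem disp_spec : ∀ k < 8, k ≠ 0 → ∀ w < 64, tRep k w ≠ 4096 →
    tRep k w < 4096 ∧ app (tEl k) (tRep k w) ^^^ tRep k w = tW.getD w 0 := by decide +kernel

theorem bad_step : ∀ k < 8, k ≠ 0 → ∀ w < 64, tRep (tPerm7.getD k 0) w = 4096 →
    ∃ w' < 64, tRep k w' = 4096 ∧ app t7 (tW.getD w' 0) = tW.getD w 0 := by decide +kernel

theorem bad_base : ∀ w < 64, tRep 1 w = 4096 → bigFix.testBit (tW.getD w 0) = false := by decide +kernel

theorem q_rule : ∀ n < 2048, n / 64 % 16 = 0 → n % 64 ≠ 0 →
    (Orb.tMask.testBit n = true ↔ cls (bigW.getD (n % 64) 0) = 2) :=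
  of_chunks 32 (by decide +kernel)

theorem dec_Q : ∀ n < 1024, n / 64 % 8 = 0 →
    tDec.testBit n = (n == 512 || (n % 64 != 0 && cls (tW.getD (n % 64) 0) != 2)) :=
  of_chunks 16 (by decide +kernel)

theorem dec_lift : ∀ n < 1024, n / 64 % 8 ≠ 0 → tDec.testBit n =
    (tRep (n / 64 % 8) (n % 64) != 4096 && ((decide (n / 512 = 1)) == fK (n / 64 % 8) (tRep (n / 64 % 8) (n % 64)))) :=
  of_chunks 16 (by decide +kernel)

theorem count_spec : ∀ c < 2, ∀ s < 3, ((List.range 512).map (fm c s)).sum = 43 + 7 * (96 * c + 16 * s) := by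
  decide +kernel

theorem wit_ne : ∀ s < 16, s ≠ 0 → tWit.getD s 0 < 1024 ∧ Zs s (tWit.getD s 0) = true ∧
    degZ s 512 ≠ degZ s (tWit.getD s 0) := by decide +kernel

theorem sBits_exist : ∀ b : Fin 4 → Bool, ∃ s < 16, ∀ i : Fin 4, s.testBit i.1 = b i := by decide +kernel

theorem bad_counts : ∀ p ∈ [43, 89, 13, 827, 313], ∀ m ≤ 10, 2 ^ m % p = 1024 % p → m = 10 := by decide +kernel

end Cfsg.Agent.JankoFour.Ten
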