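import Cfsg.Agent.Lib.JankoFour.TenCoords
import Cfsg.Agent.Lib.JankoFour.OrbitClassify
import Cfsg.Agent.Lib.JankoFour.HintoFusion

/-!
The conjugates of the involution inside the second abelian subgroup are the tabulated 155 elements.
-/

set_option autoImplicit false
set_option linter.unusedSectionVars false
set_option linter.style.haveILetI false
set_option maxRecDepth 100000

namespace Cfsg.Agent.JankoFour

open Subgroup
open Cfsg.Agent.LargeFischer (Ctx QG)
open Cfsg.Agent.J4Module (app)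
open Cfsg.Agent.J4Module.Data
open Big Ten Coord

variable {G : Type*} [Group G] [Finite G] {z : G} {P : Subgroup G}

/-- The number of conjugates of the involution in a pair. -/
noncomputable def pn (z a : G) : ℕ :=
  open Classical in (if IsConj z a then 1 else 0) + (if IsConj z (a * z) then 1 else 0)

theorem pn_mul_z (hz : z * z = 1) (a : G) : pn z (a * z) = pn z a := by
  classical
  unfold pn
  rw [mul_assoc, hz, mul_one, add_comm]

theorem pn_conj {g : G} (hg : g * z = z * g) (a : G) : pn z (g * a * g⁻¹) = pn z a := by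
  classical
  unfold pn
  rw [show g * a * g⁻¹ * z = g * (a * z) * g⁻¹ by
    calc g * a * g⁻¹ * z = g * a * (g⁻¹ * (z * g)) * g⁻¹ := by group
      _ = g * (a * z) * g⁻¹ := by rw [← hg]; group]
  simp only [isConj_conj_iff]

/-- The order of a subgroup as orbit length times stabiliser. -/
theorem card_eq_orbit_mul (N : Subgroup G) (a : G) (F : Finset G) (hF : ∀ v, v ∈ F ↔ ∃ n ∈ N, n * a * n⁻¹ = v) :
    Nat.card ↥N = F.card * Nat.card ↥(N ⊓ centralizer ({a} : Set G) : Subgroup G) := by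
  classical
  letI := Fintype.ofFinite ↥N
  letI := Fintype.ofFinite ↥(N ⊓ centralizer ({a} : Set G) : Subgroup G)
  have hf : ∀ n : ↥N, (n : G) * a * (n : G)⁻¹ ∈ F := fun n => (hF _).2 ⟨n, n.2, rfl⟩
  rw [Nat.card_eq_fintype_card, ← Finset.card_univ, Finset.card_eq_sum_card_fiberwise (fun n _ => hf n),
    Finset.sum_const_nat]
  intro v hv
  obtain ⟨n0, hn0, e0⟩ := (hF v).1 hv
  rw [Nat.card_eq_fintype_card (α := ↥(N ⊓ centralizer ({a} : Set G) : Subgroup G))]
  symm
  refine Finset.card_bij (fun c _ => (⟨n0 * c.1, mul_mem hn0 c.2.1⟩ : ↥N)) (fun c _ => ?_) (fun c _ d _ e => ?_)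
    (fun n hn => ?_)
  · refine Finset.mem_filter.2 ⟨Finset.mem_univ _, ?_⟩
    show n0 * c.1 * a * (n0 * c.1)⁻¹ = v
    rw [← e0, mul_assoc n0, mem_centralizer_singleton_iff.1 c.2.2]
    group
  · exact Subtype.ext (mul_left_cancel (congrArg Subtype.val e))
  · obtain ⟨-, hn⟩ := Finset.mem_filter.1 hn
    refine ⟨⟨n0⁻¹ * n, mem_inf.2 ⟨N.mul_mem (N.inv_mem hn0) n.2, mem_centralizer_singleton_iff.2 ?_⟩⟩,
      Finset.mem_univ _, Subtype.ext (mul_inv_cancel_left n0 n.1)⟩
    calc n0⁻¹ * n * a = n0⁻¹ * (n * a * (n : G)⁻¹) * n := by group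
      _ = a * (n0⁻¹ * n) := by rw [hn, ← e0]; group

namespace Model

variable (M : Model z P)
include M

theorem isE6_conj (g : G) {t : G} (h : M.IsE6 t) : M.IsE6 (g * t * g⁻¹) := by
  obtain ⟨s, hs, hst⟩ := h
  exact ⟨s, hs, hst.trans (isConj_iff.2 ⟨g, rfl⟩)⟩

theorem zc (c : ↥(centralizer ({z} : Set G))) : (c : G) * z = z * c := mem_centralizer_singleton_iff.1 c.2

theorem uS_lift {k v : ℕ} (hk : k < 8) (hv : v < 4096) {l : ↥(centralizer ({z} : Set G))}
    (hl : (l : G) ∈ centralizer (P : Set G)) (hla : M.Acts l (tEl k)) :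
    M.toH (M.uS v) * l * (M.toH (M.uS v))⁻¹ =
      M.toH (M.uS (app (tEl k) v ^^^ v)) * l * M.toH (M.zb (fK k v)) := by
  have hlt : app (tEl k) v < 4096 := gen_app_lt (gen_mono (tEl_InK0 hk)) v
  calc M.toH (M.uS v) * l * (M.toH (M.uS v))⁻¹
      = M.toH (M.uS v) * (l * M.toH (M.uS v) * l⁻¹)⁻¹ * l := by group
    _ = M.toH (M.uS v * (M.uS (app (tEl k) v))⁻¹) * l := by
        rw [M.toH_conj, M.uS_conj hl hla (t_comm.1 k hk) hv, map_mul, map_inv]
    _ = M.toH (M.uS (app (tEl k) v ^^^ v) * M.zb (fK k v)) * l := by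
        rw [M.uS_inv hlt, ← mul_assoc, M.uS_mul hv hlt, mul_assoc, M.zb_mul, Nat.xor_comm v]
        rfl
    _ = _ := by
        rw [map_mul, mul_assoc, mul_assoc]
        congr 1
        cases fK k v
        · simp [zb]
        · exact (M.z_fix l).symm

theorem exists_tLift : Nonempty M.TLift := by
  obtain ⟨l1, h1, h1a⟩ := M.exists_lift_tP (i := 1) (by norm_num)
  obtain ⟨l2, h2, h2a⟩ := M.exists_lift_tP (i := 2) (by norm_num)
  obtain ⟨l4, h4, h4a⟩ := M.exists_lift_tP (i := 4) (by norm_num)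
  exact ⟨⟨l1, l2, l4, h1.1, h2.1, h4.1, h1a, h2a, h4a⟩⟩

theorem orbit_iff {v : G} :
    (∃ n ∈ normalizer (M.tG : Set G), n * z * n⁻¹ = v) ↔ v ∈ M.tG ∧ IsConj z v := by
  constructor
  · rintro ⟨n, hn, rfl⟩
    exact ⟨(Subgroup.mem_normalizer_iff.1 hn z).1 M.z_mem_tG, isConj_iff.2 ⟨n, rfl⟩⟩
  · rintro ⟨hv, hc⟩
    obtain ⟨g, rfl⟩ := isConj_iff.1 hc
    exact M.fusion_tG hv

/-- A prime dividing the order of the normaliser divides that of the general linear group. -/
theorem not_bad_prime {p : ℕ} (hp : p.Prime) (hmem : p ∈ [43, 89, 13, 827, 313])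
    (h : p ∣ Nat.card ↥(normalizer (M.tG : Set G))) : False := by
  haveI : Fact p.Prime := ⟨hp⟩
  obtain ⟨g, hg⟩ := exists_prime_orderOf_dvd_card' p h
  rw [← orderOf_coe] at hg
  have hmod := card_fixed_modEq hg (K := M.tG) g.2
  have hle : M.tG ⊓ centralizer ({(g : G)} : Set G) ≤ M.tG := inf_le_left
  have hd := card_dvd_of_le hle
  rw [M.tG_card, show (1024 : ℕ) = 2 ^ 10 by norm_num] at hd
  obtain ⟨m, hm, e⟩ := (Nat.dvd_prime_pow Nat.prime_two).1 hd
  rw [e, M.tG_card] at hmod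
  have h10 := bad_counts p hmem m hm hmod
  subst h10
  have hall : M.tG ⊓ centralizer ({(g : G)} : Set G) = M.tG :=
    eq_of_le_of_card_ge hle (by rw [e, M.tG_card]; norm_num)
  have hgA : (g : G) ∈ M.tG := by
    exact M.centralizer_tG.le (mem_centralizer_iff.2 fun a ha => mem_centralizer_singleton_iff.1 (hall.ge ha).2)
  have h2 : orderOf (g : G) ∣ 2 := orderOf_dvd_of_pow_eq_one (by rw [pow_two]; exact M.tG_sq _ hgA)
  rw [hg, Nat.prime_dvd_prime_iff_eq hp Nat.prime_two] at h2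
  subst h2
  revert hmem
  decide

end Model

namespace BigCoords

variable {M : Model z P} {B : BigData M} (C : BigCoords B)
  (hT : ∀ n < 2048, (Orb.tMask.testBit n = true ↔ n ≠ 0 ∧ ¬ IsConj z (C.el n)))
include hT

/-- The elements of the second singular space. -/
theorem class_Q {x : ↥(QG M.Q)} (hx : x ∈ M.tA) (h0 : M.vec x ≠ 0) : IsConj z (x : G) ↔ cls (M.vec x) ≠ 2 := by
  obtain ⟨D, hD, hb⟩ := M.exists_conj_hex (M.vec_lt x) h0 (tW_sing _ (M.mem_tA.1 hx))
  obtain ⟨h, hh⟩ := M.exists_elem D hD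
  obtain ⟨n, hn, e⟩ := C.el_surj _ ((B.inf_Q (M.ctx.conjQ h x)).2 (by rw [hh x]; exact hb))
  have hn16 : n / 64 % 16 = 0 := (C.el_mem_Q n hn).1 (e ▸ (M.ctx.conjQ h x).2)
  have hvec := C.el_vec n hn (M.ctx.conjQ h x) e.symm
  rw [hh x] at hvec
  have hn0 : n % 64 ≠ 0 := by
    intro e0
    rw [e0, bigW_zero] at hvec
    obtain ⟨D', -, hD'⟩ := M.exists_cols h⁻¹
    have := (M.acts_inv hh hD' x).1
    rw [hvec, J4Module.app_zero] at this
    exact h0 this.symm
  have hconj : IsConj z (x : G) ↔ IsConj z (C.el n) := by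
    rw [e]
    exact (isConj_conj_iff (h : G) (x : G)).symm
  rw [hconj, ← cls_InL0 hD _ (M.vec_lt x), hvec, Ne, ← q_rule n hn hn16 hn0, hT n hn]
  constructor
  · exact fun h h' => h'.2 h
  · exact fun h => not_not.1 fun hc => h ⟨fun e => hn0 (by rw [e]), hc⟩

/-- The elements with vectors outside the displacements form the standard class. -/
theorem bad_e6 {k : ℕ} (hk : k < 8) (hk0 : k ≠ 0) :
    ∀ w < 64, tRep k w = 4096 → ∀ (a : ↥(QG M.Q)), M.vec a = vW w → ∀ l : ↥(centralizer ({z} : Set G)),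
      (l : G) ∈ centralizer (P : Set G) → M.Acts l (tEl k) → M.IsE6 ((a : G) * l) := by
  obtain ⟨j, -, rfl⟩ := (t7_spec.2.2 k hk).resolve_left hk0
  clear hk hk0
  suffices h : ∀ j, (fun i => tPerm7.getD i 0)^[j] 1 < 8 ∧ (fun i => tPerm7.getD i 0)^[j] 1 ≠ 0 ∧
      ∀ w < 64, tRep ((fun i => tPerm7.getD i 0)^[j] 1) w = 4096 → ∀ (a : ↥(QG M.Q)), M.vec a = vW w →
        ∀ l : ↥(centralizer ({z} : Set G)), (l : G) ∈ centralizer (P : Set G) →
          M.Acts l (tEl ((fun i => tPerm7.getD i 0)^[j] 1)) → M.IsE6 ((a : G) * l) from (h j).2.2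
  intro j
  induction j with
  | zero =>
    refine ⟨by norm_num, by norm_num, fun w hw hbad a ha l hl hla => ?_⟩
    rw [Function.iterate_zero_apply] at hbad hla
    have hlt : l ∈ M.tP := ⟨hl, 1, by norm_num, hla⟩
    have haA : a ∈ M.tA := by rw [M.mem_tA, ha]; exact vW_mem hw
    have h2 : M.toH a * l * (M.toH a * l) = 1 := M.tH_sq _ ⟨a, haA, l, hlt, rfl⟩
    have hacts : M.Acts (M.toH a * l) (bEl 9) := by
      have h := M.acts_mul (M.acts_of_mem_Q (M.toH_mem a)) hla
      rwa [unitC_mulC (sylow_InL0 (tEl_spec.1 _ (by norm_num)).1) (fun _ h => h), tEl_spec.2.2.1] at h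
    refine (B.hexad_ne h2 (by norm_num) (by norm_num) hacts).resolve_left fun hV => ?_
    have hlV : (l : G) ∈ B.V := B.bP_mem ⟨hl, 9, by norm_num, tEl_spec.2.2.1 ▸ hla⟩
    have haV : (a : G) ∈ B.V := by
      have := mul_mem hV (inv_mem hlV)
      rwa [show ((M.toH a * l : ↥(centralizer ({z} : Set G))) : G) * (l : G)⁻¹ = (a : G) from
        mul_inv_cancel_right (a : G) (l : G)] at this
    have := (B.inf_Q a).1 haV
    rw [ha, show bigFix.testBit (vW w) = false from bad_base w hw hbad] at this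
    simp at this
  | succ j ih =>
    obtain ⟨hk, hk0, ih⟩ := ih
    set k := (fun i => tPerm7.getD i 0)^[j] 1
    rw [Function.iterate_succ_apply']
    change tPerm7.getD k 0 < 8 ∧ tPerm7.getD k 0 ≠ 0 ∧ _
    refine ⟨(t7_spec.2.1 k hk).1, ?_, fun w hw hbad a ha l hl hla => ?_⟩
    · have : ∀ i < 8, i ≠ 0 → tPerm7.getD i 0 ≠ 0 := by decide +kernel
      exact this k hk hk0
    obtain ⟨w', hw', hbad', hww⟩ := bad_step k hk hk0 w hw hbad
    obtain ⟨g, hg, hga⟩ := M.exists_cent_t7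
    obtain ⟨D, -, hD⟩ := M.exists_cols g⁻¹
    have hl' : ((g⁻¹ * l * g : ↥(centralizer ({z} : Set G))) : G) ∈ centralizer (P : Set G) :=
      mul_mem (mul_mem (inv_mem hg) hl) hg
    have hla' : M.Acts (g⁻¹ * l * g) (tEl k) :=
      M.acts_conj_inv hga hla (gen_app_lt (gen_mono (tEl_InK0 hk))) (t7_spec.2.1 k hk).2
    have hva : M.vec (M.ctx.conjQ g⁻¹ a) = vW w' := by
      obtain ⟨x, hx⟩ := M.vec_surj _ (vW_lt hw')
      rw [hD a, ha, vW, ← hww, ← vW, ← hx, (M.acts_inv hga hD x).1]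
    have h := M.isE6_conj (g : G) (ih w' hw' hbad' _ hva _ hl' hla')
    have e : (g : G) * (((M.ctx.conjQ g⁻¹ a : ↥(QG M.Q)) : G) * ((g⁻¹ * l * g : ↥(centralizer ({z} : Set G))) : G)) *
        (g : G)⁻¹ = (a : G) * l := by
      show (g : G) * ((g : G)⁻¹ * a * (g : G)⁻¹⁻¹ * ((g : G)⁻¹ * l * g)) * (g : G)⁻¹ = (a : G) * l
      group
    rwa [e] at h

omit hT in
/-- The pairs over the seven elements look alike. -/
theorem pn_lift (L : M.TLift) {k : ℕ} (hk : k < 8) (hk0 : k ≠ 0) :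
    ∀ l : ↥(centralizer ({z} : Set G)), (l : G) ∈ centralizer (P : Set G) → M.Acts l (tEl k) →
      pn z (l : G) = pn z (L.l1 : G) := by
  obtain ⟨j, -, rfl⟩ := (t7_spec.2.2 k hk).resolve_left hk0
  clear hk hk0
  suffices h : ∀ j, (fun i => tPerm7.getD i 0)^[j] 1 < 8 ∧
      ∀ l : ↥(centralizer ({z} : Set G)), (l : G) ∈ centralizer (P : Set G) →
        M.Acts l (tEl ((fun i => tPerm7.getD i 0)^[j] 1)) → pn z (l : G) = pn z (L.l1 : G) from (h j).2
  intro j
  induction j with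
  | zero =>
    refine ⟨by norm_num, fun l hl hla => ?_⟩
    rcases M.lift_eq L.c1 hl L.a1 hla with rfl | rfl
    · rfl
    · exact pn_mul_z M.z_sq _
  | succ j ih =>
    obtain ⟨hk, ih⟩ := ih
    rw [Function.iterate_succ_apply']
    refine ⟨(t7_spec.2.1 _ hk).1, fun l hl hla => ?_⟩
    obtain ⟨g, hg, hga⟩ := M.exists_cent_t7
    have h := ih (g⁻¹ * l * g) (mul_mem (mul_mem (inv_mem hg) hl) hg)
      (M.acts_conj_inv hga hla (gen_app_lt (gen_mono (tEl_InK0 hk))) (t7_spec.2.1 _ hk).2)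
    rw [← h, ← pn_conj (M.zc g) ((g⁻¹ * l * g : ↥(centralizer ({z} : Set G))) : G)]
    congr 1
    show (l : G) = (g : G) * ((g : G)⁻¹ * l * g) * (g : G)⁻¹
    group

omit hT in
theorem el_good (L : M.TLift) {n : ℕ} (hn : n < 1024) (hk0 : n / 64 % 8 ≠ 0)
    (hgood : tRep (n / 64 % 8) (n % 64) ≠ 4096) :
    IsConj z (L.el n) ↔ IsConj z ((L.lam (n / 64 % 8) : G) *
      (M.zb (decide (n / 512 = 1) ^^ fK (n / 64 % 8) (tRep (n / 64 % 8) (n % 64))) : ↥(QG M.Q))) := by
  set k := n / 64 % 8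
  set w := n % 64 with hw
  set r := tRep k w
  have hk : k < 8 := Nat.mod_lt _ (by norm_num)
  obtain ⟨hr, hd⟩ := disp_spec k hk hk0 w (Nat.mod_lt _ (by norm_num)) hgood
  obtain ⟨hlP, hla⟩ := L.lam_spec hk
  set δ := decide (n / 512 = 1)
  have key : L.elH n = M.toH (M.uS r) * (L.lam k * M.toH (M.zb (δ ^^ fK k r))) * (M.toH (M.uS r))⁻¹ := by
    have hz : ∀ b, M.toH (M.zb b) * (M.toH (M.uS r))⁻¹ = (M.toH (M.uS r))⁻¹ * M.toH (M.zb b) := fun b => by
      rw [← map_inv, ← map_mul, ← map_mul, M.zb_comm b]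
    rw [L.elH_eq hn, mul_assoc (M.toH (M.uS r)), mul_assoc (L.lam k), hz, ← mul_assoc (L.lam k), ← mul_assoc,
      ← mul_assoc, M.uS_lift hk hr hlP hla, mul_assoc _ (M.toH (M.zb (fK k r))), ← map_mul, M.zb_mul]
    rw [show (fK k r ^^ (δ ^^ fK k r)) = δ by cases δ <;> cases fK k r <;> rfl, hd]
    rfl
  have e : L.el n = (M.uS r : G) * ((L.lam k : G) * (M.zb (δ ^^ fK k r) : ↥(QG M.Q))) * (M.uS r : G)⁻¹ :=
    congrArg Subtype.val key
  rw [e, isConj_conj_iff]

theorem pn_el (L : M.TLift) {e0 : G} (he0 : M.IsE6 e0) {m : ℕ} (hm : m < 512) :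
    pn z (L.el m) = fm (open Classical in if IsConj z e0 then 1 else 0) (pn z (L.l1 : G)) m := by
  classical
  have hm' : m < 1024 := by omega
  have hd : decide (m / 512 = 1) = false := decide_eq_false (by omega)
  have hk : m / 64 % 8 = m / 64 := Nat.mod_eq_of_lt (by omega)
  have hw : m % 64 < 64 := Nat.mod_lt _ (by norm_num)
  have helv : L.el m = ((M.uS (vW (m % 64)) : ↥(QG M.Q)) : G) * (L.lam (m / 64) : G) := by
    have := congrArg Subtype.val (L.elH_eq hm')
    rw [hd, hk] at this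
    rw [show L.el m = (L.elH m : G) from rfl, this]
    simp [Model.zb, Model.toH]
  unfold fm
  by_cases h0 : m / 64 = 0
  · rw [if_pos h0]
    by_cases hm0 : m = 0
    · rw [if_pos hm0]
      subst hm0
      rw [L.el_zero, pn, one_mul, if_pos (IsConj.refl z), if_neg]
      intro h
      rw [isConj_one_left] at h
      exact M.ctx.xs.ne_one h
    rw [if_neg hm0]
    by_cases hcls : cls (tW.getD (m % 64) 0) = 2
    · rw [if_pos hcls]
      have hw0 : m % 64 ≠ 0 := by omega
      have hne : vW (m % 64) ≠ 0 := fun e => hw0 (tW_spec.2.2.2.1 _ hw 0 (by norm_num) (e.trans vW_zero.symm))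
      rw [helv, h0, L.lam_zero, OneMemClass.coe_one, mul_one, pn, if_neg, if_neg]
      · rw [show ((M.uS (vW (m % 64)) : ↥(QG M.Q)) : G) * z = ((M.uS (vW (m % 64)) * M.zQ : ↥(QG M.Q)) : G) from rfl,
          C.class_Q hT (mul_mem (M.uS_tA hw) M.zQ_tA) (by
            rw [M.vec_mul, M.uS_vec (vW_lt hw), show M.vec M.zQ = 0 from M.vec_z, Nat.xor_zero]; exact hne),
          M.vec_mul, M.uS_vec (vW_lt hw), show M.vec M.zQ = 0 from M.vec_z, Nat.xor_zero]
        exact not_not.2 hcls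
      · rw [C.class_Q hT (M.uS_tA hw) (by rw [M.uS_vec (vW_lt hw)]; exact hne), M.uS_vec (vW_lt hw)]
        exact not_not.2 hcls
    · rw [if_neg hcls]
      have hw0 : m % 64 ≠ 0 := by omega
      have hne : vW (m % 64) ≠ 0 := fun e => hw0 (tW_spec.2.2.2.1 _ hw 0 (by norm_num) (e.trans vW_zero.symm))
      rw [helv, h0, L.lam_zero, OneMemClass.coe_one, mul_one, pn, if_pos, if_pos]
      · rw [show ((M.uS (vW (m % 64)) : ↥(QG M.Q)) : G) * z = ((M.uS (vW (m % 64)) * M.zQ : ↥(QG M.Q)) : G) from rfl,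
          C.class_Q hT (mul_mem (M.uS_tA hw) M.zQ_tA) (by
            rw [M.vec_mul, M.uS_vec (vW_lt hw), show M.vec M.zQ = 0 from M.vec_z, Nat.xor_zero]; exact hne),
          M.vec_mul, M.uS_vec (vW_lt hw), show M.vec M.zQ = 0 from M.vec_z, Nat.xor_zero]
        exact hcls
      · rw [C.class_Q hT (M.uS_tA hw) (by rw [M.uS_vec (vW_lt hw)]; exact hne), M.uS_vec (vW_lt hw)]
        exact hcls
  rw [if_neg h0]
  by_cases hbad : tRep (m / 64) (m % 64) = 4096
  · rw [if_pos hbad]
    -- the standard class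
    obtain ⟨hlP, hla⟩ := L.lam_spec (show m / 64 < 8 by omega)
    have hv := M.uS_vec (vW_lt hw)
    have h1 := bad_e6 C hT (show m / 64 < 8 by omega) h0 _ hw hbad _ hv _ hlP hla
    have h2 := bad_e6 C hT (show m / 64 < 8 by omega) h0 _ hw hbad (M.uS (vW (m % 64)) * M.zQ)
      (by rw [M.vec_mul, show M.vec M.zQ = 0 from M.vec_z, Nat.xor_zero, hv]) _ hlP hla
    rw [← helv] at h1
    have e2 : ((M.uS (vW (m % 64)) * M.zQ : ↥(QG M.Q)) : G) * (L.lam (m / 64) : G) = L.el m * z := by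
      rw [helv]
      show (M.uS (vW (m % 64)) : G) * z * _ = _
      rw [mul_assoc _ z, ← M.zc, ← mul_assoc]
    rw [e2] at h2
    have hc : ∀ {t}, M.IsE6 t → (IsConj z t ↔ IsConj z e0) := fun ht =>
      ⟨fun h => h.trans (M.e6_conj ht he0), fun h => h.trans (M.e6_conj he0 ht)⟩
    unfold pn
    by_cases h : IsConj z e0
    · simp only [if_pos ((hc h1).2 h), if_pos ((hc h2).2 h), h, if_true]
    · rw [if_neg (fun h' => h ((hc h1).1 h')), if_neg (fun h' => h ((hc h2).1 h')), if_neg h]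
  · rw [if_neg hbad]
    -- the displacements
    have hk8 : m / 64 < 8 := by omega
    obtain ⟨hr, hdd⟩ := disp_spec _ hk8 h0 _ hw hbad
    obtain ⟨hlP, hla⟩ := L.lam_spec hk8
    have h := M.uS_lift hk8 hr hlP hla
    rw [hdd] at h
    set f := fK (m / 64) (tRep (m / 64) (m % 64))
    set q : G := ((M.uS (tRep (m / 64) (m % 64)) : ↥(QG M.Q)) : G)
    have hq : q * (L.lam (m / 64) : G) * q⁻¹ = L.el m * ((M.zb f : ↥(QG M.Q)) : G) := by
      rw [helv]
      exact congrArg Subtype.val h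
    have hqz : q * z = z * q := M.ctx.xs.comm (M.uS _).2
    have : pn z (q * (L.lam (m / 64) : G) * q⁻¹) = pn z (L.el m) := by
      rw [hq]
      cases f
      · simp [Model.zb]
      · exact pn_mul_z M.z_sq _
    rw [← this, pn_conj hqz]
    exact pn_lift L hk8 h0 _ hlP hla

/-- The counts. -/
theorem class_shape (L : M.TLift) :
    pn z (L.l1 : G) = 1 ∧ ∀ e0, M.IsE6 e0 → ¬ IsConj z e0 := by
  classical
  obtain ⟨w, hw, hbad⟩ : ∃ w < 64, tRep 1 w = 4096 := by decide +kernel
  obtain ⟨e0, he0⟩ : ∃ e0, M.IsE6 e0 :=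
    ⟨_, bad_e6 C hT (k := 1) (by norm_num) (by norm_num) w hw hbad _ (M.uS_vec (vW_lt hw)) L.l1 L.c1 L.a1⟩
  have hsum : ((Finset.range 1024).filter fun n => IsConj z (L.el n)).card =
      43 + 7 * (96 * (if IsConj z e0 then 1 else 0) + 16 * pn z (L.l1 : G)) := by
    have hs : pn z (L.l1 : G) < 3 := by unfold pn; split_ifs <;> norm_num
    rw [← count_spec _ (by split_ifs <;> norm_num) _ hs, ← List.sum_toFinset _ List.nodup_range,
      List.toFinset_range, Finset.card_filter]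
    have split2 : ∀ f : ℕ → ℕ, ∑ n ∈ Finset.range 1024, f n = ∑ m ∈ Finset.range 512, (f m + f (512 + m)) :=
      fun f => (Finset.sum_range_add f 512 512).trans Finset.sum_add_distrib.symm
    rw [split2]
    refine Finset.sum_congr rfl fun m hm => ?_
    rw [Finset.mem_range] at hm
    have hxor : ∀ m < 512, 512 + m = m ^^^ 512 := by decide +kernel
    rw [← pn_el C hT L he0 hm, hxor m hm, L.el_flip, pn]
  set N := normalizer (M.tG : Set G)
  have hcard : ((Finset.range 1024).filter fun n => IsConj z (L.el n)).card ∣ Nat.card ↥N := by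
    rw [card_eq_orbit_mul N z (((Finset.range 1024).filter fun n => IsConj z (L.el n)).image L.el)
      (fun v => ?_)]
    · refine Dvd.intro _ (congrArg (· * _) (Finset.card_image_of_injOn fun a ha b hb e => ?_).symm)
      simp only [Finset.coe_filter, Finset.mem_range, Set.mem_setOf_eq] at ha hb
      exact L.el_inj ha.1 hb.1 e
    · rw [M.orbit_iff, Finset.mem_image]
      constructor
      · rintro ⟨n, hn, rfl⟩
        exact ⟨L.el_mem n, (Finset.mem_filter.1 hn).2⟩
      · rintro ⟨hv, hc⟩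
        obtain ⟨n, hn, rfl⟩ := L.el_surj hv
        exact ⟨n, Finset.mem_filter.2 ⟨Finset.mem_range.2 hn, hc⟩, rfl⟩
  rw [hsum] at hcard
  have hne : ¬ IsConj z e0 ∧ pn z (L.l1 : G) = 1 := by
    have hs : pn z (L.l1 : G) = 0 ∨ pn z (L.l1 : G) = 1 ∨ pn z (L.l1 : G) = 2 := by
      unfold pn; split_ifs <;> norm_num
    have kill : ∀ p, p.Prime → p ∈ [43, 89, 13, 827, 313] → ∀ n, n ∣ Nat.card ↥N → p ∣ n → False :=
      fun p hp hmem n hn hpn => M.not_bad_prime hp hmem (hpn.trans hn)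
    by_cases h : IsConj z e0
    · rw [if_pos h] at hcard
      rcases hs with e | e | e <;> rw [e] at hcard
      · exact (kill 13 (by norm_num) (by decide) _ hcard (by norm_num)).elim
      · exact (kill 827 (by norm_num) (by decide) _ hcard (by norm_num)).elim
      · exact (kill 313 (by norm_num) (by decide) _ hcard (by norm_num)).elim
    · rw [if_neg h] at hcard
      rcases hs with e | e | e <;> rw [e] at hcard
      · exact (kill 43 (by norm_num) (by decide) _ hcard (by norm_num)).elim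
      · exact ⟨h, e⟩
      · exact (kill 89 (by norm_num) (by decide) _ hcard (by norm_num)).elim
  exact ⟨hne.2, fun e he hc => hne.1 (hc.trans (M.e6_conj he he0))⟩

theorem exists_good_lift : ∃ L : M.TLift, IsConj z (L.l1 : G) ∧ IsConj z (L.l2 : G) ∧ IsConj z (L.l4 : G) := by
  obtain ⟨L⟩ := M.exists_tLift
  obtain ⟨h1, -⟩ := class_shape C hT L
  have key : ∀ k, k < 8 → k ≠ 0 → ∀ l : ↥(centralizer ({z} : Set G)), (l : G) ∈ centralizer (P : Set G) →
      M.Acts l (tEl k) → ∃ l' : ↥(centralizer ({z} : Set G)), (l' : G) ∈ centralizer (P : Set G) ∧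
        M.Acts l' (tEl k) ∧ IsConj z (l' : G) := by
    intro k hk hk0 l hl hla
    by_cases h : IsConj z (l : G)
    · exact ⟨l, hl, hla, h⟩
    · refine ⟨l * M.toH M.zQ, mul_mem hl ?_, ?_, ?_⟩
      · refine mem_centralizer_iff.2 fun g hg => ?_
        rw [← M.p_gen] at hg
        exact (mem_centralizer_singleton_iff.1 (zpowers_le.2 M.pElem.2 hg))
      · have h2 := M.acts_mul hla (M.acts_of_mem_Q (M.toH_mem M.zQ))
        rwa [mulC_unitC (tEl_spec.1 k hk).2] at h2
      · have h2 := pn_lift L hk hk0 l hl hla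
        rw [h1, pn, if_neg h, zero_add] at h2
        show IsConj z ((l : G) * z)
        by_contra hc
        rw [if_neg hc] at h2
        exact zero_ne_one h2
  obtain ⟨a, ha, haa, hac⟩ := key 1 (by norm_num) (by norm_num) _ L.c1 L.a1
  obtain ⟨b, hb, hba, hbc⟩ := key 2 (by norm_num) (by norm_num) _ L.c2 L.a2
  obtain ⟨c, hc, hca, hcc⟩ := key 4 (by norm_num) (by norm_num) _ L.c4 L.a4
  exact ⟨⟨a, b, c, ha, hb, hc, haa, hba, hca⟩, hac, hbc, hcc⟩

/-- The class in twisted form. -/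
theorem class_twist (L : M.TLift) {s : ℕ} (hs : ∀ k < 8, k ≠ 0 → (sBit s k = false ↔ IsConj z (L.lam k : G)))
    {n : ℕ} (hn : n < 1024) : IsConj z (L.el n) ↔ Zs s n = true := by
  obtain ⟨h1, h6⟩ := class_shape C hT L
  have hw : n % 64 < 64 := Nat.mod_lt _ (by norm_num)
  set k := n / 64 % 8 with hkdef
  have hk : k < 8 := Nat.mod_lt _ (by norm_num)
  have helv : L.el n = ((M.uS (vW (n % 64)) : ↥(QG M.Q)) : G) * (L.lam k : G) *
      ((M.zb (decide (n / 512 = 1)) : ↥(QG M.Q)) : G) := congrArg Subtype.val (L.elH_eq hn)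
  by_cases hk0 : k = 0
  · have hz : sBit s k = false := by rw [hk0]; rfl
    rw [Zs, ← hkdef, hz]
    simp only [Bool.false_eq_true, if_false]
    rw [dec_Q n hn hk0]
    rw [hk0, L.lam_zero, OneMemClass.coe_one, mul_one] at helv
    by_cases hw0 : n % 64 = 0
    · rcases (show n = 0 ∨ n = 512 by omega) with rfl | rfl
      · simp only [L.el_zero]
        refine iff_of_false (fun h => ?_) (by decide +kernel)
        rw [isConj_one_left] at h
        exact M.ctx.xs.ne_one h
      · exact iff_of_true (by rw [L.el_z]) (by decide +kernel)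
    · have hne : vW (n % 64) ≠ 0 := fun e => hw0 (tW_spec.2.2.2.1 _ hw 0 (by norm_num) (e.trans vW_zero.symm))
      set x := M.uS (vW (n % 64)) * M.zb (decide (n / 512 = 1))
      have hv : M.vec x = vW (n % 64) := by rw [M.vec_mul, M.uS_vec (vW_lt hw), M.vec_zb, Nat.xor_zero]
      have hxA : x ∈ M.tA := by rw [M.mem_tA, hv]; exact vW_mem hw
      rw [show L.el n = (x : G) from helv, C.class_Q hT hxA (by rw [hv]; exact hne), hv]
      have hn512 : n ≠ 512 := fun e => hw0 (by rw [e])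
      simp [hn512, hw0, vW]
  · have hflip : ∀ b : Bool, tDec.testBit (if b = true then n ^^^ 512 else n) =
        (tRep k (n % 64) != 4096 && ((decide (n / 512 = 1) ^^ b) == fK k (tRep k (n % 64)))) := by
      intro b
      cases b
      · simp only [Bool.false_eq_true, if_false, Bool.xor_false]
        rw [hkdef]
        exact dec_lift n hn hk0
      · have hx : ∀ m < 1024, (m ^^^ 512) < 1024 ∧ (m ^^^ 512) / 64 % 8 = m / 64 % 8 ∧
            (m ^^^ 512) % 64 = m % 64 ∧ decide ((m ^^^ 512) / 512 = 1) = !decide (m / 512 = 1) :=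
          J4Module.of_chunks 16 (by decide +kernel)
        obtain ⟨a, b, c, d⟩ := hx n hn
        simp only [if_true, Bool.xor_true]
        rw [dec_lift _ a (by rw [b]; exact hk0), b, c, d]
    rw [Zs, ← hkdef, hflip]
    by_cases hbad : tRep k (n % 64) = 4096
    · simp only [hbad, bne_self_eq_false, Bool.false_and, Bool.false_eq_true, iff_false]
      obtain ⟨hlP, hla⟩ := L.lam_spec hk
      have h := bad_e6 C hT hk hk0 _ hw hbad (M.uS (vW (n % 64)) * M.zb (decide (n / 512 = 1)))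
        (by rw [M.vec_mul, M.uS_vec (vW_lt hw), M.vec_zb, Nat.xor_zero]) _ hlP hla
      refine h6 _ ?_
      rw [helv]
      convert h using 1
      show _ = (M.uS (vW (n % 64)) : G) * (M.zb (decide (n / 512 = 1)) : ↥(QG M.Q)) * (L.lam k : G)
      rw [mul_assoc, mul_assoc]
      congr 1
      cases decide (n / 512 = 1)
      · simp [Model.zb]
      · exact M.zc _
    · rw [el_good L hn hk0 hbad]
      simp only [bne_iff_ne, ne_eq, hbad, not_false_eq_true, Bool.and_eq_true, beq_iff_eq, true_and]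
      have hp := pn_lift L hk hk0 _ (L.lam_spec hk).1 (L.lam_spec hk).2
      rw [h1, pn] at hp
      have hsk := hs k hk hk0
      revert hsk
      cases sBit s k <;> cases decide (n / 512 = 1) <;> cases fK k (tRep k (n % 64)) <;> intro hsk <;>
        simp [Model.zb, Model.zQ] at hsk ⊢ <;> (try simp [hsk] at hp) <;> first | assumption | simp [hp, hsk]

/-- **The conjugates of the involution in the second subgroup.** -/
theorem exists_ten_coords :
    ∃ L : M.TLift, ∀ n < 1024, (IsConj z (L.el n) ↔ tDec.testBit n = true) := by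
  classical
  obtain ⟨L, h1, h2, h4⟩ := exists_good_lift C hT
  refine ⟨L, ?_⟩
  obtain ⟨s, hs16, hb⟩ := sBits_exist fun i : Fin 4 =>
    decide (¬ IsConj z (L.lam ([3, 5, 6, 7].getD i.1 0) : G))
  have hs : ∀ k < 8, k ≠ 0 → (sBit s k = false ↔ IsConj z (L.lam k : G)) := by
    intro k hk hk0
    have b0 := hb 0; have b1 := hb 1; have b2 := hb 2; have b3 := hb 3
    simp only [Fin.val_zero, Fin.val_one, Fin.val_two, show ((3 : Fin 4) : ℕ) = 3 from rfl,
      List.getD_cons_zero, List.getD_cons_succ] at b0 b1 b2 b3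
    interval_cases k
    · exact absurd rfl hk0
    · simpa [sBit, Model.TLift.lam, prodB] using h1
    · simpa [sBit, Model.TLift.lam, prodB] using h2
    · simp [sBit, b0]
    · simpa [sBit, Model.TLift.lam, prodB] using h4
    · simp [sBit, b1]
    · simp [sBit, b2]
    · simp [sBit, b3]
  have hcls := fun n (hn : n < 1024) => class_twist C hT L hs hn
  by_cases hs0 : s = 0
  · subst hs0
    intro n hn
    have hz : ∀ k < 8, sBit 0 k = false := by decide +kernel
    rw [hcls n hn, Zs, hz _ (Nat.mod_lt _ (by norm_num))]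
    simp
  exfalso
  obtain ⟨hu, huZ, hne⟩ := wit_ne s hs16 hs0
  set u := tWit.getD s 0
  obtain ⟨nn, hnn, e⟩ := M.orbit_iff.2 ⟨L.el_mem u, (hcls u hu).2 huZ⟩
  obtain ⟨σ, hσ, hσ2, hσs⟩ := L.exists_sigma hnn
  have h512 : σ 512 = u := L.el_inj (hσ 512 (by norm_num)).1 hu (by
    rw [(hσ 512 (by norm_num)).2, L.el_z, e])
  have hin : ∀ x < 1024, Zs s (σ x) = Zs s x := fun x hx => by
    rw [Bool.eq_iff_iff, ← hcls _ (hσ x hx).1, ← hcls x hx, (hσ x hx).2, isConj_conj_iff]
  have hnd : ∀ x, ((List.range 1024).filter fun y => Zs s y && Zs s (x ^^^ y)).Nodup := fun x =>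
    List.nodup_range.filter _
  apply hne
  unfold degZ
  rw [← List.toFinset_card_of_nodup (hnd 512), ← List.toFinset_card_of_nodup (hnd u)]
  refine Finset.card_bij (fun y _ => σ y) (fun y hy => ?_) (fun a ha b hb h => ?_) (fun v hv => ?_)
  · simp only [List.mem_toFinset, List.mem_filter, List.mem_range, Bool.and_eq_true] at hy ⊢
    refine ⟨(hσ y hy.1).1, (hin y hy.1).trans hy.2.1, ?_⟩
    rw [← h512, ← (hσ2 512 (by norm_num) y hy.1).1, hin _ (Nat.xor_lt_two_pow (n := 10) (by norm_num) hy.1)]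
    exact hy.2.2
  · simp only [List.mem_toFinset, List.mem_filter, List.mem_range] at ha hb
    exact (hσ2 a ha.1 b hb.1).2 h
  · simp only [List.mem_toFinset, List.mem_filter, List.mem_range, Bool.and_eq_true] at hv ⊢
    obtain ⟨x, hx, rfl⟩ := hσs v hv.1
    refine ⟨x, ⟨hx, (hin x hx).symm.trans hv.2.1, ?_⟩, rfl⟩
    rw [← hin _ (Nat.xor_lt_two_pow (n := 10) (by norm_num) hx), (hσ2 512 (by norm_num) x hx).1, h512]
    exact hv.2.2

end BigCoords

end Cfsg.Agent.JankoFour
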