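import Cfsg.Agent.Lib.JankoFour.BigAbelian

/-!
The matrices of an elementary subgroup of the Sylow subgroup and the order formula.
-/

set_option autoImplicit false
set_option linter.unusedSectionVars false

namespace Cfsg.Agent.JankoFour

open Subgroup
open Cfsg.Agent.LargeFischer (Ctx QG)
open Cfsg.Agent.J4Module (app oneC compC elemI ElemBase)
open Cfsg.Agent.J4Module.Data
open Big

namespace Model

variable {G : Type*} [Group G] [Finite G] {z : G} {P : Subgroup G} (M : Model z P)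

theorem exists_colSet {E : Subgroup ↥(centralizer ({z} : Set G))} (hE : E ≤ M.syl) (h2 : ∀ a ∈ E, a * a = 1) :
    ∃ B : Set (List ℕ), ElemBase B ∧ (∀ C ∈ B, ∃ c ∈ E, M.Acts c C) ∧ (∀ c ∈ E, ∃ C ∈ B, M.Acts c C) ∧
      Nat.card ↥E = B.ncard * Nat.card ↥(E.comap M.toH) := by
  classical
  haveI := M.normal
  set B : Set (List ℕ) := {C | C ∈ sylow ∧ ∃ c ∈ E, M.Acts c C}
  set A := E.comap M.toH with hA
  have hcomm : ∀ a ∈ E, ∀ b ∈ E, a * b = b * a := fun a ha b hb => by
    have hi : ∀ c ∈ E, c⁻¹ = c := fun c hc => inv_eq_of_mul_eq_one_right (h2 c hc)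
    calc a * b = (a * b)⁻¹ := (hi _ (mul_mem ha hb)).symm
      _ = b * a := by rw [_root_.mul_inv_rev, hi a ha, hi b hb]
  have hmem : ∀ c ∈ E, ∃ C ∈ B, M.Acts c C := fun c hcE => by
    obtain ⟨C, hC, h⟩ := hE hcE
    exact ⟨C, ⟨hC, c, hcE, h⟩, h⟩
  have hB : ElemBase B := by
    refine ⟨fun C h => h.1, ⟨unit_mem_sylow, 1, one_mem _, M.acts_one⟩, ?_, ?_, ?_⟩
    · rintro C ⟨hC, c, hcE, hc'⟩ D ⟨hD, d, hdE, hd⟩
      exact ⟨sylow_mul hC hD, c * d, mul_mem hcE hdE, M.acts_mul hc' hd⟩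
    · rintro C ⟨hC, c, hcE, hc'⟩
      have h := M.acts_mul hc' hc'
      rw [h2 c hcE] at h
      exact M.acts_unique (sylow_len (sylow_mul hC hC)) rfl h M.acts_one
    · rintro C ⟨hC, c, hcE, hc'⟩ D ⟨hD, d, hdE, hd⟩
      have h := M.acts_mul hc' hd
      rw [hcomm c hcE d hdE] at h
      exact M.acts_unique (sylow_len (sylow_mul hC hD)) (sylow_len (sylow_mul hD hC)) h (M.acts_mul hd hc')
  have hcard : Nat.card ↥E = B.ncard * Nat.card ↥A := by
    rw [card_eq_card_quotient_mul_card_subgroup (M.Q.subgroupOf E)]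
    congr 1
    · choose el helE hel using fun C : B => C.2.2
      let f : B → ↥E ⧸ M.Q.subgroupOf E := fun C => QuotientGroup.mk ⟨el C, helE C⟩
      have hf : Function.Bijective f := by
        refine ⟨fun C D h => Subtype.ext ?_, fun q => ?_⟩
        · have hm : (el C)⁻¹ * el D ∈ M.Q := by simpa [mem_subgroupOf] using QuotientGroup.eq.1 h
          exact M.acts_unique (sylow_len C.2.1) (sylow_len D.2.1) (M.acts_mul_Q (hel C) hm (sylow_len C.2.1))
            (hel D)
        · induction q using QuotientGroup.induction_on with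
          | H c =>
            obtain ⟨C, hC, h⟩ := hmem c.1 c.2
            refine ⟨⟨C, hC⟩, QuotientGroup.eq.2 ?_⟩
            rw [mem_subgroupOf]
            exact M.inv_mul_mem (hel ⟨C, hC⟩) h
      rw [← Nat.card_congr (Equiv.ofBijective f hf), Nat.card_coe_set_eq]
    · refine (Nat.card_congr (Equiv.ofBijective (fun a : ↥A => (⟨⟨M.toH a.1, a.2⟩, M.toH_mem a.1⟩ :
        ↥(M.Q.subgroupOf E))) ⟨fun a b h => ?_, fun c => ?_⟩)).symm
      · exact Subtype.ext (M.toH_injective (congrArg (fun u => u.1.1) h))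
      · obtain ⟨q, hq⟩ := M.toH_surj (mem_subgroupOf.1 c.2)
        exact ⟨⟨q, by show M.toH q ∈ E; rw [hq]; exact c.1.2⟩, Subtype.ext (Subtype.ext hq)⟩
  exact ⟨B, hB, fun C hC => hC.2, hmem, hcard⟩

theorem card_le_image {A : Subgroup ↥(QG M.Q)} {s : Finset ℕ} (hs : ∀ x ∈ A, M.vec x ∈ s) :
    Nat.card ↥A ≤ 2 * s.card := by
  haveI : Fintype ↥A := Fintype.ofFinite _
  rw [Nat.card_eq_fintype_card, ← Finset.card_univ, mul_comm]
  refine le_trans (Finset.card_le_mul_card_image (f := fun x : ↥A => M.vec x.1) _ 2 fun n _ => ?_) ?_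
  · by_contra hne
    obtain ⟨a, b, c, ha, hb, hc', hab, hac, hbc⟩ := Finset.two_lt_card_iff.1 (not_le.1 hne)
    simp only [Finset.mem_filter, Finset.mem_univ, true_and] at ha hb hc'
    rcases M.vec_eq_iff.1 (ha.trans hb.symm) with h | h
    · exact hab (Subtype.ext (Subtype.ext h.symm))
    rcases M.vec_eq_iff.1 (ha.trans hc'.symm) with h' | h'
    · exact hac (Subtype.ext (Subtype.ext h'.symm))
    exact hbc (Subtype.ext (Subtype.ext (h.trans h'.symm)))
  · refine (mul_comm 2 _).trans_le (Nat.mul_le_mul_right 2 (Finset.card_le_card fun n hn => ?_))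
    obtain ⟨x, -, rfl⟩ := Finset.mem_image.1 hn
    exact hs x.1 x.2

end Model

end Cfsg.Agent.JankoFour
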