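import Cfsg.Agent.Lib.JankoFour.TenSubgroup
import Cfsg.Agent.Lib.JankoFour.TenColSet
import Cfsg.Agent.Lib.JankoFour.HintoInner

/-!
The second abelian subgroup is self-centralising, and every self-centralising elementary abelian subgroup of
order 2^10 of the centraliser is conjugate to it.
-/

set_option autoImplicit false
set_option linter.unusedSectionVars false

namespace Cfsg.Agent.JankoFour

open Subgroup
open Cfsg.Agent.LargeFischer (Ctx QG)
open Cfsg.Agent.J4Module (app oneC compC elemI ElemBase ElemSub spanI fixMask fixSpan clearLow)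
open Cfsg.Agent.J4Module.Data
open Big Ten
open scoped Pointwise

namespace Ten

theorem testBit_fold : ∀ (l : List ℕ) (n : ℕ), (l.foldr (fun a m => 2 ^ a ||| m) 0).testBit n = true ↔ n ∈ l
  | [], n => by simp
  | a :: l, n => by
    rw [List.foldr_cons, Nat.testBit_or, Bool.or_eq_true, testBit_fold l, Nat.testBit_two_pow, decide_eq_true_eq,
      List.mem_cons, eq_comm]

/-- Subgroups with at least 64 fixed vectors fix nothing outside one of three spaces. -/
theorem fix_space {B : Set (List ℕ)} (hB : ElemBase B) (h8 : 8 ≤ B.ncard)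
    (hfix : ∀ s : Finset ℕ, (∀ n < 4096, (∀ g ∈ B, app g n = n) → n ∈ s) → 64 ≤ s.card) :
    (∀ n < 4096, (∀ g ∈ B, app g n = n) → n ∈ bigW) ∨ (∀ n < 4096, (∀ g ∈ B, app g n = n) → n ∈ tW) ∨
      ∀ n < 4096, (∀ g ∈ B, app g n = n) → n ∈ tW.map (app tConj) := by
  classical
  rw [← hB.card_idx] at h8
  have hc : ∀ t : List ℕ, (spanI t).toFinset.card ≤ 2 ^ t.length := fun t =>
    (List.toFinset_card_le _).trans_eq (J4Module.spanI_length t)
  have ext : ∀ {L L' : List (List ℕ)} (_ : stepT L L' = true) (_ : ∀ t ∈ L, ∀ g ∈ t, g < 71) {t : List ℕ}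
      (_ : t ∈ L) (_ : ∀ g ∈ t, g ≤ 71 ∧ elemI g ∈ B) (_ : 2 ^ t.length < hB.idx.card),
      ∃ t' ∈ L', ∀ g ∈ t', g ≤ 71 ∧ elemI g ∈ B := by
    intro L L' h hL t htL ht hlt
    obtain ⟨a, ha, hat⟩ := Finset.exists_mem_notMem_of_card_lt_card (lt_of_le_of_lt (hc t) hlt)
    obtain ⟨ha1, haB⟩ := hB.mem_idx.1 ha
    have hat' : a ∉ spanI t := fun h => hat (List.mem_toFinset.2 h)
    have h71 : (71 : ℕ) ∈ spanI t := by
      clear hat hat' hlt ht htL h
      induction t with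
      | nil => simp [spanI]
      | cons g t ih => rw [spanI, List.mem_append]; exact Or.inl ih
    have ha71 : a < 71 := by
      rcases ha1.lt_or_eq with h' | h'
      · exact h'
      · exact absurd (h' ▸ h71) hat'
    simp only [stepT, List.all_eq_true, List.mem_range, Bool.or_eq_true, List.any_eq_true,
      List.contains_iff_mem, beq_iff_eq] at h
    rcases h t htL a ha71 with ((h1 | ⟨g, hg, he⟩) | h1) | ⟨t', ht', hse⟩
    · exact absurd h1 hat'
    · exact absurd he (hB.entry_ok ha71 (hL t htL g hg) haB (ht g hg).2).2.2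
    · have hsm := J4Module.card_le_of_clearLow 63 _ ((Finset.range 4096).filter fun n => ∀ g ∈ B, app g n = n)
        (fun n hn => by
          obtain ⟨hn1, hn2⟩ := Finset.mem_filter.1 hn
          rw [Finset.mem_range] at hn1
          rw [Nat.testBit_and, Bool.and_eq_true]
          refine ⟨J4Module.testBit_fixMask n |>.2 ⟨?_, hn2 _ haB⟩, hB.fix_mem ht n hn1 hn2⟩
          rw [J4Module.elemI_length a ha1]
          exact hn1) h1
      have := hfix ((Finset.range 4096).filter fun n => ∀ g ∈ B, app g n = n)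
        fun n hn hf => Finset.mem_filter.2 ⟨Finset.mem_range.2 hn, hf⟩
      omega
    · exact ⟨t', ht', fun g hg => hB.span_sub (List.forall_mem_cons.2 ⟨⟨ha1, haB⟩, ht⟩) g (hse g hg)⟩
  obtain ⟨l1, l2, l3⟩ := tLevel_lt
  obtain ⟨t1, m1, h1⟩ := ext stepT0 (by simp) (List.mem_singleton_self _) (t := []) (by simp) (by simp; omega)
  obtain ⟨t2, m2, h2⟩ := ext stepT1 (fun t ht => (l1 t ht).2) m1 h1 (by rw [(l1 t1 m1).1]; omega)
  obtain ⟨t3, m3, h3⟩ := ext stepT2 (fun t ht => (l2 t ht).2) m2 h2 (by rw [(l2 t2 m2).1]; omega)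
  have hsh := tLevel3_shape
  rw [List.all_eq_true] at hsh
  have h := hsh t3 m3
  simp only [shapeT, Bool.or_eq_true, Bool.and_eq_true, beq_iff_eq] at h
  rcases h with (⟨-, e⟩ | ⟨-, e⟩) | ⟨-, e⟩
  · exact Or.inl fun n hn hf => (bigW_iff n hn).1 (e ▸ hB.fix_mem h3 n hn hf)
  · exact Or.inr (Or.inl fun n hn hf => (testBit_fold _ n).1 (e ▸ hB.fix_mem h3 n hn hf))
  · exact Or.inr (Or.inr fun n hn hf => (testBit_fold _ n).1 (e ▸ hB.fix_mem h3 n hn hf))

end Ten

namespace Model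

variable {G : Type*} [Group G] [Finite G] {z : G} {P : Subgroup G} (M : Model z P)

theorem mem_of_comm_full {S : Subgroup ↥(QG M.Q)} (hS : ∀ a ∈ S, ∀ b ∈ S, a * b = b * a)
    (hc : Nat.card ↥S = 128) {x : ↥(QG M.Q)} (h : ∀ a ∈ S, x * a = a * x) : x ∈ S := by
  have hx : S ⊔ zpowers x ≤ centralizer ({x} : Set ↥(QG M.Q)) :=
    sup_le (fun a ha => mem_centralizer_singleton_iff.2 (h a ha).symm)
      (zpowers_le.2 (mem_centralizer_singleton_iff.2 rfl))
  have hS' : S ⊔ zpowers x ≤ centralizer (S : Set ↥(QG M.Q)) :=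
    sup_le (fun a ha => mem_centralizer_iff.2 fun b hb => hS b hb a ha)
      (zpowers_le.2 (mem_centralizer_iff.2 fun b hb => (h b hb).symm))
  have hab : ∀ a ∈ S ⊔ zpowers x, ∀ b ∈ S ⊔ zpowers x, a * b = b * a := fun a ha b hb => by
    have h2 : S ⊔ zpowers x ≤ centralizer ({a} : Set ↥(QG M.Q)) :=
      sup_le (fun c hc => mem_centralizer_singleton_iff.2 (mem_centralizer_iff.1 (hS' ha) c hc))
        (zpowers_le.2 (mem_centralizer_singleton_iff.2 (mem_centralizer_singleton_iff.1 (hx ha)).symm))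
    exact (mem_centralizer_singleton_iff.1 (h2 hb)).symm
  exact (Subgroup.eq_of_le_of_card_ge le_sup_left (by rw [hc]; exact M.abelian_le hab)).ge
    (mem_sup_right (mem_zpowers x))

theorem sq_of_cent_full {S : Subgroup ↥(QG M.Q)} (hS : ∀ a ∈ S, ∀ b ∈ S, a * b = b * a)
    (h2 : ∀ a ∈ S, a * a = 1) (hc : Nat.card ↥S = 128) (hz : M.zQ ∈ S) {k : ↥(centralizer ({z} : Set G))}
    (hk : ∀ a ∈ S, k * M.toH a = M.toH a * k) : k ^ 4 = 1 := by
  have hfix : ∀ a ∈ S, M.ctx.conjQ k a = a := fun a ha => (M.cfix_comm a).2 (congrArg Subtype.val (hk a ha))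
  have hkk : ∀ x, M.ctx.conjQ (k * k) x = x := fun x => by
    set a := M.ctx.conjQ k x * x⁻¹ with ha
    have haS : a ∈ S := M.mem_of_comm_full hS hc fun b hb => by
      have h1 : M.ctx.conjQ k (x * b * x⁻¹ * b⁻¹) = x * b * x⁻¹ * b⁻¹ := by
        refine hfix _ (mul_mem ?_ (inv_mem hb))
        rcases M.ctx.xs.conj_cases x.2 b.2 with e | e
        · rw [show x * b * x⁻¹ = b from Subtype.ext e]; exact hb
        · rw [show x * b * x⁻¹ = b * M.zQ from Subtype.ext e]; exact mul_mem hb hz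
      rw [map_mul, map_mul, map_mul, map_inv, map_inv, hfix b hb] at h1
      have h2' : M.ctx.conjQ k x * b * (M.ctx.conjQ k x)⁻¹ = x * b * x⁻¹ := mul_right_cancel h1
      have h4 : M.ctx.conjQ k x = a * x := by rw [ha, inv_mul_cancel_right]
      rw [h4, _root_.mul_inv_rev] at h2'
      have hz' : ∀ u : ↥(QG M.Q), u * M.zQ = M.zQ * u := fun u => Subtype.ext (M.ctx.xs.comm u.2)
      have h6 : a * (x * b * x⁻¹) = x * b * x⁻¹ * a := by
        calc a * (x * b * x⁻¹) = a * x * b * (x⁻¹ * a⁻¹) * a := by group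
          _ = _ := by rw [h2']
      rcases M.ctx.xs.conj_cases x.2 b.2 with e | e
      · rwa [show x * b * x⁻¹ = b from Subtype.ext e] at h6
      · rw [show x * b * x⁻¹ = b * M.zQ from Subtype.ext e, ← mul_assoc, mul_assoc b, ← hz' a, ← mul_assoc] at h6
        exact mul_right_cancel h6
    have h5 : M.ctx.conjQ k x = a * x := by rw [ha, inv_mul_cancel_right]
    rw [M.ctx.conjQ_mul, h5, map_mul, hfix a haS, h5, ← mul_assoc, h2 a haS, one_mul]
  have hco : ∀ x ∈ QG M.Q, (k * k : ↥(centralizer ({z} : Set G))).1 * x = x * (k * k).1 := fun x hx =>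
    (M.cfix_comm ⟨x, hx⟩).1 (hkk ⟨x, hx⟩)
  rcases M.ctx.xs.eq_of_central (M.ctx.ker _ (k * k).2 hco) hco with h | h
  · rw [show (4 : ℕ) = 2 + 2 from rfl, pow_add, pow_two, show k * k = 1 from Subtype.ext h, one_mul]
  · rw [show (4 : ℕ) = 2 + 2 from rfl, pow_add, pow_two]
    exact Subtype.ext (by
      show (k * k).1 * (k * k).1 = 1
      rw [h, M.ctx.xs.sq])

theorem cols_fix {k : ↥(centralizer ({z} : Set G))} {C : List ℕ} (hkC : M.Acts k C) {a : ↥(QG M.Q)}
    (h : k * M.toH a = M.toH a * k) : app C (M.vec a) = M.vec a := by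
  rw [← hkC a]
  exact congrArg M.vec ((M.cfix_comm a).2 (congrArg Subtype.val h))

theorem mem_vH_of_fix {k : ↥(centralizer ({z} : Set G))} (hk : k ∈ M.syl)
    (h : ∀ a ∈ M.aQ, k * M.toH a = M.toH a * k) : k ∈ M.vH := by
  obtain ⟨C, hC, hkC⟩ := hk
  obtain ⟨i, hi, rfl⟩ := sylow_fix_W C hC fun n hn => by
    obtain ⟨a, rfl⟩ := M.vec_surj n (bigW_spec.2.1 n hn)
    exact M.cols_fix hkC (h a (M.mem_aQ.2 hn))
  obtain ⟨l, hl, hla⟩ := M.exists_lift_bP hi
  obtain ⟨q, hq⟩ := M.toH_surj (M.inv_mul_mem hla hkC)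
  have hqA : q ∈ M.aQ := M.mem_aQ_of_comm fun a ha => M.toH_injective (by
    rw [map_mul, map_mul, hq]
    exact ((show Commute l (M.toH a) from M.bP_comm_aQ hl ha).inv_left.mul_left
      (show Commute k (M.toH a) from h a ha)).eq)
  have := mul_mem (M.bP_le_vH hl) (M.toH_vH hqA)
  rwa [hq, mul_inv_cancel_left] at this

theorem mem_tH_of_cols {k : ↥(centralizer ({z} : Set G))} {i : ℕ} (hi : i < 8) (hkC : M.Acts k (tEl i))
    (h : ∀ a ∈ M.tA, k * M.toH a = M.toH a * k) : k ∈ M.tH := by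
  obtain ⟨l, hl, hla⟩ := M.exists_lift_tP hi
  obtain ⟨q, hq⟩ := M.toH_surj (M.inv_mul_mem hla hkC)
  have hqA : q ∈ M.tA := M.mem_tA_of_comm fun a ha => M.toH_injective (by
    rw [map_mul, map_mul, hq]
    exact ((show Commute l (M.toH a) from M.tP_comm_tA hl ha).inv_left.mul_left
      (show Commute k (M.toH a) from h a ha)).eq)
  have := mul_mem (M.tP_le_tH hl) (M.toH_tH hqA)
  rwa [hq, mul_inv_cancel_left] at this

theorem mem_tH_of_fix {k : ↥(centralizer ({z} : Set G))} (hk : k ∈ M.syl)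
    (h : ∀ a ∈ M.tA, k * M.toH a = M.toH a * k) : k ∈ M.tH := by
  obtain ⟨C, hC, hkC⟩ := hk
  obtain ⟨i, hi, rfl⟩ := sylow_fix_tW C hC fun n hn => by
    obtain ⟨a, rfl⟩ := M.vec_surj n (tW_spec.2.1 n hn)
    exact M.cols_fix hkC (h a (M.mem_tA.2 hn))
  exact M.mem_tH_of_cols hi hkC h

theorem exists_tConj : ∃ g : ↥(centralizer ({z} : Set G)), M.Acts g tConj :=
  M.exists_elem _ (gen_mono (wordC_memK tWords_ok.2.2.1))

theorem mem_conj_of_fix {g k : ↥(centralizer ({z} : Set G))} (hg : M.Acts g tConj) (hk : k ∈ M.syl)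
    (h : ∀ a ∈ M.tA, k * M.toH (M.ctx.conjQ g a) = M.toH (M.ctx.conjQ g a) * k) :
    g⁻¹ * k * g ∈ M.tH := by
  obtain ⟨C, hC, hkC⟩ := hk
  obtain ⟨i, hi, e⟩ := sylow_fix_conj C hC fun n hn => by
    obtain ⟨a, rfl⟩ := M.vec_surj n (tW_spec.2.1 n hn)
    rw [← hg a]
    exact M.cols_fix hkC (h a (M.mem_tA.2 hn))
  refine M.mem_tH_of_cols hi (M.acts_conj_inv hg hkC (gen_app_lt (gen_mono (tEl_InK0 hi))) e) fun a ha => ?_
  have h1 := h a ha
  rw [← M.toH_conj] at h1
  calc g⁻¹ * k * g * M.toH a = g⁻¹ * (k * (g * M.toH a * g⁻¹)) * g := by group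
    _ = g⁻¹ * (g * M.toH a * g⁻¹ * k) * g := by rw [h1]
    _ = M.toH a * (g⁻¹ * k * g) := by group

/-- An elementary subgroup of the Sylow subgroup with a maximal intersection with Q lies in one of three groups. -/
theorem full_cases {E : Subgroup ↥(centralizer ({z} : Set G))} (hE : E ≤ M.syl) (h2 : ∀ a ∈ E, a * a = 1)
    (hA : Nat.card ↥(E.comap M.toH) = 128) (hc : 1024 ≤ Nat.card ↥E) :
    E.comap M.toH = M.aQ ∨ E.comap M.toH = M.tA ∨
      ∃ g, M.Acts g tConj ∧ E.comap M.toH = M.tA.map (M.ctx.conjQ g) := by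
  classical
  haveI := M.normal
  obtain ⟨B, hB, hBE, hmem, hcard⟩ := M.exists_colSet hE h2
  set A := E.comap M.toH
  have h8 : 8 ≤ B.ncard := by rw [hcard, hA] at hc; omega
  have hfixA : ∀ x ∈ A, ∀ C ∈ B, app C (M.vec x) = M.vec x := fun x hx C hC => by
    obtain ⟨c, hcE, hcC⟩ := hBE C hC
    exact M.cols_fix hcC (sq_comm h2 hcE hx)
  have hfix : ∀ s : Finset ℕ, (∀ n < 4096, (∀ g ∈ B, app g n = n) → n ∈ s) → 64 ≤ s.card := fun s hs => by
    have h := M.card_le_image (A := A) (s := s) fun x hx => hs _ (M.vec_lt x) (hfixA x hx)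
    omega
  have hle : ∀ x ∈ A, ∀ n < 4096, n = M.vec x → ∀ g ∈ B, app g n = n := fun x hx n _ e g hg => e ▸ hfixA x hx g hg
  rcases fix_space hB h8 hfix with h | h | h
  · exact Or.inl (Subgroup.eq_of_le_of_card_ge (fun x hx => h _ (M.vec_lt x) (hle x hx _ (M.vec_lt x) rfl))
      (by rw [hA, M.card_aQ]))
  · exact Or.inr (Or.inl (Subgroup.eq_of_le_of_card_ge (fun x hx => h _ (M.vec_lt x) (hle x hx _ (M.vec_lt x) rfl))
      (by rw [hA, M.card_tA])))
  · obtain ⟨g, hg⟩ := M.exists_tConj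
    refine Or.inr (Or.inr ⟨g, hg, Subgroup.eq_of_le_of_card_ge (fun x hx => ?_) ?_⟩)
    · obtain ⟨n, hn, e⟩ := List.mem_map.1 (h _ (M.vec_lt x) (hle x hx _ (M.vec_lt x) rfl))
      obtain ⟨a, rfl⟩ := M.vec_surj n (tW_spec.2.1 n hn)
      rw [← hg a] at e
      rcases M.vec_eq_iff.1 e with f | f
      · exact ⟨a, M.mem_tA.2 hn, (Subtype.ext f).symm⟩
      · refine ⟨a * M.zQ, mul_mem (M.mem_tA.2 hn) M.zQ_tA, ?_⟩
        rw [map_mul]
        refine Subtype.ext ?_
        show (M.ctx.conjQ g a : G) * (g.1 * z * g.1⁻¹) = _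
        rw [mem_centralizer_singleton_iff.1 g.2, mul_inv_cancel_right]
        exact f.symm
    · rw [hA]
      exact le_trans (Nat.card_le_card_of_surjective _ ((M.ctx.conjQ g).subgroupMap_surjective M.tA))
        M.card_tA.le
where
  sq_comm {E : Subgroup ↥(centralizer ({z} : Set G))} (h2 : ∀ a ∈ E, a * a = 1) {a b : ↥(centralizer ({z} : Set G))}
      (ha : a ∈ E) (hb : b ∈ E) : a * b = b * a := by
    have hi : ∀ c ∈ E, c⁻¹ = c := fun c hc => inv_eq_of_mul_eq_one_right (h2 c hc)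
    calc a * b = (a * b)⁻¹ := (hi _ (mul_mem ha hb)).symm
      _ = b * a := by rw [_root_.mul_inv_rev, hi a ha, hi b hb]

end Model

end Cfsg.Agent.JankoFour
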