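import Cfsg.Agent.Lib.JankoFour.TenSelf

/-!
The self-centralising elementary abelian subgroups of order 2^10 form one class.
-/

set_option autoImplicit false
set_option linter.unusedSectionVars false
set_option linter.style.haveILetI false

namespace Cfsg.Agent.JankoFour

open Subgroup
open Cfsg.Agent.LargeFischer (Ctx QG)
open scoped Pointwise

namespace Model

variable {G : Type*} [Group G] [Finite G] {z : G} {P : Subgroup G} (M : Model z P)

/-- The second abelian subgroup in the group. -/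
def tG : Subgroup G := M.tH.map (centralizer ({z} : Set G)).subtype

theorem tG_le : M.tG ≤ centralizer ({z} : Set G) := map_subtype_le _

theorem mem_tG {c : ↥(centralizer ({z} : Set G))} : (c : G) ∈ M.tG ↔ c ∈ M.tH :=
  ⟨fun ⟨d, hd, e⟩ => Subtype.ext (e : (d : G) = c) ▸ hd, fun h => ⟨c, h, rfl⟩⟩

theorem tG_sq : ∀ a ∈ M.tG, a * a = 1 := by
  rintro _ ⟨a, ha, rfl⟩
  exact congrArg Subtype.val (M.tH_sq a ha)

theorem tG_card : Nat.card ↥M.tG = 1024 := by
  rw [tG, card_map_of_injective (centralizer ({z} : Set G)).subtype_injective, M.tH_card]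

theorem z_mem_tG : z ∈ M.tG := ⟨_, M.toH_tH M.zQ_tA, rfl⟩

theorem tG_comm {a b : G} (ha : a ∈ M.tG) (hb : b ∈ M.tG) : a * b = b * a := by
  obtain ⟨a', ha', rfl⟩ := ha
  obtain ⟨b', hb', rfl⟩ := hb
  exact congrArg Subtype.val (M.tH_comm ha' hb')

theorem tG_elem : Cfsg.IsElementaryAbelian 2 M.tG :=
  ⟨⟨⟨fun a b => Subtype.ext (M.tG_comm a.2 b.2)⟩⟩, fun a ha => by rw [pow_two]; exact M.tG_sq a ha⟩

theorem centralizer_tG : centralizer (M.tG : Set G) = M.tG := by
  refine le_antisymm (fun c hc => ?_) fun a ha => mem_centralizer_iff.2 fun b hb => M.tG_comm hb ha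
  have hcz : c ∈ centralizer ({z} : Set G) :=
    mem_centralizer_singleton_iff.2 (mem_centralizer_iff.1 hc z M.z_mem_tG).symm
  exact ⟨⟨c, hcz⟩, M.self_cent fun a ha => Subtype.ext (mem_centralizer_iff.1 hc _ (M.mem_tG.2 ha)).symm, rfl⟩

/-- An elementary self-centralising subgroup of order 2^10 containing the involution is conjugate to the standard
one by an element centralising the involution. -/
theorem conjugate_in_cent (E : Subgroup G) (hel : Cfsg.IsElementaryAbelian 2 E) (hc : Nat.card ↥E = 1024)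
    (hself : centralizer (E : Set G) = E) (hz : z ∈ E) :
    ∃ g ∈ centralizer ({z} : Set G), E = M.tG.map (MulAut.conj g).toMonoidHom := by
  have hsq : ∀ a ∈ E, a * a = 1 := fun a ha => by rw [← pow_two]; exact hel.2 a ha
  have hcomm : ∀ a ∈ E, ∀ b ∈ E, a * b = b * a := fun a ha b hb =>
    (mem_centralizer_iff.1 (hself.ge hb) a ha)
  have hle : E ≤ centralizer ({z} : Set G) := fun a ha => mem_centralizer_singleton_iff.2 (hcomm a ha z hz)
  obtain ⟨g, hg⟩ := M.classify_H (E := E.subgroupOf (centralizer ({z} : Set G)))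
    (fun a ha => Subtype.ext (hsq _ (mem_subgroupOf.1 ha)))
    (by rw [Nat.card_congr (subgroupOfEquivOfLe hle).toEquiv, hc])
    (fun c h => mem_subgroupOf.2 (hself.le (mem_centralizer_iff.2 fun a ha =>
      (congrArg Subtype.val (h ⟨a, hle ha⟩ (mem_subgroupOf.2 ha))).symm)))
  refine ⟨g, g.2, ?_⟩
  rw [← map_subgroupOf_eq_of_le hle, hg, tG, Subgroup.map_map, Subgroup.map_map]
  rfl

theorem conjugate_tG (E : Subgroup G) (hel : Cfsg.IsElementaryAbelian 2 E) (hc : Nat.card ↥E = 1024)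
    (hself : centralizer (E : Set G) = E) : ∃ g : G, E = M.tG.map (MulAut.conj g).toMonoidHom := by
  haveI : Fact (Nat.Prime 2) := ⟨Nat.prime_two⟩
  obtain ⟨S, hS⟩ := M.sylow_of_cent
  obtain ⟨S', hS'⟩ := (IsPGroup.of_card (n := 10) (show Nat.card ↥E = 2 ^ 10 by rw [hc]; norm_num)).exists_le_sylow
  obtain ⟨g, hg⟩ := MulAction.exists_smul_eq G S' S
  set F := E.map (MulAut.conj g).toMonoidHom with hF
  have hFS : F ≤ centralizer ({z} : Set G) := by
    refine le_trans ?_ ((le_of_eq hS).trans (map_subtype_le _))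
    rw [← hg]
    rintro _ ⟨a, ha, rfl⟩
    rw [Sylow.coe_subgroup_smul, Subgroup.mem_pointwise_smul_iff_inv_smul_mem]
    show (MulAut.conj g)⁻¹ (MulAut.conj g a) ∈ (S' : Subgroup G)
    rw [MulAut.inv_apply_self]
    exact hS' ha
  have hFc : centralizer (F : Set G) = F := by
    refine le_antisymm (fun c hcc => ?_) ?_
    · refine ⟨g⁻¹ * c * g, hself.le (mem_centralizer_iff.2 fun a ha => ?_),
        show g * (g⁻¹ * c * g) * g⁻¹ = c by group⟩
      have := mem_centralizer_iff.1 hcc _ ⟨a, ha, rfl⟩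
      calc a * (g⁻¹ * c * g) = g⁻¹ * (g * a * g⁻¹ * c) * g := by group
        _ = g⁻¹ * (c * (g * a * g⁻¹)) * g := congrArg (fun u => g⁻¹ * u * g) this
        _ = _ := by group
    · rintro _ ⟨a, ha, rfl⟩
      refine mem_centralizer_iff.2 ?_
      rintro _ ⟨b, hb, rfl⟩
      rw [← map_mul, ← map_mul, mem_centralizer_iff.1 (hself.ge ha) b hb]
  have hFel : Cfsg.IsElementaryAbelian 2 F := ⟨⟨⟨fun a b => Subtype.ext
    (mem_centralizer_iff.1 (hFc.ge b.2) a a.2)⟩⟩, by
      rintro _ ⟨a, ha, rfl⟩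
      rw [← map_pow, hel.2 a ha, map_one]⟩
  obtain ⟨h, -, hh⟩ := M.conjugate_in_cent F hFel
    (by rw [hF, card_map_of_injective (MulAut.conj g).injective, hc]) hFc
    (hFc.le (mem_centralizer_iff.2 fun a ha => mem_centralizer_singleton_iff.1 (hFS ha)))
  refine ⟨g⁻¹ * h, ?_⟩
  apply Subgroup.map_injective (f := (MulAut.conj g).toMonoidHom) (MulAut.conj g).injective
  rw [← hF, hh, Subgroup.map_map]
  congr 1
  ext x
  simp [mul_assoc]

/-- The normaliser of the second subgroup is transitive on the conjugates of the involution in it. -/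
theorem fusion_tG {g : G} (hg : g * z * g⁻¹ ∈ M.tG) :
    ∃ n ∈ normalizer (M.tG : Set G), n * z * n⁻¹ = g * z * g⁻¹ := by
  set E := M.tG.map (MulAut.conj g⁻¹).toMonoidHom with hE
  have hz : z ∈ E := ⟨_, hg, show g⁻¹ * (g * z * g⁻¹) * g⁻¹⁻¹ = z by group⟩
  have hEc : centralizer (E : Set G) = E := by
    refine le_antisymm (fun c hcc => ?_) ?_
    · refine ⟨g * c * g⁻¹, M.centralizer_tG.le (mem_centralizer_iff.2 fun a ha => ?_),
        show g⁻¹ * (g * c * g⁻¹) * g⁻¹⁻¹ = c by group⟩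
      have := mem_centralizer_iff.1 hcc _ ⟨a, ha, rfl⟩
      calc a * (g * c * g⁻¹) = g * (g⁻¹ * a * g⁻¹⁻¹ * c) * g⁻¹ := by group
        _ = g * (c * (g⁻¹ * a * g⁻¹⁻¹)) * g⁻¹ := congrArg (fun u => g * u * g⁻¹) this
        _ = _ := by group
    · rintro _ ⟨a, ha, rfl⟩
      refine mem_centralizer_iff.2 ?_
      rintro _ ⟨b, hb, rfl⟩
      rw [← map_mul, ← map_mul, M.tG_comm hb ha]
  have hel : Cfsg.IsElementaryAbelian 2 E := ⟨⟨⟨fun a b => Subtype.ext
    (mem_centralizer_iff.1 (hEc.ge b.2) a a.2)⟩⟩, by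
      rintro _ ⟨a, ha, rfl⟩
      rw [← map_pow, pow_two, M.tG_sq a ha, map_one]⟩
  obtain ⟨h, hh, e⟩ := M.conjugate_in_cent E hel
    (by rw [hE, card_map_of_injective (MulAut.conj g⁻¹).injective, M.tG_card]) hEc hz
  have hn : ∀ x ∈ M.tG, (g * h) * x * (g * h)⁻¹ ∈ M.tG := fun x hx => by
    obtain ⟨y, hy, hxy⟩ := e.ge ⟨x, hx, rfl⟩
    have hxy' : g⁻¹ * y * g⁻¹⁻¹ = h * x * h⁻¹ := hxy
    rw [show g * h * x * (g * h)⁻¹ = g * (h * x * h⁻¹) * g⁻¹ by group, ← hxy',
      show g * (g⁻¹ * y * g⁻¹⁻¹) * g⁻¹ = y by group]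
    exact hy
  refine ⟨g * h, ?_, ?_⟩
  · refine mem_normalizer_fintype fun x hx => hn x hx
  · rw [show g * h * z * (g * h)⁻¹ = g * (h * z * h⁻¹) * g⁻¹ by group,
      show h * z * h⁻¹ = z by rw [mem_centralizer_singleton_iff.1 hh, mul_inv_cancel_right]]

end Model

end Cfsg.Agent.JankoFour
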