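import Cfsg.Agent.Lib.JankoFour.TenClassChecks
import Cfsg.Agent.Lib.JankoFour.TenConj
import Cfsg.Agent.Lib.JankoFour.CoordSquare
import Cfsg.Agent.Lib.JankoFour.CoordBits

/-!
Coordinates on the second abelian subgroup, relative to three lifts.
-/

set_option autoImplicit false
set_option linter.unusedSectionVars false

namespace Cfsg.Agent.JankoFour

open Subgroup
open Cfsg.Agent.LargeFischer (Ctx QG)
open Cfsg.Agent.J4Module (app)
open Cfsg.Agent.J4Module.Data
open Big Ten Coord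

namespace Ten

/-- The vectors of the second singular space. -/
def vW (w : ℕ) : ℕ := tW.getD w 0

theorem vW_mem {w : ℕ} (hw : w < 64) : vW w ∈ tW := by
  rw [vW, List.getD_eq_getElem _ _ (show w < tW.length by rw [tW_spec.1]; exact hw)]
  exact List.getElem_mem _

theorem vW_lt {w : ℕ} (hw : w < 64) : vW w < 4096 := tW_spec.2.1 _ (vW_mem hw)

theorem vW_zero : vW 0 = 0 := tW_spec.2.2.2.2

theorem vW_xor {a b : ℕ} (ha : a < 64) (hb : b < 64) : vW a ^^^ vW b = vW (a ^^^ b) := tW_spec.2.2.1 a ha b hb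

theorem exists_vW {v : ℕ} (hv : v ∈ tW) : ∃ w < 64, vW w = v := by
  obtain ⟨i, hi, e⟩ := List.getElem_of_mem hv
  exact ⟨i, tW_spec.1 ▸ hi, by rw [vW, List.getD_eq_getElem _ _ hi, e]⟩

end Ten

namespace Model

variable {G : Type*} [Group G] [Finite G] {z : G} {P : Subgroup G} (M : Model z P)

/-- Three lifts centralising P. -/
structure TLift where
  l1 : ↥(centralizer ({z} : Set G))
  l2 : ↥(centralizer ({z} : Set G))
  l4 : ↥(centralizer ({z} : Set G))
  c1 : (l1 : G) ∈ centralizer (P : Set G)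
  c2 : (l2 : G) ∈ centralizer (P : Set G)
  c4 : (l4 : G) ∈ centralizer (P : Set G)
  a1 : M.Acts l1 (tEl 1)
  a2 : M.Acts l2 (tEl 2)
  a4 : M.Acts l4 (tEl 4)

theorem uS_tA {w : ℕ} (hw : w < 64) : M.uS (vW w) ∈ M.tA := by
  rw [M.mem_tA, M.uS_vec (vW_lt hw)]
  exact vW_mem hw

theorem uS_tW {a b : ℕ} (ha : a < 64) (hb : b < 64) : M.uS (vW (a ^^^ b)) = M.uS (vW a) * M.uS (vW b) := by
  rw [M.uS_mul (vW_lt ha) (vW_lt hb), vW_xor ha hb, show bbit (p2 (vW a)) (app pC (vW b)) = false from tW_add a ha b hb]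
  simp [zb]

variable {M} (L : M.TLift)

/-- The lift of an element over the space. -/
def TLift.lam (k : ℕ) : ↥(centralizer ({z} : Set G)) := prodB [L.l1, L.l2, L.l4] k

theorem TLift.lam_spec {k : ℕ} (hk : k < 8) :
    (L.lam k : G) ∈ centralizer (P : Set G) ∧ M.Acts (L.lam k) (tEl k) := by
  have hx := tEl_spec.2.2.2.1
  have ha : ∀ {c d : ↥(centralizer ({z} : Set G))} {i j : ℕ}, i < 8 → j < 8 → M.Acts c (tEl i) → M.Acts d (tEl j) →
      M.Acts (c * d) (tEl (i ^^^ j)) := fun hi hj hc hd => hx _ hi _ hj ▸ M.acts_mul hc hd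
  have h12 := ha (by norm_num) (by norm_num) L.a1 L.a2
  have h14 := ha (by norm_num) (by norm_num) L.a1 L.a4
  have h24 := ha (by norm_num) (by norm_num) L.a2 L.a4
  have h124 := ha (by norm_num) (show (2 : ℕ) ^^^ 4 < 8 by decide) L.a1 h24
  interval_cases k
  · rw [show L.lam 0 = 1 from prodB_zero _]; exact ⟨one_mem _, tEl_spec.2.1 ▸ M.acts_one⟩
  · rw [show L.lam 1 = L.l1 by simp [lam, prodB]]; exact ⟨L.c1, L.a1⟩
  · rw [show L.lam 2 = L.l2 by simp [lam, prodB]]; exact ⟨L.c2, L.a2⟩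
  · rw [show L.lam 3 = L.l1 * L.l2 by simp [lam, prodB]]; exact ⟨mul_mem L.c1 L.c2, h12⟩
  · rw [show L.lam 4 = L.l4 by simp [lam, prodB]]; exact ⟨L.c4, L.a4⟩
  · rw [show L.lam 5 = L.l1 * L.l4 by simp [lam, prodB]]; exact ⟨mul_mem L.c1 L.c4, h14⟩
  · rw [show L.lam 6 = L.l2 * L.l4 by simp [lam, prodB]]; exact ⟨mul_mem L.c2 L.c4, h24⟩
  · rw [show L.lam 7 = L.l1 * (L.l2 * L.l4) by simp [lam, prodB]]
    exact ⟨mul_mem L.c1 (mul_mem L.c2 L.c4), h124⟩

theorem TLift.lam_tP {k : ℕ} (hk : k < 8) : L.lam k ∈ M.tP := ⟨(L.lam_spec hk).1, k, hk, (L.lam_spec hk).2⟩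

theorem TLift.lam_zero : L.lam 0 = 1 := prodB_zero _

/-- The basis. -/
noncomputable def TLift.basis : List ↥(centralizer ({z} : Set G)) :=
  ((List.range 6).map fun i => M.toH (M.uS (vW (2 ^ i)))) ++ [L.l1, L.l2, L.l4] ++ [M.toH M.zQ]

theorem TLift.basis_mem : ∀ g ∈ L.basis, g ∈ M.tH := by
  intro g hg
  simp only [TLift.basis, List.mem_append, List.mem_map, List.mem_range, List.mem_cons, List.not_mem_nil, or_false]
    at hg
  rcases hg with (⟨i, hi, rfl⟩ | h) | rfl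
  · exact M.toH_tH (M.uS_tA (lt_of_lt_of_le (Nat.pow_lt_pow_right (by norm_num) hi) (by norm_num)))
  · refine M.tP_le_tH ?_
    rcases h with rfl | rfl | rfl
    exacts [⟨L.c1, 1, by norm_num, L.a1⟩, ⟨L.c2, 2, by norm_num, L.a2⟩, ⟨L.c4, 4, by norm_num, L.a4⟩]
  · exact M.toH_tH M.zQ_tA

/-- The coordinates inside the centraliser. -/
noncomputable def TLift.elH (n : ℕ) : ↥(centralizer ({z} : Set G)) := prodB L.basis n

/-- The coordinates. -/
noncomputable def TLift.el (n : ℕ) : G := L.elH n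

theorem TLift.el_mem (n : ℕ) : L.el n ∈ M.tG := M.mem_tG.2 (prodB_mem _ _ L.basis_mem n)

theorem TLift.el_xor (m n : ℕ) : L.el (m ^^^ n) = L.el m * L.el n :=
  congrArg Subtype.val (prodB_xor M.tH (fun _ ha _ hb => M.tH_comm ha hb) M.tH_sq _ L.basis_mem m n)

theorem TLift.elH_eq {n : ℕ} (hn : n < 1024) :
    L.elH n = M.toH (M.uS (vW (n % 64))) * L.lam (n / 64 % 8) * M.toH (M.zb (decide (n / 512 = 1))) := by
  have hA : ∀ w < 64, prodB ((List.range 6).map fun i => M.toH (M.uS (vW (2 ^ i)))) w = M.toH (M.uS (vW w)) := by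
    intro w hw
    refine bits_induct (N := 6)
      (p := fun w => prodB ((List.range 6).map fun i => M.toH (M.uS (vW (2 ^ i)))) w = M.toH (M.uS (vW w))) ?_ (fun i hi m hm ih => ?_) hw
    · rw [prodB_zero, vW_zero, M.uS_zero, map_one]
    · have hmem : ∀ g ∈ (List.range 6).map (fun i => M.toH (M.uS (vW (2 ^ i)))), g ∈ M.tH := fun g hg =>
        L.basis_mem g (by simp only [TLift.basis, List.mem_append]; exact Or.inl (Or.inl hg))
      rw [prodB_xor M.tH (fun _ ha _ hb => M.tH_comm ha hb) M.tH_sq _ hmem, ih, prodB_two_pow,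
        List.getD_eq_getElem _ _ (by simpa using hi), List.getElem_map, List.getElem_range,
        M.uS_tW (lt_of_lt_of_le (Nat.pow_lt_pow_right (by norm_num) hi) (by norm_num)) hm, map_mul]
  rw [TLift.elH, TLift.basis, prodB_append, prodB_append]
  simp only [List.length_append, List.length_map, List.length_range, List.length_cons, List.length_nil]
  rw [show n % 2 ^ (6 + (0 + 1 + 1 + 1)) % 2 ^ 6 = n % 64 by omega,
    show n % 2 ^ (6 + (0 + 1 + 1 + 1)) / 2 ^ 6 = n / 64 % 8 by omega,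
    hA _ (Nat.mod_lt _ (by norm_num)), show n / 2 ^ (6 + (0 + 1 + 1 + 1)) = n / 512 by norm_num]
  congr 1
  rcases (show n / 512 = 0 ∨ n / 512 = 1 by omega) with e | e <;> simp [prodB, zb, e]

theorem TLift.el_zero : L.el 0 = 1 := congrArg Subtype.val (prodB_zero L.basis)

theorem TLift.el_z : L.el 512 = z := by
  have h : L.elH 512 = M.toH M.zQ := by
    rw [L.elH_eq (by norm_num)]
    simp [vW_zero, M.uS_zero, L.lam_zero, zb]
  exact congrArg Subtype.val h

theorem TLift.el_inj {m n : ℕ} (hm : m < 1024) (hn : n < 1024) (e : L.el m = L.el n) : m = n := by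
  set d := m ^^^ n with hd
  have hd1024 : d < 1024 := Nat.xor_lt_two_pow (n := 10) hm hn
  suffices h : d = 0 from Nat.xor_eq_zero_iff.1 h
  have h1 : L.el d = 1 := by
    rw [hd, L.el_xor, e, ← L.el_xor, Nat.xor_self, L.el_zero]
  set k := d / 64 % 8 with hk
  set w := d % 64 with hw
  have hk8 : k < 8 := Nat.mod_lt _ (by norm_num)
  have hH : L.elH d = 1 := Subtype.ext h1
  rw [L.elH_eq hd1024] at hH
  have hacts : M.Acts (1 : ↥(centralizer ({z} : Set G))) (tEl k) := by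
    rw [← hH]
    have ha := M.acts_mul (M.acts_mul (M.acts_of_mem_Q (M.toH_mem (M.uS (vW w)))) (L.lam_spec hk8).2)
      (M.acts_of_mem_Q (M.toH_mem (M.zb (decide (d / 512 = 1)))))
    rwa [unitC_mulC (sylow_InL0 (tEl_spec.1 _ hk8).1) (fun _ h => h),
      mulC_unitC (tEl_spec.1 _ hk8).2] at ha
  have hk0 : k = 0 := tEl_spec.2.2.2.2 k hk8 0 (by norm_num) (by
    rw [tEl_spec.2.1]
    exact M.acts_unique (tEl_spec.1 _ hk8).2 rfl hacts M.acts_one)
  rw [← hk, hk0, L.lam_zero, mul_one, ← map_mul, ← map_one M.toH] at hH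
  have hQ := M.toH_injective hH
  have hv : vW w = 0 := by
    have := congrArg M.vec hQ
    rwa [M.vec_mul, M.uS_vec (vW_lt (Nat.mod_lt _ (by norm_num))), M.vec_zb, M.vec_one, Nat.xor_zero] at this
  have hw0 : w = 0 := tW_spec.2.2.2.1 w (Nat.mod_lt _ (by norm_num)) 0 (by norm_num)
    (hv.trans vW_zero.symm)
  rw [hv, M.uS_zero, one_mul] at hQ
  rcases (show d / 512 = 0 ∨ d / 512 = 1 by omega) with e | e
  · omega
  · simp only [e, decide_true, zb, if_true] at hQ
    exact absurd (congrArg Subtype.val hQ) M.ctx.xs.ne_one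

theorem TLift.el_surj {a : G} (ha : a ∈ M.tG) : ∃ n < 1024, L.el n = a := by
  classical
  letI := Fintype.ofFinite ↥M.tG
  let f : Fin 1024 → ↥M.tG := fun n => ⟨L.el n, L.el_mem n⟩
  have hf : Function.Bijective f := (Fintype.bijective_iff_injective_and_card f).2
    ⟨fun m n e => Fin.ext (L.el_inj m.2 n.2 (show L.el m.1 = L.el n.1 from congrArg (fun x : ↥M.tG => (x : G)) e)),
      by rw [Fintype.card_fin, ← Nat.card_eq_fintype_card, M.tG_card]⟩
  obtain ⟨n, hn⟩ := hf.2 ⟨a, ha⟩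
  exact ⟨n, n.2, congrArg Subtype.val hn⟩

/-- The permutation of the coordinates induced by the normaliser. -/
theorem TLift.exists_sigma {g : G}
    (hg : g ∈ normalizer (M.tG : Set G)) :
    ∃ σ : ℕ → ℕ, (∀ x < 1024, σ x < 1024 ∧ L.el (σ x) = g * L.el x * g⁻¹) ∧
      (∀ x < 1024, ∀ y < 1024, σ (x ^^^ y) = σ x ^^^ σ y ∧ (σ x = σ y → x = y)) ∧
        ∀ v < 1024, ∃ x < 1024, σ x = v := by
  have hex : ∀ x, ∃ j, j < 1024 ∧ L.el j = g * L.el x * g⁻¹ := fun x =>
    L.el_surj ((Subgroup.mem_normalizer_iff.1 hg _).1 (L.el_mem x))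
  choose σ hσ using hex
  have hlt : ∀ {x y : ℕ}, x < 1024 → y < 1024 → x ^^^ y < 1024 := fun hx hy => Nat.xor_lt_two_pow (n := 10) hx hy
  refine ⟨σ, fun x _ => hσ x, fun x hx y hy => ⟨?_, fun e => ?_⟩, fun v hv => ?_⟩
  · refine L.el_inj (hσ _).1 (hlt (hσ x).1 (hσ y).1) ?_
    rw [(hσ _).2, L.el_xor, L.el_xor, (hσ x).2, (hσ y).2]
    group
  · refine L.el_inj hx hy ?_
    have := (hσ x).2.symm.trans ((congrArg L.el e).trans (hσ y).2)
    exact mul_left_cancel (mul_right_cancel this)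
  · obtain ⟨x, hx, e⟩ := L.el_surj ((Subgroup.mem_normalizer_iff.1 (inv_mem hg) _).1 (L.el_mem v))
    refine ⟨x, hx, L.el_inj (hσ x).1 hv ?_⟩
    rw [(hσ x).2, e]
    group

theorem TLift.el_flip (n : ℕ) : L.el (n ^^^ 512) = L.el n * z := by rw [L.el_xor, L.el_z]

end Model

end Cfsg.Agent.JankoFour
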