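import Cfsg.Agent.Lib.JankoFour.TenFrameChecks
import Cfsg.Agent.Lib.JankoFour.CoordBits
import Cfsg.Agent.Lib.J4Module.BigSubgroup
import Mathlib.LinearAlgebra.Matrix.SpecialLinearGroup
import Mathlib.Data.ZMod.Basic

/-!
Additive bijections preserving the decomposable elements come from linear maps of the five space.
-/

set_option autoImplicit false
set_option maxRecDepth 100000

namespace Cfsg.Agent.JankoFour.Ten

open Cfsg.Agent.J4Module (app clearLow card_le_of_clearLow)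

/-- The set of bits below 1024. -/
def bitsF (S : ℕ) : Finset ℕ := (Finset.range 1024).filter fun n => S.testBit n

theorem mem_bitsF {S n : ℕ} : n ∈ bitsF S ↔ n < 1024 ∧ S.testBit n = true := by simp [bitsF]

theorem app_map {N : ℕ} (f : ℕ → ℕ) (h0 : f 0 = 0) (hf : ∀ x < 2 ^ N, ∀ y < 2 ^ N, f (x ^^^ y) = f x ^^^ f y) :
    ∀ (cs : List ℕ), (∀ c ∈ cs, c < 2 ^ N) → ∀ n, f (app cs n) = app (cs.map f) n
  | [], _, n => by simpa [app] using h0
  | c :: cs, h, n => by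
    have hcs : ∀ x ∈ cs, x < 2 ^ N := fun x hx => h x (List.mem_cons_of_mem _ hx)
    show f ((if n % 2 = 1 then c else 0) ^^^ app cs (n / 2)) =
      (if n % 2 = 1 then f c else 0) ^^^ app (cs.map f) (n / 2)
    rw [hf _ (by split; exacts [h c List.mem_cons_self, Nat.two_pow_pos N]) _ (Coord.app_lt cs hcs _),
      app_map f h0 hf cs hcs]
    split
    · rfl
    · rw [h0]

theorem st_le_dec {a n : ℕ} (ha : a < 32) (h : (St a).testBit n = true) : n < 1024 ∧ tDec.testBit n = true := by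
  refine ⟨?_, ?_⟩
  · by_contra hc
    rw [Nat.testBit_lt_two_pow ((st_lt a ha).trans_le (Nat.pow_le_pow_right (by norm_num) (not_lt.1 hc)))] at h
    simp at h
  · have h2 := (st_dec a ha).1
    rw [← h2, Nat.testBit_and, Bool.and_eq_true] at h
    exact h.2

theorem exists_line {d : ℕ} (hd : d < 1024) (h : tDec.testBit d = true) : ∃ t ∈ tLines, t.2.2 = d := by
  obtain ⟨t, ht, e⟩ := List.any_eq_true.1 (lines_cover d hd h)
  exact ⟨t, ht, beq_iff_eq.1 e⟩

theorem card_St {a : ℕ} (ha : a < 32) (h0 : a ≠ 0) : (bitsF (St a)).card = 15 := by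
  classical
  have e : bitsF (St a) = ((stT a).map fun t => t.2.2).toFinset := by
    ext n
    rw [mem_bitsF, List.mem_toFinset, List.mem_map]
    constructor
    · rintro ⟨hn, hb⟩
      obtain ⟨t, ht, rfl⟩ := exists_line hn (st_le_dec ha hb).2
      exact ⟨t, List.mem_filter.2 ⟨ht, hb⟩, rfl⟩
    · rintro ⟨t, ht, rfl⟩
      obtain ⟨ht, hb⟩ := List.mem_filter.1 ht
      exact ⟨(st_le_dec ha hb).1, hb⟩
  rw [e, stT, List.toFinset_card_of_nodup ((List.filter_sublist.map _).nodup lines_distinct.1), List.length_map]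
  exact (st_star a ha h0).1

theorem St_pair {a b n : ℕ} (ha : a < 32) (hb : b < 32) (ha0 : a ≠ 0) (hb0 : b ≠ 0) (hne : a ≠ b)
    (h : (St a).testBit n = true) (h' : (St b).testBit n = true) : n = wd a b := by
  have e : (St a &&& St b).testBit n = true := by rw [Nat.testBit_and, h, h']; rfl
  rw [(st_two a ha b hb ha0 hb0 hne).2.2.1, Nat.testBit_two_pow, decide_eq_true_eq] at e
  exact e.symm

theorem St_wd {a b : ℕ} (ha : a < 32) (hb : b < 32) (ha0 : a ≠ 0) (hb0 : b ≠ 0) (hne : a ≠ b) :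
    (St a).testBit (wd a b) = true ∧ (St b).testBit (wd a b) = true := by
  have e : (St a &&& St b).testBit (wd a b) = true := by
    rw [(st_two a ha b hb ha0 hb0 hne).2.2.1, Nat.testBit_two_pow]; simp
  rwa [Nat.testBit_and, Bool.and_eq_true] at e

/-- Fifteen pairwise meeting lines have a common point. -/
theorem star_of_clique (S : Finset ℕ) (hS : ∀ d ∈ S, d < 1024 ∧ tDec.testBit d = true)
    (hp : ∀ d ∈ S, ∀ e ∈ S, d ≠ e → tDec.testBit (d ^^^ e) = true) (hc : S.card = 15) :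
    ∃ a < 32, a ≠ 0 ∧ S = bitsF (St a) := by
  classical
  obtain ⟨d, hd, e, he, hne⟩ := Finset.one_lt_card.1 (show 1 < S.card by omega)
  obtain ⟨s, hs, rfl⟩ := exists_line (hS d hd).1 (hS d hd).2
  obtain ⟨t, ht, rfl⟩ := exists_line (hS e he).1 (hS e he).2
  have hm := meet_spec s hs t ht (hp _ hd _ he hne)
  rw [meetM, Nat.testBit_or, Nat.testBit_or, Bool.or_eq_true, Bool.or_eq_true] at hm
  obtain ⟨hx, hy, hx0, hy0, hxy, -, -⟩ := lines_spec s hs
  have hxy0 : s.1 ^^^ s.2.1 ≠ 0 := fun h => hxy (Nat.xor_eq_zero_iff.1 h)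
  have hxy32 : s.1 ^^^ s.2.1 < 32 := Nat.xor_lt_two_pow (n := 5) hx hy
  obtain ⟨a, ha, ha0, hsa, hta⟩ : ∃ a < 32, a ≠ 0 ∧ (St a).testBit s.2.2 = true ∧ (St a).testBit t.2.2 = true := by
    rcases hm with (h | h) | h
    · exact ⟨_, hx, hx0, (mem_st s hs _ hx).2 (Or.inl rfl), h⟩
    · exact ⟨_, hy, hy0, (mem_st s hs _ hy).2 (Or.inr (Or.inl rfl)), h⟩
    · exact ⟨_, hxy32, hxy0, (mem_st s hs _ hxy32).2 (Or.inr (Or.inr rfl)), h⟩
  refine ⟨a, ha, ha0, ?_⟩
  by_cases hall : ∀ x ∈ S, (St a).testBit x = true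
  · exact Finset.eq_of_subset_of_card_le (fun x hx => mem_bitsF.2 ⟨(hS x hx).1, hall x hx⟩)
      (by rw [card_St ha ha0, hc])
  exfalso
  simp only [not_forall] at hall
  obtain ⟨f, hf, hfa⟩ := hall
  obtain ⟨u, hu, rfl⟩ := exists_line (hS f hf).1 (hS f hf).2
  have hmeet : ∀ v ∈ tLines, v.2.2 ∈ S → ∀ x ∈ S, v.2.2 ≠ x → (meetM v).testBit x = true := by
    intro v hv hvS x hxS hvx
    obtain ⟨w, hw, rfl⟩ := exists_line (hS x hxS).1 (hS x hxS).2
    exact meet_spec v hv w hw (hp _ hvS _ hxS hvx)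
  have hin : (S.filter fun x => (St a).testBit x).card ≤ 3 :=
    card_le_of_clearLow 3 _ _ (fun x hx => by
      obtain ⟨hxS, hxa⟩ := Finset.mem_filter.1 hx
      rw [Nat.testBit_and, hxa, hmeet u hu hf x hxS (fun h => hfa (h ▸ hxa))]
      rfl) (inside_three a ha ha0 u hu (by simpa using hfa))
  have hout : (S.filter fun x => ¬ (St a).testBit x).card ≤ 4 :=
    card_le_of_clearLow 4 _ _ (fun x hx => by
      obtain ⟨hxS, hxa⟩ := Finset.mem_filter.1 hx
      have h1 := hmeet s hs hd x hxS (fun h => hxa (h ▸ hsa))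
      have h2 := hmeet t ht he x hxS (fun h => hxa (h ▸ hta))
      simp [Nat.testBit_xor, Nat.testBit_and, h1, h2, hxa])
      (outside_four a ha ha0 s (List.mem_filter.2 ⟨hs, hsa⟩) t (List.mem_filter.2 ⟨ht, hta⟩) hne)
  have h := Finset.card_filter_add_card_filter_not (s := S) fun x => (St a).testBit x = true
  omega

theorem tri : ∀ x < 32, ∀ y < 32, ∀ u ∈ [x, y, x ^^^ y], ∀ v ∈ [x, y, x ^^^ y], ∀ w ∈ [x, y, x ^^^ y],
    u ≠ v → u ≠ w → v ≠ w → w = u ^^^ v := by decide +kernel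

/-- An additive bijection preserving the decomposable elements. -/
structure IsAuto (σ : ℕ → ℕ) : Prop where
  lt : ∀ x < 1024, σ x < 1024
  add : ∀ x < 1024, ∀ y < 1024, σ (x ^^^ y) = σ x ^^^ σ y
  inj : ∀ x < 1024, ∀ y < 1024, σ x = σ y → x = y
  dec : ∀ x < 1024, tDec.testBit (σ x) = tDec.testBit x

namespace IsAuto

variable {σ : ℕ → ℕ} (h : IsAuto σ)
include h

theorem zero : σ 0 = 0 := by
  have := h.add 0 (by norm_num) 0 (by norm_num)
  rw [Nat.xor_self] at this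
  simpa using this

theorem star_image {a : ℕ} (ha : a < 32) (ha0 : a ≠ 0) :
    ∃ b < 32, b ≠ 0 ∧ (bitsF (St a)).image σ = bitsF (St b) := by
  classical
  refine star_of_clique _ ?_ ?_ ?_
  · intro d hd
    obtain ⟨x, hx, rfl⟩ := Finset.mem_image.1 hd
    obtain ⟨hx1, hx2⟩ := mem_bitsF.1 hx
    exact ⟨h.lt x hx1, by rw [h.dec x hx1]; exact (st_le_dec ha hx2).2⟩
  · intro d hd e he hne
    obtain ⟨x, hx, rfl⟩ := Finset.mem_image.1 hd
    obtain ⟨y, hy, rfl⟩ := Finset.mem_image.1 he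
    obtain ⟨hx1, hx2⟩ := mem_bitsF.1 hx
    obtain ⟨hy1, hy2⟩ := mem_bitsF.1 hy
    rw [← h.add x hx1 y hy1, h.dec _ (Nat.xor_lt_two_pow (n := 10) hx1 hy1)]
    obtain ⟨s, hs, rfl⟩ := exists_line hx1 (st_le_dec ha hx2).2
    obtain ⟨t, ht, rfl⟩ := exists_line hy1 (st_le_dec ha hy2).2
    exact (st_le_dec ha ((st_star a ha ha0).2 s (List.mem_filter.2 ⟨hs, hx2⟩) t (List.mem_filter.2 ⟨ht, hy2⟩)
      (fun e => hne (congrArg σ e)))).2
  · rw [Finset.card_image_of_injOn fun x hx y hy e => h.inj x (mem_bitsF.1 hx).1 y (mem_bitsF.1 hy).1 e,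
      card_St ha ha0]

/-- The induced map of the points. -/
noncomputable def pt (a : ℕ) : ℕ :=
  if ha : a < 32 ∧ a ≠ 0 then (h.star_image ha.1 ha.2).choose else 0

theorem pt_zero : h.pt 0 = 0 := by rw [pt, dif_neg (by simp)]

theorem pt_spec {a : ℕ} (ha : a < 32) (ha0 : a ≠ 0) :
    h.pt a < 32 ∧ h.pt a ≠ 0 ∧ (bitsF (St a)).image σ = bitsF (St (h.pt a)) := by
  rw [pt, dif_pos ⟨ha, ha0⟩]
  exact (h.star_image ha ha0).choose_spec

theorem pt_lt {a : ℕ} (ha : a < 32) : h.pt a < 32 := by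
  rcases eq_or_ne a 0 with rfl | h0
  · rw [h.pt_zero]; norm_num
  · exact (h.pt_spec ha h0).1

theorem pt_st {a n : ℕ} (ha : a < 32) (ha0 : a ≠ 0) (hn : (St a).testBit n = true) :
    (St (h.pt a)).testBit (σ n) = true :=
  (mem_bitsF.1 ((h.pt_spec ha ha0).2.2.le (Finset.mem_image.2 ⟨n, mem_bitsF.2 ⟨(st_le_dec ha hn).1, hn⟩, rfl⟩))).2

theorem pt_inj {a b : ℕ} (ha : a < 32) (hb : b < 32) (e : h.pt a = h.pt b) : a = b := by
  classical
  rcases eq_or_ne a 0 with rfl | ha0 <;> rcases eq_or_ne b 0 with rfl | hb0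
  · rfl
  · rw [h.pt_zero] at e; exact absurd e.symm (h.pt_spec hb hb0).2.1
  · rw [h.pt_zero] at e; exact absurd e (h.pt_spec ha ha0).2.1
  by_contra hne
  have h2 : (bitsF (St a)).image σ = (bitsF (St b)).image σ := by
    rw [(h.pt_spec ha ha0).2.2, (h.pt_spec hb hb0).2.2, e]
  have hsub : bitsF (St a) ⊆ {wd a b} := fun x hx => by
    obtain ⟨y, hy, hxy⟩ := Finset.mem_image.1 (h2.le (Finset.mem_image_of_mem σ hx))
    have := h.inj y (mem_bitsF.1 hy).1 x (mem_bitsF.1 hx).1 hxy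
    exact Finset.mem_singleton.2 (St_pair ha hb ha0 hb0 hne (mem_bitsF.1 hx).2 (this ▸ (mem_bitsF.1 hy).2))
  have := Finset.card_le_card hsub
  rw [card_St ha ha0, Finset.card_singleton] at this
  omega

theorem map_wd {a b : ℕ} (ha : a < 32) (hb : b < 32) (ha0 : a ≠ 0) (hb0 : b ≠ 0) (hne : a ≠ b) :
    σ (wd a b) = wd (h.pt a) (h.pt b) :=
  St_pair (h.pt_lt ha) (h.pt_lt hb) (h.pt_spec ha ha0).2.1 (h.pt_spec hb hb0).2.1
    (fun e => hne (h.pt_inj ha hb e)) (h.pt_st ha ha0 (St_wd ha hb ha0 hb0 hne).1)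
    (h.pt_st hb hb0 (St_wd ha hb ha0 hb0 hne).2)

theorem pt_add {a b : ℕ} (ha : a < 32) (hb : b < 32) : h.pt (a ^^^ b) = h.pt a ^^^ h.pt b := by
  rcases eq_or_ne a 0 with rfl | ha0
  · rw [Nat.zero_xor, h.pt_zero, Nat.zero_xor]
  rcases eq_or_ne b 0 with rfl | hb0
  · rw [Nat.xor_zero, h.pt_zero, Nat.xor_zero]
  rcases eq_or_ne a b with rfl | hne
  · rw [Nat.xor_self, Nat.xor_self, h.pt_zero]
  have hc : a ^^^ b < 32 := Nat.xor_lt_two_pow (n := 5) ha hb
  have hc0 : a ^^^ b ≠ 0 := fun e => hne (Nat.xor_eq_zero_iff.1 e)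
  obtain ⟨h1, h2, -, h3⟩ := st_two a ha b hb ha0 hb0 hne
  obtain ⟨s, hs, e⟩ := exists_line (h.lt _ h1) (by rw [h.dec _ h1]; exact h2)
  have ka := (mem_st s hs _ (h.pt_lt ha)).1 (e ▸ h.pt_st ha ha0 (St_wd ha hb ha0 hb0 hne).1)
  have kb := (mem_st s hs _ (h.pt_lt hb)).1 (e ▸ h.pt_st hb hb0 (St_wd ha hb ha0 hb0 hne).2)
  have kc := (mem_st s hs _ (h.pt_lt hc)).1 (e ▸ h.pt_st hc hc0 h3)
  have nab : h.pt a ≠ h.pt b := fun e => hne (h.pt_inj ha hb e)
  have nac : h.pt a ≠ h.pt (a ^^^ b) := fun e => hb0 (by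
    have := h.pt_inj ha hc e
    simpa using (congrArg (a ^^^ ·) this).symm.trans (Nat.xor_self a))
  have nbc : h.pt b ≠ h.pt (a ^^^ b) := fun e => ha0 (by
    have := h.pt_inj hb hc e
    rw [Nat.xor_comm a b] at this
    simpa using (congrArg (b ^^^ ·) this).symm.trans (Nat.xor_self b))
  obtain ⟨hx, hy, -⟩ := lines_spec s hs
  exact tri _ hx _ hy _ (by simpa using ka) _ (by simpa using kb) _ (by simpa using kc) nab nac nbc

/-- The map is determined by the map of the points. -/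
theorem eq_app (n : ℕ) (hn : n < 1024) :
    σ n = app (liftC [h.pt 1, h.pt 2, h.pt 4, h.pt 8, h.pt 16]) (app tPhi n) := by
  rw [← congrArg σ (sol_phi n hn), app_map (N := 10) σ h.zero h.add tSol fun c hc => (sol_spec.2.1 c hc).1]
  congr 1
  rw [sol_spec.1]
  simp only [liftC, pairs5, List.map_cons, List.map_nil, List.getD_cons_zero, List.getD_cons_succ]
  congr 1
  all_goals repeat (first | rfl | (refine List.cons_eq_cons.2 ⟨?_, ?_⟩) | exact h.map_wd (by norm_num) (by norm_num) (by norm_num) (by norm_num) (by norm_num))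

theorem eq_id (hid : ∀ a < 32, h.pt a = a) (n : ℕ) (hn : n < 1024) : σ n = n := by
  rw [h.eq_app n hn, hid 1 (by norm_num), hid 2 (by norm_num), hid 4 (by norm_num), hid 8 (by norm_num),
    hid 16 (by norm_num), ← sol_spec.1, sol_phi n hn]

end IsAuto

theorem isAuto_id : IsAuto id := ⟨fun _ h => h, fun _ _ _ _ => rfl, fun _ _ _ _ e => e, fun _ _ => rfl⟩

theorem pt_unique {σ : ℕ → ℕ} (h : IsAuto σ) {a b : ℕ} (ha : a < 32) (ha0 : a ≠ 0) (hb : b < 32) (hb0 : b ≠ 0)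
    (e : (bitsF (St a)).image σ = bitsF (St b)) : h.pt a = b := by
  obtain ⟨hc, hc0, e'⟩ := h.pt_spec ha ha0
  by_contra hne
  have hsub : bitsF (St b) ⊆ {wd (h.pt a) b} := fun x hx =>
    Finset.mem_singleton.2 (St_pair hc hb hc0 hb0 hne (mem_bitsF.1 ((e.symm.trans e').le hx)).2 (mem_bitsF.1 hx).2)
  have := Finset.card_le_card hsub
  rw [card_St hb hb0, Finset.card_singleton] at this
  omega

theorem pt_id {a : ℕ} (ha : a < 32) : isAuto_id.pt a = a := by
  rcases eq_or_ne a 0 with rfl | ha0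
  · exact isAuto_id.pt_zero
  · exact pt_unique _ ha ha0 ha ha0 Finset.image_id

theorem pt_comp {σ ρ τ : ℕ → ℕ} (hσ : IsAuto σ) (hρ : IsAuto ρ) (hτ : IsAuto τ)
    (hc : ∀ x < 1024, τ x = σ (ρ x)) {a : ℕ} (ha : a < 32) : hτ.pt a = hσ.pt (hρ.pt a) := by
  classical
  rcases eq_or_ne a 0 with rfl | ha0
  · rw [hρ.pt_zero, hσ.pt_zero, hτ.pt_zero]
  obtain ⟨hb, hb0, eb⟩ := hρ.pt_spec ha ha0
  refine pt_unique hτ ha ha0 (hσ.pt_lt hb) (hσ.pt_spec hb hb0).2.1 ?_
  rw [← (hσ.pt_spec hb hb0).2.2, ← eb, Finset.image_image]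
  exact Finset.image_congr fun x hx => hc x (mem_bitsF.1 hx).1

/-! ### Matrices -/

/-- The coordinates of a vector. -/
def toV (a : ℕ) : Fin 5 → ZMod 2 := fun i => if a.testBit i.1 then 1 else 0

theorem toV_xor {a b : ℕ} (ha : a < 32) (hb : b < 32) : toV (a ^^^ b) = toV a + toV b := by
  funext i
  simp only [toV, toBits_xor a ha b hb i.1 i.2, Pi.add_apply]
  cases a.testBit i.1 <;> cases b.testBit i.1 <;> decide

theorem toV_two_pow (j : Fin 5) : toV (2 ^ j.1) = Pi.single j 1 := by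
  revert j; decide +kernel

theorem toV_inj : ∀ a < 32, ∀ b < 32, toV a = toV b → a = b := by decide +kernel

/-- The matrix of a map. -/
def matOf (p : ℕ → ℕ) : Matrix (Fin 5) (Fin 5) (ZMod 2) := fun i j => toV (p (2 ^ j.1)) i

theorem matOf_mulVec {p : ℕ → ℕ} (hlt : ∀ a < 32, p a < 32)
    (hadd : ∀ a < 32, ∀ b < 32, p (a ^^^ b) = p a ^^^ p b) {a : ℕ} (ha : a < 32) :
    (matOf p).mulVec (toV a) = toV (p a) := by
  refine Coord.bits_induct (N := 5) (p := fun a => (matOf p).mulVec (toV a) = toV (p a)) ?_ (fun i hi m hm ih => ?_) ha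
  · have h0 : p 0 = 0 := by
      have := hadd 0 (by norm_num) 0 (by norm_num)
      rw [Nat.xor_self] at this
      simpa using this
    have hz : toV 0 = 0 := funext fun i => by simp [toV]
    rw [h0, hz, Matrix.mulVec_zero]
  · have h2 : 2 ^ i < 32 := Nat.pow_lt_pow_right (by norm_num) hi
    rw [toV_xor h2 hm, Matrix.mulVec_add, ih, hadd _ h2 _ hm, toV_xor (hlt _ h2) (hlt _ hm)]
    congr 1
    rw [show toV (2 ^ i) = Pi.single (⟨i, hi⟩ : Fin 5) 1 from toV_two_pow ⟨i, hi⟩, Matrix.mulVec_single_one]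
    rfl

theorem matOf_comp {p q : ℕ → ℕ} (hlt : ∀ a < 32, p a < 32) (hadd : ∀ a < 32, ∀ b < 32, p (a ^^^ b) = p a ^^^ p b)
    (hq : ∀ a < 32, q a < 32) {r : ℕ → ℕ} (hr : ∀ a < 32, r a = p (q a)) : matOf r = matOf p * matOf q := by
  ext i j
  have h2 : 2 ^ j.1 < 32 := Nat.pow_lt_pow_right (by norm_num) j.2
  show toV (r (2 ^ j.1)) i = _
  rw [hr _ h2, ← matOf_mulVec hlt hadd (hq _ h2)]
  rfl

theorem matOf_id {p : ℕ → ℕ} (hp : ∀ a < 32, p a = a) : matOf p = 1 := by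
  ext i j
  show toV (p (2 ^ j.1)) i = _
  rw [hp _ (Nat.pow_lt_pow_right (by norm_num) j.2), toV_two_pow, Matrix.one_apply, Pi.single_apply]

theorem matOf_eq_one {p : ℕ → ℕ} (hlt : ∀ a < 32, p a < 32) (hadd : ∀ a < 32, ∀ b < 32, p (a ^^^ b) = p a ^^^ p b)
    (h : matOf p = 1) : ∀ a < 32, p a = a := fun a ha =>
  toV_inj _ (hlt a ha) a ha (by rw [← matOf_mulVec hlt hadd ha, h, Matrix.one_mulVec])

/-- The generators as matrices. -/
def gMat (i : ℕ) : Matrix (Fin 5) (Fin 5) (ZMod 2) := fun r c => toV ((tGL.getD i []).getD c.1 0) r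

theorem gMat_det : ∀ i < 2, (gMat i).det = 1 := by decide +kernel

theorem zmod_unit : ∀ x : ZMod 2, x ≠ 0 → x = 1 := by decide

theorem tGL_shape : ∀ i < 2, (tGL.getD i []).length = 5 ∧ ∀ c ∈ tGL.getD i [], c < 32 := by decide +kernel

theorem reach_spec {S : Set ℕ} (hS : ∀ i < 2, ∀ x < 1024, x ∈ S → genA i x ∈ S) :
    ∀ (L : List (ℕ × ℕ)) (s : ℕ), (∀ q, s.testBit q = true → q ∈ S) →
      ∀ q, (reachT L s).testBit q = true → q ∈ S
  | [], _, hs => hs
  | (i, x) :: rest, s, hs => by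
    rw [reachT]
    split
    · rename_i h
      simp only [Bool.and_eq_true, decide_eq_true_eq] at h
      refine reach_spec hS rest _ fun q hq => ?_
      rw [Nat.testBit_or, Bool.or_eq_true] at hq
      rcases hq with hq | hq
      · exact hs q hq
      · rw [Nat.one_shiftLeft, Nat.testBit_two_pow, decide_eq_true_eq] at hq
        exact hq ▸ hS i h.1.2 x h.2 (hs x h.1.1)
    · simp

/-- A set closed under the two generators containing the base point contains every other element. -/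
theorem reach_others {S : Set ℕ} (hS : ∀ i < 2, ∀ x < 1024, x ∈ S → genA i x ∈ S) (h0 : tT0 ∈ S) {n : ℕ}
    (hn : n < 1024) (hn0 : n ≠ 0) (hd : tDec.testBit n = false) : n ∈ S := by
  refine reach_spec hS tSteps (1 <<< tT0) (fun q hq => ?_) n ?_
  · rw [Nat.one_shiftLeft, Nat.testBit_two_pow, decide_eq_true_eq] at hq
    exact hq ▸ h0
  · rw [reach_all, Nat.testBit_xor, Nat.testBit_two_pow_sub_one, Nat.testBit_or, hd,
      Nat.testBit_lt_two_pow (Nat.one_lt_two_pow hn0)]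
    simp [hn]

end Cfsg.Agent.JankoFour.Ten
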