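import Cfsg.Agent.Lib.JankoFour.TenCoords
import Cfsg.Agent.Lib.JankoFour.Split
import Mathlib.GroupTheory.NoncommCoprod
import Mathlib.Dynamics.PeriodicPts.Lemmas

/-!
The stabiliser of the involution in the normaliser of the second abelian subgroup has order divisible by
2^20 times 63.
-/

set_option autoImplicit false
set_option linter.unusedSectionVars false
set_option linter.style.haveILetI false
set_option maxRecDepth 100000

namespace Cfsg.Agent.JankoFour

open Subgroup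
open Cfsg.Agent.LargeFischer (Ctx QG)
open Cfsg.Agent.J4Module (app)
open Cfsg.Agent.J4Module.Data
open Big Ten Split

namespace Ten

theorem disp_tW {i : ℕ} (hi : i < 8) {n : ℕ} (hn : n < 4096) : app (tEl i) n ^^^ n ∈ tW := by
  refine Coord.bits_induct (N := 12) (p := fun n => app (tEl i) n ^^^ n ∈ tW) ?_ (fun k hk m hm ih => ?_) hn
  · rw [J4Module.app_zero, Nat.xor_zero, ← vW_zero]
    exact vW_mem (by norm_num)
  · obtain ⟨a, ha, ea⟩ := exists_vW (tEl_disp i hi k hk)
    obtain ⟨b, hb, eb⟩ := exists_vW ih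
    rw [app_xor, show app (tEl i) (2 ^ k) ^^^ app (tEl i) m ^^^ (2 ^ k ^^^ m) =
      (app (tEl i) (2 ^ k) ^^^ 2 ^ k) ^^^ (app (tEl i) m ^^^ m) by ac_rfl, ← ea, ← eb, vW_xor ha hb]
    exact vW_mem (Nat.xor_lt_two_pow (n := 6) ha hb)

end Ten

namespace Model

variable {G : Type*} [Group G] [Finite G] {z : G} {P : Subgroup G} (M : Model z P)
include M

/-- Elements of the extraspecial subgroup normalise the second subgroup. -/
theorem norm_Q (x : ↥(QG M.Q)) : M.toH x ∈ normalizer (M.tH : Set ↥(centralizer ({z} : Set G))) := by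
  refine mem_normalizer_fintype ?_
  rintro _ ⟨a, ha, l, hl, rfl⟩
  obtain ⟨hlP, i, hi, hla⟩ := id hl
  refine ⟨x * a * x⁻¹ * (x * M.ctx.conjQ l x⁻¹), mul_mem ?_ ?_, l, hl, ?_⟩
  · rw [M.mem_tA, M.vec_mul, M.vec_mul, M.vec_inv, Nat.xor_comm (M.vec x), Nat.xor_assoc, Nat.xor_self, Nat.xor_zero]
    exact M.mem_tA.1 ha
  · rw [M.mem_tA, M.vec_mul, hla x⁻¹, M.vec_inv, Nat.xor_comm]
    exact disp_tW hi (M.vec_lt x)
  · simp only [map_mul, map_inv, ← M.toH_conj]
    group

/-- Elements normalising P, the space and the eight elements normalise the second subgroup. -/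
theorem norm_tH {g : ↥(centralizer ({z} : Set G))} (hg : InN (P := P) g) {C : List ℕ} (hgC : M.Acts g C)
    (hW : ∀ n ∈ tW, app C n ∈ tW) (hE : ∀ i < 8, ∃ j < 8, mulC C (tEl i) = mulC (tEl j) C) :
    g ∈ normalizer (M.tH : Set ↥(centralizer ({z} : Set G))) := by
  refine mem_normalizer_fintype ?_
  rintro _ ⟨a, ha, l, ⟨hlP, i, hi, hla⟩, rfl⟩
  obtain ⟨j, hj, e⟩ := hE i hi
  refine ⟨M.ctx.conjQ g a, ?_, g * l * g⁻¹, ⟨cent_conj hg hlP, j, hj, M.acts_conj hgC hla e⟩, ?_⟩
  · rw [M.mem_tA, hgC a]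
    exact hW _ (M.mem_tA.1 ha)
  · rw [← M.toH_conj]
    group

theorem pElem_norm : M.pElem ∈ normalizer (M.tH : Set ↥(centralizer ({z} : Set G))) :=
  M.norm_tH (InN.of_cent M.pElem_cent) M.p_acts (fun n hn => (tW_p n hn).1) fun i hi => ⟨i, hi, t_comm.1 i hi⟩

theorem acts_iter {c : ↥(centralizer ({z} : Set G))} {C : List ℕ} (hc : M.Acts c C) (m : ℕ) :
    M.Acts (c ^ m) ((fun X => mulC C X)^[m] unitC) := by
  induction m with
  | zero =>
    rw [pow_zero]; exact M.acts_one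
  | succ m ih =>
    rw [pow_succ', Function.iterate_succ_apply']
    exact M.acts_mul hc ih

/-- A lift of a matrix of prime order has order divisible by it. -/
theorem dvd_orderOf_lift {c : ↥(centralizer ({z} : Set G))} {C : List ℕ} (hc : M.Acts c C) (hC : C.length = 12)
    {p : ℕ} (hp : p.Prime) (h1 : (fun X => mulC C X)^[p] unitC = unitC) (h2 : C ≠ unitC) : p ∣ orderOf c := by
  have hl : ∀ m, ((fun X => mulC C X)^[m] unitC).length = 12 := by
    intro m
    induction m with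
    | zero => rfl
    | succ m ih => rw [Function.iterate_succ_apply', length_mulC, ih]
  have hper : Function.IsPeriodicPt (fun X => mulC C X) p unitC := h1
  rcases (Nat.dvd_prime hp).1 hper.minimalPeriod_dvd with e | e
  · exfalso
    have := Function.isPeriodicPt_minimalPeriod (fun X => mulC C X) unitC
    rw [e] at this
    exact h2 ((mulC_unitC hC).symm.trans this)
  · rw [← e]
    refine Function.IsPeriodicPt.minimalPeriod_dvd ?_
    refine M.acts_unique (hl _) rfl (M.acts_iter hc _) ?_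
    rw [pow_orderOf_eq_one]
    exact M.acts_one

theorem S0_norm (E : M.Gens) :
    E.S0 ≤ normalizer (M.tH : Set ↥(centralizer ({z} : Set G))) := by
  refine sup_le ?_ ?_
  · rintro _ ⟨x, -, rfl⟩
    exact M.norm_Q x
  · rw [Gens.R, closure_le]
    intro g hg
    obtain ⟨-, -, hst⟩ := Ten.split_spec
    simp only [Set.mem_insert_iff, Set.mem_singleton_iff] at hg
    rcases hg with rfl | rfl | rfl
    · exact M.norm_tH E.a_N E.a_acts (hst _ (by simp)).1 (hst _ (by simp)).2
    · exact M.norm_tH E.b_N E.b_acts (hst _ (by simp)).1 (hst _ (by simp)).2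
    · exact M.norm_tH E.s_N E.s_acts (hst _ (by simp)).1 (hst _ (by simp)).2

theorem S0_inf_tH (E : M.Gens) (hs : E.s * E.s = 1) {x : ↥(centralizer ({z} : Set G))} (hx : x ∈ E.S0)
    (hx2 : x ∈ M.tH) : x = 1 := by
  obtain ⟨u, hu, t, ht, rfl⟩ := E.mem_S0 hs hx
  obtain ⟨a, ha, l, ⟨hlP, i, hi, hli⟩, hxe⟩ := hx2
  have hla : M.Acts (M.toH a * l) (tEl i) := by
    have h := M.acts_mul (M.acts_of_mem_Q (M.toH_mem a)) hli
    rwa [unitC_mulC (Big.sylow_InL0 (tEl_spec.1 _ hi).1) fun _ h => h] at h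
  have hti : Split.dT t = tEl i :=
    M.acts_unique (dT_len t) (tEl_spec.1 _ hi).2 (E.acts_S0 u t (dT_mem t)) (hxe ▸ hla)
  obtain rfl := Ten.split_spec.2.1 t ht i hi hti
  obtain rfl : i = 0 := tEl_spec.2.2.2.2 i hi 0 (by norm_num) (by
    rw [← hti, tEl_spec.2.1]; decide +kernel)
  rw [E.el_zero, mul_one] at hxe ⊢
  rw [tEl_spec.2.1] at hli
  have hua : u ∈ M.tA := by
    rcases M.cent_Q (M.mem_Q l hli) hlP with rfl | rfl
    · rw [mul_one] at hxe
      exact M.toH_injective hxe ▸ ha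
    · rw [← map_mul] at hxe
      exact M.toH_injective hxe ▸ mul_mem ha M.zQ_tA
  have hu0 : M.vec u = 0 := Ten.split_spec.1 _ hu.1 (M.mem_tA.1 hua)
  rcases M.vec_eq_zero.1 hu0 with h | h
  · rw [show u = 1 from Subtype.ext h, map_one]
  · exact absurd ((show u = M.zQ from Subtype.ext h) ▸ hu) M.zQ_notMem_uQ

theorem two_part (E : M.Gens) (hs : E.s * E.s = 1) :
    2 ^ 20 ∣ Nat.card ↥(normalizer (M.tH : Set ↥(centralizer ({z} : Set G)))) := by
  classical
  set N := normalizer (M.tH : Set ↥(centralizer ({z} : Set G))) with hN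
  have hS : E.S0 ≤ N := M.S0_norm E
  have hinf : ∀ x ∈ E.S0, x ∈ M.tH → x = 1 := fun x => M.S0_inf_tH E hs
  have hle : E.S0 ⊔ M.tH ≤ N := sup_le hS le_normalizer
  refine dvd_trans ?_ (card_dvd_of_le hle)
  have hp : IsPGroup 2 ↥(E.S0 ⊔ M.tH : Subgroup _) := M.syl_isPGroup.to_le (sup_le (E.S0_le hs) M.tH_le)
  haveI : Fact (Nat.Prime 2) := ⟨Nat.prime_two⟩
  obtain ⟨m, hm⟩ := IsPGroup.iff_card.1 hp
  let f : ↥E.S0 × ↥M.tH → ↥(E.S0 ⊔ M.tH : Subgroup _) :=
    fun p => ⟨p.1 * p.2, mul_mem (mem_sup_left p.1.2) (mem_sup_right p.2.2)⟩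
  have hf : Function.Injective f := by
    rintro ⟨s, a⟩ ⟨s', a'⟩ h
    have h' : (s : ↥(centralizer ({z} : Set G))) * a = s' * a' := congrArg Subtype.val h
    have h2 : (s' : ↥(centralizer ({z} : Set G)))⁻¹ * s = a' * (a : ↥(centralizer ({z} : Set G)))⁻¹ := by
      rw [inv_mul_eq_iff_eq_mul, ← mul_assoc, eq_mul_inv_iff_mul_eq, h']
    have h3 := hinf _ (mul_mem (inv_mem s'.2) s.2) (h2 ▸ mul_mem a'.2 (inv_mem a.2))
    obtain rfl : s = s' := Subtype.ext (inv_mul_eq_one.1 h3).symm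
    rw [Subtype.ext (mul_left_cancel h')]
  have h := Nat.card_le_card_of_injective f hf
  rw [Nat.card_prod, M.tH_card, hm] at h
  have := E.card_S0
  rw [hm]
  refine pow_dvd_pow 2 ((Nat.pow_le_pow_iff_right (show 1 < 2 by norm_num)).1 ?_)
  calc 2 ^ 20 = 1024 * 1024 := by norm_num
    _ ≤ Nat.card ↥E.S0 * 1024 := Nat.mul_le_mul_right _ this
    _ ≤ 2 ^ m := h

theorem seven_part : 7 ∣ Nat.card ↥(normalizer (M.tH : Set ↥(centralizer ({z} : Set G)))) := by
  obtain ⟨g, hg, hga⟩ := M.exists_cent_t7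
  have hN := M.norm_tH (InN.of_cent hg) hga t7_spec.1 fun i hi => ⟨_, t7_spec.2.1 i hi⟩
  have h := orderOf_dvd_natCard (⟨g, hN⟩ : ↥(normalizer (M.tH : Set ↥(centralizer ({z} : Set G)))))
  rw [← orderOf_coe] at h
  exact (M.dvd_orderOf_lift hga (show t7.length = 12 by decide +kernel) (by norm_num) Ten.orders.1 Ten.orders.2.1).trans h

theorem nine_part : 9 ∣ Nat.card ↥(normalizer (M.tH : Set ↥(centralizer ({z} : Set G)))) := by
  haveI : Fact (Nat.Prime 3) := ⟨by norm_num⟩
  obtain ⟨-, -, h3, hne, hnp, hnp2, hcp, -⟩ := Ten.orders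
  obtain ⟨c0, hc0, hc0a⟩ := M.cent_elem _ (wordC_memK tWords_ok.2.2.2.2)
  change M.Acts c0 t3 at hc0a
  have hlen : t3.length = 12 := by decide +kernel
  -- an element of order three over it
  obtain ⟨c, hc, hca, hc3⟩ : ∃ c : ↥(centralizer ({z} : Set G)), (c : G) ∈ centralizer (P : Set G) ∧
      M.Acts c t3 ∧ c ^ 3 = 1 := by
    have hQ : c0 ^ 3 ∈ M.Q := M.mem_Q _ (h3 ▸ M.acts_iter hc0a 3)
    have hP : ((c0 ^ 3 : ↥(centralizer ({z} : Set G))) : G) ∈ centralizer (P : Set G) := by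
      rw [SubmonoidClass.coe_pow]; exact pow_mem hc0 3
    rcases M.cent_Q hQ hP with e | e
    · exact ⟨c0, hc0, hc0a, e⟩
    · have hzP : ((M.toH M.zQ : ↥(centralizer ({z} : Set G))) : G) ∈ centralizer (P : Set G) := e ▸ hP
      refine ⟨c0 * M.toH M.zQ, mul_mem hc0 hzP, ?_, ?_⟩
      · have h := M.acts_mul hc0a (M.acts_of_mem_Q (M.toH_mem M.zQ))
        rwa [mulC_unitC hlen] at h
      · rw [(show Commute c0 (M.toH M.zQ) from M.z_fix c0).mul_pow, e, pow_succ (M.toH M.zQ) 2, pow_two, M.zz,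
          one_mul, M.zz]
  have hNc : c ∈ normalizer (M.tH : Set ↥(centralizer ({z} : Set G))) :=
    M.norm_tH (InN.of_cent hc) hca t3_spec.1 fun i hi => ⟨_, t3_spec.2 i hi⟩
  have hcomm : Commute M.pElem c := by
    refine Subtype.ext ?_
    exact mem_centralizer_iff.1 hc _ (M.p_gen.le (mem_zpowers _))
  have hpo : orderOf M.pElem = 3 := by
    rw [← orderOf_coe]
    rw [← Nat.card_zpowers]
    exact (congrArg (fun K : Subgroup G => Nat.card ↥K) M.p_gen).trans M.card_P
  have hc1 : c ≠ 1 := by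
    rintro rfl
    exact hne (M.acts_unique hlen rfl hca M.acts_one)
  have hco : orderOf c = 3 := orderOf_eq_prime hc3 hc1
  have hdisj : Disjoint (zpowers M.pElem) (zpowers c) := by
    rw [disjoint_iff]
    by_contra hbot
    have hd : Nat.card ↥(zpowers M.pElem ⊓ zpowers c : Subgroup _) ∣ 3 := by
      rw [← hco, ← Nat.card_zpowers]; exact card_dvd_of_le inf_le_right
    rcases (Nat.dvd_prime (by norm_num)).1 hd with e | e
    · exact hbot (Subgroup.eq_bot_of_card_eq _ e)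
    have hcmem : c ∈ zpowers M.pElem :=
      ((Subgroup.eq_of_le_of_card_ge inf_le_right (by rw [Nat.card_zpowers, hco, e])).ge (mem_zpowers c)).1
    rw [← mem_powers_iff_mem_zpowers] at hcmem
    obtain ⟨k, hk⟩ := hcmem
    have hk' : c = M.pElem ^ (k % 3) := by
      rw [← hpo, pow_mod_orderOf]
      exact hk.symm
    rcases (show k % 3 = 0 ∨ k % 3 = 1 ∨ k % 3 = 2 by omega) with e | e | e <;> rw [e] at hk'
    · exact hc1 (hk'.trans (pow_zero _))
    · rw [pow_one] at hk'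
      exact hnp (M.acts_unique hlen rfl (hk' ▸ hca) M.p_acts)
    · refine hnp2 (M.acts_unique hlen rfl (hk' ▸ hca) ?_)
      have h := M.acts_mul M.p_acts M.p_acts
      rw [gens_cols.2.2.2.2.2.1] at h
      rwa [pow_two]
  let φ : ↥(zpowers M.pElem) × ↥(zpowers c) →* ↥(centralizer ({z} : Set G)) :=
    MonoidHom.noncommCoprod (zpowers M.pElem).subtype (zpowers c).subtype fun a b => by
      obtain ⟨i, hi⟩ := a.2
      obtain ⟨j, hj⟩ := b.2
      show Commute (a : ↥(centralizer ({z} : Set G))) b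
      rw [← hi, ← hj]
      exact (hcomm.zpow_left i).zpow_right j
  have hinj : Function.Injective φ :=
    (MonoidHom.noncommCoprod_injective _ _ _).2 ⟨Subtype.val_injective, Subtype.val_injective, by simpa using hdisj⟩
  have hle : φ.range ≤ normalizer (M.tH : Set ↥(centralizer ({z} : Set G))) := by
    rw [MonoidHom.noncommCoprod_range, range_subtype, range_subtype]
    exact sup_le (zpowers_le.2 M.pElem_norm) (zpowers_le.2 hNc)
  refine dvd_trans ?_ (card_dvd_of_le hle)
  rw [← Nat.card_congr (MonoidHom.ofInjective hinj).toEquiv, Nat.card_prod, Nat.card_zpowers, Nat.card_zpowers,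
    hpo, hco]

theorem normalizer_tH_le :
    (normalizer (M.tH : Set ↥(centralizer ({z} : Set G)))).map (centralizer ({z} : Set G)).subtype ≤
      normalizer (M.tG : Set G) ⊓ centralizer ({z} : Set G) := by
  rintro _ ⟨c, hc, rfl⟩
  refine mem_inf.2 ⟨mem_normalizer_fintype ?_, c.2⟩
  rintro _ ⟨a, ha, rfl⟩
  exact ⟨c * a * c⁻¹, (Subgroup.mem_normalizer_iff.1 hc a).1 ha, rfl⟩

/-- The order of the stabiliser is divisible by 2^20 times 63. -/
theorem stab_dvd (E : M.Gens) (hs : E.s * E.s = 1) :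
    2 ^ 20 * 63 ∣ Nat.card ↥(normalizer (M.tG : Set G) ⊓ centralizer ({z} : Set G) : Subgroup G) := by
  refine dvd_trans ?_ (card_dvd_of_le M.normalizer_tH_le)
  rw [card_map_of_injective (centralizer ({z} : Set G)).subtype_injective, show (63 : ℕ) = 7 * 9 by norm_num]
  exact Nat.Coprime.mul_dvd_of_dvd_of_dvd (by norm_num) (M.two_part E hs)
    (Nat.Coprime.mul_dvd_of_dvd_of_dvd (by norm_num) M.seven_part M.nine_part)

end Model

end Cfsg.Agent.JankoFour
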