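import Cfsg.Agent.Lib.JankoFour.TenFrame
import Cfsg.Agent.Lib.JankoFour.TenStab
import Cfsg.Agent.Lib.JankoFour.TenClasses
import Mathlib.LinearAlgebra.Matrix.GeneralLinearGroup.Card

/-!
The normaliser of the second abelian subgroup induces the special linear group of degree five.
-/

set_option autoImplicit false
set_option linter.unusedSectionVars false
set_option linter.style.haveILetI false
set_option maxRecDepth 100000

namespace Cfsg.Agent.JankoFour

open Subgroup
open Cfsg.Agent.LargeFischer (QG)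
open Cfsg.Agent.J4Module (app)
open Ten

namespace Ten

theorem det_eq_one_of_mul {A B : Matrix (Fin 5) (Fin 5) (ZMod 2)} (h : A * B = 1) : A.det = 1 := by
  refine zmod_unit _ fun h0 => ?_
  have := congrArg Matrix.det h
  rw [Matrix.det_mul, h0, zero_mul, Matrix.det_one] at this
  exact zero_ne_one this

theorem liftC_getD (g : List ℕ) :
    liftC [g.getD 0 0, g.getD 1 0, g.getD 2 0, g.getD 3 0, g.getD 4 0] = liftC g := by
  simp [liftC, pairs5]

theorem card_SL_le : Nat.card (Matrix.SpecialLinearGroup (Fin 5) (ZMod 2)) ≤ 9999360 := by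
  haveI : Fact (Nat.Prime 2) := ⟨Nat.prime_two⟩
  refine le_trans (Nat.card_le_card_of_injective _ Matrix.SpecialLinearGroup.toGL_injective) (le_of_eq ?_)
  rw [Matrix.card_GL_field, ZMod.card, Finset.prod_range (f := fun i => 2 ^ 5 - 2 ^ i) |>.symm]
  decide

end Ten

namespace Model

variable {G : Type*} [Group G] [Finite G] {z : G} {P : Subgroup G} {M : Model z P} (L : M.TLift)
variable (hL : ∀ n < 1024, (IsConj z (L.el n) ↔ tDec.testBit n = true))

/-- The coordinate map of an element of the normaliser. -/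
noncomputable def TLift.sig (n : ↥(normalizer (M.tG : Set G))) : ℕ → ℕ := (L.exists_sigma n.2).choose

theorem TLift.sig_spec (n : ↥(normalizer (M.tG : Set G))) {x : ℕ} (hx : x < 1024) :
    L.sig n x < 1024 ∧ L.el (L.sig n x) = n * L.el x * (n : G)⁻¹ :=
  (L.exists_sigma n.2).choose_spec.1 x hx

include hL in
theorem TLift.isAuto (n : ↥(normalizer (M.tG : Set G))) : IsAuto (L.sig n) := by
  obtain ⟨h1, h2, -⟩ := (L.exists_sigma n.2).choose_spec
  refine ⟨fun x hx => (h1 x hx).1, fun x hx y hy => (h2 x hx y hy).1, fun x hx y hy => (h2 x hx y hy).2,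
    fun x hx => ?_⟩
  rw [Bool.eq_iff_iff, ← hL _ (L.sig_spec n hx).1, ← hL x hx, (L.sig_spec n hx).2]
  exact isConj_conj_iff _ _

/-- The matrix of an element of the normaliser. -/
noncomputable def TLift.mat (n : ↥(normalizer (M.tG : Set G))) : Matrix (Fin 5) (Fin 5) (ZMod 2) :=
  matOf (L.isAuto hL n).pt

theorem TLift.mat_mul (m n : ↥(normalizer (M.tG : Set G))) : L.mat hL (m * n) = L.mat hL m * L.mat hL n := by
  refine matOf_comp (fun a ha => (L.isAuto hL m).pt_lt ha) (fun a ha b hb => (L.isAuto hL m).pt_add ha hb)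
    (fun a ha => (L.isAuto hL n).pt_lt ha) fun a ha => pt_comp _ _ _ (fun x hx => ?_) ha
  obtain ⟨hn, en⟩ := L.sig_spec n hx
  refine L.el_inj (L.sig_spec (m * n) hx).1 (L.sig_spec m hn).1 ?_
  rw [(L.sig_spec (m * n) hx).2, (L.sig_spec m hn).2, en, Subgroup.coe_mul]
  group

theorem TLift.sig_fix {n : ↥(normalizer (M.tG : Set G))} (h : ∀ x < 1024, (n : G) * L.el x * (n : G)⁻¹ = L.el x)
    {x : ℕ} (hx : x < 1024) : L.sig n x = x :=
  L.el_inj (L.sig_spec n hx).1 hx ((L.sig_spec n hx).2.trans (h x hx))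

theorem TLift.mat_eq_one {n : ↥(normalizer (M.tG : Set G))} (h : (n : G) ∈ M.tG) : L.mat hL n = 1 := by
  refine matOf_id fun a ha => ?_
  rcases eq_or_ne a 0 with rfl | ha0
  · exact (L.isAuto hL n).pt_zero
  refine pt_unique _ ha ha0 ha ha0 ?_
  have hfix : ∀ x ∈ bitsF (St a), L.sig n x = id x := fun x hx =>
    L.sig_fix (fun y _ => by rw [M.tG_comm h (L.el_mem y), mul_inv_cancel_right]) (mem_bitsF.1 hx).1
  rw [Finset.image_congr hfix, Finset.image_id]

/-- The homomorphism to the special linear group. -/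
noncomputable def TLift.hom : ↥(normalizer (M.tG : Set G)) →* Matrix.SpecialLinearGroup (Fin 5) (ZMod 2) where
  toFun n := ⟨L.mat hL n, det_eq_one_of_mul (by rw [← L.mat_mul hL n n⁻¹, mul_inv_cancel]; exact L.mat_eq_one hL (one_mem _))⟩
  map_one' := Subtype.ext (L.mat_eq_one hL (one_mem _))
  map_mul' m n := Subtype.ext (L.mat_mul hL m n)

theorem TLift.hom_ker : (L.hom hL).ker = M.tG.subgroupOf (normalizer (M.tG : Set G)) := by
  ext n
  rw [MonoidHom.mem_ker, mem_subgroupOf]
  refine ⟨fun h => ?_, fun h => Subtype.ext (L.mat_eq_one hL h)⟩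
  have h1 : L.mat hL n = 1 := congrArg Subtype.val h
  have hid := matOf_eq_one (fun a ha => (L.isAuto hL n).pt_lt ha)
    (fun a ha b hb => (L.isAuto hL n).pt_add ha hb) h1
  refine M.centralizer_tG.le (mem_centralizer_iff.2 fun a ha => ?_)
  obtain ⟨x, hx, rfl⟩ := L.el_surj ha
  have h2 := (L.sig_spec n hx).2
  rw [(L.isAuto hL n).eq_id hid x hx] at h2
  exact (mul_inv_eq_iff_eq_mul.1 h2.symm).symm

include hL in
theorem TLift.card_orbit : Nat.card ↥(normalizer (M.tG : Set G)) =
    155 * Nat.card ↥(normalizer (M.tG : Set G) ⊓ centralizer ({z} : Set G) : Subgroup G) := by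
  classical
  have hc : (bitsF tDec).card = 155 := by decide +kernel
  rw [card_eq_orbit_mul _ z ((bitsF tDec).image L.el) fun v => ?_]
  · rw [Finset.card_image_of_injOn fun a ha b hb e => L.el_inj (mem_bitsF.1 ha).1 (mem_bitsF.1 hb).1 e, hc]
  · rw [M.orbit_iff, Finset.mem_image]
    constructor
    · rintro ⟨n, hn, rfl⟩
      exact ⟨L.el_mem n, (hL n (mem_bitsF.1 hn).1).2 (mem_bitsF.1 hn).2⟩
    · rintro ⟨hv, hc⟩
      obtain ⟨n, hn, rfl⟩ := L.el_surj hv
      exact ⟨n, mem_bitsF.2 ⟨hn, (hL n hn).1 hc⟩, rfl⟩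

theorem TLift.hom_surjective (E : M.Gens) (hs : E.s * E.s = 1) : Function.Surjective (L.hom hL) := by
  classical
  have hN : Nat.card ↥(normalizer (M.tG : Set G)) = Nat.card ↥(L.hom hL).range * 1024 := by
    rw [← M.tG_card, ← Nat.card_congr (subgroupOfEquivOfLe (le_normalizer (H := M.tG))).toEquiv, ← L.hom_ker hL,
      ← Subgroup.index_ker (L.hom hL), mul_comm, card_mul_index]
  have hpos : 0 < Nat.card ↥(normalizer (M.tG : Set G) ⊓ centralizer ({z} : Set G) : Subgroup G) := Nat.card_pos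
  have hK := Nat.le_of_dvd hpos (M.stab_dvd E hs)
  have hO := L.card_orbit hL
  have h2 := card_SL_le
  have hnum : (2 : ℕ) ^ 20 * 63 * 155 = 9999360 * 1024 := by norm_num
  rw [← MonoidHom.range_eq_top]
  exact Subgroup.eq_top_of_le_card _ (by omega)

include hL in
/-- Two orbits on the non-identity elements. -/
theorem TLift.transitive (E : M.Gens) (hs : E.s * E.s = 1) {n : ℕ} (hn : n < 1024) (hn0 : n ≠ 0)
    (hd : tDec.testBit n = false) :
    ∃ g ∈ normalizer (M.tG : Set G), g * L.el tT0 * g⁻¹ = L.el n := by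
  refine reach_others (S := {x | ∃ g ∈ normalizer (M.tG : Set G), g * L.el tT0 * g⁻¹ = L.el x})
    (fun i hi x hx hxS => ?_) ⟨1, one_mem _, by group⟩ hn hn0 hd
  obtain ⟨g, hg, e⟩ := hxS
  obtain ⟨m, hm⟩ := L.hom_surjective hL E hs ⟨gMat i, gMat_det i hi⟩
  have hmat : L.mat hL m = gMat i := congrArg Subtype.val hm
  have hpt : ∀ j : Fin 5, (L.isAuto hL m).pt (2 ^ j.1) = (tGL.getD i []).getD j.1 0 := fun j => by
    obtain ⟨hl, hlt⟩ := tGL_shape i hi
    refine toV_inj _ ((L.isAuto hL m).pt_lt (Nat.pow_lt_pow_right (by norm_num) j.2)) _ ?_ ?_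
    · rw [List.getD_eq_getElem _ _ (show j.1 < (tGL.getD i []).length by omega)]
      exact hlt _ (List.getElem_mem _)
    · funext r
      exact congrFun (congrFun hmat r) j
  have hgen : L.sig m x = genA i x := by
    rw [(L.isAuto hL m).eq_app x hx, genA, ← liftC_getD (tGL.getD i [])]
    rw [← hpt ⟨0, by norm_num⟩, ← hpt ⟨1, by norm_num⟩, ← hpt ⟨2, by norm_num⟩, ← hpt ⟨3, by norm_num⟩,
      ← hpt ⟨4, by norm_num⟩]
    norm_num
  refine ⟨m * g, mul_mem m.2 hg, ?_⟩
  rw [← hgen, (L.sig_spec m hx).2, ← e]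
  group

include hL in
theorem TLift.conj_z {n : ℕ} (hn : n < 1024) (hd : tDec.testBit n = true) :
    ∃ g ∈ normalizer (M.tG : Set G), g * z * g⁻¹ = L.el n :=
  M.orbit_iff.2 ⟨L.el_mem n, (hL n hn).2 hd⟩

include hL in
/-- No proper non-trivial invariant subgroup. -/
theorem TLift.irreducible (E : M.Gens) (hs : E.s * E.s = 1) (W : Subgroup G) (hW : W ≤ M.tG)
    (hN : normalizer (M.tG : Set G) ≤ normalizer (W : Set G)) : W = ⊥ ∨ W = M.tG := by
  classical
  refine or_iff_not_imp_left.2 fun hne => le_antisymm hW ?_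
  obtain ⟨w, hw, hw1⟩ : ∃ w ∈ W, w ≠ 1 := by
    by_contra h
    simp only [not_exists, not_and, not_not] at h
    exact hne ((Subgroup.eq_bot_iff_forall _).2 h)
  have hclosed : ∀ g ∈ normalizer (M.tG : Set G), ∀ a : G, a ∈ W → g * a * g⁻¹ ∈ W := fun g hg a ha =>
    (Subgroup.mem_normalizer_iff.1 (hN hg) a).1 ha
  obtain ⟨n, hn, rfl⟩ := L.el_surj (hW hw)
  have hn0 : n ≠ 0 := by rintro rfl; exact hw1 L.el_zero
  have hlines : ∀ x < 1024, tDec.testBit x = true → L.el x ∈ W := by
    cases hd : tDec.testBit n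
    · -- the long orbit alone has more than half of the elements
      have hbig : ∀ x < 1024, x ≠ 0 → tDec.testBit x = false → L.el x ∈ W := fun x hx hx0 hxd => by
        obtain ⟨g, hg, e⟩ := L.transitive hL E hs hx hx0 hxd
        obtain ⟨g', hg', e'⟩ := L.transitive hL E hs hn hn0 hd
        have h0 : L.el tT0 ∈ W := by
          have := hclosed _ (inv_mem hg') _ hw
          rwa [← e', show g'⁻¹ * (g' * L.el tT0 * g'⁻¹) * g'⁻¹⁻¹ = L.el tT0 by group] at this
        exact e ▸ hclosed g hg _ h0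
      have hcard : 868 ≤ Nat.card ↥W := by
        have hsub : ((Finset.range 1024).filter fun x => x ≠ 0 ∧ tDec.testBit x = false).card = 868 := by
          decide +kernel
        rw [← hsub]
        refine le_trans (le_of_eq (Nat.card_eq_finsetCard _).symm) (Nat.card_le_card_of_injective
          (fun x => (⟨L.el x.1, hbig x.1 (Finset.mem_range.1 (Finset.mem_filter.1 x.2).1)
            (Finset.mem_filter.1 x.2).2.1 (Finset.mem_filter.1 x.2).2.2⟩ : ↥W)) fun x y e => ?_)
        exact Subtype.ext (L.el_inj (Finset.mem_range.1 (Finset.mem_filter.1 x.2).1)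
          (Finset.mem_range.1 (Finset.mem_filter.1 y.2).1)
          (show L.el x.1 = L.el y.1 from congrArg (fun w : ↥W => (w : G)) e))
      have hd2 := card_dvd_of_le hW
      rw [M.tG_card] at hd2
      obtain ⟨k, hk⟩ := hd2
      have : W = M.tG := Subgroup.eq_of_le_of_card_ge hW (by
        rw [M.tG_card]
        rcases k with _ | _ | k
        · omega
        · omega
        · exfalso
          have : Nat.card ↥W * 2 ≤ Nat.card ↥W * (k + 1 + 1) := Nat.mul_le_mul_left _ (by omega)
          omega)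
      exact fun x _ _ => this ▸ L.el_mem x
    · intro x hx hxd
      obtain ⟨g, hg, e⟩ := L.conj_z hL hx hxd
      obtain ⟨g', hg', e'⟩ := L.conj_z hL hn hd
      have hz : z ∈ W := by
        have := hclosed _ (inv_mem hg') _ hw
        rwa [← e', show g'⁻¹ * (g' * z * g'⁻¹) * g'⁻¹⁻¹ = z by group] at this
      exact e ▸ hclosed g hg _ hz
  intro a ha
  obtain ⟨x, hx, rfl⟩ := L.el_surj ha
  rw [← sol_phi x hx, Coord.prodB_cols (N := 10) L.el (fun m _ k _ => L.el_xor m k) tSol
    (fun c hc => (sol_spec.2.1 c hc).1)]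
  exact Coord.prodB_mem W _ (fun y hy => by
    obtain ⟨c, hc, rfl⟩ := List.mem_map.1 hy
    exact hlines c (sol_spec.2.1 c hc).1 (sol_spec.2.1 c hc).2) _

include hL in
/-- The orbit of the outer element. -/
theorem TLift.card_long (E : M.Gens) (hs : E.s * E.s = 1) :
    Set.ncard {v : G | ∃ g ∈ normalizer (M.tG : Set G), g * L.el tT0 * g⁻¹ = v} = 868 := by
  classical
  have e : {v : G | ∃ g ∈ normalizer (M.tG : Set G), g * L.el tT0 * g⁻¹ = v} =
      ((((Finset.range 1024).filter fun x => x ≠ 0 ∧ tDec.testBit x = false).image L.el : Finset G) : Set G) := by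
    ext v
    simp only [Set.mem_setOf_eq, Finset.coe_image, Finset.coe_filter, Finset.mem_range, Set.mem_image]
    constructor
    · rintro ⟨g, hg, rfl⟩
      obtain ⟨x, hx, e⟩ := L.el_surj ((Subgroup.mem_normalizer_iff.1 hg _).1 (L.el_mem tT0))
      refine ⟨x, ⟨hx, ?_, ?_⟩, e⟩
      · rintro rfl
        rw [L.el_zero, eq_comm, conj_eq_one_iff] at e
        exact t0_spec.2.1 (L.el_inj t0_spec.1 (by norm_num) (e.trans L.el_zero.symm))
      · by_contra hc
        rw [Bool.not_eq_false, ← hL x hx, e, isConj_conj_iff, hL _ t0_spec.1, t0_spec.2.2.1] at hc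
        exact Bool.false_ne_true hc
    · rintro ⟨x, ⟨hx, hx0, hd⟩, rfl⟩
      exact L.transitive hL E hs hx hx0 hd
  rw [e, Set.ncard_coe_finset, Finset.card_image_of_injOn fun a ha b hb e => L.el_inj
    (Finset.mem_range.1 (Finset.mem_filter.1 ha).1) (Finset.mem_range.1 (Finset.mem_filter.1 hb).1) e]
  decide +kernel

include hL in
/-- The orbit of the involution. -/
theorem TLift.card_short : Set.ncard {v : G | ∃ g ∈ normalizer (M.tG : Set G), g * z * g⁻¹ = v} = 155 := by
  classical
  have e : {v : G | ∃ g ∈ normalizer (M.tG : Set G), g * z * g⁻¹ = v} =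
      ((((Finset.range 1024).filter fun x => tDec.testBit x = true).image L.el : Finset G) : Set G) := by
    ext v
    rw [Set.mem_setOf_eq, M.orbit_iff]
    simp only [Finset.coe_image, Finset.coe_filter, Finset.mem_range, Set.mem_image, Set.mem_setOf_eq]
    constructor
    · rintro ⟨hv, hc⟩
      obtain ⟨x, hx, rfl⟩ := L.el_surj hv
      exact ⟨x, ⟨hx, (hL x hx).1 hc⟩, rfl⟩
    · rintro ⟨x, ⟨hx, hd⟩, rfl⟩
      exact ⟨L.el_mem x, (hL x hx).2 hd⟩
  rw [e, Set.ncard_coe_finset, Finset.card_image_of_injOn fun a ha b hb e => L.el_inj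
    (Finset.mem_range.1 (Finset.mem_filter.1 ha).1) (Finset.mem_range.1 (Finset.mem_filter.1 hb).1) e]
  decide +kernel

end Model

end Cfsg.Agent.JankoFour
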