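import Cfsg.Agent.Lib.JankoFour.TenTables
import Cfsg.Agent.Lib.JankoFour.BigChecks

/-!
Elementary subgroups of the tabulated Sylow subgroup fixing at least 64 vectors.
-/

set_option autoImplicit false
set_option maxRecDepth 100000

namespace Cfsg.Agent.JankoFour.Ten

open Cfsg.Agent.J4Module (app elemI entry spanI fixMask fixSpan clearLow)
open Cfsg.Agent.J4Module.Data
open Big

/-- An element over which the second abelian subgroup lies. -/
def tEl (i : ℕ) : List ℕ := wordC (tWords.getD i [])

/-- The matrix carrying it to the other member of the Sylow subgroup. -/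
def tConj : List ℕ := wordC tConjWord

/-- The extension step with at least 64 fixed vectors. -/
def stepT (L L' : List (List ℕ)) : Bool :=
  L.all fun t =>
    let sp := spanI t
    let f := fixSpan t
    (List.range 71).all fun a =>
      sp.contains a || t.any (fun g => entry a g == 72) ||
        clearLow 63 (fixMask (elemI a) &&& f) == 0 ||
          (let se := spanI (a :: t); L'.any fun t' => t'.all fun g => se.contains g)

theorem stepT0 : stepT [[]] tLevel1 = true := by decide +kernel

theorem stepT1 : stepT tLevel1 tLevel2 = true := by decide +kernel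

theorem stepT2 : stepT tLevel2 tLevel3 = true := by decide +kernel

theorem tLevel_lt : (∀ t ∈ tLevel1, t.length = 1 ∧ ∀ g ∈ t, g < 71) ∧ (∀ t ∈ tLevel2, t.length = 2 ∧ ∀ g ∈ t, g < 71) ∧
    (∀ t ∈ tLevel3, t.length = 3 ∧ ∀ g ∈ t, g < 71) := by decide +kernel

/-- One of the three shapes: inside the hexad group, the standard one, its conjugate. -/
def shapeT (t : List ℕ) : Bool :=
  ((spanI t).all (fun j => (71 :: bigIdx).contains j) && (fixSpan t == bigFix)) ||
    ((spanI t).all (fun j => (List.range 8).any fun i => elemI j == tEl i) &&
        (fixSpan t == tW.foldr (fun n m => 2 ^ n ||| m) 0)) ||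
      ((spanI t).all (fun j => (List.range 8).any fun i => mulC tConj (tEl i) == mulC (elemI j) tConj) &&
        (fixSpan t == (tW.map (app tConj)).foldr (fun n m => 2 ^ n ||| m) 0))

theorem tLevel3_shape : tLevel3.all shapeT = true := by decide +kernel

theorem sylow_fix_conj : ∀ C ∈ sylow, (∀ n ∈ tW, app C (app tConj n) = app tConj n) →
    ∃ i < 8, mulC tConj (tEl i) = mulC C tConj := by decide +kernel

end Cfsg.Agent.JankoFour.Ten
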