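import Cfsg.Agent.Lib.JankoFour.TenClassify
import Cfsg.Agent.Lib.JankoFour.OrbitClassify

/-!
The second abelian subgroup is self-centralising and every elementary self-centralising subgroup of order 2^10
is conjugate to it.
-/

set_option autoImplicit false
set_option linter.unusedSectionVars false
set_option linter.style.haveILetI false

namespace Cfsg.Agent.JankoFour

open Subgroup
open Cfsg.Agent.LargeFischer (Ctx QG)
open Cfsg.Agent.J4Module (app oneC compC elemI ElemBase ElemSub)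
open Cfsg.Agent.J4Module.Data
open Big Ten
open scoped Pointwise

namespace Model

variable {G : Type*} [Group G] [Finite G] {z : G} {P : Subgroup G} (M : Model z P)

theorem comap_tH : M.tH.comap M.toH = M.tA := by
  classical
  refine le_antisymm (fun x hx => ?_) fun a ha => M.toH_tH ha
  obtain ⟨a, ha, l, hl, e⟩ := (hx : M.toH x ∈ M.tH)
  obtain ⟨hlP, -⟩ := id hl
  have hlQ : l ∈ M.Q := by
    have : l = (M.toH a)⁻¹ * M.toH x := by rw [e, inv_mul_cancel_left]
    rw [this]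
    exact mul_mem (inv_mem (M.toH_mem a)) (M.toH_mem x)
  have hx' : x = a * (if l = 1 then 1 else M.zQ) := M.toH_injective (by
    rw [map_mul, e]
    rcases M.cent_Q hlQ hlP with h | h
    · rw [if_pos h, h, map_one]
    · have hne : ¬ l = 1 := fun e' => M.ctx.xs.ne_one (congrArg Subtype.val (h.symm.trans e'))
      rw [if_neg hne, h])
  rw [hx']
  refine mul_mem ha ?_
  split
  · exact one_mem _
  · exact M.zQ_tA

theorem tH_card : Nat.card ↥M.tH = 1024 := by
  classical
  haveI := M.normal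
  refine le_antisymm ?_ M.tH_card_ge
  choose l hl hla using fun i : Fin 8 => M.exists_lift_tP i.2
  let f : ↥M.tA × Fin 8 → ↥M.tH := fun p => ⟨M.toH p.1 * l p.2, p.1, p.1.2, _, hl _, rfl⟩
  have hf : Function.Surjective f := by
    rintro ⟨_, a, ha, k, ⟨hkP, i, hi, hka⟩, rfl⟩
    rcases M.lift_eq (hl ⟨i, hi⟩).1 hkP (hla ⟨i, hi⟩) hka with rfl | rfl
    · exact ⟨(⟨a, ha⟩, ⟨i, hi⟩), rfl⟩
    · refine ⟨(⟨a * M.zQ, mul_mem ha M.zQ_tA⟩, ⟨i, hi⟩), Subtype.ext ?_⟩
      show M.toH (a * M.zQ) * l ⟨i, hi⟩ = M.toH a * (l ⟨i, hi⟩ * M.toH M.zQ)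
      rw [map_mul, M.z_fix (l ⟨i, hi⟩), mul_assoc]
  have := Nat.card_le_card_of_surjective f hf
  rwa [Nat.card_prod, M.card_tA, Nat.card_fin] at this

theorem tH_comm {a b : ↥(centralizer ({z} : Set G))} (ha : a ∈ M.tH) (hb : b ∈ M.tH) : a * b = b * a :=
  full_cases.sq_comm M.tH_sq ha hb

theorem map_conj_comap (h : ↥(centralizer ({z} : Set G))) (E : Subgroup ↥(centralizer ({z} : Set G))) :
    (E.map (MulAut.conj h).toMonoidHom).comap M.toH = (E.comap M.toH).map (M.ctx.conjQ h) := by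
  refine le_antisymm (fun x hx => ?_) ?_
  · obtain ⟨e, he, hex⟩ := (hx : M.toH x ∈ E.map (MulAut.conj h).toMonoidHom)
    have hex' : h * e * h⁻¹ = M.toH x := hex
    refine ⟨M.ctx.conjQ h⁻¹ x, ?_, ?_⟩
    · show M.toH (M.ctx.conjQ h⁻¹ x) ∈ E
      rw [← M.toH_conj, ← hex']
      simpa [mul_assoc] using he
    · apply M.toH_injective
      rw [← M.toH_conj, ← M.toH_conj]
      group
  · rintro _ ⟨a, ha, rfl⟩
    exact ⟨M.toH a, ha, M.toH_conj h a⟩

theorem conjQ_injective (h : ↥(centralizer ({z} : Set G))) : Function.Injective (M.ctx.conjQ h) := fun a b e => by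
  have e' := congrArg M.toH e
  rw [← M.toH_conj, ← M.toH_conj] at e'
  exact M.toH_injective (mul_left_cancel (mul_right_cancel e'))

/-- The hexad space is not an image of the second singular space. -/
theorem tA_ne_aQ (h : ↥(centralizer ({z} : Set G))) : M.tA.map (M.ctx.conjQ h) ≠ M.aQ := by
  classical
  intro e
  obtain ⟨C, hC, hhC⟩ := M.exists_cols h
  have key : ((tW.filter fun n => cls n == 2).toFinset.image (app C)).card ≤ (bigW.filter fun n => cls n == 2).toFinset.card := by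
    refine Finset.card_le_card fun m hm => ?_
    obtain ⟨n, hn, rfl⟩ := Finset.mem_image.1 hm
    rw [List.mem_toFinset, List.mem_filter] at hn ⊢
    obtain ⟨a, rfl⟩ := M.vec_surj n (tW_spec.2.1 n hn.1)
    refine ⟨?_, ?_⟩
    · rw [← hhC a]
      exact M.mem_aQ.1 (e.le ⟨a, M.mem_tA.2 hn.1, rfl⟩)
    · rw [cls_InL0 hC _ (M.vec_lt a)]
      exact hn.2
  rw [Finset.card_image_of_injOn] at key
  · obtain ⟨-, h42, h18⟩ := cls_count
    have hnd : tW.Nodup := by decide +kernel
    have hnd' : bigW.Nodup := by decide +kernel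
    rw [List.toFinset_card_of_nodup (hnd.filter _), List.toFinset_card_of_nodup (hnd'.filter _),
      ← List.countP_eq_length_filter, ← List.countP_eq_length_filter, h42, h18] at key
    omega
  · intro m hm n hn hmn
    rw [Finset.mem_coe, List.mem_toFinset, List.mem_filter] at hm hn
    obtain ⟨a, rfl⟩ := M.vec_surj m (tW_spec.2.1 m hm.1)
    obtain ⟨b, rfl⟩ := M.vec_surj n (tW_spec.2.1 n hn.1)
    rw [← hhC a, ← hhC b] at hmn
    rcases M.vec_eq_iff.1 hmn with f | f
    · rw [M.conjQ_injective h (Subtype.ext f)]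
    · refine M.vec_eq_iff.2 (Or.inr ?_)
      have f' : h.1 * (b : G) * h.1⁻¹ = h.1 * (a : G) * h.1⁻¹ * z := f
      calc (b : G) = h.1⁻¹ * (h.1 * (b : G) * h.1⁻¹) * h.1 := by group
        _ = (a : G) * (h.1⁻¹ * (z * h.1)) := by rw [f']; group
        _ = (a : G) * z := by rw [← mem_centralizer_singleton_iff.1 h.2, inv_mul_cancel_left]

/-- The shape of a group with maximal intersection with Q, as one containing the centraliser of that intersection. -/
theorem full_structure {E : Subgroup ↥(centralizer ({z} : Set G))} (hE : E ≤ M.syl) (h2 : ∀ a ∈ E, a * a = 1)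
    (hA : Nat.card ↥(E.comap M.toH) = 128) (hc : Nat.card ↥E = 1024) :
    (E.comap M.toH = M.aQ ∧ E ≤ M.vH) ∨ ∃ g, E = M.tH.map (MulAut.conj g).toMonoidHom ∧
      ∀ k ∈ M.syl, (∀ a ∈ E, k * a = a * k) → k ∈ E := by
  rcases M.full_cases hE h2 hA hc.ge with e | e | ⟨g, hg, e⟩
  · refine Or.inl ⟨e, fun x hx => M.mem_vH_of_fix (hE hx) fun a ha => ?_⟩
    exact full_cases.sq_comm h2 hx (show M.toH a ∈ E from e.ge ha)
  · have hk : ∀ k ∈ M.syl, (∀ a ∈ E, k * a = a * k) → k ∈ M.tH := fun k hk h =>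
      M.mem_tH_of_fix hk fun a ha => h _ (e.ge ha)
    have heq : E = M.tH := Subgroup.eq_of_le_of_card_ge
      (fun x hx => hk x (hE hx) fun a ha => full_cases.sq_comm h2 hx ha) (by rw [hc, M.tH_card])
    refine Or.inr ⟨1, ?_, fun k h1 h2' => heq ▸ hk k h1 h2'⟩
    rw [heq, map_one]
    exact (map_id M.tH).symm
  · have hk : ∀ k ∈ M.syl, (∀ a ∈ E, k * a = a * k) → k ∈ M.tH.map (MulAut.conj g).toMonoidHom := fun k hk h =>
      ⟨g⁻¹ * k * g, M.mem_conj_of_fix hg hk fun a ha => h _ (e.ge ⟨a, ha, rfl⟩),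
        show g * (g⁻¹ * k * g) * g⁻¹ = k by group⟩
    have heq : E = M.tH.map (MulAut.conj g).toMonoidHom := Subgroup.eq_of_le_of_card_ge
      (fun x hx => hk x (hE hx) fun a ha => full_cases.sq_comm h2 hx ha)
      (by rw [hc, card_map_of_injective (MulAut.conj g).injective, M.tH_card])
    exact Or.inr ⟨g, heq, fun k h1 h2' => heq ▸ hk k h1 h2'⟩

theorem self_cent {c : ↥(centralizer ({z} : Set G))} (hc : ∀ a ∈ M.tH, c * a = a * c) : c ∈ M.tH := by
  haveI : Fact (Nat.Prime 2) := ⟨Nat.prime_two⟩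
  set K := centralizer (M.tH : Set ↥(centralizer ({z} : Set G))) with hK
  have hKp : IsPGroup 2 ↥K := by
    rintro ⟨k, hk⟩
    exact ⟨2, Subtype.ext (M.sq_of_cent_full (S := M.tA) (fun a ha b hb => M.tA_comm ha hb) (fun a ha => M.tA_sq ha)
      M.card_tA M.zQ_tA fun a ha => (mem_centralizer_iff.1 hk _ (M.toH_tH ha)).symm)⟩
  obtain ⟨h, hh⟩ : ∃ h : ↥(centralizer ({z} : Set G)), ∀ t ∈ K, h * t * h⁻¹ ∈ M.syl := by
    obtain ⟨h, hh⟩ := M.exists_conj_sylow hKp
    exact ⟨h, fun t ht => by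
      obtain ⟨C, hC, -, hCa⟩ := hh t ht
      exact ⟨C, hC, hCa⟩⟩
  set E := M.tH.map (MulAut.conj h).toMonoidHom with hE
  have hEsyl : E ≤ M.syl := by
    rintro _ ⟨a, ha, rfl⟩
    exact hh a (mem_centralizer_iff.2 fun b hb => M.tH_comm hb ha)
  have h2 : ∀ a ∈ E, a * a = 1 := by
    rintro _ ⟨a, ha, rfl⟩
    rw [← map_mul, M.tH_sq a ha, map_one]
  have hA : E.comap M.toH = M.tA.map (M.ctx.conjQ h) := by rw [hE, M.map_conj_comap, M.comap_tH]
  have hAc : Nat.card ↥(E.comap M.toH) = 128 := by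
    rw [hA, card_map_of_injective (M.conjQ_injective h), M.card_tA]
  rcases M.full_structure hEsyl h2 hAc
    (by rw [hE, card_map_of_injective (MulAut.conj h).injective, M.tH_card]) with ⟨e, -⟩ | ⟨g, -, hcl⟩
  · exact absurd (hA.symm.trans e) (M.tA_ne_aQ h)
  · have : h * c * h⁻¹ ∈ E := hcl _ (hh c (mem_centralizer_iff.2 fun a ha => (hc a ha).symm)) (by
      rintro _ ⟨a, ha, rfl⟩
      show h * c * h⁻¹ * (h * a * h⁻¹) = h * a * h⁻¹ * (h * c * h⁻¹)
      calc h * c * h⁻¹ * (h * a * h⁻¹) = h * (c * a) * h⁻¹ := by group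
        _ = h * (a * c) * h⁻¹ := by rw [hc a ha]
        _ = _ := by group)
    obtain ⟨a, ha, e⟩ := this
    exact (MulAut.conj h).injective e ▸ ha

/-- The classification inside the centraliser. -/
theorem classify_H {E : Subgroup ↥(centralizer ({z} : Set G))} (h2 : ∀ a ∈ E, a * a = 1)
    (hc : Nat.card ↥E = 1024) (hself : ∀ c, (∀ a ∈ E, c * a = a * c) → c ∈ E) :
    ∃ g, E = M.tH.map (MulAut.conj g).toMonoidHom := by
  classical
  haveI : Fact (Nat.Prime 2) := ⟨Nat.prime_two⟩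
  obtain ⟨h, hh⟩ : ∃ h : ↥(centralizer ({z} : Set G)), ∀ t ∈ E, h * t * h⁻¹ ∈ M.syl := by
    obtain ⟨h, hh⟩ := M.exists_conj_sylow (IsPGroup.of_card (n := 10) (show Nat.card ↥E = 2 ^ 10 by rw [hc]; norm_num))
    exact ⟨h, fun t ht => by
      obtain ⟨C, hC, -, hCa⟩ := hh t ht
      exact ⟨C, hC, hCa⟩⟩
  suffices key : ∀ F : Subgroup ↥(centralizer ({z} : Set G)), F ≤ M.syl → (∀ a ∈ F, a * a = 1) →
      Nat.card ↥F = 1024 → (∀ c, (∀ a ∈ F, c * a = a * c) → c ∈ F) →
        ∃ g, F = M.tH.map (MulAut.conj g).toMonoidHom by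
    obtain ⟨g, hg⟩ := key (E.map (MulAut.conj h).toMonoidHom) (by rintro _ ⟨a, ha, rfl⟩; exact hh a ha)
      (by rintro _ ⟨a, ha, rfl⟩; rw [← map_mul, h2 a ha, map_one])
      (by rw [card_map_of_injective (MulAut.conj h).injective, hc])
      (fun c hcc => ⟨h⁻¹ * c * h, hself _ fun a ha => by
        have := hcc _ ⟨a, ha, rfl⟩
        calc h⁻¹ * c * h * a = h⁻¹ * (c * (h * a * h⁻¹)) * h := by group
          _ = h⁻¹ * (h * a * h⁻¹ * c) * h := congrArg (fun u => h⁻¹ * u * h) this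
          _ = _ := by group, show h * (h⁻¹ * c * h) * h⁻¹ = c by group⟩)
    refine ⟨h⁻¹ * g, ?_⟩
    apply Subgroup.map_injective (f := (MulAut.conj h).toMonoidHom) (MulAut.conj h).injective
    rw [hg, Subgroup.map_map]
    congr 1
    ext x
    simp [mul_assoc]
  intro F hF hF2 hFc hFs
  obtain ⟨B, hB, hBE, hmem, hcard⟩ := M.exists_colSet hF hF2
  set A := F.comap M.toH with hA
  have hcomm : ∀ a ∈ F, ∀ b ∈ F, a * b = b * a := fun a ha b hb => full_cases.sq_comm hF2 ha hb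
  have hA128 : Nat.card ↥A ≤ 128 := M.abelian_le fun a ha b hb =>
    M.toH_injective (by rw [map_mul, map_mul]; exact hcomm _ ha _ hb)
  have hvbad : ¬ F ≤ M.vH := fun hle => by
    have : M.vH ≤ F := fun v hv => hFs v fun a ha => full_cases.sq_comm M.vH_sq hv (hle ha)
    have := Subgroup.card_le_of_le this
    rw [hFc, M.vH_card] at this
    omega
  rcases hA128.lt_or_eq with hlt | heq
  swap
  · rcases M.full_structure hF hF2 heq hFc with ⟨-, h⟩ | ⟨g, hg, -⟩
    · exact absurd h hvbad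
    · exact ⟨g, hg⟩
  exfalso
  rw [hFc] at hcard
  have hB32 := hB.card_le
  have hAdvd : Nat.card ↥A ∣ 2 ^ 10 := ⟨B.ncard, by rw [show (2 : ℕ) ^ 10 = 1024 from rfl, hcard, mul_comm]⟩
  obtain ⟨k, hk, hAk⟩ := (Nat.dvd_prime_pow Nat.prime_two).1 hAdvd
  rw [hAk] at hlt hcard
  have hk7 : k < 7 := (Nat.pow_lt_pow_iff_right (by norm_num : 1 < 2)).1 (by simpa using hlt)
  have hB16 : 16 ≤ B.ncard := by interval_cases k <;> omega
  have hfixA : ∀ x ∈ A, ∀ C ∈ B, app C (M.vec x) = M.vec x := fun x hx C hC => by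
    obtain ⟨c, hcE, hcC⟩ := hBE C hC
    exact M.cols_fix hcC (hcomm _ hcE _ hx)
  have hS : ElemSub B := by
    refine { toElemBase := hB, fix := fun s hs => ?_ }
    have h := M.card_le_image (A := A) (s := s) fun x hx => hs _ (M.vec_lt x) (hfixA x hx)
    rw [hAk] at h
    interval_cases k <;> omega
  obtain ⟨hBeq, hBfix⟩ := hS.eq_big hB16
  have hBel : ∀ C ∈ B, ∃ i < 16, C = bEl i := fun C hC => by
    rw [hBeq] at hC
    obtain ⟨j, hj, rfl⟩ := hC
    exact bEl_spec.2.2.2.2 j hj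
  have hB16' : B.ncard ≤ 16 := by
    have h1 : B ⊆ ↑((Finset.range 16).image bEl) := fun C hC => by
      obtain ⟨i, hi, rfl⟩ := hBel C hC
      exact Finset.mem_coe.2 (Finset.mem_image_of_mem _ (Finset.mem_range.2 hi))
    refine (Set.ncard_le_ncard h1 (Finset.finite_toSet _)).trans ?_
    rw [Set.ncard_coe_finset]
    exact Finset.card_image_le.trans (Finset.card_range 16).le
  have hA64 : 64 ≤ Nat.card ↥A := by rw [hAk]; interval_cases k <;> omega
  have hAle : A ≤ M.aQ := fun x hx =>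
    (bigW_iff _ (M.vec_lt x)).1 ((hBfix _ (M.vec_lt x)).1 fun C hC => hfixA x hx C hC)
  have hidx : ∀ a ∈ M.aQ, a ∉ A → ∀ b ∈ M.aQ, b ∉ A → a⁻¹ * b ∈ A := by
    intro a ha ha' b hb hb'
    have hAc : Nat.card ↥A = 64 := by rw [hAk] at hA64 ⊢; interval_cases k <;> omega
    have hi2 : (A.subgroupOf M.aQ).index = 2 := by
      have h := (A.subgroupOf M.aQ).card_mul_index
      rw [Nat.card_congr (subgroupOfEquivOfLe hAle).toEquiv, hAc, M.card_aQ] at h
      omega
    have h := Subgroup.mul_mem_iff_of_index_two hi2 (a := (⟨a, ha⟩ : ↥M.aQ)⁻¹) (b := ⟨b, hb⟩)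
    simp only [mem_subgroupOf, Subgroup.coe_mul, Subgroup.coe_inv] at h
    exact h.2 (iff_of_false (fun e => ha' (by simpa using inv_mem e)) hb')
  -- every element lies in the large subgroup
  apply hvbad
  intro e he
  obtain ⟨C, hC, heC⟩ := hmem e he
  obtain ⟨i, hi, rfl⟩ := hBel C hC
  obtain ⟨l, hl, hla⟩ := M.exists_lift_bP hi
  obtain ⟨q, hq⟩ := M.toH_surj (M.inv_mul_mem hla heC)
  suffices hqA : q ∈ M.aQ by
    have := mul_mem (M.bP_le_vH hl) (M.toH_vH hqA)
    rwa [hq, mul_inv_cancel_left] at this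
  by_contra hqA
  have hqcomm : ∀ {f l' : ↥(centralizer ({z} : Set G))} {q' : ↥(QG M.Q)}, f ∈ F → l' ∈ M.bP → M.toH q' = l'⁻¹ * f →
      ∀ a ∈ A, q' * a = a * q' := fun {f l' q'} hf hl' hq' a ha => M.toH_injective (by
    rw [map_mul, map_mul, hq']
    exact ((show Commute l' (M.toH a) from M.bP_comm_aQ hl' (hAle ha)).inv_left.mul_left
      (show Commute f (M.toH a) from hcomm _ hf _ ha)).eq)
  have hsq : ∀ {f l' : ↥(centralizer ({z} : Set G))} {q' : ↥(QG M.Q)} {j : ℕ}, f ∈ F → l' ∈ M.bP → j < 16 →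
      M.Acts l' (bEl j) → M.toH q' = l'⁻¹ * f → app (bEl j) (M.vec q') = M.vec q' := by
    intro f l' q' j hf hl' hj hja hq'
    have hll := M.bP_sq hl'
    have hli : l'⁻¹ = l' := inv_eq_of_mul_eq_one_right hll
    have h1 : M.toH (M.ctx.conjQ l' q') = M.toH q'⁻¹ := by
      rw [map_inv, ← M.toH_conj, hq', hli, _root_.mul_inv_rev, hli, inv_eq_of_mul_eq_one_right (hF2 f hf)]
      rw [← mul_assoc l' l' f, hll, one_mul]
    rw [← hja q', M.toH_injective h1, M.vec_inv]
  obtain ⟨a, ha, hqa⟩ : ∃ a ∈ M.aQ, ¬ q * a = a * q := by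
    by_contra hno
    push_neg at hno
    exact hqA (M.mem_aQ_of_comm hno)
  have haA : a ∉ A := fun h => hqa (hqcomm he hl hq a h)
  apply hqA
  refine (bigW_iff _ (M.vec_lt q)).1 ((hBfix _ (M.vec_lt q)).1 fun D hD => ?_)
  obtain ⟨j, hj, rfl⟩ := hBel D hD
  obtain ⟨f, hf, hfD⟩ := hBE _ hD
  obtain ⟨l', hl', hla'⟩ := M.exists_lift_bP hj
  obtain ⟨q', hq'⟩ := M.toH_surj (M.inv_mul_mem hla' hfD)
  have hfix' := hsq hf hl' hj hla' hq'
  by_cases hq'A : q' ∈ M.aQ
  · -- then f lies in the large subgroup, and commutes with q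
    have hfV : f ∈ M.vH := by
      have := mul_mem (M.bP_le_vH hl') (M.toH_vH hq'A)
      rwa [hq', mul_inv_cancel_left] at this
    refine M.cols_fix hfD ?_
    rw [hq]
    exact ((show Commute f l from full_cases.sq_comm M.vH_sq hfV (M.bP_le_vH hl)).inv_right.mul_right
      (show Commute f e from hcomm _ hf _ he)).eq
  · have hd : q⁻¹ * q' ∈ M.aQ := by
      refine M.mem_aQ_of_comm fun b hb => ?_
      have hqb : ∀ {u : ↥(QG M.Q)}, u ∉ M.aQ → (∀ c ∈ A, u * c = c * u) → u * a * u⁻¹ = a * M.zQ := fun {u} hu huA => by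
        rcases M.ctx.xs.conj_cases u.2 a.2 with w | w
        · exfalso
          refine hu (M.mem_aQ_of_comm fun c hc => ?_)
          by_cases hcA : c ∈ A
          · exact huA c hcA
          · have := hidx a ha haA c hc hcA
            have huac : Commute u a := mul_inv_eq_iff_eq_mul.1 (Subtype.ext w)
            have := huac.mul_right (huA _ this)
            rwa [mul_inv_cancel_left] at this
        · exact Subtype.ext w
      have hA' : ∀ c ∈ A, Commute (q⁻¹ * q') c := fun c hc =>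
        (show Commute q c from hqcomm he hl hq c hc).inv_left.mul_left (hqcomm hf hl' hq' c hc)
      have haq : Commute (q⁻¹ * q') a := by
        have e1 := hqb hqA (hqcomm he hl hq)
        have e2 := hqb hq'A (hqcomm hf hl' hq')
        refine mul_inv_eq_iff_eq_mul.1 ?_
        calc q⁻¹ * q' * a * (q⁻¹ * q')⁻¹ = q⁻¹ * (q' * a * q'⁻¹) * q := by group
          _ = q⁻¹ * (q * a * q⁻¹) * q := by rw [e1, e2]
          _ = a := by group
      by_cases hbA : b ∈ A
      · exact hA' b hbA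
      · have := haq.mul_right (hA' _ (hidx a ha haA b hb hbA))
        rw [mul_inv_cancel_left] at this
        exact this
    have hfd : app (bEl j) (M.vec (q⁻¹ * q')) = M.vec (q⁻¹ * q') := bEl_fix j hj _ (M.mem_aQ.1 hd)
    rw [M.vec_mul, M.vec_inv, app_xor, hfix'] at hfd
    exact Nat.xor_left_inj.1 hfd

end Model

end Cfsg.Agent.JankoFour
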