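import Cfsg.Agent.Lib.JankoFour.TenChecks
import Cfsg.Agent.Lib.JankoFour.BigBuild
import Cfsg.Agent.Lib.JankoFour.ModelBasics

/-!
The second large elementary abelian subgroup, of order 2^10: its construction inside the centraliser.
-/

set_option autoImplicit false
set_option linter.unusedSectionVars false

namespace Cfsg.Agent.JankoFour

open Subgroup
open Cfsg.Agent.LargeFischer (Ctx QG)
open Cfsg.Agent.J4Module (app)
open Cfsg.Agent.J4Module.Data
open Big Ten

namespace Ten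

theorem tEl_InK0 {i : ℕ} (hi : i < 8) : InK0 (tEl i) := by
  refine wordC_memK (tWords_ok.1 _ ?_)
  rw [List.getD_eq_getElem _ _ (show i < tWords.length by rw [tWords_ok.2.1]; exact hi)]
  exact List.getElem_mem _

end Ten

namespace Model

variable {G : Type*} [Group G] [Finite G] {z : G} {P : Subgroup G} (M : Model z P)

/-- An element centralising P centralises the elements over the vectors it fixes. -/
theorem cent_comm_fix {c : ↥(centralizer ({z} : Set G))} (hcP : (c : G) ∈ centralizer (P : Set G)) {C : List ℕ}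
    (hci : M.Acts c C) {x : ↥(QG M.Q)} (hx : app C (M.vec x) = M.vec x)
    (hsum : app pC (app pC (M.vec x)) ^^^ app pC (M.vec x) ^^^ M.vec x = 0) :
    c * M.toH x = M.toH x * c := by
  set y := M.ctx.conjQ M.pElem x with hy
  set w := M.ctx.conjQ M.pElem y with hw
  have hcomm : ∀ u, M.ctx.conjQ c (M.ctx.conjQ M.pElem u) = M.ctx.conjQ M.pElem (M.ctx.conjQ c u) := fun u => by
    rw [← M.ctx.conjQ_mul, M.p_fix hcP, M.ctx.conjQ_mul]
  have hzc : ∀ d, M.ctx.conjQ d M.zQ = M.zQ := fun d => Subtype.ext (by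
    show d.1 * z * d.1⁻¹ = z
    rw [mem_centralizer_singleton_iff.1 d.2, mul_inv_cancel_right])
  have hzz : M.zQ * M.zQ = 1 := Subtype.ext M.ctx.xs.sq
  rcases (M.vec_eq_iff.1 (show M.vec x = M.vec (M.ctx.conjQ c x) by rw [hci x, hx])).imp
      (fun e => (Subtype.ext e : M.ctx.conjQ c x = x)) (fun e => (Subtype.ext e : M.ctx.conjQ c x = x * M.zQ)) with h | h
  · have := congrArg M.toH h
    rw [← M.toH_conj] at this
    exact mul_inv_eq_iff_eq_mul.1 this
  exfalso
  have hy' : M.ctx.conjQ c y = y * M.zQ := by rw [hy, hcomm, h, map_mul, hzc]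
  have hw' : M.ctx.conjQ c w = w * M.zQ := by rw [hw, hcomm, hy', map_mul, hzc]
  have hv : M.vec (x * y * w) = 0 := by
    rw [M.vec_mul, M.vec_mul, show M.vec w = app pC (M.vec y) from M.p_acts y,
      show M.vec y = app pC (M.vec x) from M.p_acts x]
    rw [← hsum]
    ac_rfl
  have hone : M.ctx.conjQ c (x * y * w) = x * y * w := by
    rcases M.vec_eq_iff.1 (hv.trans M.vec_one.symm) with e | e
    · rw [show x * y * w = 1 from Subtype.ext e.symm, map_one]
    · have e' : x * y * w = M.zQ := Subtype.ext (by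
        show ((x * y * w : ↥(QG M.Q)) : G) = z
        have e2 : (1 : G) = (x * y * w : ↥(QG M.Q)) * z := e
        calc ((x * y * w : ↥(QG M.Q)) : G) = ((x * y * w : ↥(QG M.Q)) : G) * z * z := by
              rw [mul_assoc _ z z, M.ctx.xs.sq, mul_one]
          _ = z := by rw [← e2, one_mul])
      rw [e', hzc]
  rw [map_mul, map_mul, h, hy', hw'] at hone
  have hz' : ∀ u : ↥(QG M.Q), u * M.zQ = M.zQ * u := fun u => Subtype.ext (M.ctx.xs.comm u.2)
  have e3 : x * M.zQ * (y * M.zQ) * (w * M.zQ) = x * y * w * M.zQ := by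
    calc x * M.zQ * (y * M.zQ) * (w * M.zQ) = x * (M.zQ * y) * (M.zQ * w) * M.zQ := by group
      _ = x * (y * M.zQ) * (M.zQ * w) * M.zQ := by rw [← hz' y]
      _ = x * y * (M.zQ * M.zQ) * w * M.zQ := by group
      _ = _ := by rw [hzz, mul_one]
  rw [e3, mul_eq_left] at hone
  exact M.ctx.xs.ne_one (congrArg Subtype.val hone)

/-- The preimage of the second maximal singular space. -/
def tA : Subgroup ↥(QG M.Q) where
  carrier := {x | M.vec x ∈ tW}
  one_mem' := by
    show M.vec 1 ∈ tW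
    rw [M.vec_one]
    decide +kernel
  mul_mem' := fun {x y} hx hy => by
    obtain ⟨hl, -, hxor, -, -⟩ := tW_spec
    obtain ⟨i, hi, ei⟩ := List.getElem_of_mem (hx : M.vec x ∈ tW)
    obtain ⟨j, hj, ej⟩ := List.getElem_of_mem (hy : M.vec y ∈ tW)
    show M.vec (x * y) ∈ tW
    have hk : i ^^^ j < tW.length := by rw [hl] at hi hj ⊢; exact Nat.xor_lt_two_pow (n := 6) hi hj
    have := hxor i (hl ▸ hi) j (hl ▸ hj)
    rw [List.getD_eq_getElem _ _ hi, List.getD_eq_getElem _ _ hj, List.getD_eq_getElem _ _ hk, ei, ej] at this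
    rw [M.vec_mul, this]
    exact List.getElem_mem hk
  inv_mem' := fun {x} hx => by
    show M.vec x⁻¹ ∈ tW
    have h : M.vec x⁻¹ = M.vec x := by
      have h1 := M.vec_mul x⁻¹ x
      rw [inv_mul_cancel, M.vec_one] at h1
      exact Nat.xor_eq_zero_iff.1 h1.symm
    rwa [h]

theorem mem_tA {x : ↥(QG M.Q)} : x ∈ M.tA ↔ M.vec x ∈ tW := Iff.rfl

theorem tA_comm {x y : ↥(QG M.Q)} (hx : x ∈ M.tA) (hy : y ∈ M.tA) : x * y = y * x :=
  Subtype.ext ((M.comm_iff x y).2 (tW_perp _ hx _ hy))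

theorem tA_sq {x : ↥(QG M.Q)} (hx : x ∈ M.tA) : x * x = 1 :=
  Subtype.ext ((M.sq_iff x).2 (tW_sing _ hx))

theorem zQ_tA : M.zQ ∈ M.tA := by
  show M.vec ⟨z, M.ctx.xs.mem⟩ ∈ tW
  rw [M.vec_z]
  decide +kernel

theorem card_tA : Nat.card ↥M.tA = 128 := by
  classical
  obtain ⟨hl, hlt, -, hinj, -⟩ := tW_spec
  choose s hs using fun i : Fin 64 => M.vec_surj _ (hlt (tW.getD i.1 0) (by
    rw [List.getD_eq_getElem _ _ (show i.1 < tW.length by omega)]; exact List.getElem_mem _))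
  have hs' : ∀ i, s i ∈ M.tA := fun i => by
    rw [mem_tA, hs, List.getD_eq_getElem _ _ (show i.1 < tW.length by omega)]
    exact List.getElem_mem _
  let f : Fin 64 × Bool → ↥M.tA := fun p => ⟨s p.1 * (if p.2 then M.zQ else 1), mul_mem (hs' _) (by
    cases p.2
    · exact one_mem _
    · exact M.zQ_tA)⟩
  have hvz : M.vec M.zQ = 0 := M.vec_z
  have hvec : ∀ p, M.vec (f p).1 = tW.getD p.1.1 0 := fun p => by
    show M.vec (s p.1 * if p.2 = true then M.zQ else 1) = _
    rw [M.vec_mul, hs]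
    cases p.2 <;> simp [M.vec_one, hvz]
  have hf : Function.Bijective f := by
    refine ⟨fun p q h => ?_, fun x => ?_⟩
    · have e : p.1 = q.1 := Fin.ext (hinj _ p.1.2 _ q.1.2 (by rw [← hvec p, ← hvec q, h]))
      obtain ⟨i, b⟩ := p
      obtain ⟨j, b'⟩ := q
      simp only at e
      subst e
      have h' := mul_left_cancel (congrArg Subtype.val h)
      have hne : M.zQ ≠ 1 := fun e' => M.ctx.xs.ne_one (congrArg Subtype.val e')
      cases b <;> cases b' <;> first | rfl | exact absurd (by simpa using h') hne | exact absurd (by simpa using h'.symm) hne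
    · obtain ⟨i, hi, e⟩ := List.getElem_of_mem (M.mem_tA.1 x.2)
      have e' : M.vec (s ⟨i, by omega⟩) = M.vec x.1 := by rw [hs, List.getD_eq_getElem _ _ hi, e]
      rcases M.vec_eq_iff.1 e' with h | h
      · exact ⟨(⟨i, by omega⟩, false), Subtype.ext (Subtype.ext (by simpa [f] using h.symm))⟩
      · exact ⟨(⟨i, by omega⟩, true), Subtype.ext (Subtype.ext (by simpa [f, zQ] using h.symm))⟩
  rw [← Nat.card_congr (Equiv.ofBijective f hf), Nat.card_prod, Nat.card_fin, Nat.card_eq_fintype_card,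
    Fintype.card_bool]

/-- The preimage of the second maximal singular space is its own centraliser in Q. -/
theorem mem_tA_of_comm {x : ↥(QG M.Q)} (h : ∀ a ∈ M.tA, x * a = a * x) : x ∈ M.tA := by
  have hS : ∀ a ∈ M.tA ⊔ zpowers x, ∀ b ∈ M.tA ⊔ zpowers x, a * b = b * a := by
    have h1 : M.tA ⊔ zpowers x ≤ centralizer (M.tA : Set ↥(QG M.Q)) :=
      sup_le (fun a ha => mem_centralizer_iff.2 fun b hb => M.tA_comm hb ha)
        (zpowers_le.2 (mem_centralizer_iff.2 fun b hb => (h b hb).symm))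
    have h2 : M.tA ⊔ zpowers x ≤ centralizer ({x} : Set ↥(QG M.Q)) :=
      sup_le (fun a ha => mem_centralizer_iff.2 fun b hb => by rw [Set.mem_singleton_iff.1 hb, h a ha])
        (zpowers_le.2 (mem_centralizer_iff.2 fun b hb => by rw [Set.mem_singleton_iff.1 hb]))
    intro a ha b hb
    refine (mem_centralizer_iff.1 ((sup_le ?_ ?_ : M.tA ⊔ zpowers x ≤ centralizer ({a} : Set ↥(QG M.Q))) hb) a rfl)
    · exact fun c hc => mem_centralizer_iff.2 fun d hd => by
        rw [Set.mem_singleton_iff.1 hd]; exact (mem_centralizer_iff.1 (h1 ha) c hc).symm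
    · exact zpowers_le.2 (mem_centralizer_iff.2 fun d hd => by
        rw [Set.mem_singleton_iff.1 hd]; exact (mem_centralizer_iff.1 (h2 ha) x rfl).symm)
  have hle : M.tA ⊔ zpowers x = M.tA :=
    (Subgroup.eq_of_le_of_card_ge le_sup_left (by rw [M.card_tA]; exact M.abelian_le hS)).symm
  exact hle.le (mem_sup_right (mem_zpowers x))

/-- The elements centralising P over the second subgroup. -/
def tP : Subgroup ↥(centralizer ({z} : Set G)) where
  carrier := {c | (c : G) ∈ centralizer (P : Set G) ∧ ∃ i < 8, M.Acts c (tEl i)}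
  one_mem' := ⟨one_mem _, 0, by norm_num, tEl_spec.2.1 ▸ M.acts_one⟩
  mul_mem' := fun {c d} ⟨hc, i, hi, hci⟩ ⟨hd, j, hj, hdj⟩ =>
    ⟨mul_mem hc hd, i ^^^ j, Nat.xor_lt_two_pow (n := 3) hi hj, tEl_spec.2.2.2.1 i hi j hj ▸ M.acts_mul hci hdj⟩
  inv_mem' := fun {c} ⟨hc, i, hi, hci⟩ => by
    refine ⟨inv_mem hc, i, hi, ?_⟩
    have h := M.acts_mul hci hci
    rw [tEl_spec.2.2.2.1 i hi i hi, Nat.xor_self, tEl_spec.2.1] at h
    refine M.acts_mul_Q hci ?_ (tEl_spec.1 i hi).2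
    have := inv_mem (M.mem_Q _ h)
    rwa [_root_.mul_inv_rev] at this

theorem exists_lift_tP {i : ℕ} (hi : i < 8) : ∃ c ∈ M.tP, M.Acts c (tEl i) := by
  obtain ⟨c, hc, h⟩ := M.cent_elem _ (tEl_InK0 hi)
  exact ⟨c, ⟨hc, i, hi, h⟩, h⟩

theorem exists_cent_t7 : ∃ g : ↥(centralizer ({z} : Set G)), (g : G) ∈ centralizer (P : Set G) ∧ M.Acts g t7 :=
  M.cent_elem _ (wordC_memK tWords_ok.2.2.2.1)

theorem tP_conj {g c : ↥(centralizer ({z} : Set G))} (hg : (g : G) ∈ centralizer (P : Set G)) {C : List ℕ}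
    {π : ℕ → ℕ} (hgC : M.Acts g C) (hπ : ∀ i < 8, π i < 8 ∧ mulC C (tEl i) = mulC (tEl (π i)) C) {i : ℕ}
    (hi : i < 8) (hc : (c : G) ∈ centralizer (P : Set G)) (hci : M.Acts c (tEl i)) :
    ((g * c * g⁻¹ : ↥(centralizer ({z} : Set G))) : G) ∈ centralizer (P : Set G) ∧
      M.Acts (g * c * g⁻¹) (tEl (π i)) :=
  ⟨mul_mem (mul_mem hg hc) (inv_mem hg), M.acts_conj hgC hci (hπ i hi).2⟩

theorem tP_sq {c : ↥(centralizer ({z} : Set G))} (hc : c ∈ M.tP) : c * c = 1 := by
  obtain ⟨hcP, i, hi, hci⟩ := hc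
  rcases t7_spec.2.2 i hi with rfl | ⟨k, -, rfl⟩
  · rw [tEl_spec.2.1] at hci
    rcases M.cent_Q (M.mem_Q c hci) hcP with rfl | rfl
    · exact one_mul 1
    · exact Subtype.ext M.ctx.xs.sq
  · obtain ⟨g, hg, hga⟩ := M.exists_cent_t7
    suffices h : ∀ k, (fun j => tPerm7.getD j 0)^[k] 1 < 8 ∧ ∃ d : ↥(centralizer ({z} : Set G)),
        (d : G) ∈ centralizer (P : Set G) ∧ M.Acts d (tEl ((fun j => tPerm7.getD j 0)^[k] 1)) ∧ d * d = 1 by
      obtain ⟨-, d, hd, hda, hdd⟩ := h k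
      rw [M.sq_lift_eq hd hcP hda hci, hdd]
    intro k
    induction k with
    | zero =>
      obtain ⟨d, hd, hda⟩ := M.exists_lift_bP (i := 9) (by norm_num)
      exact ⟨by norm_num, d, hd.1, by rw [Function.iterate_zero_apply, tEl_spec.2.2.1]; exact hda, M.bP_sq hd⟩
    | succ k ih =>
      obtain ⟨hlt, d, hd, hda, hdd⟩ := ih
      rw [Function.iterate_succ_apply']
      refine ⟨(t7_spec.2.1 _ hlt).1, g * d * g⁻¹, ?_, (M.tP_conj hg hga t7_spec.2.1 hlt hd hda).2, ?_⟩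
      · exact mul_mem (mul_mem hg hd) (inv_mem hg)
      · rw [show g * d * g⁻¹ * (g * d * g⁻¹) = g * (d * d) * g⁻¹ by group, hdd]
        group

theorem tP_comm_tA {c : ↥(centralizer ({z} : Set G))} (hc : c ∈ M.tP) {x : ↥(QG M.Q)} (hx : x ∈ M.tA) :
    c * M.toH x = M.toH x * c := by
  obtain ⟨hcP, i, hi, hci⟩ := hc
  exact M.cent_comm_fix hcP hci (tEl_fix i hi _ hx) (tW_p _ hx).2

/-- The second elementary abelian subgroup inside the centraliser. -/
def tH : Subgroup ↥(centralizer ({z} : Set G)) where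
  carrier := {c | ∃ a ∈ M.tA, ∃ l ∈ M.tP, c = M.toH a * l}
  one_mem' := ⟨1, one_mem _, 1, one_mem _, by rw [map_one, one_mul]⟩
  mul_mem' := by
    rintro _ _ ⟨a, ha, l, hl, rfl⟩ ⟨a', ha', l', hl', rfl⟩
    refine ⟨a * a', mul_mem ha ha', l * l', mul_mem hl hl', ?_⟩
    rw [map_mul, show M.toH a * l * (M.toH a' * l') = M.toH a * (l * M.toH a') * l' by group,
      M.tP_comm_tA hl ha']
    group
  inv_mem' := by
    rintro _ ⟨a, ha, l, hl, rfl⟩
    refine ⟨a⁻¹, inv_mem ha, l⁻¹, inv_mem hl, ?_⟩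
    rw [map_inv, _root_.mul_inv_rev]
    exact (show Commute l⁻¹ (M.toH a)⁻¹ from Commute.inv_inv (M.tP_comm_tA hl ha)).eq

theorem tH_sq : ∀ c ∈ M.tH, c * c = 1 := by
  rintro _ ⟨a, ha, l, hl, rfl⟩
  rw [show M.toH a * l * (M.toH a * l) = M.toH a * (l * M.toH a) * l by group, M.tP_comm_tA hl ha,
    show M.toH a * (M.toH a * l) * l = M.toH a * M.toH a * (l * l) by group, ← map_mul, M.tA_sq ha,
    M.tP_sq hl, map_one, one_mul]

theorem tH_le : M.tH ≤ M.syl := by
  rintro _ ⟨a, -, l, ⟨-, i, hi, hl⟩, rfl⟩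
  exact mul_mem (M.Q_le_syl (M.toH_mem a)) ⟨_, (tEl_spec.1 i hi).1, hl⟩

theorem toH_tH {a : ↥(QG M.Q)} (ha : a ∈ M.tA) : M.toH a ∈ M.tH := ⟨a, ha, 1, one_mem _, (mul_one _).symm⟩

theorem tP_le_tH : M.tP ≤ M.tH := fun l hl => ⟨1, one_mem _, l, hl, by rw [map_one, one_mul]⟩

theorem tH_card_ge : 1024 ≤ Nat.card ↥M.tH := by
  classical
  choose l hl hla using fun i : Fin 8 => M.exists_lift_tP i.2
  let f : ↥M.tA × Fin 8 → ↥M.tH := fun p => ⟨M.toH p.1 * l p.2, p.1, p.1.2, _, hl _, rfl⟩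
  have hf : Function.Injective f := by
    rintro ⟨a, i⟩ ⟨b, j⟩ h
    have h' : M.toH a * l i = M.toH b * l j := congrArg Subtype.val h
    have hij : i = j := by
      refine Fin.ext (tEl_spec.2.2.2.2 _ i.2 _ j.2 ?_)
      have hu : ∀ (u : ↥(QG M.Q)) (k : Fin 8), M.Acts (M.toH u * l k) (tEl k) := fun u k => by
        have h := M.acts_mul (M.acts_of_mem_Q (M.toH_mem u)) (hla k)
        rwa [unitC_mulC (sylow_InL0 (tEl_spec.1 _ k.2).1) fun _ h => h] at h
      exact M.acts_unique (tEl_spec.1 _ i.2).2 (tEl_spec.1 _ j.2).2 (hu a i) (h' ▸ hu b j)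
    subst hij
    rw [Subtype.ext (M.toH_injective (mul_right_cancel h'))]
  have := Nat.card_le_card_of_injective f hf
  rwa [Nat.card_prod, M.card_tA, Nat.card_fin] at this

end Model

end Cfsg.Agent.JankoFour
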