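import Cfsg.Agent.Lib.JankoFour.Cols
import Cfsg.Agent.Lib.J4Module.SylowChecks

/-!
Two elements of order five of the linear part normalising the hexad group: they move its fifteen involutions
transitively, and the scalar of order three fixes only zero and commutes with all of them.
-/

set_option autoImplicit false
set_option maxRecDepth 100000

namespace Cfsg.Agent.JankoFour.ThreeChk

open Cfsg.Agent.J4Module (app elemI)
open Cfsg.Agent.J4Module.Data

/-- The two words. -/
def words : List (List ℕ) :=
  [[1, 1, 1, 1, 2, 2, 2, 0, 2, 1, 0, 1, 1, 1, 1, 1, 1, 1, 1, 2, 0, 2, 0],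
   [1, 1, 1, 1, 1, 1, 1, 1, 2, 0, 2, 0, 1, 1, 1, 1, 2, 2, 2, 0, 2, 1, 0]]

/-- The value of a word in the generators of the linear part. -/
def wordEval (w : List ℕ) : List ℕ := w.foldr (fun k r => mulC (gensK.getD k unitC) r) unitC

theorem inK0_word : ∀ w : List ℕ, (∀ k ∈ w, k < 4) → InK0 (wordEval w)
  | [], _ => Gen.one
  | k :: w, h => by
    have hk := h k List.mem_cons_self
    refine Gen.mul ?_ (inK0_word w fun a ha => h a (List.mem_cons_of_mem _ ha))
    rw [List.getD_eq_getElem _ _ (show k < gensK.length from hk)]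
    exact List.getElem_mem _

/-- The element with the given number. -/
def fiveC (k : Fin 2) : List ℕ := wordEval (words.getD k.1 [])

theorem fiveC_mem (k : Fin 2) : InK0 (fiveC k) :=
  inK0_word _ (by revert k; decide +kernel)

/-- The image of an index under conjugation. -/
def fivePerm (k : Fin 2) (i : ℕ) : ℕ :=
  ((71 :: bigIdx).find? fun j => mulC (fiveC k) (elemI i) == mulC (elemI j) (fiveC k)).getD 72

theorem five_order : ∀ k : Fin 2,
    mulC (fiveC k) (mulC (fiveC k) (mulC (fiveC k) (mulC (fiveC k) (fiveC k)))) = unitC ∧ fiveC k ≠ unitC := by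
  decide +kernel

theorem five_norm : ∀ k : Fin 2, ∀ i ∈ 71 :: bigIdx, fivePerm k i ∈ 71 :: bigIdx ∧
    mulC (fiveC k) (elemI i) = mulC (elemI (fivePerm k i)) (fiveC k) := by decide +kernel

/-- The indices reached from the given ones in some steps. -/
def reach : ℕ → List ℕ → List ℕ
  | 0, l => l
  | n + 1, l => reach n (l ++ l.map (fivePerm 0) ++ l.map (fivePerm 1)).dedup

theorem five_trans : ∀ j ∈ bigIdx, ∀ i ∈ bigIdx, (reach 6 [j]).contains i = true := by decide +kernel

theorem five_moves : ∀ j ∈ bigIdx, ∃ k : Fin 2, fivePerm k j ≠ j := by decide +kernel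

theorem p_fixed_point : ∀ n < 4096, app pC n = n → n = 0 := J4Module.of_chunks 64 (by decide +kernel)

theorem p_big : ∀ i ∈ 71 :: bigIdx, mulC pC (elemI i) = mulC (elemI i) pC := by decide +kernel

theorem five_not_big : ∀ k : Fin 2, ∀ i ∈ 71 :: bigIdx, fiveC k ≠ elemI i := by decide +kernel

theorem big_inj : ∀ i ∈ 71 :: bigIdx, ∀ j ∈ 71 :: bigIdx,
    (∀ b < 12, app (elemI i) (2 ^ b) = app (elemI j) (2 ^ b)) → i = j := by decide +kernel

theorem big_fix_card : ((List.range 4096).filter fun n => bigFix.testBit n).length = 64 := by decide +kernel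

theorem unit_idx : elemI 71 = unitC := by decide +kernel

end Cfsg.Agent.JankoFour.ThreeChk
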