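import Cfsg.Agent.Lib.JankoFour.ThreeLocal

/-!
One class of elements of order three and the Sylow 3-subgroup of a group of Janko-four type.
-/

set_option autoImplicit false
set_option linter.style.haveILetI false

namespace Cfsg.Agent.JankoFour

open Subgroup
open scoped Pointwise commutatorElement symmDiff

universe u

variable {G : Type u} [Group G] [Finite G] {z : G} {P R : Subgroup G}

namespace ThreeFacts

variable (F : ThreeFacts z P R)
include F

theorem three : IsPGroup 3 ↥R := IsPGroup.of_card (n := 3) (by rw [F.card]; norm_num)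

theorem card_le {T : Subgroup G} (hT : T ≤ centralizer ({z} : Set G)) (hT3 : IsPGroup 3 ↥T) :
    Nat.card ↥T ≤ 27 := by
  obtain ⟨h, -, hh⟩ := F.maximal T hT hT3
  rw [← F.card, ← card_map_of_injective (f := (MulAut.conj h).toMonoidHom) (MulAut.conj h).injective]
  exact card_le_of_le (by rintro _ ⟨x, hx, rfl⟩; exact hh x hx)

/-- R is a Sylow subgroup of the group. -/
theorem exists_sylow : ∃ S : Sylow 3 G, (S : Subgroup G) = R := by
  haveI : Fact (Nat.Prime 3) := ⟨Nat.prime_three⟩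
  obtain ⟨S, hS⟩ := F.three.exists_le_sylow
  refine ⟨S, le_antisymm ?_ hS⟩
  by_contra hlt
  haveI : Group.IsNilpotent ↥(S : Subgroup G) := S.isPGroup'.isNilpotent
  set K : Subgroup ↥(S : Subgroup G) := R.subgroupOf S
  have hK : K < ⊤ := lt_top_iff_ne_top.2 fun e => hlt fun x hx => by
    have : (⟨x, hx⟩ : ↥(S : Subgroup G)) ∈ K := e ▸ mem_top _
    exact mem_subgroupOf.1 this
  obtain ⟨s, hsN, hsK⟩ := SetLike.exists_of_lt (Group.normalizerCondition_of_isNilpotent K hK)
  have hsR : (s : G) ∈ normalizer (R : Set G) := mem_normalizer_fintype fun x hx =>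
    mem_subgroupOf.1 ((mem_normalizer_iff.1 hsN ⟨x, hS hx⟩).1 (mem_subgroupOf.2 hx))
  set T := R ⊔ zpowers (s : G) with hT
  have hTH : T ≤ centralizer ({z} : Set G) := sup_le F.le_cent (zpowers_le.2 (F.norm_le hsR))
  have hT3 : IsPGroup 3 ↥T := S.isPGroup'.to_le (sup_le hS (zpowers_le.2 s.2))
  have := eq_of_le_of_card_ge (le_sup_left : R ≤ T) (by rw [F.card]; exact F.card_le hTH hT3)
  exact hsK (mem_subgroupOf.2 (this ▸ mem_sup_right (mem_zpowers _)))

theorem extraspecial : Cfsg.IsExtraspecial 3 ↥R := by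
  obtain ⟨a, ha, b, hb, hab⟩ := F.nonabelian
  exact extraspecial_of_card_27 (by rw [F.card]) ⟨⟨a, ha⟩, ⟨b, hb⟩, fun e => hab (congrArg Subtype.val e)⟩

theorem exponent : Monoid.exponent ↥R = 3 := by
  have hd : Monoid.exponent ↥R ∣ 3 := Monoid.exponent_dvd_of_forall_pow_eq_one fun x => Subtype.ext (F.cube x x.2)
  refine ((Nat.prime_three).eq_one_or_self_of_dvd _ hd).resolve_left fun h => ?_
  haveI := Monoid.exp_eq_one_iff.1 h
  have := F.card
  rw [Nat.card_eq_one_iff_unique.2 ⟨inferInstance, ⟨1⟩⟩] at this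
  omega

/-- A Sylow subgroup inside the centraliser. -/
theorem sylow_structure (T : Sylow 3 G) (hT : (T : Subgroup G) ≤ centralizer ({z} : Set G)) :
    Cfsg.IsExtraspecial 3 ↥(T : Subgroup G) ∧ Nat.card ↥(T : Subgroup G) = 27 ∧
    Monoid.exponent ↥(T : Subgroup G) = 3 ∧
    normalizer ((T : Subgroup G) : Set G) ≤ centralizer ({z} : Set G) ∧
    Nat.card ↥(normalizer ((T : Subgroup G) : Set G)) = 864 := by
  haveI : Fact (Nat.Prime 3) := ⟨Nat.prime_three⟩
  obtain ⟨h, hh, hle⟩ := F.maximal _ hT T.isPGroup'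
  obtain ⟨S, hS⟩ := F.exists_sylow
  have hcard : Nat.card ↥(T : Subgroup G) = 27 := by
    rw [T.card_eq_multiplicity, ← S.card_eq_multiplicity, hS, F.card]
  have hmap : (T : Subgroup G).map (MulAut.conj h).toMonoidHom = R :=
    eq_of_le_of_card_ge (by rintro _ ⟨x, hx, rfl⟩; exact hle x hx)
      (by rw [card_map_of_injective (MulAut.conj h).injective, hcard, F.card])
  have hn : (normalizer ((T : Subgroup G) : Set G)).map (MulAut.conj h).toMonoidHom = normalizer (R : Set G) := by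
    rw [← hmap]
    exact map_equiv_normalizer_eq _ (MulAut.conj h)
  obtain ⟨a, ha, b, hb, hab⟩ := F.nonabelian
  have e : ↥(T : Subgroup G) ≃* ↥R :=
    ((MulAut.conj h).subgroupMap (T : Subgroup G)).trans (MulEquiv.subgroupCongr hmap)
  refine ⟨extraspecial_of_card_27 hcard ⟨e.symm ⟨a, ha⟩, e.symm ⟨b, hb⟩, fun he => hab ?_⟩, hcard, ?_, ?_, ?_⟩
  · rw [← map_mul, ← map_mul] at he
    exact congrArg Subtype.val (e.symm.injective he)
  · rw [Monoid.exponent_eq_of_mulEquiv e, F.exponent]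
  · intro n hn'
    have h1 := F.norm_le (hn ▸ mem_map_of_mem (MulAut.conj h).toMonoidHom hn')
    have h2 : h * n * h⁻¹ ∈ centralizer ({z} : Set G) := h1
    have := (centralizer ({z} : Set G)).mul_mem
      ((centralizer ({z} : Set G)).mul_mem ((centralizer ({z} : Set G)).inv_mem hh) h2) hh
    rwa [show h⁻¹ * (h * n * h⁻¹) * h = n by group] at this
  · rw [← card_map_of_injective (f := (MulAut.conj h).toMonoidHom) (MulAut.conj h).injective, hn, F.norm_card]

theorem center_eq : ∀ c ∈ R, (∀ d ∈ R, d * c = c * d) → Nat.card ↥P = 3 → c ∈ P := by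
  intro c hc hall hP
  have hle : P.subgroupOf R ≤ center ↥R := fun x hx => mem_center_iff.2 fun d =>
    Subtype.ext (mem_centralizer_iff.1 (F.le_centP d.2) x (mem_subgroupOf.1 hx)).symm
  have heq : P.subgroupOf R = center ↥R := eq_of_le_of_card_ge hle (by
    rw [Nat.card_congr (subgroupOfEquivOfLe F.p_le).toEquiv, hP, F.extraspecial.2])
  have : (⟨c, hc⟩ : ↥R) ∈ center ↥R := mem_center_iff.2 fun d => Subtype.ext (hall d d.2)
  rw [← heq] at this
  exact mem_subgroupOf.1 this

/-- The elements outside P form one class. -/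
theorem conj_outside (hP : Nat.card ↥P = 3) {x y : G} (hx : x ∈ R) (hy : y ∈ R) (hxP : x ∉ P) (hyP : y ∉ P) :
    IsConj x y := by
  classical
  obtain ⟨g, hg⟩ := F.conj_three x hx y hy hxP hyP
  obtain ⟨r, hr, hne⟩ : ∃ r ∈ R, r * y ≠ y * r := by
    by_contra h
    push Not at h
    exact hyP (F.center_eq y hy h hP)
  set k := r * y * r⁻¹ * y⁻¹ with hk
  have hkR : k ∈ R := R.mul_mem (R.mul_mem (R.mul_mem hr hy) (R.inv_mem hr)) (R.inv_mem hy)
  have hkP : k ∈ P := by
    have hc : (⁅(⟨r, hr⟩ : ↥R), ⟨y, hy⟩⁆ : ↥R) ∈ center ↥R := by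
      rw [← F.extraspecial.1.2.2]
      exact commutator_mem_commutator (mem_top _) (mem_top _)
    refine F.center_eq k hkR (fun d hd => ?_) hP
    have h1 := congrArg Subtype.val (mem_center_iff.1 hc ⟨d, hd⟩)
    simpa [commutatorElement_def, hk] using h1
  have hk1 : k ≠ 1 := fun e => hne (mul_inv_eq_iff_eq_mul.1 (mul_inv_eq_one.1 e))
  have hP3 : ∀ a ∈ P, a ^ 3 = 1 := fun a ha => F.cube a (F.p_le ha)
  have hzp : zpowers k = P := eq_of_le_of_card_ge (zpowers_le.2 hkP) (by
    rw [Nat.card_zpowers, hP, orderOf_eq_prime (p := 3) (hP3 k hkP) hk1])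
  obtain ⟨i, hi⟩ : ∃ i : ℕ, k ^ i = g * x * g⁻¹ * y⁻¹ := by
    obtain ⟨i, -, hi⟩ := Finset.mem_image.1 (mem_zpowers_iff_mem_range_orderOf.1 (hzp.ge hg))
    exact ⟨i, hi⟩
  have hry : r * y * r⁻¹ = k * y := by simp [hk]
  have hrk : r * k = k * r := by
    have := mem_centralizer_iff.1 (F.le_centP hr) k hkP
    exact this.symm
  have hpow : ∀ n : ℕ, r ^ n * y * (r ^ n)⁻¹ = k ^ n * y := by
    intro n
    induction n with
    | zero => simp
    | succ n ih =>
      have hc : r * k ^ n * r⁻¹ = k ^ n := by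
        rw [← conj_pow, hrk, mul_inv_cancel_right]
      calc r ^ (n + 1) * y * (r ^ (n + 1))⁻¹ = r * (r ^ n * y * (r ^ n)⁻¹) * r⁻¹ := by rw [pow_succ']; group
        _ = r * k ^ n * r⁻¹ * (r * y * r⁻¹) := by rw [ih]; group
        _ = k ^ (n + 1) * y := by rw [hc, hry, ← mul_assoc, ← pow_succ]
  refine (isConj_iff.2 ⟨g, ?_⟩).trans (isConj_iff.2 ⟨r ^ i, hpow i⟩).symm
  rw [hi]; group

end ThreeFacts

/-- One class of elements of order three. -/
theorem conj_of_order_three {M : Model z P} (D : BigData M) (B : BigPack z D.V) (F : ThreeFacts z P R)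
    (hN : normalizer (P : Set G) ≤ centralizer ({z} : Set G)) :
    ∀ x y : G, orderOf x = 3 → orderOf y = 3 → IsConj x y := by
  classical
  haveI : Fact (Nat.Prime 3) := ⟨Nat.prime_three⟩
  set p := (M.pElem : G) with hp
  have hpo : orderOf p = 3 := by rw [← Nat.card_zpowers, M.p_gen, M.card_P]
  -- a conjugate of z centralising P
  obtain ⟨u, huP, huz, g, hgu⟩ : ∃ u, u ∈ centralizer (P : Set G) ∧ u ≠ z ∧ ∃ g : G, g * z * g⁻¹ = u := by
    obtain ⟨d, hdF, hd⟩ := Finset.exists_subset_card_eq (s := D.points B) (n := 2) (by rw [D.points_card B]; norm_num)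
    have hdA := (D.duad_mem_iff B hd).2 hdF
    have hsd : (d ∆ D.points B).card = 4 := by
      rw [show d ∆ D.points B = D.points B \ d by
        ext q; simp only [Finset.mem_symmDiff, Finset.mem_sdiff]
        exact ⟨fun h => h.elim (fun h => absurd (hdF h.1) h.2) id, Or.inr⟩,
        Finset.card_sdiff_of_subset hdF, D.points_card B, hd]
    have he : B.eS (d ∆ D.points B) = B.eS d * z := by
      rw [B.eS_symmDiff _ _ (by rw [hd]; decide) (by rw [D.points_card B]; decide), D.z_eq B]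
    obtain ⟨g, hg⟩ := isConj_iff.1 (B.four_conj _ hsd)
    refine ⟨B.eS d * z, mul_mem hdA.2 M.z_mem_centP, fun e => ?_, g, he ▸ hg⟩
    have := B.cocode.inj d (by rw [hd]; decide) (by omega) (mul_eq_right.1 e)
    simp [this] at hd
  -- p is conjugate to an element outside P
  obtain ⟨w, hwR, hwP, hpw⟩ : ∃ w ∈ R, w ∉ P ∧ IsConj p w := by
    have hpu : p * u = u * p := (M.mem_centP.1 huP).symm.eq
    have hmem : g⁻¹ * p * g ∈ centralizer ({z} : Set G) := by
      refine mem_centralizer_singleton_iff.2 ?_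
      calc g⁻¹ * p * g * z = g⁻¹ * (p * (g * z * g⁻¹)) * g := by group
        _ = g⁻¹ * (g * z * g⁻¹ * p) * g := by rw [hgu, hpu]
        _ = z * (g⁻¹ * p * g) := by group
    have ho : orderOf (g⁻¹ * p * g) = 3 := by
      have : g⁻¹ * p * g = MulAut.conj g⁻¹ p := by simp
      rw [this, MulEquiv.orderOf_eq, hpo]
    obtain ⟨h, hh, hhle⟩ := F.maximal (zpowers (g⁻¹ * p * g)) (zpowers_le.2 hmem)
      (IsPGroup.of_card (n := 1) (by rw [Nat.card_zpowers, ho]; norm_num))
    set w := h * (g⁻¹ * p * g) * h⁻¹ with hw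
    refine ⟨w, hhle _ (mem_zpowers _), fun hwP => huz ?_, isConj_iff.2 ⟨h * g⁻¹, by simp only [hw]; group⟩⟩
    have hk : h * g⁻¹ ∈ normalizer (P : Set G) := by
      refine mem_normalizer_fintype fun a ha => ?_
      obtain ⟨i, rfl⟩ := mem_zpowers_iff.1 (M.p_gen.ge ha)
      show h * g⁻¹ * p ^ i * (h * g⁻¹)⁻¹ ∈ P
      rw [← conj_zpow, show h * g⁻¹ * p * (h * g⁻¹)⁻¹ = w by simp only [hw]; group]
      exact zpow_mem hwP i
    have hkz := mem_centralizer_singleton_iff.1 (hN hk)
    have hhz := mem_centralizer_singleton_iff.1 hh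
    rw [← hgu]
    calc g * z * g⁻¹ = (h * g⁻¹)⁻¹ * (h * z) * h⁻¹ * (h * g⁻¹) := by group
      _ = (h * g⁻¹)⁻¹ * (z * (h * g⁻¹)) := by rw [hhz]; group
      _ = z := by rw [← hkz]; group
  obtain ⟨S, hS⟩ := F.exists_sylow
  have key : ∀ x : G, orderOf x = 3 → IsConj x w := by
    intro x hx
    obtain ⟨T, hT⟩ := (IsPGroup.of_card (n := 1) (by rw [Nat.card_zpowers, hx]; norm_num) :
      IsPGroup 3 ↥(zpowers x)).exists_le_sylow
    obtain ⟨k, hk⟩ := MulAction.exists_smul_eq G T S
    have hy : k * x * k⁻¹ ∈ R := by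
      rw [← hS, ← hk, Sylow.coe_subgroup_smul]
      exact Subgroup.smul_mem_pointwise_smul _ (MulAut.conj k) _ (hT (mem_zpowers x))
    refine (isConj_iff.2 ⟨k, rfl⟩ : IsConj x (k * x * k⁻¹)).trans ?_
    by_cases hyP : k * x * k⁻¹ ∈ P
    · obtain ⟨i, hi, hi'⟩ := Finset.mem_image.1 (mem_zpowers_iff_mem_range_orderOf.1 (M.p_gen.ge hyP))
      rw [show orderOf (M.pElem : G) = 3 from hpo] at hi
      have := Finset.mem_range.1 hi
      interval_cases i
      · exfalso
        rw [pow_zero, eq_comm, conj_eq_one_iff] at hi'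
        rw [hi', orderOf_one] at hx
        omega
      · rw [← hi', pow_one]; exact hpw
      · rw [← hi']
        obtain ⟨c, hc⟩ := isConj_iff.1 hpw
        have h2 : IsConj (p ^ 2) (w ^ 2) := isConj_iff.2 ⟨c, by rw [← conj_pow, hc]⟩
        refine h2.trans (F.conj_outside M.card_P (R.pow_mem hwR 2) hwR (fun h => hwP ?_) hwP)
        have := mul_mem h h
        rwa [← pow_add, show 2 + 2 = 3 + 1 from rfl, pow_add, F.cube w hwR, one_mul, pow_one] at this
    · exact F.conj_outside M.card_P hy hwR hyP hwP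
  exact fun x y hx hy => (key x hx).trans (key y hy).symm

end Cfsg.Agent.JankoFour
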