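import Cfsg.Agent.Lib.JankoFour.BigData
import Cfsg.Agent.Lib.JankoFour.BigSylow
import Cfsg.Agent.Lib.JankoFour.BigExists
import Cfsg.Agent.Lib.JankoFour.InvolChecks

/-!
The part of the large abelian subgroup centralised by the subgroup of order three, in coordinates.
-/

set_option autoImplicit false

namespace Cfsg.Agent.JankoFour

open Subgroup
open Cfsg.Agent.LargeFischer (QG)
open Cfsg.Agent.J4Module (app elemI)
open Cfsg.Agent.J4Module.Data
open ThreeChk

variable {G : Type*} [Group G] [Finite G] {z : G} {P : Subgroup G}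

namespace Model

variable (M : Model z P)

/-- Columns of the hexad group have length twelve. -/
theorem big_len : ∀ i ∈ 71 :: bigIdx, (elemI i).length = 12 := by decide +kernel

theorem big_lt : ∀ i ∈ 71 :: bigIdx, ∀ c ∈ elemI i, c < 2 ^ 12 := by decide +kernel

theorem p_mem_cent : (M.pElem : G) ∈ centralizer (P : Set G) := by
  refine mem_centralizer_iff.2 fun x hx => ?_
  obtain ⟨k, rfl⟩ := mem_zpowers_iff.1 (M.p_gen.ge hx)
  exact ((Commute.refl (M.pElem : G)).zpow_left k).eq

theorem p_cube : (M.pElem : G) * M.pElem * M.pElem = 1 := by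
  have h : orderOf (M.pElem : G) = 3 := by rw [← Nat.card_zpowers, M.p_gen, M.card_P]
  have h2 := pow_orderOf_eq_one (M.pElem : G)
  rwa [h, pow_succ, pow_two] at h2

include M in
theorem z_mem_centP : z ∈ centralizer (P : Set G) :=
  (M.inf_cent.ge (mem_zpowers z)).2

theorem mem_centP {g : G} : g ∈ centralizer (P : Set G) ↔ Commute g (M.pElem : G) := by
  rw [mem_centralizer_iff]
  constructor
  · exact fun h => (h _ (M.p_gen.le (mem_zpowers (M.pElem : G)))).symm
  · intro h x hx
    obtain ⟨k, rfl⟩ := mem_zpowers_iff.1 (M.p_gen.ge hx)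
    exact ((h.zpow_right k).eq).symm

theorem qg_two : IsPGroup 2 ↥(QG M.Q) :=
  IsPGroup.of_card (n := 13) (by rw [M.ctx.card]; norm_num)

/-- Elements of the centraliser with columns of the hexad group differing by the core. -/
theorem eq_mul_Q {c d : ↥(centralizer ({z} : Set G))} {C : List ℕ} (hc : M.Acts c C) (hd : M.Acts d C) :
    ∃ q ∈ M.Q, d = c * q :=
  ⟨c⁻¹ * d, M.inv_mul_mem hc hd, by group⟩

end Model

namespace BigData

variable {M : Model z P} (D : BigData M)

/-- The part centralised by P. -/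
def fixA : Subgroup G := D.V ⊓ centralizer (P : Set G)

theorem z_mem_fixA : z ∈ D.fixA := ⟨D.z_mem, M.z_mem_centP⟩

theorem fixA_le : D.fixA ≤ centralizer ({z} : Set G) := inf_le_left.trans D.le_cent

theorem comm {a b : G} (ha : a ∈ D.V) (hb : b ∈ D.V) : a * b = b * a := by
  have h1 : a⁻¹ = a := inv_eq_of_mul_eq_one_right (D.sq a ha)
  have h2 : b⁻¹ = b := inv_eq_of_mul_eq_one_right (D.sq b hb)
  have h3 := inv_eq_of_mul_eq_one_right (D.sq _ (mul_mem ha hb))
  rwa [mul_inv_rev, h1, h2, eq_comm] at h3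

theorem v_two : IsPGroup 2 ↥D.V := IsPGroup.of_card (n := 11) (by rw [D.card]; norm_num)

theorem normalizer_QG {c : G} (hc : c ∈ centralizer ({z} : Set G)) :
    c ∈ normalizer ((QG M.Q : Subgroup G) : Set G) :=
  M.ctx.xs.norm hc

/-- A two-group containing the core and the large abelian subgroup. -/
theorem sup_two : IsPGroup 2 ↥(QG M.Q ⊔ D.V : Subgroup G) :=
  M.qg_two.to_sup_of_normal_left' D.v_two fun _ hv => normalizer_QG (D.le_cent hv)

/-- An element of the centraliser whose columns normalise the hexad group normalises V. -/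
theorem mem_normalizer_of_cols {c : ↥(centralizer ({z} : Set G))} {C : List ℕ} (hc : M.Acts c C)
    (hC : ∀ i ∈ 71 :: bigIdx, ∃ j ∈ 71 :: bigIdx, mulC C (elemI i) = mulC (elemI j) C) :
    (c : G) ∈ normalizer (D.V : Set G) := by
  set E := D.V.map (MulAut.conj (c : G)).toMonoidHom with hE
  have hle : E ≤ QG M.Q ⊔ D.V := by
    rintro _ ⟨v, hv, rfl⟩
    obtain ⟨i, hi, hvi⟩ := D.img ⟨v, D.le_cent hv⟩ hv
    obtain ⟨j, hj, e⟩ := hC i hi
    obtain ⟨w, hw, hwj⟩ := D.img_onto j hj
    have h1 := M.acts_mul hc hvi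
    have h2 := M.acts_mul hwj hc
    rw [e] at h1
    obtain ⟨q, hq, hcv⟩ := M.eq_mul_Q h2 h1
    have e' : (MulAut.conj (c : G)) v = (w : G) * ((c : G) * q * (c : G)⁻¹) := by
      have := congrArg Subtype.val hcv
      simp only [Subgroup.coe_mul] at this
      rw [MulAut.conj_apply, this]; group
    show (MulAut.conj (c : G)) v ∈ _
    rw [e']
    refine mul_mem (mem_sup_right hw) (mem_sup_left ?_)
    exact (mem_normalizer_iff.1 (normalizer_QG c.2) _).1 ⟨q, hq, rfl⟩
  have hel : Cfsg.IsElementaryAbelian 2 E := by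
    refine ⟨⟨⟨fun a b => Subtype.ext ?_⟩⟩, fun a ha => ?_⟩
    · obtain ⟨x, hx, ex⟩ := a.2
      obtain ⟨y, hy, ey⟩ := b.2
      show (a : G) * b = b * a
      rw [← ex, ← ey, ← map_mul, ← map_mul, D.comm hx hy]
    · obtain ⟨x, hx, rfl⟩ := ha
      rw [pow_two, ← map_mul, D.sq x hx, map_one]
  have hEV : E = D.V := D.unique _ E D.sup_two le_sup_right hle hel
    (by rw [hE, card_map_of_injective (MulAut.conj (c : G)).injective, D.card])
  exact mem_normalizer_fintype fun v hv => hEV ▸ mem_map_of_mem (MulAut.conj (c : G)).toMonoidHom hv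

theorem p_norm : (M.pElem : G) ∈ normalizer (D.V : Set G) :=
  D.mem_normalizer_of_cols M.p_acts fun i hi => ⟨i, hi, p_big i hi⟩

/-- Every member of the hexad group is induced by an element of V centralised by P. -/
theorem exists_fix (i : ℕ) (hi : i ∈ 71 :: bigIdx) :
    ∃ a : ↥(centralizer ({z} : Set G)), (a : G) ∈ D.fixA ∧ M.Acts a (elemI i) := by
  obtain ⟨w, hw, hwi⟩ := D.img_onto i hi
  set p := (M.pElem : G) with hp
  have hmem : ∀ u ∈ D.V, p * u * p⁻¹ ∈ D.V := fun u hu => (mem_normalizer_iff.1 D.p_norm u).1 hu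
  set u := (w : G) with hu
  set u1 := p * u * p⁻¹
  set u2 := p * u1 * p⁻¹
  have h1 := hmem u hw
  have h2 := hmem u1 h1
  have hfix : p * (u * u1 * u2) * p⁻¹ = u * u1 * u2 := by
    have e3 : p * u2 * p⁻¹ = u := by
      have hc := M.p_cube
      calc p * u2 * p⁻¹ = (p * p * p) * u * (p * p * p)⁻¹ := by simp only [u2, u1]; group
        _ = u := by rw [hc]; group
    calc p * (u * u1 * u2) * p⁻¹ = u1 * u2 * (p * u2 * p⁻¹) := by simp only [u1, u2]; group
      _ = u1 * u2 * u := by rw [e3]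
      _ = u * (u1 * u2) := D.comm (mul_mem h1 h2) hw
      _ = _ := (mul_assoc _ _ _).symm
  refine ⟨⟨u * u1 * u2, D.le_cent (mul_mem (mul_mem hw h1) h2)⟩, ⟨mul_mem (mul_mem hw h1) h2, ?_⟩, ?_⟩
  · show u * u1 * u2 ∈ centralizer (P : Set G)
    rw [M.mem_centP]
    exact (mul_inv_eq_iff_eq_mul.1 hfix).symm
  · -- the conjugates have the same columns
    have key : ∀ v : ↥(centralizer ({z} : Set G)), M.Acts v (elemI i) →
        M.Acts (M.pElem * v * M.pElem⁻¹) (elemI i) := by
      intro v hv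
      have ha := M.acts_mul M.p_acts hv
      have hb := M.acts_mul hv M.p_acts
      rw [p_big i hi] at ha
      refine M.acts_mul_Q hv ?_ (Model.big_len i hi)
      obtain ⟨q, hq, e⟩ := M.eq_mul_Q hb ha
      have e' : v⁻¹ * (M.pElem * v * M.pElem⁻¹) = M.pElem * q * M.pElem⁻¹ := by
        rw [e]; group
      rw [e']
      haveI := M.normal
      exact ‹M.Q.Normal›.conj_mem q hq _
    have ha1 := key w hwi
    have ha2 := key _ ha1
    have hww : M.Acts (w * (M.pElem * w * M.pElem⁻¹)) unitC := by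
      have h := M.acts_mul hwi hwi
      have e : w * w = 1 := Subtype.ext (D.sq _ hw)
      rw [e] at h
      have e2 := M.acts_mul hwi ha1
      have : mulC (elemI i) (elemI i) = unitC :=
        M.acts_unique (by rw [length_mulC]; exact Model.big_len i hi) (by decide) h M.acts_one
      rwa [this] at e2
    have h3 := M.acts_mul hww ha2
    have e3 : mulC unitC (elemI i) = elemI i := by
      refine cols_ext (by rw [length_mulC]; exact Model.big_len i hi) (Model.big_len i hi) fun n hn => ?_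
      rw [app_mulC, app_unitC _ (J4Module.app_lt (k := 12) (Model.big_lt i hi) n)]
    rw [e3] at h3
    exact (show (⟨u * u1 * u2, _⟩ : ↥(centralizer ({z} : Set G))) =
      w * (M.pElem * w * M.pElem⁻¹) * (M.pElem * (M.pElem * w * M.pElem⁻¹) * M.pElem⁻¹) from
        Subtype.ext rfl) ▸ h3

/-- An element centralising P with the columns of a member of V centralised by P is that member, up to z. -/
theorem eq_or_mul_z {c a : ↥(centralizer ({z} : Set G))} (hc : (c : G) ∈ centralizer (P : Set G))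
    (ha : (a : G) ∈ D.fixA) {C : List ℕ} (hcC : M.Acts c C) (haC : M.Acts a C) :
    (c : G) = a ∨ (c : G) = a * z := by
  have h := M.inv_mul_mem haC hcC
  rcases M.cent_Q h (mul_mem (inv_mem ha.2) hc) with e | e
  · exact Or.inl (congrArg Subtype.val (inv_mul_eq_one.1 e).symm)
  · refine Or.inr ?_
    have e' := congrArg Subtype.val (inv_mul_eq_iff_eq_mul.1 e)
    rw [Subgroup.coe_mul] at e'
    exact e'

theorem mem_fixA_of_cols {c : ↥(centralizer ({z} : Set G))} (hc : (c : G) ∈ centralizer (P : Set G))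
    {i : ℕ} (hi : i ∈ 71 :: bigIdx) (hci : M.Acts c (elemI i)) : (c : G) ∈ D.fixA := by
  obtain ⟨a, ha, hai⟩ := D.exists_fix i hi
  rcases D.eq_or_mul_z hc ha hci hai with e | e <;> rw [e]
  exacts [ha, mul_mem ha D.z_mem_fixA]

theorem unit_fix {a : ↥(centralizer ({z} : Set G))} (ha : (a : G) ∈ D.fixA)
    (h : M.Acts a (elemI 71)) : (a : G) = 1 ∨ (a : G) = z := by
  rw [unit_idx] at h
  rcases D.eq_or_mul_z (c := a) (a := 1) ha.2 (one_mem _) h M.acts_one with e | e
  · exact Or.inl e
  · exact Or.inr (by rw [e]; simp)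

/-- There are at most 32 of them. -/
theorem fixA_card_le : Nat.card ↥D.fixA ≤ 32 := by
  classical
  choose f hf hfA using fun i : {i // i ∈ 71 :: bigIdx} => D.exists_fix i.1 i.2
  have hsub : (D.fixA : Set G) ⊆ ((fun i => (f i : G)) '' Set.univ) ∪ ((fun i => (f i : G) * z) '' Set.univ) := by
    intro a ha
    obtain ⟨i, hi, hai⟩ := D.img ⟨a, D.fixA_le ha⟩ ha.1
    rcases D.eq_or_mul_z (c := ⟨a, D.fixA_le ha⟩) ha.2 (hf ⟨i, hi⟩) hai (hfA ⟨i, hi⟩) with e | e
    · exact Or.inl ⟨⟨i, hi⟩, Set.mem_univ _, e.symm⟩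
    · exact Or.inr ⟨⟨i, hi⟩, Set.mem_univ _, e.symm⟩
  have hu : (Set.univ : Set {i // i ∈ 71 :: bigIdx}).ncard ≤ 16 := by
    rw [Set.ncard_univ, Nat.card_eq_fintype_card]
    decide
  have h := (Set.ncard_le_ncard hsub (Set.toFinite _)).trans (Set.ncard_union_le _ _)
  have h1 := Set.ncard_image_le (f := fun i => (f i : G)) (s := Set.univ) Set.finite_univ
  have h2 := Set.ncard_image_le (f := fun i => (f i : G) * z) (s := Set.univ) Set.finite_univ
  rw [← Nat.card_coe_set_eq, SetLike.coe_sort_coe] at h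
  omega

/-- The lifts of the two elements of order five. -/
theorem exists_five (k : Fin 2) : ∃ c : ↥(centralizer ({z} : Set G)), M.Acts c (fiveC k) ∧
    (c : G) ∈ centralizer (P : Set G) ∧ (c : G) ∈ normalizer (D.V : Set G) ∧ (c : G) ∉ D.V ∧
    (c : G) ^ 5 ∈ D.V := by
  obtain ⟨c, hcP, hc⟩ := M.cent_elem _ (fiveC_mem k)
  refine ⟨c, hc, hcP, D.mem_normalizer_of_cols hc fun i hi => ⟨_, five_norm k i hi⟩, fun h => ?_, ?_⟩
  · obtain ⟨i, hi, hci⟩ := D.img c h
    have e := M.acts_unique (gen_length (fiveC_mem k)) (Model.big_len i hi) hc hci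
    exact five_not_big k i hi e
  · have h5 : M.Acts (c ^ 5) unitC := by
      have e := (five_order k).1
      have := M.acts_mul hc (M.acts_mul hc (M.acts_mul hc (M.acts_mul hc hc)))
      rw [e] at this
      rwa [show c ^ 5 = c * (c * (c * (c * c))) by simp only [pow_succ, pow_zero, one_mul, mul_assoc]]
    have hQ : c ^ 5 ∈ M.Q := M.mem_Q _ h5
    rw [← Subgroup.coe_pow]
    rcases M.cent_Q hQ (by rw [Subgroup.coe_pow]; exact pow_mem hcP 5) with e | e <;> rw [e]
    · exact one_mem _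
    · exact D.z_mem

include D in
theorem five_conj {k : Fin 2} {c a : ↥(centralizer ({z} : Set G))} (hc : M.Acts c (fiveC k))
    {i : ℕ} (hi : i ∈ 71 :: bigIdx) (hai : M.Acts a (elemI i)) :
    M.Acts (c * a * c⁻¹) (elemI (fivePerm k i)) := by
  obtain ⟨hj, e⟩ := five_norm k i hi
  obtain ⟨b, hb, hbj⟩ := D.img_onto _ hj
  have h1 := M.acts_mul hc hai
  have h2 := M.acts_mul hbj hc
  rw [e] at h1
  obtain ⟨q, hq, eq⟩ := M.eq_mul_Q h2 h1
  refine M.acts_mul_Q hbj ?_ (Model.big_len _ hj)
  rw [show b⁻¹ * (c * a * c⁻¹) = c * q * c⁻¹ by rw [eq]; group]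
  haveI := M.normal
  exact ‹M.Q.Normal›.conj_mem q hq _

end BigData

end Cfsg.Agent.JankoFour
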