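import Cfsg.Agent.Lib.Golay.Index276
import Cfsg.Agent.Lib.Golay.Cosets

/-!
Fixed points of commuting elements of orders three and five in M24.
-/

set_option autoImplicit false

namespace Cfsg.Agent.JankoFour.ThreeGolay

open Cfsg
open Cfsg.Agent.Golay Cfsg.Agent.Golay.Index276
open scoped Pointwise

/-- The fixed points. -/
def fixSet (x : M24) : Finset GolayPt := Finset.univ.filter fun q => x • q = q

theorem mem_fixSet {x : M24} {q : GolayPt} : q ∈ fixSet x ↔ x • q = q := by simp [fixSet]

theorem smul_mem_fixSet {x y : M24} (h : Commute x y) (q : GolayPt) : y • q ∈ fixSet x ↔ q ∈ fixSet x := by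
  rw [mem_fixSet, mem_fixSet, smul_smul, h.eq, mul_smul]
  exact ⟨fun e => MulAction.injective y e, fun e => by rw [e]⟩

/-- The number of fixed points is congruent to the size of a stable set. -/
theorem modEq {q : ℕ} [Fact q.Prime] {x : M24} (hx : x ^ q = 1) {s : Finset GolayPt}
    (hs : ∀ p, x • p ∈ s ↔ p ∈ s) : s.card ≡ (s ∩ fixSet x).card [MOD q] := by
  have h := modEq_fixed hx hs
  convert h using 2
  congr 1
  ext p
  simp [mem_fixSet]

theorem eq_one_of_all {x : M24} (h : (fixSet x).card = 24) : x = 1 := by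
  have he : fixSet x = Finset.univ := Finset.eq_univ_of_card _ (by rw [h]; rfl)
  refine Subtype.ext (Equiv.ext fun q => ?_)
  exact mem_fixSet.1 (he ▸ Finset.mem_univ q)

theorem card_le (x : M24) : (fixSet x).card ≤ 24 :=
  (Finset.card_le_univ _).trans_eq rfl

/-- An element of order five does not fix exactly nine points. -/
theorem five_not_nine {y : M24} (hy : y ^ 5 = 1) : (fixSet y).card ≠ 9 := by
  classical
  haveI : Fact (Nat.Prime 5) := ⟨Nat.prime_five⟩
  intro h9
  have key : ∀ s ⊆ fixSet y, s.card = 5 → ∃ o ∈ octads, s ⊆ o ∧ o ⊆ fixSet y := by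
    intro s hs hc
    obtain ⟨o, ⟨ho, hso⟩, huniq⟩ := isSteinerSystem_octads.2 s hc
    have hyo : y.1 • o = o := by
      refine huniq _ ⟨smul_mem_octads y.2 ho, fun q hq => ?_⟩
      rw [Finset.mem_smul_finset]
      exact ⟨q, hso hq, mem_fixSet.1 (hs hq)⟩
    have hst : ∀ p, y • p ∈ o ↔ p ∈ o := fun p => by
      conv_lhs => rw [← hyo]
      exact Finset.smul_mem_smul_finset_iff y.1
    have hm := modEq hy hst
    have h8 : o.card = 8 := card_octad ho
    have h5 : 5 ≤ (o ∩ fixSet y).card :=
      hc ▸ Finset.card_le_card (Finset.subset_inter hso hs)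
    have hle : (o ∩ fixSet y).card ≤ 8 := h8 ▸ Finset.card_le_card Finset.inter_subset_left
    have heq : (o ∩ fixSet y).card = o.card := by
      rw [h8] at hm ⊢
      unfold Nat.ModEq at hm
      omega
    exact ⟨o, ho, hso, fun q hq =>
      (Finset.mem_inter.1 ((Finset.eq_of_subset_of_card_le Finset.inter_subset_left heq.ge).symm ▸ hq)).2⟩
  obtain ⟨s, hs, hsc⟩ := Finset.exists_subset_card_eq (s := fixSet y) (n := 5) (by omega)
  obtain ⟨o, ho, -, hoF⟩ := key s hs hsc
  obtain ⟨q, hq, hqo⟩ : ∃ q ∈ fixSet y, q ∉ o := by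
    by_contra h
    push Not at h
    have := Finset.card_le_card h
    rw [card_octad ho, h9] at this
    omega
  obtain ⟨t, ht, htc⟩ := Finset.exists_subset_card_eq (s := o) (n := 4) (by rw [card_octad ho]; norm_num)
  obtain ⟨o', ho', hso', hoF'⟩ := key (insert q t)
    (Finset.insert_subset hq (ht.trans hoF))
    (by rw [Finset.card_insert_of_notMem (fun h => hqo (ht h)), htc])
  have hne : o ≠ o' := fun e => hqo (e ▸ hso' (Finset.mem_insert_self q t))
  have h4 : (o ∩ o').card ≤ 4 := by
    by_contra h
    exact hne (octad_unique ho ho' (by omega))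
  have hu : (o ∪ o').card ≤ 9 := h9 ▸ Finset.card_le_card (Finset.union_subset hoF hoF')
  have h1 := Finset.card_union_add_card_inter o o'
  rw [card_octad ho, card_octad ho'] at h1
  omega

/-- An element of order three commuting with one of order five fixes some point. -/
theorem three_fix_nonempty {x y : M24} (hx : x ^ 3 = 1) (hy : y ^ 5 = 1) (hy1 : y ≠ 1) (hxy : Commute x y) :
    (fixSet x).Nonempty := by
  haveI : Fact (Nat.Prime 3) := ⟨Nat.prime_three⟩
  haveI : Fact (Nat.Prime 5) := ⟨Nat.prime_five⟩
  have h24 := modEq hy (s := Finset.univ) (by simp)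
  rw [Finset.univ_inter, Finset.card_univ, show Fintype.card GolayPt = 24 from rfl] at h24
  have hm := modEq hx (s := fixSet y) (fun p => smul_mem_fixSet hxy.symm p)
  have hle := card_le y
  have h9 := five_not_nine hy
  have hne24 : (fixSet y).card ≠ 24 := fun h => hy1 (eq_one_of_all h)
  by_contra hemp
  rw [Finset.not_nonempty_iff_eq_empty] at hemp
  rw [hemp, Finset.inter_empty, Finset.card_empty] at hm
  unfold Nat.ModEq at h24 hm
  omega

theorem card_fix_mod_three {x : M24} (hx : x ^ 3 = 1) : (fixSet x).card % 3 = 0 := by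
  haveI : Fact (Nat.Prime 3) := ⟨Nat.prime_three⟩
  have h := modEq hx (s := Finset.univ) (by simp)
  rw [Finset.univ_inter, Finset.card_univ, show Fintype.card GolayPt = 24 from rfl] at h
  unfold Nat.ModEq at h
  omega

/-- An element whose fifth power is trivial fixes a stable set of at most four points pointwise. -/
theorem five_fix_small {y : M24} (hy : y ^ 5 = 1) {s : Finset GolayPt} (hs : ∀ p, y • p ∈ s ↔ p ∈ s)
    (h4 : s.card ≤ 4) : ∀ q ∈ s, y • q = q := by
  haveI : Fact (Nat.Prime 5) := ⟨Nat.prime_five⟩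
  have h := modEq hy hs
  have hle := Finset.card_le_card (Finset.inter_subset_left : s ∩ fixSet y ⊆ s)
  unfold Nat.ModEq at h
  have heq : (s ∩ fixSet y).card = s.card := by omega
  intro q hq
  have := (Finset.eq_of_subset_of_card_le Finset.inter_subset_left heq.ge).symm ▸ hq
  exact mem_fixSet.1 (Finset.mem_inter.1 this).2

end Cfsg.Agent.JankoFour.ThreeGolay
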