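import Cfsg.Agent.Lib.JankoFour.ThreeCent
import Cfsg.Agent.Lib.JankoFour.M22Three
import Cfsg.Agent.Lib.Fusion.SmallCentreOdd

/-!
The Sylow 3-subgroup of the centraliser of the involution and its normaliser.
-/

set_option autoImplicit false
set_option linter.style.haveILetI false

namespace Cfsg.Agent.JankoFour

open Subgroup
open scoped Pointwise commutatorElement
open Cfsg.Agent.LargeFischer (QG)

/-- A non-abelian group of order 27 is extraspecial. -/
theorem extraspecial_of_card_27 {A : Type*} [Group A] [Finite A] (hcard : Nat.card A = 27)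
    (hna : ∃ a b : A, a * b ≠ b * a) : Cfsg.IsExtraspecial 3 A := by
  haveI : Fact (Nat.Prime 3) := ⟨Nat.prime_three⟩
  have hA : IsPGroup 3 A := IsPGroup.of_card (n := 3) (by rw [hcard]; norm_num)
  haveI : Nontrivial A := Finite.one_lt_card_iff_nontrivial.1 (by rw [hcard]; norm_num)
  obtain ⟨i, hi⟩ := IsPGroup.iff_card.1 (hA.to_subgroup (center A))
  have hd := (center A).card_subgroup_dvd_card
  rw [hcard, hi, show (27 : ℕ) = 3 ^ 3 from rfl] at hd
  have hi3 := (Nat.pow_dvd_pow_iff_le_right (by norm_num : 1 < 3)).1 hd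
  have hi0 : i ≠ 0 := fun e => hA.bot_lt_center.ne' (card_eq_one.1 (by rw [hi, e, pow_zero]))
  obtain ⟨a, b, hab⟩ := hna
  have hprod := (center A).card_mul_index
  rw [hi, hcard, index_eq_card] at hprod
  have hi1 : i = 1 := by
    rcases (by omega : i = 1 ∨ i = 2 ∨ i = 3) with h | h | h
    · exact h
    · exfalso
      subst h
      haveI : IsCyclic (A ⧸ center A) := isCyclic_of_prime_card (p := 3) (by omega)
      exact hab (commutative_of_cyclic_center_quotient (QuotientGroup.mk' (center A)) (by rw [QuotientGroup.ker_mk']) a b)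
    · exfalso
      subst h
      have : center A = ⊤ := eq_top_of_card_eq _ (by rw [hi, hcard]; norm_num)
      exact hab (mem_center_iff.1 (this ▸ mem_top b) a)
  subst hi1
  refine FusionSys.isExtraspecial_of_card_cube hA (by rw [hcard]; norm_num) (by rw [hi]; norm_num) fun x y => ?_
  have hq : Nat.card (A ⧸ center A) = 3 ^ 2 := by omega
  letI := IsPGroup.commGroupOfCardEqPrimeSq hq
  rw [← QuotientGroup.eq_one_iff]
  show QuotientGroup.mk' (center A) ⁅x, y⁆ = 1
  rw [map_commutatorElement, commutatorElement_eq_one_iff_mul_comm]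
  exact mul_comm _ _

/-- An element of a perfect-type intersection: a central element of an abelian Sylow subgroup outside the derived
subgroup. -/
theorem central_not_mem_commutator {A : Type*} [Group A] [Finite A] {p : ℕ} [Fact p.Prime] (T : Sylow p A)
    (hT : ∀ x ∈ (T : Subgroup A), ∀ y ∈ (T : Subgroup A), x * y = y * x) {x : A} (hx : x ∈ (T : Subgroup A))
    (hxc : x ∈ center A) (hxd : x ∈ commutator A) : x = 1 := by
  haveI : IsMulCommutative ↥(T : Subgroup A) := ⟨⟨fun a b => Subtype.ext (hT a a.2 b b.2)⟩⟩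
  letI : CommGroup ↥(T : Subgroup A) := { mul_comm := fun a b => Subtype.ext (hT a a.2 b b.2) }
  have key : ∀ (k : ℕ) (g₀ : A), g₀⁻¹ * x ^ k * g₀ ∈ (T : Subgroup A) → g₀⁻¹ * x ^ k * g₀ = x ^ k := fun k g₀ _ => by
    have h := mem_center_iff.1 (pow_mem hxc k) g₀
    rw [mul_assoc, ← h, inv_mul_cancel_left]
  have h1 := MonoidHom.transfer_eq_pow (H := (T : Subgroup A)) (MonoidHom.id ↥(T : Subgroup A)) x key
  have h0 : MonoidHom.transfer (MonoidHom.id ↥(T : Subgroup A)) x = 1 :=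
    MonoidHom.mem_ker.1 (Abelianization.commutator_subset_ker _ hxd)
  rw [h0] at h1
  have h2 : x ^ (T : Subgroup A).index = 1 := (congrArg Subtype.val h1).symm
  obtain ⟨k, hk⟩ := (T.isPGroup' ⟨x, hx⟩)
  have hk' : x ^ p ^ k = 1 := congrArg Subtype.val hk
  rw [← orderOf_eq_one_iff]
  exact Nat.eq_one_of_dvd_coprimes
    (((Fact.out : p.Prime).coprime_iff_not_dvd.2 T.not_dvd_index).pow_left k)
    (orderOf_dvd_of_pow_eq_one hk') (orderOf_dvd_of_pow_eq_one h2)

universe u

variable {G : Type u} [Group G] [Finite G] {z : G} {P : Subgroup G}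

/-- What is proved about a Sylow 3-subgroup of the centraliser. -/
structure ThreeFacts (z : G) (P R : Subgroup G) : Prop where
  le_cent : R ≤ centralizer ({z} : Set G)
  le_centP : R ≤ centralizer (P : Set G)
  p_le : P ≤ R
  card : Nat.card ↥R = 27
  nonabelian : ∃ a ∈ R, ∃ b ∈ R, a * b ≠ b * a
  cube : ∀ a ∈ R, a ^ 3 = 1
  norm_le : normalizer (R : Set G) ≤ centralizer ({z} : Set G)
  norm_card : Nat.card ↥(normalizer (R : Set G)) = 864
  maximal : ∀ T : Subgroup G, T ≤ centralizer ({z} : Set G) → IsPGroup 3 ↥T →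
    ∃ h ∈ centralizer ({z} : Set G), ∀ x ∈ T, h * x * h⁻¹ ∈ R
  conj_three : ∀ x ∈ R, ∀ y ∈ R, x ∉ P → y ∉ P → ∃ g : G, g * x * g⁻¹ * y⁻¹ ∈ P

theorem exists_three_facts (hJ : Cfsg.IsOfJankoFourTypeWith z P) {M : Model z P} (D : BigData M)
    (B : BigPack z D.V)
    (hzC : z ∈ ⁅centralizer ({z} : Set G) ⊓ centralizer (P : Set G), centralizer ({z} : Set G) ⊓ centralizer (P : Set G)⁆) :
    ∃ R : Subgroup G, ThreeFacts z P R := by
  classical
  haveI : Fact (Nat.Prime 3) := ⟨Nat.prime_three⟩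
  haveI : Fact (Nat.Prime 2) := ⟨Nat.prime_two⟩
  obtain ⟨-, -, -, -, hNP⟩ := order_three_centralizer hJ D B hzC
  obtain ⟨S⟩ := exists_shape hJ
  have hne := hJ.2.2.2.2.2.2.2.1
  have hPC' := hJ.2.2.2.2.2.2.2.2
  have hz2 : z * z = 1 := M.ctx.xs.sq
  set C := centralizer ({z} : Set G) ⊓ centralizer (P : Set G) with hC
  obtain ⟨φ, hφ, hker⟩ : ∃ φ : ↥C →* ↥Cfsg.Spor.M22, Function.Surjective φ ∧
      ∀ c, φ c = 1 ↔ ∃ a ∈ P, ∃ s ∈ zpowers z, (c : G) = a * s := exists_onto S
  set p := (M.pElem : G) with hp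
  have hpo : orderOf p = 3 := by rw [← Nat.card_zpowers, M.p_gen, M.card_P]
  have hzo : orderOf z = 2 := hJ.1
  have hpz : Commute p z := mem_centralizer_singleton_iff.1 M.pElem.2
  have hP3 : ∀ a ∈ P, a ^ 3 = 1 := fun a ha => by
    have := Subgroup.orderOf_dvd_natCard P ha
    rw [M.card_P] at this
    exact orderOf_dvd_iff_pow_eq_one.1 this
  have hPC : P ≤ C := fun a ha => by
    rw [← M.p_gen] at ha
    exact zpowers_le.2 (show p ∈ C from ⟨M.pElem.2, M.p_mem_cent⟩) ha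
  have hzC0 : z ∈ C := ⟨mem_centralizer_singleton_iff.2 rfl, M.z_mem_centP⟩
  -- the kernel
  have hk6 : Nat.card ↥φ.ker = 6 := by
    let f : ↥P × ↥(zpowers z) → ↥φ.ker := fun x => ⟨⟨(x.1 : G) * x.2, mul_mem (hPC x.1.2) (zpowers_le.2 hzC0 x.2.2)⟩,
      MonoidHom.mem_ker.2 ((hker _).2 ⟨x.1, x.1.2, x.2, x.2.2, rfl⟩)⟩
    have hb : Function.Bijective f := by
      refine ⟨fun x y h => ?_, fun c => ?_⟩
      · have e : (x.1 : G) * x.2 = y.1 * y.2 := congrArg (fun c : ↥φ.ker => ((c : ↥C) : G)) h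
        have e2 : (y.1 : G)⁻¹ * x.1 = y.2 * (x.2 : G)⁻¹ := by
          rw [eq_mul_inv_iff_mul_eq, mul_assoc, e, inv_mul_cancel_left]
        have hd1 : orderOf ((y.1 : G)⁻¹ * x.1) ∣ 3 :=
          orderOf_dvd_of_pow_eq_one (hP3 _ (P.mul_mem (P.inv_mem y.1.2) x.1.2))
        have hd2 : orderOf ((y.1 : G)⁻¹ * x.1) ∣ 2 := by
          rw [e2, ← hzo, ← Nat.card_zpowers z]
          exact Subgroup.orderOf_dvd_natCard _ ((zpowers z).mul_mem y.2.2 ((zpowers z).inv_mem x.2.2))
        have h1 := orderOf_eq_one_iff.1 (Nat.eq_one_of_dvd_coprimes (by norm_num : Nat.Coprime 3 2) hd1 hd2)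
        refine Prod.ext (Subtype.ext (inv_mul_eq_one.1 h1).symm) (Subtype.ext ?_)
        rw [h1] at e2
        exact (mul_inv_eq_one.1 e2.symm).symm
      · obtain ⟨a, ha, s, hs, e⟩ := (hker c).1 (MonoidHom.mem_ker.1 c.2)
        exact ⟨(⟨a, ha⟩, ⟨s, hs⟩), Subtype.ext (Subtype.ext e.symm)⟩
    rw [← Nat.card_congr (Equiv.ofBijective f hb), Nat.card_prod, M.card_P, Nat.card_zpowers, hzo]
  have hcardC : Nat.card ↥C = 443520 * 6 := by
    rw [φ.ker.card_eq_card_quotient_mul_card_subgroup, hk6,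
      Nat.card_congr (QuotientGroup.quotientKerEquivOfSurjective φ hφ).toEquiv, Golay.card_sporM22]
  have hcomap : ∀ K : Subgroup ↥Cfsg.Spor.M22, Nat.card ↥(K.comap φ) = 6 * Nat.card ↥K := fun K => by
    have h1 := (K.comap φ).card_mul_index
    have h2 := K.card_mul_index
    rw [index_comap_of_surjective K hφ, hcardC] at h1
    rw [Golay.card_sporM22] at h2
    have h0 : K.index ≠ 0 := index_ne_zero_of_finite
    refine Nat.eq_of_mul_eq_mul_right (Nat.pos_of_ne_zero h0) ?_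
    rw [h1, mul_assoc, h2, mul_comm]
  -- the Sylow subgroup
  set K := M22Three.R.comap φ with hK
  have hKcard : Nat.card ↥K = 54 := by rw [hK, hcomap, M22Three.card_R]
  obtain ⟨T⟩ : Nonempty (Sylow 3 ↥K) := inferInstance
  have hTcard : Nat.card ↥(T : Subgroup ↥K) = 27 := by
    rw [T.card_eq_multiplicity, hKcard, show (54 : ℕ) = 2 * 3 ^ 3 by norm_num,
      Nat.factorization_mul (by norm_num) (by norm_num), Nat.Prime.factorization_pow Nat.prime_three]
    simp [Nat.prime_two.factorization]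
  have hTidx : (T : Subgroup ↥K).index = 2 := by
    have := (T : Subgroup ↥K).card_mul_index
    rw [hTcard, hKcard] at this
    omega
  haveI hTn : (T : Subgroup ↥K).Normal := normal_of_index_eq_two hTidx
  have hmemT : ∀ c : ↥K, c ∈ (T : Subgroup ↥K) ↔ c ^ 27 = 1 := fun c => by
    constructor
    · intro hc
      have := Subgroup.orderOf_dvd_natCard _ hc
      rw [hTcard] at this
      exact orderOf_dvd_iff_pow_eq_one.1 this
    · intro hc
      rw [← QuotientGroup.eq_one_iff, ← orderOf_eq_one_iff]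
      refine Nat.eq_one_of_dvd_coprimes (by norm_num : Nat.Coprime 27 2) (orderOf_dvd_of_pow_eq_one ?_) ?_
      · rw [← QuotientGroup.mk_pow, hc, QuotientGroup.mk_one]
      · rw [← hTidx, index_eq_card]; exact orderOf_dvd_natCard _
  set R0 : Subgroup ↥C := (T : Subgroup ↥K).map K.subtype with hR0
  have hmemR0 : ∀ c : ↥C, c ∈ R0 ↔ φ c ∈ M22Three.R ∧ c ^ 27 = 1 := fun c => by
    constructor
    · rintro ⟨d, hd, rfl⟩
      exact ⟨d.2, congrArg Subtype.val ((hmemT d).1 hd)⟩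
    · rintro ⟨h1, h2⟩
      exact ⟨⟨c, h1⟩, (hmemT _).2 (Subtype.ext h2), rfl⟩
  have hR0card : Nat.card ↥R0 = 27 := by rw [hR0, card_map_of_injective K.subtype_injective, hTcard]
  have hR0p : IsPGroup 3 ↥R0 := IsPGroup.of_card (n := 3) (by rw [hR0card]; norm_num)
  have hR0max : ∀ U : Subgroup ↥C, IsPGroup 3 ↥U → R0 ≤ U → U = R0 := fun U hU hle => by
    refine (eq_of_le_of_card_ge hle ?_).symm
    obtain ⟨n, hn⟩ := hU.exists_card_eq
    have hd := U.card_subgroup_dvd_card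
    rw [hn, hcardC] at hd
    have : n ≤ 3 := by
      by_contra h
      exact absurd ((pow_dvd_pow 3 (show 4 ≤ n by omega)).trans hd) (by norm_num)
    rw [hn, hR0card]
    calc 3 ^ n ≤ 3 ^ 3 := Nat.pow_le_pow_right (by norm_num) this
      _ = 27 := by norm_num
  let TS : Sylow 3 ↥C := ⟨R0, hR0p, fun hU hle => hR0max _ hU hle⟩
  have hPR0 : ∀ a (ha : a ∈ P), (⟨a, hPC ha⟩ : ↥C) ∈ R0 := fun a ha => by
    refine (hmemR0 _).2 ⟨?_, Subtype.ext ?_⟩
    · rw [(hker ⟨a, hPC ha⟩).2 ⟨a, ha, 1, one_mem _, (mul_one a).symm⟩]; exact one_mem _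
    · show a ^ 27 = 1
      rw [show 27 = 3 * 9 from rfl, pow_mul, hP3 a ha, one_pow]
  have hPcen : ∀ a (ha : a ∈ P), (⟨a, hPC ha⟩ : ↥C) ∈ center ↥C := fun a ha =>
    mem_center_iff.2 fun c => Subtype.ext (mem_centralizer_iff.1 c.2.2 a ha).symm
  -- not abelian
  have hna : ∃ a ∈ R0, ∃ b ∈ R0, a * b ≠ b * a := by
    by_contra h
    push Not at h
    have hpd : (⟨p, hPC (M.p_gen ▸ mem_zpowers p)⟩ : ↥C) ∈ commutator ↥C := by
      have : p ∈ (commutator ↥C).map C.subtype := by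
        rw [_root_.commutator_def, map_commutator, ← MonoidHom.range_eq_map, range_subtype]
        exact hPC' (M.p_gen ▸ mem_zpowers p)
      obtain ⟨d, hd, e⟩ := this
      exact (show d = ⟨p, _⟩ from Subtype.ext e) ▸ hd
    have hpP : p ∈ P := M.p_gen ▸ mem_zpowers p
    have := central_not_mem_commutator TS h (hPR0 p hpP) (hPcen p hpP) hpd
    have e : p = 1 := congrArg Subtype.val this
    rw [e, orderOf_one] at hpo
    omega
  have hXR : Cfsg.IsExtraspecial 3 ↥R0 := extraspecial_of_card_27 hR0card (by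
    obtain ⟨a, ha, b, hb, hab⟩ := hna
    exact ⟨⟨a, ha⟩, ⟨b, hb⟩, fun e => hab (congrArg Subtype.val e)⟩)
  have hZ : ∀ c ∈ R0, (∀ d ∈ R0, d * c = c * d) → (c : G) ∈ P := by
    have hPZ : (P.comap C.subtype).subgroupOf R0 ≤ center ↥R0 := fun c hc => mem_center_iff.2 fun d =>
      Subtype.ext (mem_center_iff.1 (hPcen _ (mem_comap.1 (mem_subgroupOf.1 hc))) d)
    have hPcard : Nat.card ↥((P.comap C.subtype).subgroupOf R0) = 3 := by
      rw [Nat.card_congr (subgroupOfEquivOfLe (show P.comap C.subtype ≤ R0 from fun c hc => hPR0 (c : G) (mem_comap.1 hc))).toEquiv,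
        ← M.card_P]
      exact Nat.card_congr (subgroupOfEquivOfLe hPC).toEquiv
    have heq : (P.comap C.subtype).subgroupOf R0 = center ↥R0 :=
      eq_of_le_of_card_ge hPZ (by rw [hPcard, hXR.2])
    intro c hc hall
    have : (⟨c, hc⟩ : ↥R0) ∈ center ↥R0 := mem_center_iff.2 fun d => Subtype.ext (hall d d.2)
    rw [← heq] at this
    exact mem_comap.1 (mem_subgroupOf.1 this)
  -- cubes
  have hsqz : ∀ s ∈ zpowers z, s ^ 2 = 1 := fun s hs => by
    have := Subgroup.orderOf_dvd_natCard _ hs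
    rw [Nat.card_zpowers, hzo] at this
    exact orderOf_dvd_iff_pow_eq_one.1 this
  have hP_of_ker : ∀ c ∈ R0, φ c = 1 → (c : G) ∈ P := by
    intro c hc h1
    obtain ⟨a, ha, s, hs, e⟩ := (hker c).1 h1
    have hcs : (a⁻¹ * c : G) = s := by rw [e]; group
    have hmem : (⟨a, hPC ha⟩⁻¹ * c : ↥C) ∈ R0 := R0.mul_mem (R0.inv_mem (hPR0 a ha)) hc
    have h27 : s ^ 27 = 1 := by
      rw [← hcs]
      exact congrArg Subtype.val ((hmemR0 _).1 hmem).2
    have hs1 : s = 1 := by
      rw [show 27 = 2 * 13 + 1 from rfl, pow_add, pow_mul, hsqz s hs, one_pow, one_mul, pow_one] at h27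
      exact h27
    rw [e, hs1, mul_one]; exact ha
  have hcube0 : ∀ c ∈ R0, ((c : G)) ^ 3 ∈ P := fun c hc => by
    refine hP_of_ker (c ^ 3) (R0.pow_mem hc 3) ?_
    rw [map_pow]; exact M22Three.R_cube ((hmemR0 c).1 hc).1
  have hcomm : ∀ c ∈ R0, ∀ d ∈ R0, ((c⁻¹ * d⁻¹ * c * d : ↥C) : G) ∈ P := fun c hc d hd => by
    refine hP_of_ker _ (R0.mul_mem (R0.mul_mem (R0.mul_mem (R0.inv_mem hc) (R0.inv_mem hd)) hc) hd) ?_
    have := M22Three.R_comm (M22Three.R.inv_mem ((hmemR0 c).1 hc).1) (M22Three.R.inv_mem ((hmemR0 d).1 hd).1)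
    rw [map_mul, map_mul, map_mul, map_inv, map_inv, this]
    group
  have hhom : ∀ c ∈ R0, ∀ d ∈ R0, ((c * d : ↥C) : G) ^ 3 = (c : G) ^ 3 * (d : G) ^ 3 := by
    intro c hc d hd
    set k := ((d⁻¹ * c⁻¹ * d * c : ↥C) : G) with hk
    have hkP : k ∈ P := hcomm d hd c hc
    have hk3 := hP3 k hkP
    have hkc : ∀ x : ↥C, Commute (x : G) k := fun x => (mem_centralizer_iff.1 x.2.2 k hkP).symm
    have e : (d : G) * c = c * d * k := by simp [hk]; group
    show ((c : G) * d) ^ 3 = _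
    have s1 : ((c : G) * d) ^ 2 = c ^ 2 * d ^ 2 * k := by
      calc ((c : G) * d) ^ 2 = c * (d * c) * d := by rw [pow_two]; group
        _ = c * c * d * (k * d) := by rw [e]; group
        _ = c * c * d * (d * k) := by rw [(hkc d).eq]
        _ = _ := by rw [pow_two, pow_two]; group
    have e2 : (d : G) ^ 2 * c = c * d ^ 2 * k ^ 2 := by
      calc (d : G) ^ 2 * c = d * (d * c) := by rw [pow_two]; group
        _ = d * (c * d * k) := by rw [e]
        _ = (d * c) * d * k := by group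
        _ = c * d * (k * d) * k := by rw [e]; group
        _ = c * d * (d * k) * k := by rw [(hkc d).eq]
        _ = _ := by rw [pow_two, pow_two]; group
    calc ((c : G) * d) ^ 3 = (c * d) ^ 2 * (c * d) := pow_succ _ _
      _ = c ^ 2 * d ^ 2 * (k * c) * d := by rw [s1]; group
      _ = c ^ 2 * (d ^ 2 * c) * (k * d) := by rw [← (hkc c).eq]; group
      _ = c ^ 2 * (c * d ^ 2 * k ^ 2) * (d * k) := by rw [e2, (hkc d).eq]
      _ = c ^ 2 * c * d ^ 2 * (k ^ 2 * d) * k := by group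
      _ = c ^ 2 * c * d ^ 2 * (d * k ^ 2) * k := by rw [((hkc d).pow_right 2).eq]
      _ = c ^ 3 * d ^ 3 * k ^ 3 := by rw [pow_succ (c : G) 2, pow_succ (d : G) 2, pow_succ k 2]; group
      _ = _ := by rw [hk3, mul_one]
  obtain ⟨x, hx, hxP, hx3⟩ : ∃ x ∈ R0, (x : G) ∉ P ∧ (x : G) ^ 3 = 1 := by
    let f : ↥R0 →* ↥P :=
      { toFun := fun c => ⟨((c : ↥C) : G) ^ 3, hcube0 _ c.2⟩
        map_one' := Subtype.ext (one_pow 3)
        map_mul' := fun c d => Subtype.ext (hhom _ c.2 _ d.2) }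
    have h1 := f.ker.card_eq_card_quotient_mul_card_subgroup
    rw [hR0card] at h1
    have h2 : Nat.card (↥R0 ⧸ f.ker) ≤ 3 := by
      rw [Nat.card_congr (QuotientGroup.quotientKerEquivRange f).toEquiv, ← M.card_P]
      exact card_le_card_group _
    by_contra hall
    push Not at hall
    have h3 : Nat.card ↥f.ker ≤ 3 := by
      rw [← M.card_P]
      refine Nat.card_le_card_of_injective
        (fun c : ↥f.ker => (⟨((c : ↥R0) : ↥C), by
          by_contra hc
          exact hall _ (c : ↥R0).2 hc (congrArg Subtype.val (MonoidHom.mem_ker.1 c.2))⟩ : ↥P)) ?_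
      intro c d h
      exact Subtype.ext (Subtype.ext (Subtype.ext (congrArg (fun x : ↥P => (x : G)) h)))
    nlinarith
  have ord3 : ∀ c ∈ R0, (c : G) ∉ P → orderOf (φ c) = 3 := fun c hc hcP => by
    refine orderOf_eq_prime ?_ fun h => hcP (hP_of_ker c hc h)
    exact M22Three.R_cube ((hmemR0 c).1 hc).1
  have hconj : ∀ c ∈ R0, ∀ d ∈ R0, (c : G) ∉ P → (d : G) ∉ P →
      ∃ g : ↥C, ((g * c * g⁻¹ * d⁻¹ : ↥C) : G) ∈ P ∨
        ((g * c * g⁻¹ * d⁻¹ : ↥C) : G) * z ∈ P := by
    intro c hc d hd hcP hdP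
    obtain ⟨g, hg⟩ := isConj_iff.1 (M22Three.conj_three (ord3 c hc hcP) (ord3 d hd hdP))
    obtain ⟨g, rfl⟩ := hφ g
    have h1 : φ (g * c * g⁻¹ * d⁻¹) = 1 := by rw [map_mul, map_mul, map_mul, map_inv, hg, map_inv, mul_inv_cancel]
    obtain ⟨a, ha, s, hs, e⟩ := (hker _).1 h1
    obtain ⟨i, rfl⟩ := hs
    refine ⟨g, ?_⟩
    rcases Int.even_or_odd i with ⟨j, rfl⟩ | ⟨j, rfl⟩
    · left
      rw [e]
      show a * z ^ (j + j) ∈ P
      rw [zpow_add, ← Commute.mul_zpow (Commute.refl z), hz2, one_zpow, mul_one]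
      exact ha
    · right
      rw [e]
      show a * z ^ (2 * j + 1) * z ∈ P
      rw [zpow_add, zpow_mul, zpow_two, hz2, one_zpow, one_mul, zpow_one, mul_assoc, hz2, mul_one]
      exact ha
  -- exponent three
  have hcube : ∀ c ∈ R0, (c : G) ^ 3 = 1 := by
    intro c hc
    by_cases hcP : (c : G) ∈ P
    · exact hP3 _ hcP
    obtain ⟨g, hg⟩ := hconj x hx c hc hxP hcP
    set w := ((g * x * g⁻¹ * c⁻¹ : ↥C) : G) with hw
    have hcx : (c : G) = w⁻¹ * ((g : G) * x * (g : G)⁻¹) := by simp [hw]; group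
    have hwc : Commute w⁻¹ ((g : G) * x * (g : G)⁻¹) := by
      have hm : (g : G) * x * (g : G)⁻¹ ∈ C := C.mul_mem (C.mul_mem g.2 x.2) (C.inv_mem g.2)
      have hwP : w ∈ P ∨ w * z ∈ P := hg
      rcases hwP with h | h
      · exact (show Commute w ((g : G) * x * (g : G)⁻¹) from mem_centralizer_iff.1 hm.2 w h).inv_left
      · have h1 : Commute (w * z) ((g : G) * x * (g : G)⁻¹) := mem_centralizer_iff.1 hm.2 _ h
        have h2 : Commute z ((g : G) * x * (g : G)⁻¹) := (mem_centralizer_singleton_iff.1 hm.1).symm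
        have h3 := h1.mul_left h2.inv_left
        rw [mul_inv_cancel_right] at h3
        exact h3.inv_left
    have h3 : (c : G) ^ 3 = w⁻¹ ^ 3 := by
      rw [hcx, hwc.mul_pow, conj_pow, hx3, mul_one, mul_inv_cancel, mul_one]
    have h9 : ((c : G) ^ 3) ^ 3 = 1 := hP3 _ (hcube0 c hc)
    have hw6 : w ^ 6 = 1 := by
      rcases hg with h | h
      · rw [show 6 = 3 * 2 from rfl, pow_mul, hP3 w h, one_pow]
      · have hcz : Commute (w * z) z := mem_centralizer_singleton_iff.1 (hPC h).1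
        rw [show w = w * z * z by rw [mul_assoc, hz2, mul_one], hcz.mul_pow, show 6 = 3 * 2 from rfl, pow_mul (w * z),
          hP3 _ h, one_pow, one_mul, mul_comm 3 2, pow_mul, pow_two, hz2, one_pow]
    have h6 : ((c : G) ^ 3) ^ 2 = 1 := by
      rw [h3, ← pow_mul, inv_pow, hw6, inv_one]
    calc (c : G) ^ 3 = ((c : G) ^ 3) ^ 3 * (((c : G) ^ 3) ^ 2)⁻¹ := by rw [pow_succ ((c : G) ^ 3) 2]; group
      _ = 1 := by rw [h9, h6, inv_one, mul_one]
  -- the subgroup of G
  set R := R0.map C.subtype with hR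
  have hRC : R ≤ C := map_subtype_le _
  have hRcard : Nat.card ↥R = 27 := by rw [hR, card_map_of_injective C.subtype_injective, hR0card]
  have hmemR : ∀ (c : ↥C), (c : G) ∈ R ↔ c ∈ R0 := fun c => mem_map_iff_mem C.subtype_injective
  have hPR : P ≤ R := fun a ha => ⟨⟨a, hPC ha⟩, hPR0 a ha, rfl⟩
  have hNR : normalizer (R : Set G) ≤ normalizer (P : Set G) := fun n hn => by
    refine mem_normalizer_fintype fun a ha => ?_
    have hmR : n * a * n⁻¹ ∈ R := (mem_normalizer_iff.1 hn a).1 (hPR ha)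
    refine hZ ⟨_, hRC hmR⟩ ((hmemR _).1 hmR) fun d hd => Subtype.ext ?_
    have hd' : n⁻¹ * d * n ∈ R := by
      have := (mem_normalizer_iff.1 (inv_mem hn) (d : G)).1 ((hmemR d).2 hd)
      rwa [inv_inv] at this
    have h := mem_centralizer_iff.1 (hRC hd').2 a ha
    show (d : G) * (n * a * n⁻¹) = n * a * n⁻¹ * d
    calc (d : G) * (n * a * n⁻¹) = n * (n⁻¹ * d * n * a) * n⁻¹ := by group
      _ = n * (a * (n⁻¹ * d * n)) * n⁻¹ := by rw [h]
      _ = n * a * n⁻¹ * d := by group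
  have hNz : normalizer (R : Set G) ≤ centralizer ({z} : Set G) := hNR.trans hNP
  -- the part centralising P
  set N := normalizer (R : Set G) with hN
  have hNC : (N ⊓ C).subgroupOf C = (normalizer (M22Three.R : Set ↥Cfsg.Spor.M22)).comap φ := by
    ext c
    rw [mem_subgroupOf, mem_comap]
    constructor
    · rintro ⟨hcN, -⟩
      refine mem_normalizer_fintype fun r hr => ?_
      obtain ⟨d, rfl⟩ := hφ r
      obtain ⟨t, ht, hdt⟩ : ∃ t ∈ R0, φ t = φ d := by
        have hd : (⟨d, hr⟩ : ↥K) ^ 54 = 1 := by rw [← hKcard]; exact pow_card_eq_one'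
        refine ⟨d ^ 28, (hmemR0 _).2 ⟨by rw [map_pow]; exact M22Three.R.pow_mem hr 28, ?_⟩, ?_⟩
        · rw [← pow_mul, show 28 * 27 = 54 * 14 from rfl, pow_mul,
            show d ^ 54 = 1 from congrArg Subtype.val hd, one_pow]
        · rw [map_pow, show 28 = 3 * 9 + 1 from rfl, pow_add, pow_mul, M22Three.R_cube hr, one_pow, one_mul, pow_one]
      have h := (mem_normalizer_iff.1 hcN (t : G)).1 ((hmemR t).2 ht)
      rw [← hdt, ← map_inv, ← map_mul, ← map_mul]
      exact ((hmemR0 _).1 ((hmemR (c * t * c⁻¹)).1 h)).1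
    · intro hc
      refine ⟨mem_normalizer_fintype fun r hr => ?_, c.2⟩
      obtain ⟨t, ht, rfl⟩ := hr
      refine (hmemR (c * t * c⁻¹)).2 ((hmemR0 _).2 ⟨?_, ?_⟩)
      · rw [map_mul, map_mul, map_inv]
        exact (mem_normalizer_iff.1 hc _).1 ((hmemR0 t).1 ht).1
      · rw [conj_pow, ((hmemR0 t).1 ht).2, mul_one, mul_inv_cancel]
  have hNC432 : Nat.card ↥(N ⊓ C) = 432 := by
    rw [← Nat.card_congr (subgroupOfEquivOfLe (inf_le_right : N ⊓ C ≤ C)).toEquiv, hNC, hcomap,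
      M22Three.card_normalizer]
  -- an element inverting P
  obtain ⟨m, hmN, hmC⟩ : ∃ m ∈ N, m ∉ C := by
    obtain ⟨n, hn, hnC⟩ : ∃ n ∈ centralizer ({z} : Set G) ⊓ normalizer (P : Set G), n ∉ C := by
      by_contra h
      push Not at h
      exact hne (le_antisymm h fun y hy => ⟨hy.1, centralizer_le_normalizer _ hy.2⟩)
    have hnC' : ∀ c ∈ C, n * c * n⁻¹ ∈ C := fun c hc =>
      ⟨(centralizer ({z} : Set G)).mul_mem ((centralizer ({z} : Set G)).mul_mem hn.1 hc.1)
        ((centralizer ({z} : Set G)).inv_mem hn.1), BigData.conj_mem_centP hn.2 hc.2⟩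
    have hU : IsPGroup 3 ↥((R.map (MulAut.conj n).toMonoidHom).subgroupOf C) :=
      IsPGroup.of_card (n := 3) (by
        rw [Nat.card_congr (subgroupOfEquivOfLe (fun y hy => by
          obtain ⟨r, hr, rfl⟩ := hy
          exact hnC' r (hRC hr))).toEquiv, card_map_of_injective (MulAut.conj n).injective, hRcard]
        norm_num)
    obtain ⟨U, hU'⟩ := hU.exists_le_sylow
    obtain ⟨c, hc⟩ := MulAction.exists_smul_eq ↥C U TS
    refine ⟨c * n, mem_normalizer_fintype fun r hr => ?_, fun h => hnC ?_⟩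
    · have hm : n * r * n⁻¹ ∈ C := hnC' r (hRC hr)
      have hu : (⟨n * r * n⁻¹, hm⟩ : ↥C) ∈ (U : Subgroup ↥C) := hU' (mem_subgroupOf.2 ⟨r, hr, rfl⟩)
      have : c * ⟨n * r * n⁻¹, hm⟩ * c⁻¹ ∈ (TS : Subgroup ↥C) := by
        rw [← hc, Sylow.coe_subgroup_smul]
        exact Subgroup.smul_mem_pointwise_smul _ (MulAut.conj c) _ hu
      have h2 := (hmemR _).2 this
      have e : (c : G) * n * r * ((c : G) * n)⁻¹ = ((c * ⟨n * r * n⁻¹, hm⟩ * c⁻¹ : ↥C) : G) := by
        show _ = (c : G) * (n * r * n⁻¹) * (c : G)⁻¹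
        group
      rw [e]
      exact h2
    · have := C.mul_mem (C.inv_mem c.2) h
      rwa [inv_mul_cancel_left] at this
  have hN864 : Nat.card ↥N = 864 := by
    have hidx : (C.subgroupOf N).index = 2 := by
      have hcases : ∀ n ∈ N, n * p * n⁻¹ = p ∨ n * p * n⁻¹ = p⁻¹ := by
        intro n hn
        have hm : n * p * n⁻¹ ∈ zpowers p := by
          rw [show zpowers p = P from M.p_gen]
          exact (mem_normalizer_iff.1 (hNR hn) p).1 (M.p_gen ▸ mem_zpowers p)
        obtain ⟨i, hi, hi'⟩ := Finset.mem_image.1 (mem_zpowers_iff_mem_range_orderOf.1 hm)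
        rw [hpo] at hi
        have hp3 : p ^ 3 = 1 := hpo ▸ pow_orderOf_eq_one p
        have := Finset.mem_range.1 hi
        interval_cases i
        · exfalso
          rw [pow_zero, eq_comm, conj_eq_one_iff] at hi'
          rw [hi', orderOf_one] at hpo
          omega
        · exact Or.inl (by rw [← hi', pow_one])
        · exact Or.inr (by rw [← hi', eq_inv_iff_mul_eq_one, ← pow_succ]; exact hp3)
      have hmem : ∀ n ∈ N, (n ∈ C ↔ n * p * n⁻¹ = p) := fun n hn => by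
        rw [mul_inv_eq_iff_eq_mul]
        constructor
        · exact fun h => (mem_centralizer_iff.1 h.2 p (M.p_gen ▸ mem_zpowers p)).symm
        · exact fun h => ⟨hNz hn, M.mem_centP.2 h⟩
      have hinv : p⁻¹ ≠ p := fun h => by
        have h2 : p ^ 2 = 1 := by rw [pow_two]; nth_rewrite 1 [← h]; exact inv_mul_cancel _
        have := orderOf_dvd_of_pow_eq_one h2
        rw [hpo] at this
        norm_num at this
      refine index_eq_two_iff.2 ⟨⟨m, hmN⟩, fun n => ?_⟩
      have hmp : m * p * m⁻¹ = p⁻¹ := (hcases m hmN).resolve_left fun h => hmC ((hmem m hmN).2 h)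
      rw [mem_subgroupOf, mem_subgroupOf, hmem _ n.2, hmem _ (n * ⟨m, hmN⟩).2]
      have e1 : ((n * ⟨m, hmN⟩ : ↥N) : G) * p * ((n * ⟨m, hmN⟩ : ↥N) : G)⁻¹ = ((n : G) * p * (n : G)⁻¹)⁻¹ := by
        show (n : G) * m * p * ((n : G) * m)⁻¹ = _
        calc (n : G) * m * p * ((n : G) * m)⁻¹ = (n : G) * (m * p * m⁻¹) * (n : G)⁻¹ := by group
          _ = _ := by rw [hmp]; group
      rw [e1]
      rcases hcases _ n.2 with h | h <;> rw [h]
      · exact Or.inr ⟨rfl, hinv⟩
      · exact Or.inl ⟨inv_inv _, hinv⟩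
    have h := (C.subgroupOf N).card_mul_index
    rw [hidx, show C.subgroupOf N = (N ⊓ C).subgroupOf N by rw [inf_subgroupOf_left],
      Nat.card_congr (subgroupOfEquivOfLe (inf_le_left : N ⊓ C ≤ N)).toEquiv, hNC432] at h
    omega
  -- maximality
  set H := centralizer ({z} : Set G) with hH
  have hcardH : Nat.card ↥H = 8192 * 2661120 := by
    rw [M.Q.card_eq_card_quotient_mul_card_subgroup, M.card_quot, ← M.ctx.card, mul_comm]
    congr 1
    exact (card_map_of_injective H.subtype_injective).symm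
  refine ⟨R, hRC.trans inf_le_left, hRC.trans inf_le_right, hPR, hRcard, ?_, ?_, hNz, hN864, ?_, ?_⟩
  · obtain ⟨a, ha, b, hb, hab⟩ := hna
    exact ⟨a, (hmemR a).2 ha, b, (hmemR b).2 hb, fun e => hab (Subtype.ext e)⟩
  · rintro _ ⟨c, hc, rfl⟩
    exact hcube c hc
  · intro U hUH hU
    let RS : Sylow 3 ↥H := Sylow.ofCard (R.subgroupOf H) (by
      rw [Nat.card_congr (subgroupOfEquivOfLe (hRC.trans inf_le_left)).toEquiv, hRcard, hcardH,
        show 8192 * 2661120 = (8192 * 98560) * 3 ^ 3 from rfl, Nat.factorization_mul (by norm_num) (by norm_num),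
        Nat.Prime.factorization_pow Nat.prime_three]
      simp [Nat.factorization_eq_zero_of_not_dvd])
    obtain ⟨V, hV⟩ := (hU.of_equiv (subgroupOfEquivOfLe hUH).symm).exists_le_sylow
    obtain ⟨h, hh⟩ := MulAction.exists_smul_eq ↥H V RS
    refine ⟨h, h.2, fun y hy => ?_⟩
    have : h * ⟨y, hUH hy⟩ * h⁻¹ ∈ (RS : Subgroup ↥H) := by
      rw [← hh, Sylow.coe_subgroup_smul]
      exact Subgroup.smul_mem_pointwise_smul _ (MulAut.conj h) _ (hV (mem_subgroupOf.2 hy))
    exact mem_subgroupOf.1 this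
  · intro a ha b hb haP hbP
    obtain ⟨c, hc, rfl⟩ := ha
    obtain ⟨d, hd, rfl⟩ := hb
    obtain ⟨g, hg | hg⟩ := hconj c hc d hd haP hbP
    · exact ⟨g, hg⟩
    exfalso
    set w := ((g * c * g⁻¹ * d⁻¹ : ↥C) : G) with hw
    have h1 : w * d = (g : G) * c * (g : G)⁻¹ := by simp [hw]
    have hm : (w * z) * z = w := by rw [mul_assoc, hz2, mul_one]
    have hdz : Commute z (d : G) := (mem_centralizer_singleton_iff.1 d.2.1).symm
    have hwd : Commute (w * z) ((d : G) * z) :=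
      ((show Commute (w * z) (d : G) from mem_centralizer_iff.1 d.2.2 _ hg)).mul_right
        (mem_centralizer_singleton_iff.1 (hPC hg).1)
    have h3 : ((g : G) * c * (g : G)⁻¹) ^ 3 = 1 := by rw [conj_pow, hcube c hc, mul_one, mul_inv_cancel]
    have hne1 : z = 1 := by
      have e : (g : G) * c * (g : G)⁻¹ = w * z * ((d : G) * z) := by
        rw [← h1, ← hdz.eq, ← mul_assoc, hm]
      rw [e, hwd.mul_pow, hP3 _ hg, one_mul, hdz.symm.mul_pow, hcube d hd, one_mul,
        show 3 = 2 + 1 from rfl, pow_add, pow_two, hz2, one_mul, pow_one] at h3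
      exact h3
    exact M.ctx.xs.ne_one hne1

end Cfsg.Agent.JankoFour
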