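import Cfsg.Agent.Lib.JankoFour.ThreeFixed
import Cfsg.Agent.Lib.JankoFour.ThreeGolay
import Cfsg.Agent.Lib.JankoFour.TwoCentralizerMain

/-!
The subgroup of order three fixes six points of the cocode picture of the large abelian subgroup; the part of
that subgroup it centralises is the even subsets of those six points, with z the whole set.
-/

set_option autoImplicit false

namespace Cfsg.Agent.JankoFour

open Subgroup
open scoped symmDiff Pointwise
open Cfsg.Agent.J4Module (app elemI)
open Cfsg.Agent.J4Module.Data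
open ThreeChk ThreeGolay

variable {G : Type*} [Group G] [Finite G] {z : G} {P : Subgroup G} {M : Model z P}

namespace BigData

variable (D : BigData M) (B : BigPack z D.V)

/-- The permutation of P. -/
noncomputable def permP : ↥Cfsg.M24 := B.phi ⟨M.pElem, D.p_norm⟩

/-- The points fixed by P. -/
noncomputable def points : Finset Cfsg.GolayPt := fixSet (D.permP B)

theorem image_eq_smul (m : ↥Cfsg.M24) (s : Finset Cfsg.GolayPt) : s.image ⇑(m.1) = m.1 • s := rfl

/-- Normalising elements act through their permutations. -/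
theorem conj_kap {n : G} (hn : n ∈ normalizer (D.V : Set G)) {s : Finset Cfsg.GolayPt} (hs : Even s.card) :
    n * B.eS s * n⁻¹ = B.eS (s.image ⇑(B.phi ⟨n, hn⟩).1) := B.eS_equiv ⟨n, hn⟩ s hs

theorem permP_cube : D.permP B ^ 3 = 1 := by
  rw [permP, ← map_pow, ← map_one B.phi]
  congr 1
  refine Subtype.ext ?_
  rw [Subgroup.coe_pow, pow_succ, pow_two]
  exact M.p_cube

theorem commute_perm {n : G} (hn : n ∈ normalizer (D.V : Set G)) (hP : n ∈ centralizer (P : Set G)) :
    Commute (D.permP B) (B.phi ⟨n, hn⟩) := by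
  refine Commute.map ?_ B.phi
  exact Subtype.ext (M.mem_centP.1 hP).symm.eq

theorem duad_mem_iff {d : Finset Cfsg.GolayPt} (hd : d.card = 2) : B.eS d ∈ D.fixA ↔ d ⊆ D.points B := by
  have he : Even d.card := by rw [hd]; decide
  constructor
  · intro h
    have hfix := B.cocode.image_duad (n := ⟨M.pElem, D.p_norm⟩) hd (M.mem_centP.1 h.2).symm.eq
    intro q hq
    have hst : ∀ p, D.permP B • p ∈ d ↔ p ∈ d := fun p => by
      conv_lhs => rw [← hfix]
      exact ⟨fun hp => by
        obtain ⟨r, hr, e⟩ := Finset.mem_image.1 hp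
        exact (MulAction.injective (D.permP B) (e : D.permP B • r = D.permP B • p)) ▸ hr,
        fun hp => Finset.mem_image.2 ⟨p, hp, rfl⟩⟩
    haveI : Fact (Nat.Prime 3) := ⟨Nat.prime_three⟩
    have hm := ThreeGolay.modEq (D.permP_cube B) hst
    have hle := Finset.card_le_card (Finset.inter_subset_left : d ∩ D.points B ⊆ d)
    unfold Nat.ModEq at hm
    have heq : (d ∩ D.points B).card = d.card := by
      rw [points] at hle ⊢
      omega
    exact (Finset.mem_inter.1 ((Finset.eq_of_subset_of_card_le Finset.inter_subset_left heq.ge).symm ▸ hq)).2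
  · intro h
    refine ⟨B.eS_mem d, M.mem_centP.2 ?_⟩
    refine Commute.symm (B.cocode.commute_of_image (n := ⟨M.pElem, D.p_norm⟩) he ?_)
    exact (Finset.image_congr fun q hq => mem_fixSet.1 (h hq)).trans Finset.image_id'

theorem points_nonempty : (D.points B).Nonempty := by
  obtain ⟨c, -, hcP, hcN, hcV, hc5⟩ := D.exists_five 0
  refine three_fix_nonempty (y := B.phi ⟨c, hcN⟩) (D.permP_cube B) ?_ ?_ (D.commute_perm B hcN hcP)
  · rw [← map_pow]
    have h : (⟨c, hcN⟩ : ↥(normalizer (D.V : Set G))) ^ 5 ∈ B.phi.ker := by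
      rw [B.phi_ker, mem_subgroupOf, Subgroup.coe_pow]
      exact hc5
    exact h
  · intro h
    have h' : (⟨c, hcN⟩ : ↥(normalizer (D.V : Set G))) ∈ B.phi.ker := h
    rw [B.phi_ker, mem_subgroupOf] at h'
    exact hcV h'

theorem choose_le_fixA : ((D.points B).powersetCard 2).card + 2 ≤ 32 := by
  classical
  haveI : Fintype ↥D.fixA := Fintype.ofFinite _
  have h := D.fixA_card_le
  have hsub : ((D.points B).powersetCard 2).image B.eS ∪ {1, z} ⊆ Finset.univ.image (fun a : ↥D.fixA => (a : G)) := by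
    intro a ha
    rw [Finset.mem_image]
    rw [Finset.mem_union, Finset.mem_image, Finset.mem_insert, Finset.mem_singleton] at ha
    rcases ha with ⟨d, hd, rfl⟩ | rfl | rfl
    · rw [Finset.mem_powersetCard] at hd
      exact ⟨⟨_, (D.duad_mem_iff B hd.2).2 hd.1⟩, Finset.mem_univ _, rfl⟩
    · exact ⟨⟨1, one_mem _⟩, Finset.mem_univ _, rfl⟩
    · exact ⟨⟨_, D.z_mem_fixA⟩, Finset.mem_univ _, rfl⟩
  have hd1 : ∀ d : Finset Cfsg.GolayPt, d.card = 2 → B.eS d ≠ 1 := fun d hd e => by
    have := B.cocode.inj d (by rw [hd]; decide) (by omega) e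
    simp [this] at hd
  have hinj : Set.InjOn B.eS ((D.points B).powersetCard 2 : Set (Finset Cfsg.GolayPt)) := fun a ha b hb e => by
    rw [Finset.mem_coe, Finset.mem_powersetCard] at ha hb
    refine B.cocode.kap_inj (by rw [ha.2]; decide) (by rw [hb.2]; decide) ?_ e
    have := Finset.card_union_le a b
    have hsu : (a ∆ b).card ≤ (a ∪ b).card := Finset.card_le_card (symmDiff_le_sup)
    omega
  have hz1 : z ≠ 1 := M.ctx.xs.ne_one
  have hdis : Disjoint (((D.points B).powersetCard 2).image B.eS) {1, z} := by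
    rw [Finset.disjoint_left]
    intro a ha
    obtain ⟨d, hd, rfl⟩ := Finset.mem_image.1 ha
    rw [Finset.mem_powersetCard] at hd
    simp only [Finset.mem_insert, Finset.mem_singleton, not_or]
    exact ⟨hd1 d hd.2, fun e => B.pair_not_conj d hd.2 (by rw [e])⟩
  have h2 := Finset.card_le_card hsub
  rw [Finset.card_union_of_disjoint hdis, Finset.card_image_of_injOn hinj, Finset.card_pair hz1.symm] at h2
  have h3 : (Finset.univ.image (fun a : ↥D.fixA => (a : G))).card ≤ Nat.card ↥D.fixA := by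
    rw [Nat.card_eq_fintype_card]
    exact Finset.card_image_le
  omega

theorem points_card_cases : (D.points B).card = 3 ∨ (D.points B).card = 6 := by
  have h0 := Finset.card_pos.2 (D.points_nonempty B)
  have h3 : (D.points B).card % 3 = 0 := card_fix_mod_three (D.permP_cube B)
  have h := D.choose_le_fixA B
  rw [Finset.card_powersetCard] at h
  have h9 : (D.points B).card < 9 := by
    by_contra h9
    have := Nat.choose_le_choose 2 (not_lt.1 h9)
    rw [show Nat.choose 9 2 = 36 from rfl] at this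
    omega
  omega

/-- The image of the fixed points under an element centralising P and normalising V. -/
theorem image_points {n : G} (hn : n ∈ normalizer (D.V : Set G)) (hP : n ∈ centralizer (P : Set G)) :
    (D.points B).image ⇑(B.phi ⟨n, hn⟩).1 = D.points B := by
  refine Finset.eq_of_subset_of_card_le ?_ (Finset.card_image_of_injective _ (Equiv.injective _)).ge
  intro q hq
  obtain ⟨p, hp, rfl⟩ := Finset.mem_image.1 hq
  exact (smul_mem_fixSet (D.commute_perm B hn hP) p).2 hp

include D in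
theorem conj_five_index {k : Fin 2} {c : ↥(centralizer ({z} : Set G))} (hc : M.Acts c (fiveC k))
    {a : ↥(centralizer ({z} : Set G))} (hfix : (c : G) * a * (c : G)⁻¹ = a) {i : ℕ}
    (hi : i ∈ 71 :: bigIdx) (hai : M.Acts a (elemI i)) : fivePerm k i = i := by
  have h := D.five_conj hc hi hai
  have e : c * a * c⁻¹ = a := Subtype.ext hfix
  rw [e] at h
  obtain ⟨hj, -⟩ := five_norm k i hi
  have he := M.acts_unique (Model.big_len _ hj) (Model.big_len _ hi) h hai
  exact big_inj _ hj _ hi fun b _ => by rw [he]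

/-- An element of the fixed part commuting with both lifts of order five is 1 or z. -/
theorem eq_one_or_z {a : G} (ha : a ∈ D.fixA)
    (h : ∀ k : Fin 2, ∀ c : ↥(centralizer ({z} : Set G)), M.Acts c (fiveC k) →
      (c : G) ∈ centralizer (P : Set G) → (c : G) ∈ normalizer (D.V : Set G) →
      (c : G) ^ 5 ∈ D.V → (c : G) * a * (c : G)⁻¹ = a) : a = 1 ∨ a = z := by
  obtain ⟨i, hi, hai⟩ := D.img ⟨a, D.fixA_le ha⟩ ha.1
  by_cases hi71 : i = 71
  · subst hi71; exact D.unit_fix (a := ⟨a, D.fixA_le ha⟩) ha hai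
  exfalso
  obtain ⟨k, hk⟩ := five_moves i ((List.mem_cons.1 hi).resolve_left hi71)
  obtain ⟨c, hc, hcP, hcN, -, hc5⟩ := D.exists_five k
  exact hk (D.conj_five_index hc (a := ⟨a, D.fixA_le ha⟩) (h k c hc hcP hcN hc5) hi hai)

theorem points_card : (D.points B).card = 6 := by
  refine (D.points_card_cases B).resolve_left fun h3 => ?_
  obtain ⟨d, hdF, hd⟩ := Finset.exists_subset_card_eq (s := D.points B) (n := 2) (by omega)
  have hA := (D.duad_mem_iff B hd).2 hdF
  have hfix : B.eS d = 1 ∨ B.eS d = z := D.eq_one_or_z hA fun k c hc hcP hcN hc5 => by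
    rw [D.conj_kap B hcN (by rw [hd]; decide)]
    have h5 : B.phi ⟨c, hcN⟩ ^ 5 = 1 := by
      rw [← map_pow]
      have h : (⟨c, hcN⟩ : ↥(normalizer (D.V : Set G))) ^ 5 ∈ B.phi.ker := by
        rw [B.phi_ker, mem_subgroupOf, Subgroup.coe_pow]
        exact hc5
      exact h
    have hall := five_fix_small h5 (s := D.points B)
      (fun p => smul_mem_fixSet (D.commute_perm B hcN hcP) p) (by omega)
    congr 1
    exact (Finset.image_congr fun q hq => hall q (hdF hq)).trans Finset.image_id'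
  rcases hfix with e | e
  · have := B.cocode.inj d (by rw [hd]; decide) (by omega) e
    simp [this] at hd
  · exact B.pair_not_conj d hd (by rw [e])

theorem z_eq : B.eS (D.points B) = z := by
  have h6 := D.points_card B
  have he : Even (D.points B).card := by rw [h6]; decide
  have hA : B.eS (D.points B) ∈ D.fixA := by
    refine ⟨B.eS_mem _, M.mem_centP.2 (Commute.symm ?_)⟩
    exact B.cocode.commute_of_image (n := ⟨M.pElem, D.p_norm⟩) he
      ((Finset.image_congr fun q hq => mem_fixSet.1 hq).trans Finset.image_id')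
  refine (D.eq_one_or_z hA fun k c hc hcP hcN hc5 => ?_).resolve_left fun e => ?_
  · rw [D.conj_kap B hcN he, D.image_points B hcN hcP]
  · have := B.cocode.inj _ he (by omega) e
    rw [this] at h6
    simp at h6

include B in
/-- Elements centralising P and normalising V fix z. -/
theorem normalizer_fix {n : G} (hn : n ∈ normalizer (D.V : Set G)) (hP : n ∈ centralizer (P : Set G)) :
    n ∈ centralizer ({z} : Set G) := by
  have he : Even (D.points B).card := by rw [D.points_card B]; decide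
  have h := D.conj_kap B hn he
  rw [D.image_points B hn hP, D.z_eq B] at h
  exact mem_centralizer_singleton_iff.2 (mul_inv_eq_iff_eq_mul.1 h)

include B in
/-- The classification of the fixed part. -/
theorem fixA_cases {a : G} (ha : a ∈ D.fixA) : a = 1 ∨ a = z ∨
    ∃ d : Finset Cfsg.GolayPt, d.card = 2 ∧ d ⊆ D.points B ∧ (a = B.eS d ∨ a = B.eS d * z) := by
  classical
  obtain ⟨i, hi, hai⟩ := D.img ⟨a, D.fixA_le ha⟩ ha.1
  by_cases hi71 : i = 71
  · subst hi71
    rcases D.unit_fix (a := ⟨a, D.fixA_le ha⟩) ha hai with e | e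
    exacts [Or.inl e, Or.inr (Or.inl e)]
  refine Or.inr (Or.inr ?_)
  have hi' := (List.mem_cons.1 hi).resolve_left hi71
  -- the indices of duads are all fifteen
  have key : ∀ n (l : List ℕ), (∀ j ∈ l, j ∈ 71 :: bigIdx ∧ ∃ d : Finset Cfsg.GolayPt, d.card = 2 ∧ d ⊆ D.points B ∧
      ∀ (h : B.eS d ∈ centralizer ({z} : Set G)), M.Acts ⟨B.eS d, h⟩ (elemI j)) →
      ∀ j ∈ reach n l, ∃ d : Finset Cfsg.GolayPt, d.card = 2 ∧ d ⊆ D.points B ∧
      ∀ (h : B.eS d ∈ centralizer ({z} : Set G)), M.Acts ⟨B.eS d, h⟩ (elemI j) := by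
    intro n
    induction n with
    | zero => exact fun l hl j hj => (hl j hj).2
    | succ n ih =>
      intro l hl j hj
      refine ih _ (fun j' hj' => ?_) j hj
      rw [List.mem_dedup, List.mem_append, List.mem_append, List.mem_map, List.mem_map] at hj'
      rcases hj' with (hj' | ⟨j₀, hj₀, rfl⟩) | ⟨j₀, hj₀, rfl⟩
      · exact hl j' hj'
      all_goals
        obtain ⟨hm, d, hd, hdF, hact⟩ := hl j₀ hj₀
        refine ⟨(five_norm _ j₀ hm).1, ?_⟩
        obtain ⟨c, hc, hcP, hcN, -, -⟩ := D.exists_five _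
        refine ⟨d.image ⇑(B.phi ⟨c, hcN⟩).1, by rw [Finset.card_image_of_injective _ (Equiv.injective _), hd],
          (Finset.image_subset_image hdF).trans (D.image_points B hcN hcP).le, fun h => ?_⟩
        have h1 := D.five_conj hc hm (hact (D.le_cent (B.eS_mem d)))
        have e : c * ⟨B.eS d, D.le_cent (B.eS_mem d)⟩ * c⁻¹ = ⟨B.eS (d.image ⇑(B.phi ⟨c, hcN⟩).1), h⟩ :=
          Subtype.ext (D.conj_kap B hcN (by rw [hd]; decide))
        rwa [e] at h1
  obtain ⟨d₀, hd₀F, hd₀⟩ := Finset.exists_subset_card_eq (s := D.points B) (n := 2) (by rw [D.points_card B]; norm_num)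
  have hd₀A := (D.duad_mem_iff B hd₀).2 hd₀F
  obtain ⟨j₀, hj₀, hact₀⟩ := D.img ⟨B.eS d₀, D.fixA_le hd₀A⟩ hd₀A.1
  have hj₀' : j₀ ≠ 71 := by
    rintro rfl
    rcases D.unit_fix (a := ⟨B.eS d₀, D.fixA_le hd₀A⟩) hd₀A hact₀ with e | e
    · have := B.cocode.inj d₀ (by rw [hd₀]; decide) (by omega) e
      simp [this] at hd₀
    · exact B.pair_not_conj d₀ hd₀ (by rw [show B.eS d₀ = z from e])
  obtain ⟨d, hd, hdF, hact⟩ := key 6 [j₀] (by
      intro j hj
      rw [List.mem_singleton] at hj
      subst hj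
      exact ⟨hj₀, d₀, hd₀, hd₀F, fun h => hact₀⟩) i
    (List.contains_iff_mem.1 (five_trans j₀ ((List.mem_cons.1 hj₀).resolve_left hj₀') i hi'))
  have hdA := (D.duad_mem_iff B hd).2 hdF
  exact ⟨d, hd, hdF, D.eq_or_mul_z (c := ⟨a, D.fixA_le ha⟩) (a := ⟨B.eS d, D.fixA_le hdA⟩) ha.2 hdA hai (hact _)⟩

include B in
/-- Any two duads in the fixed part are conjugate in the centraliser of z and P. -/
theorem duad_trans {d d' : Finset Cfsg.GolayPt} (hd : d.card = 2) (hd' : d'.card = 2) (hdF : d ⊆ D.points B)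
    (hdF' : d' ⊆ D.points B) : ∃ c ∈ centralizer ({z} : Set G) ⊓ centralizer (P : Set G),
      c * B.eS d * c⁻¹ = B.eS d' := by
  classical
  have hA := (D.duad_mem_iff B hd).2 hdF
  have hA' := (D.duad_mem_iff B hd').2 hdF'
  have hne : ∀ {e : Finset Cfsg.GolayPt}, e.card = 2 → ∀ (h : B.eS e ∈ D.fixA) {i : ℕ},
      M.Acts ⟨B.eS e, D.fixA_le h⟩ (elemI i) → i ≠ 71 := by
    rintro e he h i hact rfl
    rcases D.unit_fix (a := ⟨B.eS e, D.fixA_le h⟩) h hact with h1 | h1
    · have := B.cocode.inj e (by rw [he]; decide) (by omega) h1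
      simp [this] at he
    · exact B.pair_not_conj e he (by rw [show B.eS e = z from h1])
  obtain ⟨i, hi, hai⟩ := D.img ⟨B.eS d, D.fixA_le hA⟩ hA.1
  obtain ⟨j, hj, haj⟩ := D.img ⟨B.eS d', D.fixA_le hA'⟩ hA'.1
  have key : ∀ n (l : List ℕ), (∀ m ∈ l, m ∈ 71 :: bigIdx ∧ ∃ c : ↥(centralizer ({z} : Set G)),
      (c : G) ∈ centralizer (P : Set G) ∧ M.Acts (c * ⟨B.eS d, D.fixA_le hA⟩ * c⁻¹) (elemI m)) →
      ∀ m ∈ reach n l, ∃ c : ↥(centralizer ({z} : Set G)),
      (c : G) ∈ centralizer (P : Set G) ∧ M.Acts (c * ⟨B.eS d, D.fixA_le hA⟩ * c⁻¹) (elemI m) := by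
    intro n
    induction n with
    | zero => exact fun l hl m hm => (hl m hm).2
    | succ n ih =>
      intro l hl m hm
      refine ih _ (fun m' hm' => ?_) m hm
      rw [List.mem_dedup, List.mem_append, List.mem_append, List.mem_map, List.mem_map] at hm'
      rcases hm' with (hm' | ⟨m₀, hm₀, rfl⟩) | ⟨m₀, hm₀, rfl⟩
      · exact hl m' hm'
      all_goals
        obtain ⟨hmem, c, hcP, hact⟩ := hl m₀ hm₀
        refine ⟨(five_norm _ m₀ hmem).1, ?_⟩
        obtain ⟨f, hf, hfP, -, -, -⟩ := D.exists_five _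
        refine ⟨f * c, mul_mem hfP hcP, ?_⟩
        have h1 := D.five_conj hf hmem hact
        simpa [mul_assoc] using h1
  obtain ⟨c, hcP, hact⟩ := key 6 [i] (by
      intro m hm
      rw [List.mem_singleton] at hm
      subst hm
      exact ⟨hi, 1, one_mem _, by simpa using hai⟩) j
    (List.contains_iff_mem.1 (five_trans i ((List.mem_cons.1 hi).resolve_left (hne hd hA hai)) j
      ((List.mem_cons.1 hj).resolve_left (hne hd' hA' haj))))
  have hcd : ((c * ⟨B.eS d, D.fixA_le hA⟩ * c⁻¹ : ↥(centralizer ({z} : Set G))) : G) ∈ centralizer (P : Set G) :=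
    mul_mem (mul_mem hcP hA.2) (inv_mem hcP)
  refine ⟨c, ⟨c.2, hcP⟩, ?_⟩
  rcases D.eq_or_mul_z (a := ⟨B.eS d', D.fixA_le hA'⟩) hcd hA' hact haj with e | e
  · exact e
  exfalso
  have e' : (c : G) * B.eS d * (c : G)⁻¹ = B.eS d' * z := e
  have hz : B.eS d' * z = B.eS (d' ∆ D.points B) := by
    rw [B.eS_symmDiff _ _ (by rw [hd']; decide) (by rw [D.points_card B]; decide), D.z_eq B]
  have h4 : (d' ∆ D.points B).card = 4 := by
    rw [symmDiff_of_le (Finset.le_iff_subset.2 hdF'), Finset.card_sdiff_of_subset hdF', D.points_card B, hd']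
  exact B.pair_not_conj d hd ((B.four_conj _ h4).trans (isConj_iff.2 ⟨(c : G)⁻¹, by
    rw [← hz, ← e']; group⟩))

end BigData

end Cfsg.Agent.JankoFour
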