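import Cfsg.Agent.Lib.JankoFour.Mathieu
import Cfsg.Agent.Lib.JankoFour.Split
import Cfsg.Agent.Lib.JankoFour.TrioL32Data
import Cfsg.Agent.Lib.Golay.SingleBlockBase
import Cfsg.Agent.Lib.Golay.Local.Classes
import Cfsg.Agent.Lib.MonsterT.SLThree
import Mathlib.Algebra.Group.Pointwise.Finset.Basic

/-! Janko-four type: a linear group of degree three normalising the group of order eight given by a trio. -/

set_option autoImplicit false
set_option linter.unusedSectionVars false
set_option maxRecDepth 100000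

namespace Cfsg.Agent.JankoFour

open Subgroup
open Cfsg (GolayPt M24)
open Cfsg.Agent.LargeFischer (QG)
open Cfsg.Agent.LargeFischer.Big (ev psi)
open Cfsg.Agent.J4Module (app)
open Cfsg.Agent.PermCert Cfsg.Agent.Golay Cfsg.Agent.Golay.Cert Cfsg.Agent.Golay.Local
open scoped Pointwise

namespace TrioL32

/-- The matrix of the involution. -/
def matA : Matrix.SpecialLinearGroup (Fin 3) (ZMod 2) :=
  ⟨!![1, 0, 0; 0, 1, 0; 1, 0, 1], by decide⟩

/-- The matrix of the element of order three. -/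
def matB : Matrix.SpecialLinearGroup (Fin 3) (ZMod 2) :=
  ⟨!![0, 0, 1; 1, 0, 1; 1, 1, 0], by decide⟩

theorem mat_orders : matA ^ 2 = 1 ∧ matA ≠ 1 ∧ matB ^ 3 = 1 ∧ matB ≠ 1 ∧
    (matA * matB) ^ 7 = 1 ∧ matA * matB ≠ 1 := by
  decide +kernel

/-- The number of a vector. -/
def enc (v : Fin 3 → ZMod 2) : ℕ :=
  (if v 0 = 1 then 1 else 0) ^^^ ((if v 1 = 1 then 30 else 0) ^^^ (if v 2 = 1 then 1024 else 0))

/-- The mask of a number. -/
def trioMask (n : ℕ) : ℕ := ((maskOf.find? fun t => Nat.beq t.1 n).getD (0, 0)).2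

theorem enc_spec : (∀ v w, enc v = enc w → v = w) ∧
    (∀ v, enc v ∈ ({0, 1, 30, 31, 1024, 1025, 1054, 1055} : Finset ℕ)) ∧
    (∀ n ∈ ({0, 1, 30, 31, 1024, 1025, 1054, 1055} : Finset ℕ), ∃ v, enc v = n) ∧
    (∀ v, enc v < 2048 ∧ trioMask (enc v) < 2 ^ 24 ∧ app pairCols (psi (trioMask (enc v))) = enc v) := by
  decide +kernel

theorem move_spec : ∀ v, app pairCols (psi (SB.fwdMask genA.1 (trioMask (enc v)))) = enc (matA.1.mulVec v) ∧
    app pairCols (psi (SB.fwdMask genB.1 (trioMask (enc v)))) = enc (matB.1.mulVec v) := by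
  decide +kernel

theorem list_spec : allF eltOK₂ (genA :: genB :: elts) = true ∧
    allF (fun g => allF (fun x => anyF (fun y => sameF (cmpF g.1 x.1) y.1) elts) elts) [genA, genB] = true ∧
    anyF (fun y => sameF idC y.1) elts = true ∧
    allF (fun x => sameF x.1 idC ||
      !(Nat.beq (psi (SB.fwdMask x.1 (trioMask 1))) (psi (trioMask 1)) &&
        (Nat.beq (psi (SB.fwdMask x.1 (trioMask 30))) (psi (trioMask 30)) &&
          Nat.beq (psi (SB.fwdMask x.1 (trioMask 1024))) (psi (trioMask 1024))))) elts = true := by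
  decide +kernel

attribute [local irreducible] elts genA genB

theorem ev_smul {σ : Equiv.Perm GolayPt} {e : Elt} (he : validElt 5 24 e = true) (hσ : permOf e = σ) (m : ℕ) :
    ev (σ • maskSet m) = psi (SB.fwdMask e.1 m) := by
  have hc := code_permOf he
  rw [hσ] at hc
  rw [ev, ← SB.maskSet_fwdMask hc m, toMask_maskSet (SB.fwdMask_lt _ _ fun i hi => hc.lt hi)]

theorem ev_mask {m : ℕ} (hm : m < 2 ^ 24) : ev (maskSet m) = psi m := by rw [ev, toMask_maskSet hm]

/-- Every element of the group generated is in the list. -/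
theorem mem_elts {σ : Equiv.Perm GolayPt} (h : σ ∈ genPerm [genA, genB]) : ∃ x ∈ elts, permOf x = σ := by
  classical
  obtain ⟨hok, hclosed, hone, -⟩ := list_spec
  have hv : ∀ e ∈ genA :: genB :: elts, validElt 5 24 e = true := fun e he =>
    (eltOK_spec (allF_iff.1 hok e he)).1
  set S : Finset (Equiv.Perm GolayPt) := (elts.map permOf).toFinset with hS
  have hgen : genPerm [genA, genB] ≤ MulAction.stabilizer (Equiv.Perm GolayPt) S := by
    refine genPerm_induction _ fun g hg => MulAction.mem_stabilizer_iff.2 ?_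
    refine Finset.eq_of_subset_of_card_le ?_ (Finset.card_smul_finset _ _).ge
    intro τ hτ
    obtain ⟨x', hx', rfl⟩ := Finset.mem_smul_finset.1 hτ
    rw [hS, List.mem_toFinset, List.mem_map] at hx' ⊢
    obtain ⟨x, hx, rfl⟩ := hx'
    obtain ⟨y, hy, hs⟩ := anyF_iff.1 (allF_iff.1 (allF_iff.1 hclosed g hg) x hx)
    refine ⟨y, hy, ?_⟩
    have hgv : validElt 5 24 g = true := hv g (List.mem_append_left elts hg)
    exact ((sameF_iff ((code_permOf hgv).cmp (code_permOf (hv x (List.mem_append_right [genA, genB] hx))))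
      (code_permOf (hv y (List.mem_append_right [genA, genB] hy)))).1 hs).symm
  obtain ⟨o, ho, hs⟩ := anyF_iff.1 hone
  have ho1 : permOf o = 1 := ((sameF_iff code_idC (code_permOf (hv o (List.mem_append_right [genA, genB] ho)))).1 hs).symm
  have h1 : (1 : Equiv.Perm GolayPt) ∈ S := by
    rw [hS, List.mem_toFinset, List.mem_map]
    exact ⟨o, ho, ho1⟩
  have h2 := Finset.smul_mem_smul_finset (a := σ) h1
  rw [MulAction.mem_stabilizer_iff.1 (hgen h), smul_eq_mul, mul_one, hS, List.mem_toFinset, List.mem_map] at h2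
  exact h2

end TrioL32

namespace BigCoords

open TrioL32

variable {G : Type*} [Group G] [Finite G] {z : G} {P : Subgroup G} {M : Model z P} {B : BigData M}
  (C : BigCoords B)

theorem exists_L32 (hT : ∀ n < 2048, (Orb.tMask.testBit n = true ↔ n ≠ 0 ∧ ¬ IsConj z (C.el n)))
    (hcard : Nat.card ↥(normalizer (B.V : Set G)) = 1771 * (2 ^ 21 * 135)) (D : BigPack z B.V) :
    ∃ K2 : Subgroup G, (∀ k ∈ K2, ∀ n ∈ ({0, 1, 30, 31, 1024, 1025, 1054, 1055} : Finset ℕ),
      ∃ m ∈ ({0, 1, 30, 31, 1024, 1025, 1054, 1055} : Finset ℕ), k * C.el n * k⁻¹ = C.el m) ∧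
      Nonempty (↥K2 ≃* Matrix.SpecialLinearGroup (Fin 3) (ZMod 2)) := by
  classical
  obtain ⟨Φ, hΦ, hker, hsurj⟩ := C.exists_hom hT hcard
  obtain ⟨K, hKN, hKV, hKsup, -⟩ := exists_complement M D
  obtain ⟨henc, hencmem, hencsurj, hmask⟩ := enc_spec
  obtain ⟨hok, -, -, hfaith⟩ := list_spec
  -- the element of a number is the element of its set of points
  have hel : ∀ v, C.el (enc v) = C.eS (maskSet (trioMask (enc v))) := fun v => by
    rw [eS, ev_mask (hmask v).2.1, (hmask v).2.2]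
  have heven : ∀ v, (maskSet (trioMask (enc v))).card % 2 = 0 := by
    decide +kernel
  -- conjugation by an element of the normaliser
  have hconj : ∀ (n : ↥(normalizer (B.V : Set G))) (v : Fin 3 → ZMod 2),
      (n : G) * C.el (enc v) * (n : G)⁻¹ =
        C.el (app pairCols (ev ((Φ n : Equiv.Perm GolayPt) • maskSet (trioMask (enc v))))) := fun n v => by
    rw [hel v]
    exact C.pi_even (hΦ n) _ (heven v)
  -- the subgroup of pairs of an element and the matrix of its action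
  let Γ : Subgroup (G × Matrix.SpecialLinearGroup (Fin 3) (ZMod 2)) :=
    { carrier := {x | ∀ v, x.1 * C.el (enc v) * x.1⁻¹ = C.el (enc (x.2.1.mulVec v))}
      one_mem' := fun v => by
        show 1 * C.el (enc v) * 1⁻¹ = C.el (enc (((1 : Matrix.SpecialLinearGroup (Fin 3) (ZMod 2)).1).mulVec v))
        rw [Matrix.SpecialLinearGroup.coe_one, Matrix.one_mulVec]
        group
      mul_mem' := fun {x y} hx hy v => by
        simp only [Prod.fst_mul, Prod.snd_mul, Matrix.SpecialLinearGroup.coe_mul, ← Matrix.mulVec_mulVec]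
        rw [show x.1 * y.1 * C.el (enc v) * (x.1 * y.1)⁻¹ = x.1 * (y.1 * C.el (enc v) * y.1⁻¹) * x.1⁻¹ by group,
          hy v, hx]
      inv_mem' := fun {x} hx v => by
        have h := hx ((x⁻¹).2.1.mulVec v)
        rw [Matrix.mulVec_mulVec, ← Matrix.SpecialLinearGroup.coe_mul, Prod.snd_inv, mul_inv_cancel,
          Matrix.SpecialLinearGroup.coe_one, Matrix.one_mulVec] at h
        rw [Prod.fst_inv, Prod.snd_inv, ← h]
        group }
  -- the part over the group generated
  set ΦK : ↥K →* ↥M24 := Φ.comp (Subgroup.inclusion hKN) with hΦK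
  let Γ' : Subgroup (G × Matrix.SpecialLinearGroup (Fin 3) (ZMod 2)) :=
    Γ ⊓ ((((genPerm [genA, genB]).comap M24.subtype).comap ΦK).map K.subtype).prod ⊤
  have hgen : ∀ (e : Elt) (A : Matrix.SpecialLinearGroup (Fin 3) (ZMod 2)), e ∈ [genA, genB] →
      (∀ v, app pairCols (psi (SB.fwdMask e.1 (trioMask (enc v)))) = enc (A.1.mulVec v)) →
      ∃ k : G, (k, A) ∈ Γ' := by
    intro e A he hA
    obtain ⟨hev, heM⟩ := eltOK_spec (allF_iff.1 hok e (List.mem_append_left elts he))
    obtain ⟨n, hn⟩ := hsurj ⟨permOf e, heM⟩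
    have hnm : (n : G) ∈ (((K ⊔ B.V : Subgroup G)) : Set G) := by rw [hKsup]; exact n.2
    rw [coe_mul_of_left_le_normalizer_right K B.V hKN] at hnm
    obtain ⟨k, hk, w, hw, hkw⟩ := hnm
    have hkey : (ΦK ⟨k, hk⟩ : Equiv.Perm GolayPt) = permOf e := by
      have hw1 : Φ ⟨w, le_normalizer hw⟩ = 1 := by
        rw [← MonoidHom.mem_ker, hker, mem_subgroupOf]
        exact hw
      have hnkw : n = Subgroup.inclusion hKN ⟨k, hk⟩ * ⟨w, le_normalizer hw⟩ := Subtype.ext hkw.symm
      rw [hnkw, map_mul, hw1, mul_one] at hn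
      exact congrArg Subtype.val hn
    refine ⟨k, mem_inf.2 ⟨fun v => ?_, mem_prod.2 ⟨⟨⟨k, hk⟩, ?_, rfl⟩, mem_top _⟩⟩⟩
    · refine (hconj (Subgroup.inclusion hKN ⟨k, hk⟩) v).trans ?_
      rw [← hA v]
      exact congrArg (fun t => C.el (app pairCols t)) (ev_smul hev hkey.symm _)
    · show (ΦK ⟨k, hk⟩ : Equiv.Perm GolayPt) ∈ genPerm [genA, genB]
      rw [hkey]
      exact permOf_mem_genPerm he
  obtain ⟨ka, hka⟩ := hgen genA matA (by simp) fun v => (move_spec v).1
  obtain ⟨kb, hkb⟩ := hgen genB matB (by simp) fun v => (move_spec v).2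
  -- the two projections
  set π₁ : ↥Γ' →* G := (MonoidHom.fst _ _).comp Γ'.subtype with hπ₁
  set π₂ : ↥Γ' →* Matrix.SpecialLinearGroup (Fin 3) (ZMod 2) := (MonoidHom.snd _ _).comp Γ'.subtype with hπ₂
  have hinj₁ : Function.Injective π₁ := by
    rw [injective_iff_map_eq_one]
    rintro ⟨⟨k, A⟩, hx⟩ (rfl : k = 1)
    refine Subtype.ext (Prod.ext rfl (Subtype.ext (Matrix.ext_iff_mulVec.2 fun v => ?_)))
    have h := (mem_inf.1 hx).1 v
    simp only [one_mul, inv_one, mul_one] at h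
    show A.1.mulVec v = ((1 : Matrix.SpecialLinearGroup (Fin 3) (ZMod 2)).1).mulVec v
    rw [Matrix.SpecialLinearGroup.coe_one, Matrix.one_mulVec]
    exact (henc _ _ (C.el_inj _ (hmask _).1 _ (hmask _).1 h)).symm
  have hinj₂ : Function.Injective π₂ := by
    rw [injective_iff_map_eq_one]
    rintro ⟨⟨k, A⟩, hx⟩ (rfl : A = 1)
    obtain ⟨⟨k', hk'⟩, hR, hke⟩ := (mem_prod.1 (mem_inf.1 hx).2).1
    replace hke : k' = k := hke
    subst hke
    obtain ⟨x, hxl, hxσ⟩ := mem_elts (show (ΦK ⟨k', hk'⟩ : Equiv.Perm GolayPt) ∈ genPerm [genA, genB] from hR)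
    have hxv := (eltOK_spec (allF_iff.1 hok x (List.mem_append_right [genA, genB] hxl))).1
    have hfix : ∀ v, psi (SB.fwdMask x.1 (trioMask (enc v))) = psi (trioMask (enc v)) := by
      intro v
      have h := (mem_inf.1 hx).1 v
      simp only [Matrix.SpecialLinearGroup.coe_one, Matrix.one_mulVec] at h
      rw [hel v] at h
      have h' := C.pi_even (hΦ (Subgroup.inclusion hKN ⟨k', hk'⟩)) _ (heven v)
      rw [← ev_smul hxv hxσ, ← ev_mask (hmask v).2.1]
      exact C.eS_inj (h'.symm.trans h)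
    have hid : sameF x.1 idC = true := by
      rcases Bool.or_eq_true_iff.1 (allF_iff.1 hfaith x hxl) with h | h
      · exact h
      · exfalso
        rw [show (1 : ℕ) = enc ![1, 0, 0] by decide, show (30 : ℕ) = enc ![0, 1, 0] by decide,
          show (1024 : ℕ) = enc ![0, 0, 1] by decide, hfix, hfix, hfix] at h
        simp at h
    have hk1 : ΦK ⟨k', hk'⟩ = 1 := Subtype.ext (hxσ.symm.trans
      ((sameF_iff (code_permOf hxv) code_idC).1 hid))
    have hkV : k' ∈ B.V := by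
      have h : Subgroup.inclusion hKN ⟨k', hk'⟩ ∈ Φ.ker := MonoidHom.mem_ker.2 hk1
      rw [hker, mem_subgroupOf] at h
      exact h
    exact Subtype.ext (Prod.ext (mem_bot.1 (hKV ▸ mem_inf.2 ⟨hk', hkV⟩)) rfl)
  have hsurj₂ : Function.Surjective π₂ := by
    rw [← MonoidHom.range_eq_top]
    obtain ⟨a2, a1, b3, b1, ab7, ab1⟩ := mat_orders
    have ha : matA ∈ π₂.range := ⟨⟨_, hka⟩, rfl⟩
    have hb : matB ∈ π₂.range := ⟨⟨_, hkb⟩, rfl⟩
    have hdvd : ∀ {x : Matrix.SpecialLinearGroup (Fin 3) (ZMod 2)} {p : ℕ}, p.Prime → x ∈ π₂.range →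
        x ^ p = 1 → x ≠ 1 → p ∣ Nat.card ↥π₂.range := by
      intro x p hp hx hxp hx1
      haveI := Fact.mk hp
      rw [← orderOf_eq_prime hxp hx1, ← Nat.card_zpowers]
      exact Subgroup.card_dvd_of_le (zpowers_le.2 hx)
    refine MonsterT.Seven.sl32_top ?_
    exact Nat.Coprime.mul_dvd_of_dvd_of_dvd (by norm_num : Nat.Coprime 6 7)
      (Nat.Coprime.mul_dvd_of_dvd_of_dvd (by norm_num : Nat.Coprime 2 3) (hdvd Nat.prime_two ha a2 a1)
        (hdvd Nat.prime_three hb b3 b1))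
      (hdvd (by norm_num) (mul_mem ha hb) ab7 ab1)
  refine ⟨π₁.range, ?_, ⟨(MonoidHom.ofInjective hinj₁).symm.trans (MulEquiv.ofBijective π₂ ⟨hinj₂, hsurj₂⟩)⟩⟩
  rintro _ ⟨⟨⟨k, A⟩, hx⟩, rfl⟩ n hn
  obtain ⟨v, rfl⟩ := hencsurj n hn
  exact ⟨_, hencmem _, (mem_inf.1 hx).1 v⟩

end BigCoords

end Cfsg.Agent.JankoFour
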