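import Cfsg.Agent.Lib.JankoFour.SevenLocal
import Cfsg.Agent.Lib.JankoFour.TrioL32
import Mathlib.GroupTheory.Perm.Fin

/-!
The normaliser of the special 2-subgroup of order 2^15.
-/

set_option autoImplicit false
set_option linter.unusedSectionVars false
set_option maxRecDepth 20000

namespace Cfsg.Agent.JankoFour

open Subgroup
open Cfsg.Agent.LargeFischer (QG)
open Cfsg.Agent.J4Module (app)
open Cfsg.Agent.J4Module.Data
open FiveTab Big

theorem Trio.ell_word : (∀ n ∈ ({0, 1, 30, 31, 1024, 1025, 1054, 1055} : Finset ℕ),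
      n < 2048 ∧ n / 64 % 16 = 0 ∧ app (wordC wordEll) (bigW.getD (n % 64) 0) ∈ 0 :: ell) ∧
    (∀ e ∈ 0 :: ell, app fC e ∈ 0 :: ell) ∧
    ({0, 1, 30, 31, 1024, 1025, 1054, 1055} : Finset ℕ).card = 8 := by
  decide +kernel

theorem Trio.factorization_one {p n : ℕ} (hp : p.Prime) (hn : n ≠ 0) (h1 : p ∣ n) (h2 : ¬ p ^ 2 ∣ n) :
    n.factorization p = 1 := by
  have hge : 1 ≤ n.factorization p := (hp.pow_dvd_iff_le_factorization hn).1 (by rwa [pow_one])
  have hlt : ¬ 2 ≤ n.factorization p := fun h => h2 ((hp.pow_dvd_iff_le_factorization hn).2 h)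
  omega

namespace Model.Five

variable {G : Type*} [Group G] [Finite G] {z : G} {P : Subgroup G} {M : Model z P} (F : M.Five)
  {B : BigData M} (Cc : BigCoords B)
  (hT : ∀ n < 2048, (Orb.tMask.testBit n = true ↔ n ≠ 0 ∧ ¬ IsConj z (Cc.el n)))
  (D : BigPack z B.V) (hinto : ∀ t : G, orderOf t = 2 → ∃ g : G, g * t * g⁻¹ ∈ B.V)

section
include F Cc hT D

theorem quot_lG : Nonempty (↥(normalizer (M.lG : Set G)) ⧸ M.lG.subgroupOf (normalizer (M.lG : Set G)) ≃*
    Equiv.Perm (Fin 5) × Matrix.SpecialLinearGroup (Fin 3) (ZMod 2)) := by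
  obtain ⟨φ, θ, -, -, hθ, hker, -, -⟩ := F.exists_theta Cc hT D
  let e := MulEquiv.subgroupCongr (F.normalizer_lG Cc hT D)
  let θ' := θ.comp e.toMonoidHom
  have hs : Function.Surjective θ' := hθ.comp e.surjective
  have hk : θ'.ker = M.lG.subgroupOf (normalizer (M.lG : Set G)) := by
    ext n
    rw [MonoidHom.mem_ker, mem_subgroupOf]
    refine Iff.trans ((MonoidHom.mem_ker (f := θ) (x := e n)).symm) ?_
    rw [hker, mem_subgroupOf]
    rfl
  obtain ⟨a⟩ := aut_eight ↥M.eG (fun a => Subtype.ext (M.eG_sq _ a.2)) M.card_eG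
  exact ⟨(QuotientGroup.quotientMulEquivOfEq hk.symm).trans
    ((QuotientGroup.quotientKerEquivOfSurjective θ' hs).trans ((MulEquiv.refl _).prodCongr a))⟩

theorem no_complement_lG (K : Subgroup ↥(normalizer (M.lG : Set G))) :
    ¬ (M.lG.subgroupOf (normalizer (M.lG : Set G))).IsComplement' K := by
  classical
  intro hK
  haveI : Fact (Nat.Prime 5) := ⟨by norm_num⟩
  obtain ⟨φ, θ, -, -, hθ, hker, -, hθ2⟩ := F.exists_theta Cc hT D
  let e := MulEquiv.subgroupCongr (F.normalizer_lG Cc hT D)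
  let ψ : ↥K →* Equiv.Perm (Fin 5) × MulAut ↥M.eG := (θ.comp e.toMonoidHom).comp K.subtype
  have hψi : Function.Injective ψ := by
    rw [injective_iff_map_eq_one]
    intro k hk
    have hm : e k.1 ∈ θ.ker := hk
    rw [hker, mem_subgroupOf] at hm
    exact Subtype.ext (Subgroup.disjoint_def.1 hK.disjoint (mem_subgroupOf.2 hm) k.2)
  have hψs : Function.Surjective ψ := by
    intro x
    obtain ⟨n, hn⟩ := hθ x
    obtain ⟨⟨l, k⟩, hlk, -⟩ := hK.existsUnique (e.symm n)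
    refine ⟨⟨k.1, k.2⟩, ?_⟩
    have hl : θ (e l.1) = 1 := by
      rw [← MonoidHom.mem_ker, hker, mem_subgroupOf]
      exact mem_subgroupOf.1 l.2
    have h : θ (e (l.1 * k.1)) = x := by rw [show l.1 * k.1 = e.symm n from hlk, MulEquiv.apply_symm_apply, hn]
    rw [map_mul, map_mul, hl, one_mul] at h
    exact h
  have hcen : ∀ k : ↥K, (ψ k).2 = 1 ↔ ((k.1 : G)) ∈ centralizer (M.eG : Set G) := by
    intro k
    rw [show (ψ k).2 = M.eG.normalizerMonoidHom (e k.1) from hθ2 _, ← MonoidHom.mem_ker,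
      Subgroup.normalizerMonoidHom_ker, mem_subgroupOf]
    rfl
  -- an element of order five on the five points
  obtain ⟨d, hd⟩ := hψs (finRotate 5, 1)
  have hdC : (d.1 : G) ∈ centralizer (M.eG : Set G) := (hcen d).1 (by rw [hd])
  have hrot : (finRotate 5) ^ 5 = 1 ∧ finRotate 5 ≠ 1 := by decide +kernel
  have hdo : orderOf (d.1 : G) = 5 := by
    rw [Subgroup.orderOf_coe, Subgroup.orderOf_coe, ← orderOf_injective ψ hψi, hd]
    refine orderOf_eq_prime (Prod.ext hrot.1 ?_) fun h => hrot.2 (congrArg Prod.fst h)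
    exact one_pow _
  -- its partner
  let T : Subgroup ↥K := ((MonoidHom.fst _ _).comp ψ).ker
  have hTc : Nat.card ↥T = 168 := by
    rw [← card_aut_eight _ (fun a : ↥M.eG => Subtype.ext (M.eG_sq _ a.2)) M.card_eG]
    refine Nat.card_congr (Equiv.ofBijective (fun t => (ψ t.1).2) ⟨fun a b h => ?_, fun α => ?_⟩)
    · refine Subtype.ext (hψi (Prod.ext ?_ h))
      exact (MonoidHom.mem_ker.1 a.2).trans (MonoidHom.mem_ker.1 b.2).symm
    · obtain ⟨k, hk⟩ := hψs (1, α)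
      exact ⟨⟨k, MonoidHom.mem_ker.2 (congrArg Prod.fst hk)⟩, congrArg Prod.snd hk⟩
  let ι : ↥K →* G := (normalizer (M.lG : Set G)).subtype.comp K.subtype
  have hιi : Function.Injective ι := (Subgroup.subtype_injective _).comp K.subtype_injective
  -- move it to the standard element
  have hcC : (F.c : G) ∈ centralizer (M.eG : Set G) := mem_centralizer_iff.2 fun a ha =>
    mem_centralizer_singleton_iff.1 (F.eG_le_K ha)
  set C := centralizer (M.eG : Set G)
  have hfac : (Nat.card ↥C).factorization 5 = 1 := by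
    rw [M.card_centralizer_eG]
    exact Trio.factorization_one (by norm_num) (by norm_num) (by norm_num) (by norm_num)
  let a : ↥C := ⟨d.1, hdC⟩
  let b : ↥C := ⟨F.c, hcC⟩
  have ha : orderOf a = 5 := (Subgroup.orderOf_coe a).symm.trans hdo
  have hb : orderOf b = 5 := (Subgroup.orderOf_coe b).symm.trans F.order'
  let Sa : Sylow 5 ↥C := Sylow.ofCard (zpowers a) (by rw [hfac, Nat.card_zpowers, ha, pow_one])
  let Sb : Sylow 5 ↥C := Sylow.ofCard (zpowers b) (by rw [hfac, Nat.card_zpowers, hb, pow_one])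
  obtain ⟨y, hy⟩ := MulAction.exists_smul_eq ↥C Sa Sb
  have hy' : b ∈ (zpowers a).map (MulAut.conj y).toMonoidHom := by
    have h : (zpowers a).map (MulAut.conj y).toMonoidHom = zpowers b := by
      rw [show zpowers b = (Sb : Subgroup _) from rfl, ← hy]; rfl
    exact h.ge (mem_zpowers b)
  obtain ⟨_, ht, hyb⟩ := hy'
  obtain ⟨i, rfl⟩ := mem_zpowers_iff.1 ht
  have hyb' : (y : G) * (d.1 : G) ^ i * (y : G)⁻¹ = F.c := congrArg Subtype.val hyb
  set T' : Subgroup G := (T.map ι).map (MulAut.conj (y : G)).toMonoidHom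
  have hT'c : Nat.card ↥T' = 168 := by
    rw [card_map_of_injective (MulAut.conj (y : G)).injective, card_map_of_injective hιi, hTc]
  have hT'K : T' ≤ F.K := by
    rintro _ ⟨_, ⟨t, ht, rfl⟩, rfl⟩
    refine mem_centralizer_singleton_iff.2 ?_
    have htd : Commute t d := by
      refine hψi ?_
      rw [map_mul, map_mul, hd]
      have h1 : (ψ t).1 = 1 := MonoidHom.mem_ker.1 ht
      exact Prod.ext (by simp [h1]) (by simp)
    show (y : G) * ι t * (y : G)⁻¹ * F.c = F.c * ((y : G) * ι t * (y : G)⁻¹)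
    rw [← hyb', show (d.1 : G) = ι d from rfl]
    calc (y : G) * ι t * (y : G)⁻¹ * ((y : G) * ι d ^ i * (y : G)⁻¹) = (y : G) * (ι t * ι d ^ i) * (y : G)⁻¹ := by
          group
      _ = (y : G) * (ι d ^ i * ι t) * (y : G)⁻¹ := by rw [((htd.map ι).zpow_right i).eq]
      _ = _ := by group
  obtain ⟨J, ⟨hzJ, hJK, hcom, hdisj, hsup⟩, hEJ, E, hEn, hE, -, hEc, ⟨q⟩, hns⟩ := F.exists_J Cc hT D
  have hJc : Nat.card ↥J = 1344 := by
    rw [Subgroup.card_eq_card_quotient_mul_card_subgroup E, Nat.card_congr q.toEquiv, card_sl32.2, hEc]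
  have hT'J : T' ≤ J := by
    intro g hg
    have hgK := hT'K hg
    rw [← hsup, ← SetLike.mem_coe, Subgroup.coe_mul_of_left_le_normalizer_right _ _ ?_] at hgK
    · obtain ⟨t, ht, j, hj, rfl⟩ := Set.mem_mul.1 hgK
      have h168 : (t * j) ^ 168 = 1 := by
        rw [← hT'c]
        exact congrArg Subtype.val (pow_card_eq_one' (x := (⟨t * j, hg⟩ : ↥T')))
      rw [(show Commute t j from hcom t ht j hj).mul_pow] at h168
      have hm : t ^ 168 ∈ zpowers (F.c : G) ⊓ J :=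
        mem_inf.2 ⟨pow_mem ht _, by rw [eq_inv_of_mul_eq_one_left h168]; exact inv_mem (pow_mem hj _)⟩
      rw [hdisj, mem_bot] at hm
      have h1 := orderOf_dvd_of_pow_eq_one hm
      have h2 := Subgroup.orderOf_dvd_natCard _ ht
      rw [Nat.card_zpowers, F.order'] at h2
      have ho : orderOf t = 1 := Nat.eq_one_of_dvd_one (by
        have := Nat.dvd_gcd h1 h2
        norm_num at this ⊢
        exact this)
      rw [orderOf_eq_one_iff.1 ho, one_mul]
      exact hj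
    · intro t ht
      refine mem_normalizer_fintype fun j hj => ?_
      rw [hcom t ht j hj, mul_inv_cancel_right]
      exact hj
  refine hns (T'.subgroupOf J) (Subgroup.isComplement'_of_card_mul_and_disjoint ?_ ?_)
  · rw [hEc, Nat.card_congr (subgroupOfEquivOfLe hT'J).toEquiv, hT'c, hJc]
  · rw [Subgroup.disjoint_def]
    intro x hxE hxT
    rw [hE, mem_subgroupOf] at hxE
    obtain ⟨_, ⟨t, ht, rfl⟩, hx⟩ := mem_subgroupOf.1 hxT
    have hxC : (y : G) * ι t * (y : G)⁻¹ ∈ C := by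
      rw [show (y : G) * ι t * (y : G)⁻¹ = (x : G) from hx]
      exact mem_centralizer_iff.2 fun a ha => M.eG_comm ha hxE
    have htC : ι t ∈ C := by
      have := mul_mem (mul_mem (inv_mem y.2) hxC) y.2
      simpa [mul_assoc] using this
    have ht1 : t = 1 := hψi (by
      rw [map_one]
      exact Prod.ext (MonoidHom.mem_ker.1 ht) ((hcen t).2 htC))
    exact Subtype.ext (hx.symm.trans (by rw [ht1]; simp))

/-- The normaliser of the subgroup of order five. -/
theorem normalizer_five_le : normalizer (zpowers (F.c : G) : Set G) ≤ normalizer (M.eG : Set G) := by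
  obtain ⟨n, -, hna, hnc⟩ := F.exists_norm
  have hnc' : (n : G) * F.c * (n : G)⁻¹ = (F.c : G) ^ 2 := by simpa using congrArg Subtype.val hnc
  have hnE : (n : G) ∈ normalizer (M.eG : Set G) := by
    refine mem_normalizer_fintype fun a ha => ?_
    obtain ⟨x, rfl, hx⟩ := ha
    refine ⟨M.ctx.conjQ n x, rfl, ?_⟩
    rw [hna x]
    exact Trio.ell_word.2.1 _ hx
  have hpow : ∀ i : ℕ, (n : G) ^ i * F.c * ((n : G) ^ i)⁻¹ = (F.c : G) ^ (2 ^ i) := by
    intro i
    induction i with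
    | zero => simp
    | succ i ih =>
      rw [pow_succ' (n : G), show (n : G) * (n : G) ^ i * F.c * ((n : G) * (n : G) ^ i)⁻¹ =
        (n : G) * ((n : G) ^ i * F.c * ((n : G) ^ i)⁻¹) * (n : G)⁻¹ by group,
        ih, ← conj_pow, hnc', ← pow_mul, ← pow_succ']
  classical
  intro g hg
  obtain ⟨k, hk, hgk⟩ := Finset.mem_image.1 ((isOfFinOrder_of_finite (F.c : G)).mem_zpowers_iff_mem_range_orderOf.1
    ((Subgroup.mem_normalizer_iff.1 hg _).1 (mem_zpowers (F.c : G))))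
  rw [Finset.mem_range, F.order'] at hk
  have hk0 : k ≠ 0 := fun h => by
    rw [h, pow_zero] at hgk
    have h1 : (F.c : G) = 1 := conj_eq_one_iff.1 hgk.symm
    have h5 := F.order'
    rw [h1, orderOf_one] at h5
    norm_num at h5
  obtain ⟨i, hi⟩ : ∃ i : ℕ, 2 ^ i % 5 = k := by
    interval_cases k
    exacts [absurd rfl hk0, ⟨0, rfl⟩, ⟨1, rfl⟩, ⟨3, rfl⟩, ⟨2, rfl⟩]
  have hh : ((n : G) ^ i)⁻¹ * g ∈ F.K := by
    have e : g * F.c * g⁻¹ = (n : G) ^ i * F.c * ((n : G) ^ i)⁻¹ := by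
      rw [← hgk, hpow, pow_eq_pow_mod (2 ^ i) F.c_pow_five, hi]
    refine mem_centralizer_singleton_iff.2 (mul_inv_eq_iff_eq_mul.1 ?_)
    calc ((n : G) ^ i)⁻¹ * g * F.c * (((n : G) ^ i)⁻¹ * g)⁻¹
        = ((n : G) ^ i)⁻¹ * (g * F.c * g⁻¹) * (n : G) ^ i := by group
      _ = F.c := by rw [e]; group
  have := mul_mem (pow_mem hnE i) (F.K_le Cc hT D hh)
  rwa [mul_inv_cancel_left] at this

theorem exists_L32_normalizer (hcard : Nat.card ↥(normalizer (B.V : Set G)) = 1771 * (2 ^ 21 * 135)) :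
    ∃ K₂ : Subgroup G, K₂ ≤ normalizer (M.eG : Set G) ∧
      Nonempty (↥K₂ ≃* Matrix.SpecialLinearGroup (Fin 3) (ZMod 2)) := by
  classical
  obtain ⟨K, hK, ⟨eK⟩⟩ := Cc.exists_L32 hT hcard D
  obtain ⟨hw, -, -, -⟩ := FiveTab.word_spec
  obtain ⟨h, hh⟩ := M.exists_elem _ (gen_mono (wordC_memK fun k hk => hw k (List.mem_append_left _ hk)))
  obtain ⟨hs, -, hc8⟩ := Trio.ell_word
  set S : Finset ℕ := {0, 1, 30, 31, 1024, 1025, 1054, 1055}
  have hmem : ∀ n ∈ S, (h : G) * Cc.el n * (h : G)⁻¹ ∈ M.eG := fun n hn => by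
    obtain ⟨h1, h2, h3⟩ := hs n hn
    refine ⟨M.ctx.conjQ h ⟨Cc.el n, (Cc.el_mem_Q n h1).2 h2⟩, rfl, ?_⟩
    rw [hh _, Cc.el_vec n h1 _ rfl]
    exact h3
  let f : {n // n ∈ S} → ↥M.eG := fun n => ⟨_, hmem n.1 n.2⟩
  have hf : Function.Bijective f := by
    refine (Nat.bijective_iff_injective_and_card f).2 ⟨fun a b e => ?_, ?_⟩
    · have e' := mul_left_cancel (mul_right_cancel (congrArg Subtype.val e))
      exact Subtype.ext (Cc.el_inj _ (hs _ a.2).1 _ (hs _ b.2).1 e')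
    · rw [Nat.card_eq_fintype_card, Fintype.card_coe, hc8, M.card_eG]
  set σ : G ≃* G := MulAut.conj (h : G)
  refine ⟨K.map σ.toMonoidHom, ?_, ⟨(K.equivMapOfInjective σ.toMonoidHom σ.injective).symm.trans eK⟩⟩
  rintro _ ⟨k, hk, rfl⟩
  refine mem_normalizer_fintype fun a ha => ?_
  obtain ⟨⟨n, hn⟩, hna⟩ := hf.2 ⟨a, ha⟩
  have hna' : (h : G) * Cc.el n * (h : G)⁻¹ = a := congrArg Subtype.val hna
  obtain ⟨m, hm, hkm⟩ := hK k hk n hn
  have e : σ.toMonoidHom k * a * (σ.toMonoidHom k)⁻¹ = (h : G) * Cc.el m * (h : G)⁻¹ := by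
    rw [← hna', ← hkm]
    show (h : G) * k * (h : G)⁻¹ * _ * ((h : G) * k * (h : G)⁻¹)⁻¹ = _
    group
  rw [SetLike.mem_coe, e]
  exact hmem m hm

end

include F Cc hT D hinto

/-- The trio local subgroup. -/
theorem trio_local (hcard : Nat.card ↥(normalizer (B.V : Set G)) = 1771 * (2 ^ 21 * 135)) :
    ∃ L : Subgroup G, Cfsg.IsSpecial 2 ↥L ∧ Nat.card ↥L = 2 ^ 15 ∧ Nat.card ↥(Subgroup.center ↥L) = 8 ∧
    Nonempty (↥(normalizer (L : Set G)) ⧸ L.subgroupOf (normalizer (L : Set G)) ≃*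
      Equiv.Perm (Fin 5) × Matrix.SpecialLinearGroup (Fin 3) (ZMod 2)) ∧
    (∀ K : Subgroup ↥(normalizer (L : Set G)), ¬ (L.subgroupOf (normalizer (L : Set G))).IsComplement' K) ∧
    (∃ K₁ : Subgroup G, K₁ ≤ normalizer (L : Set G) ∧ Nonempty (↥K₁ ≃* Equiv.Perm (Fin 5))) ∧
    (∃ K₂ : Subgroup G, K₂ ≤ normalizer (L : Set G) ∧
      Nonempty (↥K₂ ≃* Matrix.SpecialLinearGroup (Fin 3) (ZMod 2))) ∧
    (∃ Q : Sylow 5 G, normalizer ((Q : Subgroup G) : Set G) ≤ normalizer (L : Set G)) ∧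
    (∃ S : Sylow 7 G, normalizer ((S : Subgroup G) : Set G) ≤ normalizer (L : Set G)) := by
  haveI : Fact (Nat.Prime 5) := ⟨by norm_num⟩
  haveI : Fact (Nat.Prime 7) := ⟨by norm_num⟩
  obtain ⟨h1, h2⟩ := F.special_lG Cc hT D
  have hN := F.normalizer_lG Cc hT D
  obtain ⟨s, I, hs, -, -, -, -, -, hI, hIN, -, -, hsN, -⟩ := F.seven_core Cc hT D hinto
  have h5 : (Nat.card G).factorization 5 = 1 := by
    refine Trio.factorization_one (by norm_num) Nat.card_pos.ne' ?_ (F.not_sq_dvd Cc hT D)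
    rw [← F.order']
    exact orderOf_dvd_natCard _
  have h7 : (Nat.card G).factorization 7 = 1 := by
    refine Trio.factorization_one (by norm_num) Nat.card_pos.ne' ?_ (F.not_sq_dvd_seven Cc hT D hinto)
    rw [← hs]
    exact orderOf_dvd_natCard _
  refine ⟨M.lG, h1, M.card_lG, h2, F.quot_lG Cc hT D, F.no_complement_lG Cc hT D, ⟨I, hN ▸ hIN, hI⟩, ?_,
    ⟨Sylow.ofCard (zpowers (F.c : G)) (by rw [h5, Nat.card_zpowers, F.order', pow_one]),
      hN ▸ F.normalizer_five_le Cc hT D⟩,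
    ⟨Sylow.ofCard (zpowers s) (by rw [h7, Nat.card_zpowers, hs, pow_one]), hN ▸ hsN⟩⟩
  rw [hN]
  exact F.exists_L32_normalizer Cc hT D hcard

end Model.Five

end Cfsg.Agent.JankoFour
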