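import Cfsg.Agent.Lib.JankoFour.FiveLocal
import Cfsg.Agent.Lib.JankoFour.TrioCent
import Cfsg.Agent.Lib.SevenInv.AutFive
import Mathlib.GroupTheory.Perm.Cycle.Type

/-!
The normaliser of the group of order eight modulo its normal 2-subgroup is the product of the symmetric group
of degree five and the linear group of degree three.
-/

set_option autoImplicit false
set_option linter.unusedSectionVars false
set_option maxRecDepth 20000

namespace Cfsg.Agent.JankoFour

open Subgroup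
open Cfsg.Agent.LargeFischer (QG)

namespace Trio

theorem perm5_centre : ∀ π : Equiv.Perm (Fin 5), (∀ i : Fin 5, π * Equiv.swap 0 i = Equiv.swap 0 i * π) → π = 1 := by
  decide +kernel

theorem perm5_conj_three : ∀ x : Equiv.Perm (Fin 5), x * x = 1 → x ≠ 1 →
    ∃ i j : Fin 5, x * (Equiv.swap i j * x * Equiv.swap i j) ≠ 1 ∧
      (x * (Equiv.swap i j * x * Equiv.swap i j)) * (x * (Equiv.swap i j * x * Equiv.swap i j)) *
        (x * (Equiv.swap i j * x * Equiv.swap i j)) = 1 := by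
  decide +kernel

/-- A normal 2-subgroup of the symmetric group of degree five is trivial. -/
theorem perm5_normal_two {N : Subgroup (Equiv.Perm (Fin 5))} (hn : N.Normal) (h2 : IsPGroup 2 ↥N) : N = ⊥ := by
  by_contra hne
  haveI : Fact (Nat.Prime 2) := ⟨Nat.prime_two⟩
  obtain ⟨n, hn'⟩ := IsPGroup.iff_card.1 h2
  have hd : 2 ∣ Nat.card ↥N := by
    rcases n with _ | n
    · exact absurd (Subgroup.card_eq_one.1 (by rw [hn', pow_zero])) hne
    · rw [hn', pow_succ]; exact dvd_mul_left 2 _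
  obtain ⟨⟨x, hxN⟩, hx⟩ := exists_prime_orderOf_dvd_card' 2 hd
  rw [Subgroup.orderOf_mk] at hx
  have hxx : x * x = 1 := by rw [← pow_two, ← hx, pow_orderOf_eq_one]
  have hx1 : x ≠ 1 := fun e => by rw [e, orderOf_one] at hx; norm_num at hx
  obtain ⟨i, j, h1, h3⟩ := perm5_conj_three x hxx hx1
  set y := x * (Equiv.swap i j * x * Equiv.swap i j) with hy
  have hyN : y ∈ N := mul_mem hxN (by
    have := hn.conj_mem x hxN (Equiv.swap i j)
    rwa [Equiv.swap_inv] at this)
  haveI : Fact (Nat.Prime 3) := ⟨Nat.prime_three⟩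
  have ho : orderOf y = 3 := orderOf_eq_prime (by rw [pow_succ, pow_two, h3]) h1
  have h := Subgroup.orderOf_dvd_natCard N hyN
  rw [ho, hn'] at h
  have := (Nat.prime_three).dvd_of_dvd_pow h
  norm_num at this

end Trio

namespace Model

variable {G : Type*} [Group G] [Finite G] {z : G} {P : Subgroup G} (M : Model z P)

/-- The normal 2-subgroup of the centraliser of the group of order eight. -/
def lG : Subgroup G := M.lE.map (centralizer ({z} : Set G)).subtype

theorem lG_le : M.lG ≤ centralizer (M.eG : Set G) := by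
  rintro _ ⟨c, hc, rfl⟩
  exact mem_subgroupOf.1 hc.1

theorem card_lG : Nat.card ↥M.lG = 2 ^ 15 := by
  rw [lG, card_map_of_injective (centralizer ({z} : Set G)).subtype_injective, M.card_lE]

theorem lG_le_normalizer : M.lG ≤ normalizer (M.eG : Set G) := M.lG_le.trans (centralizer_le_normalizer _)

theorem card_centralizer_eG : Nat.card ↥(centralizer (M.eG : Set G)) = 2 ^ 18 * 15 := by
  rw [← M.card_cE]
  exact (Nat.card_congr (subgroupOfEquivOfLe M.centralizer_eG_le).toEquiv).symm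

theorem exists_phiG : ∃ φ : ↥(centralizer (M.eG : Set G)) →* Equiv.Perm (Fin 5), Function.Surjective φ ∧
    ∀ c : ↥(centralizer (M.eG : Set G)), φ c = 1 ↔ (c : G) ∈ M.lG := by
  obtain ⟨φ, hs, hk⟩ := M.exists_phi
  let e := (subgroupOfEquivOfLe M.centralizer_eG_le).symm
  refine ⟨φ.comp e.toMonoidHom, hs.comp e.surjective, fun c => (hk (e c)).trans ⟨fun h => ⟨_, h, rfl⟩, ?_⟩⟩
  rintro ⟨d, hd, he⟩
  have : d = (e c).1 := Subtype.ext he
  exact this ▸ hd

theorem conj_mem_centralizer {g c : G} (hg : g ∈ normalizer (M.eG : Set G)) (hc : c ∈ centralizer (M.eG : Set G)) :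
    g * c * g⁻¹ ∈ centralizer (M.eG : Set G) := by
  refine mem_centralizer_iff.2 fun a ha => ?_
  have h := mem_centralizer_iff.1 hc (g⁻¹ * a * g) (by
    have := (Subgroup.mem_normalizer_iff.1 (inv_mem hg) a).1 ha
    rwa [inv_inv] at this)
  calc a * (g * c * g⁻¹) = g * (g⁻¹ * a * g * c) * g⁻¹ := by group
    _ = g * c * g⁻¹ * a := by rw [h]; group

/-- The 2-subgroup is normal in the normaliser. -/
theorem lG_normal {g l : G} (hg : g ∈ normalizer (M.eG : Set G)) (hl : l ∈ M.lG) : g * l * g⁻¹ ∈ M.lG := by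
  obtain ⟨φ, hs, hk⟩ := M.exists_phiG
  let C := centralizer (M.eG : Set G)
  let U : Subgroup ↥C := (M.lG.map (MulAut.conj g).toMonoidHom).subgroupOf C
  have hLn : ∀ c ∈ C, ∀ m ∈ M.lG, c * m * c⁻¹ ∈ M.lG := fun c hc m hm => by
    have h1 : φ (⟨c, hc⟩ * ⟨m, M.lG_le hm⟩ * ⟨c, hc⟩⁻¹) = 1 := by
      rw [map_mul, map_mul, (hk ⟨m, M.lG_le hm⟩).2 hm, mul_one, map_inv, mul_inv_cancel]
    exact (hk _).1 h1
  have hU : U.Normal := ⟨fun u hu c => by
    obtain ⟨m, hm, e⟩ := mem_subgroupOf.1 hu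
    refine mem_subgroupOf.2 ⟨(g⁻¹ * c * g) * m * (g⁻¹ * c * g)⁻¹, hLn _ ?_ m hm, ?_⟩
    · have := M.conj_mem_centralizer (inv_mem hg) c.2
      rwa [inv_inv] at this
    · show g * (g⁻¹ * c * g * m * (g⁻¹ * c * g)⁻¹) * g⁻¹ = (c : G) * u * (c : G)⁻¹
      rw [← e]
      show _ = (c : G) * (g * m * g⁻¹) * (c : G)⁻¹
      group⟩
  have h2 : IsPGroup 2 ↥(M.lG.map (MulAut.conj g).toMonoidHom) :=
    (IsPGroup.of_card (n := 15) M.card_lG).map _
  have hbot := Trio.perm5_normal_two (hU.map φ hs) ((h2.comap_of_injective C.subtype C.subtype_injective).map φ)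
  have hmem : (⟨g * l * g⁻¹, M.conj_mem_centralizer hg (M.lG_le hl)⟩ : ↥C) ∈ U :=
    mem_subgroupOf.2 ⟨l, hl, rfl⟩
  exact (hk _).1 (mem_bot.1 (hbot ▸ mem_map_of_mem φ hmem))

/-- Each element of the normaliser acts on the quotient by a unique inner automorphism. -/
theorem exists_pi {φ : ↥(centralizer (M.eG : Set G)) →* Equiv.Perm (Fin 5)} (hs : Function.Surjective φ)
    (hk : ∀ c : ↥(centralizer (M.eG : Set G)), φ c = 1 ↔ (c : G) ∈ M.lG) (n : ↥(normalizer (M.eG : Set G))) :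
    ∃ π : Equiv.Perm (Fin 5), ∀ c : ↥(centralizer (M.eG : Set G)),
      φ ⟨(n : G) * c * (n : G)⁻¹, M.conj_mem_centralizer n.2 c.2⟩ = π * φ c * π⁻¹ := by
  let a := Function.surjInv hs
  have ha : ∀ σ, φ (a σ) = σ := Function.surjInv_eq hs
  let cj : ↥(centralizer (M.eG : Set G)) → ↥(centralizer (M.eG : Set G)) := fun c =>
    ⟨(n : G) * c * (n : G)⁻¹, M.conj_mem_centralizer n.2 c.2⟩
  have hcm : ∀ c d, cj (c * d) = cj c * cj d := fun c d => Subtype.ext (by
    show (n : G) * ((c : G) * d) * (n : G)⁻¹ = (n : G) * c * (n : G)⁻¹ * ((n : G) * d * (n : G)⁻¹)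
    group)
  have hwd : ∀ c d, φ c = φ d → φ (cj c) = φ (cj d) := fun c d e => by
    have h1 : φ (c⁻¹ * d) = 1 := by rw [map_mul, map_inv, e, inv_mul_cancel]
    have h2 : φ (cj (c⁻¹ * d)) = 1 := (hk _).2 (M.lG_normal n.2 ((hk _).1 h1))
    rw [show d = c * (c⁻¹ * d) by group, hcm, map_mul, h2, mul_one]
  let ψ : Equiv.Perm (Fin 5) →* Equiv.Perm (Fin 5) := MonoidHom.mk' (fun σ => φ (cj (a σ))) fun σ τ => by
    rw [← map_mul, ← hcm]
    exact hwd _ _ (by rw [map_mul, ha, ha, ha])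
  have hinj : Function.Injective ψ := by
    rw [injective_iff_map_eq_one]
    intro σ hσ
    have h1 := M.lG_normal (inv_mem n.2) ((hk _).1 hσ)
    rw [← ha σ, hk]
    simpa [cj, mul_assoc] using h1
  obtain ⟨π, hπ⟩ := SevenInv.AutFive.inner hinj
  exact ⟨π, fun c => (hwd c (a (φ c)) (ha _).symm).trans (hπ (φ c))⟩

namespace Five

variable {M} (F : M.Five) {B : BigData M} (Cc : BigCoords B)
  (hT : ∀ n < 2048, (Orb.tMask.testBit n = true ↔ n ≠ 0 ∧ ¬ IsConj z (Cc.el n)))
  (D : BigPack z B.V)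
include F Cc hT D

/-- The centraliser of the element of order five induces all automorphisms of the group of order eight. -/
theorem act_surjective : Function.Surjective (F.act Cc hT D) := by
  rw [← MonoidHom.range_eq_top]
  refine Subgroup.eq_top_of_card_eq _ ?_
  have h := Subgroup.card_eq_card_quotient_mul_card_subgroup (F.act Cc hT D).ker
  rw [Nat.card_congr (QuotientGroup.quotientKerEquivRange (F.act Cc hT D)).toEquiv, F.card_ker Cc hT D,
    F.card_K Cc hT D] at h
  rw [card_aut_eight _ (fun a => Subtype.ext (M.eG_sq _ a.2)) M.card_eG]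
  omega

/-- The homomorphism onto the product, with its kernel. -/
theorem exists_theta : ∃ (φ : ↥(centralizer (M.eG : Set G)) →* Equiv.Perm (Fin 5))
    (θ : ↥(normalizer (M.eG : Set G)) →* Equiv.Perm (Fin 5) × MulAut ↥M.eG),
    Function.Surjective φ ∧ (∀ c : ↥(centralizer (M.eG : Set G)), φ c = 1 ↔ (c : G) ∈ M.lG) ∧
    Function.Surjective θ ∧ θ.ker = M.lG.subgroupOf (normalizer (M.eG : Set G)) ∧
    (∀ (n : ↥(normalizer (M.eG : Set G))) (c : ↥(centralizer (M.eG : Set G))),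
      φ ⟨(n : G) * c * (n : G)⁻¹, M.conj_mem_centralizer n.2 c.2⟩ = (θ n).1 * φ c * (θ n).1⁻¹) ∧
    ∀ n, (θ n).2 = M.eG.normalizerMonoidHom n := by
  obtain ⟨φ, hs, hk⟩ := M.exists_phiG
  choose π hπ using M.exists_pi hs hk
  have hu : ∀ (p q : Equiv.Perm (Fin 5)), (∀ c, p * φ c * p⁻¹ = q * φ c * q⁻¹) → p = q := by
    intro p q h
    refine (inv_mul_eq_one.1 (Trio.perm5_centre _ fun i => ?_)).symm
    obtain ⟨c, hc⟩ := hs (Equiv.swap 0 i)
    have h' := h c
    rw [hc] at h'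
    calc q⁻¹ * p * Equiv.swap 0 i = q⁻¹ * (p * Equiv.swap 0 i * p⁻¹) * p := by group
      _ = Equiv.swap 0 i * (q⁻¹ * p) := by rw [h']; group
  have hmul : ∀ n m, π (n * m) = π n * π m := fun n m => hu _ _ fun c => by
    rw [← hπ]
    have h1 := hπ n ⟨(m : G) * c * (m : G)⁻¹, M.conj_mem_centralizer m.2 c.2⟩
    rw [hπ m] at h1
    refine (congrArg φ (Subtype.ext ?_)).trans (h1.trans (by group))
    show ((n : G) * m) * c * ((n : G) * m)⁻¹ = (n : G) * ((m : G) * c * (m : G)⁻¹) * (n : G)⁻¹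
    group
  let θ : ↥(normalizer (M.eG : Set G)) →* Equiv.Perm (Fin 5) × MulAut ↥M.eG :=
    (MonoidHom.mk' π hmul).prod M.eG.normalizerMonoidHom
  have hin : ∀ c : ↥(centralizer (M.eG : Set G)), π ⟨c, centralizer_le_normalizer _ c.2⟩ = φ c :=
    fun c => hu _ _ fun d => by
      rw [← hπ]
      show φ (c * d * c⁻¹) = _
      rw [map_mul, map_mul, map_inv]
  have hcent : ∀ c : ↥(centralizer (M.eG : Set G)), M.eG.normalizerMonoidHom ⟨c, centralizer_le_normalizer _ c.2⟩ = 1 :=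
    fun c => by
      rw [← MonoidHom.mem_ker, Subgroup.normalizerMonoidHom_ker, mem_subgroupOf]
      exact c.2
  refine ⟨φ, θ, hs, hk, ?_, ?_, hπ, fun n => rfl⟩
  · rintro ⟨σ, α⟩
    obtain ⟨k, rfl⟩ := F.act_surjective Cc hT D α
    set k' : ↥(normalizer (M.eG : Set G)) := ⟨k, F.K_le Cc hT D k.2⟩
    obtain ⟨c, hc⟩ := hs (σ * (π k')⁻¹)
    refine ⟨⟨c, centralizer_le_normalizer _ c.2⟩ * k', Prod.ext ?_ ?_⟩
    · show π _ = σ
      rw [hmul, hin, hc, inv_mul_cancel_right]
    · show M.eG.normalizerMonoidHom _ = _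
      rw [map_mul, hcent, one_mul]
      rfl
  · ext n
    rw [MonoidHom.mem_ker, mem_subgroupOf]
    constructor
    · intro h
      have hnC : (n : G) ∈ centralizer (M.eG : Set G) := by
        have h2 : n ∈ M.eG.normalizerMonoidHom.ker := MonoidHom.mem_ker.2 (congrArg Prod.snd h)
        rwa [Subgroup.normalizerMonoidHom_ker, mem_subgroupOf] at h2
      refine (hk ⟨n, hnC⟩).1 ?_
      rw [← hin]
      exact congrArg Prod.fst h
    · intro h
      exact Prod.ext ((hin ⟨n, M.lG_le h⟩).trans ((hk _).2 h)) (hcent ⟨n, M.lG_le h⟩)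

end Five

end Model

end Cfsg.Agent.JankoFour
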