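import Cfsg.Agent.Lib.JankoFour.TrioNorm
import Cfsg.Agent.Lib.LocalEven.Frattini
import Cfsg.Agent.Lib.Solvable.NilpotentFrattini

/-!
The normal 2-subgroup of the normaliser of the group of order eight is special with that group as centre.
-/

set_option autoImplicit false
set_option linter.unusedSectionVars false
set_option maxRecDepth 20000

namespace Cfsg.Agent.JankoFour

open Subgroup
open Cfsg.Agent.LargeFischer (QG)
open Cfsg.Agent.J4Module (app)
open Cfsg.Agent.J4Module.Data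
open FiveTab Trio
open scoped commutatorElement

theorem Trio.kE_comm {i : ℕ} (hi : i < 16) :
    (∀ e ∈ 0 :: ell, app (kE i) e = e) ∧ ∀ n < 4096, perpEll n = true → app (kE i) n ^^^ n ∈ 0 :: ell := by
  have hfix : ∀ C, InK0 C → app C 5 = 5 → ∀ e ∈ 0 :: ell, app C e = e := by
    intro C hC h5 e he
    have hp : ∀ n, app C (app pC n) = app pC (app C n) := fun n => by rw [← app_mulC, lin_of_K hC, app_mulC]
    rcases List.mem_cons.1 he with rfl | he
    · exact J4Module.app_zero _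
    rcases Trio.line_spec.2.2.2.1 e he with rfl | rfl | rfl
    · exact h5
    · rw [hp, h5]
    · rw [hp, hp, h5]
  refine kE_induct (p := fun C => (∀ e ∈ 0 :: ell, app C e = e) ∧
    ∀ n < 4096, perpEll n = true → app C n ^^^ n ∈ 0 :: ell) ?_ (fun g hg => ?_) ?_ i hi
  · refine ⟨fun e he => app_unitC e (ell_xor.2.2.2 e he).2.1, fun n hn _ => ?_⟩
    rw [app_unitC n hn, Nat.xor_self]
    exact List.mem_cons_self ..
  · have hg' : g < 16 := by simp only [List.mem_cons, List.not_mem_nil, or_false] at hg; omega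
    exact ⟨hfix _ (kE_K hg') (ker_hex g hg).1, fun n hn hp => ker_comm n hn hp g hg⟩
  · intro A B hA hB
    refine ⟨fun e he => by rw [app_mulC, hB.1 e he, hA.1 e he], fun n hn hp => ?_⟩
    have he := hB.2 n hn hp
    have e1 : app A (app B n) ^^^ n = (app A n ^^^ n) ^^^ (app B n ^^^ n) := by
      have h : app A (app B n ^^^ n) = app B n ^^^ n := hA.1 _ he
      rw [app_xor] at h
      calc app A (app B n) ^^^ n = app A (app B n) ^^^ app A n ^^^ (app A n ^^^ n) := by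
            rw [Nat.xor_assoc (app A (app B n)), ← Nat.xor_assoc (app A n), Nat.xor_self, Nat.zero_xor]
        _ = _ := by rw [h, Nat.xor_comm]
    rw [app_mulC, e1]
    exact ell_xor.1 _ (hA.2 n hn hp) _ he

/-- Closing up stays inside an invariant set. -/
theorem Trio.closeK_mem {S : ℕ → Prop} (hx : ∀ a b, S a → S b → S (a ^^^ b))
    (hp : ∀ j < 2, ∀ a, S a → S ((kerPerm.getD j []).getD a 0)) {l : List ℕ} (hl : ∀ a ∈ l, S a) :
    ∀ a ∈ closeK l, S a := by
  intro a ha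
  simp only [closeK, List.mem_eraseDups, List.mem_append, List.mem_map, List.mem_flatMap] at ha
  rcases ha with ((ha | ⟨b, hb, rfl⟩) | ⟨b, hb, rfl⟩) | ⟨b, hb, c, hc, rfl⟩
  exacts [hl a ha, hp 0 (by norm_num) b (hl b hb), hp 1 (by norm_num) b (hl b hb), hx _ _ (hl b hb) (hl c hc)]

namespace Model

variable {G : Type*} [Group G] [Finite G] {z : G} {P : Subgroup G} (M : Model z P)

theorem eG_le_lG : M.eG ≤ M.lG := by
  rintro _ ⟨x, rfl, hx⟩
  refine ⟨M.toH x, ⟨M.mem_cE.2 fun y hy => (M.cfix_comm y).2 (M.eG_comm (M.mem_eG.2 hx) (M.mem_eG.2 hy)),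
    0, by norm_num, ?_⟩, rfl⟩
  rw [ker_words.2.2.1]
  exact M.acts_of_mem_Q (M.toH_mem x)

theorem lG_central {l e : G} (hl : l ∈ M.lG) (he : e ∈ M.eG) : l * e = e * l :=
  (mem_centralizer_iff.1 (M.lG_le hl) e he).symm

/-- The part inside the extraspecial subgroup. -/
theorem mem_lG_of_Q {x : ↥(QG M.Q)} (h : (x : G) ∈ centralizer (M.eG : Set G)) : (x : G) ∈ M.lG :=
  ⟨M.toH x, ⟨mem_subgroupOf.2 h, 0, by norm_num, by rw [ker_words.2.2.1]; exact M.acts_of_mem_Q (M.toH_mem x)⟩, rfl⟩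

theorem cent_perp {x : ↥(QG M.Q)} : (x : G) ∈ centralizer (M.eG : Set G) ↔ perpEll (M.vec x) = true := by
  have hfx : ∀ y, M.ctx.conjQ (M.toH x) y = y ↔ bbit (M.vec x) (M.vec y) = false := fun y =>
    (M.cfix_comm y).trans (M.comm_iff x y)
  obtain ⟨e5, he5⟩ := M.vec_surj 5 (by norm_num)
  obtain ⟨e2, he2⟩ := M.vec_surj 2282 (by norm_num)
  rw [perpEll, Bool.and_eq_true, beq_iff_eq, beq_iff_eq]
  constructor
  · intro h
    have h' : M.toH x ∈ M.cE := mem_subgroupOf.2 h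
    exact ⟨he5 ▸ (hfx e5).1 (M.mem_cE.1 h' e5 (by rw [he5]; simp [ell])),
      he2 ▸ (hfx e2).1 (M.mem_cE.1 h' e2 (by rw [he2]; simp [ell]))⟩
  · rintro ⟨h5, h2⟩
    exact mem_subgroupOf.1 (show M.toH x ∈ M.cE from
      M.mem_cE_of he5 he2 ((hfx e5).2 (by rw [he5]; exact h5)) ((hfx e2).2 (by rw [he2]; exact h2)))

/-- Commutators with the part inside the extraspecial subgroup. -/
theorem comm_Q_mem {l : G} (hl : l ∈ M.lG) {a : ↥(QG M.Q)} (ha : (a : G) ∈ centralizer (M.eG : Set G)) :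
    l * a * l⁻¹ * (a : G)⁻¹ ∈ M.eG := by
  obtain ⟨c, ⟨-, i, hi, hci⟩, rfl⟩ := hl
  refine ⟨M.ctx.conjQ c a * a⁻¹, rfl, ?_⟩
  rw [M.vec_mul, M.vec_inv, hci a]
  exact (Trio.kE_comm hi).2 _ (M.vec_lt a) (M.cent_perp.1 ha)

theorem lG_Q_normal {a : ↥(QG M.Q)} {c : G} (hc : c ∈ centralizer (M.eG : Set G))
    (ha : (a : G) ∈ centralizer (M.eG : Set G)) :
    ∃ b : ↥(QG M.Q), (b : G) = c * a * c⁻¹ ∧ (b : G) ∈ centralizer (M.eG : Set G) :=
  ⟨M.ctx.conjQ ⟨c, M.centralizer_eG_le hc⟩ a, rfl,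
    mul_mem (mul_mem hc ha) (inv_mem hc)⟩

namespace Five

variable {M} (F : M.Five) {B : BigData M} (Cc : BigCoords B)
  (hT : ∀ n < 2048, (Orb.tMask.testBit n = true ↔ n ≠ 0 ∧ ¬ IsConj z (Cc.el n)))
  (D : BigPack z B.V)
include F Cc hT D

/-- An element moving the involution inside the group of order eight. -/
theorem exists_shift : ∃ g ∈ normalizer (M.eG : Set G), g * z * g⁻¹ ≠ z := by
  obtain ⟨e, he⟩ := M.vec_surj 5 (by norm_num)
  have heE : (e : G) ∈ M.eG := M.mem_eG.2 (by rw [he]; simp [ell])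
  have h1 : (e : G) ≠ 1 := fun h => by have := M.vec_eq_zero.2 (Or.inl h); omega
  obtain ⟨g, hg, -, hgz⟩ := F.exists_move Cc hT heE h1
  refine ⟨g⁻¹, inv_mem (F.K_le Cc hT D hg), fun h => ?_⟩
  have hez : (e : G) = z := by
    calc (e : G) = g⁻¹ * (g * e * g⁻¹) * g := by group
      _ = g⁻¹ * z * g⁻¹⁻¹ := by rw [inv_inv]; exact congrArg (fun t => g⁻¹ * t * g) hgz
      _ = z := h
  have := M.vec_eq_zero.2 (Or.inr hez)
  omega

/-- The 2-subgroup is generated by the part inside the extraspecial subgroup and one conjugate of it. -/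
theorem lG_decomp : ∃ g ∈ normalizer (M.eG : Set G), ∀ l ∈ M.lG, ∃ a b : ↥(QG M.Q),
    (a : G) ∈ centralizer (M.eG : Set G) ∧ (b : G) ∈ centralizer (M.eG : Set G) ∧ l = g * a * g⁻¹ * b := by
  obtain ⟨g, hg, hgz⟩ := F.exists_shift Cc hT D
  refine ⟨g, hg, ?_⟩
  let S : ℕ → Prop := fun i => i < 16 ∧ ∃ a : ↥(QG M.Q), (a : G) ∈ centralizer (M.eG : Set G) ∧
    ∃ c : ↥(centralizer ({z} : Set G)), (c : G) = g * a * g⁻¹ ∧ M.Acts c (kE i)
  have hidx : ∀ a : ↥(QG M.Q), (a : G) ∈ centralizer (M.eG : Set G) →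
      ∃ c : ↥(centralizer ({z} : Set G)), (c : G) = g * a * g⁻¹ ∧ ∃ i < 16, M.Acts c (kE i) := by
    intro a ha
    obtain ⟨c, ⟨-, i, hi, hci⟩, e⟩ := M.lG_normal hg (M.mem_lG_of_Q ha)
    exact ⟨c, e, i, hi, hci⟩
  have hne : ∃ i, i ≠ 0 ∧ S i := by
    obtain ⟨a, ha⟩ := M.vec_surj 10 (by norm_num)
    obtain ⟨b, hb⟩ := M.vec_surj 34 (by norm_num)
    have hp := Trio.perp_spec.1
    have hac : (a : G) ∈ centralizer (M.eG : Set G) := M.cent_perp.2 (by rw [ha]; exact (hp 10 (by simp)).2)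
    have hbc : (b : G) ∈ centralizer (M.eG : Set G) := M.cent_perp.2 (by rw [hb]; exact (hp 34 (by simp)).2)
    obtain ⟨c, hc, i, hi, hci⟩ := hidx a hac
    obtain ⟨d, hd, j, hj, hdj⟩ := hidx b hbc
    by_cases hi0 : i = 0
    · by_cases hj0 : j = 0
      · exfalso
        subst hi0 hj0
        rw [ker_words.2.2.1] at hci hdj
        obtain ⟨c', hc'⟩ := M.toH_surj (M.mem_Q c hci)
        obtain ⟨d', hd'⟩ := M.toH_surj (M.mem_Q d hdj)
        have hc'' : (c' : G) = g * a * g⁻¹ := (congrArg Subtype.val hc').trans hc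
        have hd'' : (d' : G) = g * b * g⁻¹ := (congrArg Subtype.val hd').trans hd
        have hab : (a : G) * b * (a : G)⁻¹ = b * z := by
          have h := congrArg Subtype.val (M.conjQ_toH a b)
          rw [if_neg (by rw [ha, hb, Trio.perp_spec.2.1]; simp)] at h
          exact h
        have h := congrArg Subtype.val (M.conjQ_toH c' d')
        have e : (c' : G) * d' * (c' : G)⁻¹ = d' * (g * z * g⁻¹) := by
          rw [hc'', hd'', show g * (a : G) * g⁻¹ * (g * b * g⁻¹) * (g * a * g⁻¹)⁻¹ = g * ((a : G) * b * (a : G)⁻¹) * g⁻¹ by group,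
            hab]
          group
        rw [show ((M.ctx.conjQ (M.toH c') d' : ↥(QG M.Q)) : G) = d' * (g * z * g⁻¹) from e] at h
        by_cases hbb : bbit (M.vec c') (M.vec d') = false
        · rw [if_pos hbb] at h
          exact M.ctx.xs.ne_one (conj_eq_one_iff.1 (mul_eq_left.1 h))
        · rw [if_neg hbb] at h
          exact hgz (mul_left_cancel (show (d' : G) * (g * z * g⁻¹) = d' * z from h))
      · exact ⟨j, hj0, hj, b, hbc, d, hd, hdj⟩
    · exact ⟨i, hi0, hi, a, hac, c, hc, hci⟩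
  have hx : ∀ i j, S i → S j → S (i ^^^ j) := by
    rintro i j ⟨hi, a, ha, c, hc, hci⟩ ⟨hj, b, hb, d, hd, hdj⟩
    refine ⟨Nat.xor_lt_two_pow (n := 4) hi hj, a * b, mul_mem ha hb, c * d, ?_,
      ker_words.2.2.2.2.2 i hi j hj ▸ M.acts_mul hci hdj⟩
    show (c : G) * d = g * ((a : G) * b) * g⁻¹
    rw [hc, hd]
    group
  have hp : ∀ j < 2, ∀ i, S i → S ((kerPerm.getD j []).getD i 0) := by
    rintro j hj i ⟨hi, a, ha, c, hc, hci⟩
    obtain ⟨hlt, he⟩ := Trio.ker_perm j hj i hi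
    obtain ⟨h5, -⟩ := Trio.five_spec.2.2.2.2 j hj
    have hK : InK0 (gT j) := by
      unfold gT
      split_ifs
      · exact yC_K
      · exact Big.wordC_memK Trio.five_spec.2.1
    obtain ⟨t, ht, hta⟩ := M.lift_cE hK h5
    have htc : (t : G) ∈ centralizer (M.eG : Set G) := mem_subgroupOf.1 ht
    obtain ⟨b, hb, hbc⟩ := M.lG_Q_normal (c := g⁻¹ * t * g)
      (by
        have := M.conj_mem_centralizer (inv_mem hg) htc
        rwa [inv_inv] at this) ha
    refine ⟨hlt, b, hbc, t * c * t⁻¹, ?_, M.acts_conj hta hci he⟩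
    show (t : G) * c * (t : G)⁻¹ = g * b * g⁻¹
    rw [hc, hb]
    group
  have hall : ∀ i < 16, S i := by
    obtain ⟨i, hi0, hi⟩ := hne
    intro j hj
    exact Trio.closeK_mem hx hp (Trio.closeK_mem hx hp (Trio.closeK_mem hx hp (Trio.closeK_mem hx hp
      (l := [i]) (fun a ha => by rw [List.mem_singleton] at ha; exact ha ▸ hi)))) j
      (Trio.irreducible i hi.1 hi0 j hj)
  intro l hl
  obtain ⟨c, ⟨hcE, i, hi, hci⟩, rfl⟩ := id hl
  obtain ⟨-, a, ha, d, hd, hdi⟩ := hall i hi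
  obtain ⟨b, hb⟩ := M.toH_surj (M.inv_mul_mem hdi hci)
  have hb' : (b : G) = (g * a * g⁻¹)⁻¹ * c := by
    have := congrArg Subtype.val hb
    rw [← hd]
    exact this
  exact ⟨a, b, ha, hb' ▸ mul_mem (inv_mem (M.conj_mem_centralizer hg ha)) (mem_subgroupOf.1 hcE),
    by rw [hb', mul_inv_cancel_left]; rfl⟩

/-- Commutators and squares lie in the group of order eight. -/
theorem lG_comm_sq : (∀ l ∈ M.lG, ∀ m ∈ M.lG, l * m * l⁻¹ * m⁻¹ ∈ M.eG) ∧ ∀ l ∈ M.lG, l * l ∈ M.eG := by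
  obtain ⟨g, hg, hdec⟩ := F.lG_decomp Cc hT D
  have hgE : ∀ e ∈ M.eG, g * e * g⁻¹ ∈ M.eG := fun e he => (Subgroup.mem_normalizer_iff.1 hg e).1 he
  have hsqQ : ∀ a : ↥(QG M.Q), (a : G) * a ∈ M.eG := fun a =>
    ⟨a * a, rfl, by rw [M.vec_mul, Nat.xor_self]; simp⟩
  have hA : ∀ l ∈ M.lG, ∀ a : ↥(QG M.Q), (a : G) ∈ centralizer (M.eG : Set G) →
      l * (g * a * g⁻¹) * l⁻¹ * (g * a * g⁻¹)⁻¹ ∈ M.eG := by
    intro l hl a ha
    have h := hgE _ (M.comm_Q_mem (M.lG_normal (inv_mem hg) hl) ha)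
    convert h using 1
    group
  refine ⟨fun l hl m hm => ?_, fun l hl => ?_⟩
  · obtain ⟨a, b, ha, hb, rfl⟩ := hdec m hm
    set u := g * (a : G) * g⁻¹ with hu
    have h1 := hA l hl a ha
    have h2 := M.comm_Q_mem hl hb
    have hul : u ∈ M.lG := M.lG_normal hg (M.mem_lG_of_Q ha)
    have e : l * (u * b) * l⁻¹ * (u * (b : G))⁻¹ = (l * u * l⁻¹ * u⁻¹) * (u * (l * b * l⁻¹ * (b : G)⁻¹) * u⁻¹) := by
      group
    rw [e, M.lG_central hul h2, mul_inv_cancel_right]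
    exact mul_mem h1 h2
  · obtain ⟨a, b, ha, hb, rfl⟩ := hdec l hl
    set u := g * (a : G) * g⁻¹ with hu
    have hul : u ∈ M.lG := M.lG_normal hg (M.mem_lG_of_Q ha)
    have h1 := M.comm_Q_mem hul hb
    have h2 := hgE _ (hsqQ a)
    -- move the middle factors past each other
    have e : u * b * (u * b) = (u * u) * ((u⁻¹ * (b : G)) * u * (b : G)⁻¹) * ((b : G) * b) := by group
    have h3 : u⁻¹ * (b : G) * u * (b : G)⁻¹ ∈ M.eG := by
      have h := M.comm_Q_mem (inv_mem hul) hb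
      rwa [inv_inv] at h
    rw [e]
    refine mul_mem (mul_mem ?_ h3) (hsqQ b)
    rw [hu, show g * (a : G) * g⁻¹ * (g * a * g⁻¹) = g * ((a : G) * a) * g⁻¹ by group]
    exact h2

/-- Every element of the group of order eight is a commutator of the 2-subgroup. -/
theorem eG_commutator {e : G} (he : e ∈ M.eG) : e = 1 ∨ ∃ p ∈ M.lG, ∃ q ∈ M.lG, p * q * p⁻¹ * q⁻¹ = e := by
  by_cases h1 : e = 1
  · exact Or.inl h1
  refine Or.inr ?_
  obtain ⟨k, hk, -, hkz⟩ := F.exists_move Cc hT he h1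
  have hkN := F.K_le Cc hT D hk
  obtain ⟨a, ha⟩ := M.vec_surj 10 (by norm_num)
  obtain ⟨b, hb⟩ := M.vec_surj 34 (by norm_num)
  have hp := Trio.perp_spec.1
  have hac : (a : G) ∈ M.lG := M.mem_lG_of_Q (M.cent_perp.2 (by rw [ha]; exact (hp 10 (by simp)).2))
  have hbc : (b : G) ∈ M.lG := M.mem_lG_of_Q (M.cent_perp.2 (by rw [hb]; exact (hp 34 (by simp)).2))
  have hab : (a : G) * b * (a : G)⁻¹ * (b : G)⁻¹ = z := by
    have h := congrArg Subtype.val (M.conjQ_toH a b)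
    rw [if_neg (by rw [ha, hb, Trio.perp_spec.2.1]; simp)] at h
    rw [show (a : G) * b * (a : G)⁻¹ = ((M.ctx.conjQ (M.toH a) b : ↥(QG M.Q)) : G) from rfl, h]
    show (b : G) * z * (b : G)⁻¹ = z
    rw [mul_inv_eq_iff_eq_mul]
    exact M.ctx.xs.comm b.2
  refine ⟨k⁻¹ * a * k⁻¹⁻¹, M.lG_normal (inv_mem hkN) hac, k⁻¹ * b * k⁻¹⁻¹, M.lG_normal (inv_mem hkN) hbc, ?_⟩
  calc _ = k⁻¹ * ((a : G) * b * (a : G)⁻¹ * (b : G)⁻¹) * k := by group
    _ = k⁻¹ * (k * e * k⁻¹) * k := congrArg (fun t => k⁻¹ * t * k) (hab.trans hkz.symm)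
    _ = e := by group

/-- A central element of the 2-subgroup lies in the group of order eight. -/
theorem mem_eG_of_central {u : G} (hu : u ∈ M.lG) (hc : ∀ l ∈ M.lG, l * u = u * l) : u ∈ M.eG := by
  obtain ⟨c, ⟨hcE, i, hi, hci⟩, rfl⟩ := id hu
  have hfix : ∀ n < 4096, perpEll n = true → app (kE i) n = n := fun n hn hp => by
    obtain ⟨x, rfl⟩ := M.vec_surj n hn
    rw [← hci x, (M.cfix_comm x).2 (hc _ (M.mem_lG_of_Q (M.cent_perp.2 hp))).symm]
  have hi0 : i = 0 := by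
    by_contra h
    rcases Trio.ker_moved i hi h with h' | h'
    · exact h' (hfix _ (by norm_num) (Trio.perp_spec.1 10 (by simp)).2)
    · exact h' (hfix _ (by norm_num) (Trio.perp_spec.1 19 (by simp)).2)
  rw [hi0, ker_words.2.2.1] at hci
  obtain ⟨x, hx⟩ := M.toH_surj (M.mem_Q c hci)
  have hxc : (x : G) = c := congrArg Subtype.val hx
  show (c : G) ∈ M.eG
  rw [← hxc, M.mem_eG]
  refine Trio.perp_radical _ (M.vec_lt x) (M.cent_perp.1 (by rw [hxc]; exact mem_subgroupOf.1 hcE)) fun m hm => ?_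
  have hp := Trio.perp_spec.1 m (List.mem_append_right _ hm)
  obtain ⟨y, rfl⟩ := M.vec_surj m hp.1
  refine (M.comm_iff x y).1 ?_
  rw [hxc]
  exact (hc _ (M.mem_lG_of_Q (M.cent_perp.2 hp.2))).symm

theorem center_lG : Subgroup.center ↥M.lG = M.eG.subgroupOf M.lG := by
  ext u
  rw [mem_center_iff, mem_subgroupOf]
  exact ⟨fun h => F.mem_eG_of_central Cc hT D u.2 fun l hl => congrArg Subtype.val (h ⟨l, hl⟩),
    fun h l => Subtype.ext (M.lG_central l.2 h)⟩

theorem special_lG : Cfsg.IsSpecial 2 ↥M.lG ∧ Nat.card ↥(Subgroup.center ↥M.lG) = 8 := by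
  haveI : Fact (Nat.Prime 2) := ⟨Nat.prime_two⟩
  have h2 : IsPGroup 2 ↥M.lG := IsPGroup.of_card (n := 15) M.card_lG
  haveI : Group.IsNilpotent ↥M.lG := h2.isNilpotent
  obtain ⟨hcm, hsq⟩ := F.lG_comm_sq Cc hT D
  have hcen := F.center_lG Cc hT D
  have hcomm : _root_.commutator ↥M.lG = M.eG.subgroupOf M.lG := by
    refine le_antisymm ?_ fun e he => ?_
    · rw [_root_.commutator_def, commutator_le]
      exact fun a _ b _ => mem_subgroupOf.2 (hcm _ a.2 _ b.2)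
    · rcases F.eG_commutator Cc hT D (mem_subgroupOf.1 he) with h | ⟨p, hp, q, hq, h⟩
      · rw [show e = 1 from Subtype.ext h]; exact one_mem _
      · rw [show e = ⁅(⟨p, hp⟩ : ↥M.lG), ⟨q, hq⟩⁆ from Subtype.ext h.symm, _root_.commutator_def]
        exact commutator_mem_commutator (mem_top _) (mem_top _)
  refine ⟨⟨h2, le_antisymm ?_ ?_, hcomm.trans hcen.symm⟩, ?_⟩
  · rw [hcen]
    exact LEFrattini.frattini_le (p := 2) (fun a b => mem_subgroupOf.2 (hcm _ a.2 _ b.2))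
      (fun a => mem_subgroupOf.2 (by rw [pow_two]; exact hsq _ a.2))
  · rw [hcen, ← hcomm]
    exact SolvStruct.commutator_le_frattini ↥M.lG
  · rw [hcen, Nat.card_congr (subgroupOfEquivOfLe M.eG_le_lG).toEquiv, M.card_eG]

/-- The normaliser of the 2-subgroup. -/
theorem normalizer_lG : normalizer (M.lG : Set G) = normalizer (M.eG : Set G) := by
  refine le_antisymm (fun g hg => mem_normalizer_fintype fun e he => ?_) fun g hg =>
    mem_normalizer_fintype fun l hl => M.lG_normal hg hl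
  have hL : ∀ {t}, t ∈ M.lG ↔ g * t * g⁻¹ ∈ M.lG := fun {t} => Subgroup.mem_normalizer_iff.1 hg t
  refine F.mem_eG_of_central Cc hT D (hL.1 (M.eG_le_lG he)) fun l hl => ?_
  have h : g⁻¹ * l * g ∈ M.lG := by
    rw [hL]
    simpa [mul_assoc] using hl
  calc l * (g * e * g⁻¹) = g * (g⁻¹ * l * g * e) * g⁻¹ := by group
    _ = g * (e * (g⁻¹ * l * g)) * g⁻¹ := by rw [M.lG_central h he]
    _ = g * e * g⁻¹ * l := by group

end Five

end Model

end Cfsg.Agent.JankoFour
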